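/-
Small facts about extraspecial 2-groups and their positions in a group.
-/
import Cfsg.Prelude.Def_Transfer
import Cfsg.Prelude.Def_Solvable

set_option autoImplicit false

namespace Cfsg.Agent.Lib.ThreeTransp

variable {E : Type*} [Group E]

theorem extraspecial_center_sq {hE : Cfsg.IsExtraspecial 2 E} {c : E} (hc : c ∈ Subgroup.center E) :
    c ^ 2 = 1 := by
  have h := orderOf_dvd_natCard (⟨c, hc⟩ : Subgroup.center E)
  rw [hE.2, orderOf_dvd_iff_pow_eq_one] at h
  exact congrArg Subtype.val h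

theorem extraspecial_center_eq {hE : Cfsg.IsExtraspecial 2 E} {c d : E} (hc : c ∈ Subgroup.center E)
    (hd : d ∈ Subgroup.center E) (hc1 : c ≠ 1) (hd1 : d ≠ 1) : c = d := by
  haveI : Finite (Subgroup.center E) := Nat.finite_of_card_ne_zero (by rw [hE.2]; norm_num)
  obtain ⟨x, y, hxy, hu⟩ := Nat.card_eq_two_iff.1 hE.2
  have h1 : (⟨c, hc⟩ : Subgroup.center E) ≠ 1 := fun h => hc1 (congrArg Subtype.val h)
  have h2 : (⟨d, hd⟩ : Subgroup.center E) ≠ 1 := fun h => hd1 (congrArg Subtype.val h)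
  have a1 := Set.mem_univ (⟨c, hc⟩ : Subgroup.center E)
  have a2 := Set.mem_univ (⟨d, hd⟩ : Subgroup.center E)
  have a3 := Set.mem_univ (1 : Subgroup.center E)
  rw [← hu] at a1 a2 a3
  simp only [Set.mem_insert_iff, Set.mem_singleton_iff] at a1 a2 a3
  have : (⟨c, hc⟩ : Subgroup.center E) = ⟨d, hd⟩ := by
    rcases a1 with a1 | a1 <;> rcases a2 with a2 | a2 <;> rcases a3 with a3 | a3 <;> simp_all
  exact congrArg Subtype.val this

end Cfsg.Agent.Lib.ThreeTransp
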