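import Mathlib

/-!
The presentation `⟨a, b | a³, b⁵, (ab)²⟩` of the alternating group of degree five.
-/

set_option autoImplicit false
set_option linter.unusedSimpArgs false
set_option maxHeartbeats 1000000

namespace Cfsg.Agent.Lib.ThreeTransp.IcoPres

variable {G : Type*} [Group G]

/-- The twelve representatives. -/
def reps (a b : G) : Fin 12 → G :=
  ![ (1 : G), ((1 : G) * a), ((1 : G) * a⁻¹), (((1 : G) * a) * b⁻¹), (((1 : G) * a⁻¹) * b), ((((1 : G) * a) * b⁻¹) * a), ((((1 : G) * a) * b⁻¹) * b⁻¹), (((((1 : G) * a) * b⁻¹) * a) * b), (((((1 : G) * a) * b⁻¹) * a) * b⁻¹), ((((((1 : G) * a) * b⁻¹) * a) * b) * b), ((((((1 : G) * a) * b⁻¹) * a) * b⁻¹) * b⁻¹), (((((((1 : G) * a) * b⁻¹) * a) * b) * b) * a⁻¹) ]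

/-- The cosets of `⟨b⟩`. -/
theorem cover {a b : G} (ha : a * a * a = 1) (hb : b * b * b * b * b = 1) (hab : a * b * a * b = 1)
    (g : G) (hg : g ∈ Subgroup.closure {a, b}) : ∃ (k : ℤ) (i : Fin 12), g = b ^ k * reps a b i := by
  set r := reps a b with hr
  have flip : ∀ {x y c : G} {k : ℤ}, x * c = b ^ k * y → y * c⁻¹ = b ^ (-k) * x := by
    intro x y c k h
    calc y * c⁻¹ = b ^ (-k) * (b ^ k * y) * c⁻¹ := by group
      _ = b ^ (-k) * x := by rw [← h]; group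
  have flip2 : ∀ {x y c : G} {k : ℤ}, x * c⁻¹ = b ^ k * y → y * c = b ^ (-k) * x := by
    intro x y c k h
    calc y * c = b ^ (-k) * (b ^ k * y) * c := by group
      _ = b ^ (-k) * x := by rw [← h]; group
  have st0 : ∀ x : G, x * 1 = b ^ (0 : ℤ) * x := fun x => by simp
  have st : ∀ {x y w P c : G} {k l : ℤ}, x * P = b ^ k * y → y * c = b ^ l * w →
      x * (P * c) = b ^ (k + l) * w := by
    intro x y w P c k l h1 h2
    rw [← mul_assoc, h1, mul_assoc, h2, zpow_add, mul_assoc]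
  have dd : ∀ {x y w P S c : G} {k l : ℤ}, x * P = b ^ k * y → x * S = b ^ l * w → P * c = S →
      y * c = b ^ (l - k) * w := by
    intro x y w P S c k l h1 h2 h3
    calc y * c = b ^ (-k) * (b ^ k * y) * c := by group
      _ = b ^ (-k) * (x * (P * c)) := by rw [← h1]; group
      _ = b ^ (l - k) * w := by rw [h3, h2, ← mul_assoc, ← zpow_add, neg_add_eq_sub]
  have e0_1 : r 0 * b = b ^ (1 : ℤ) * r 0 := by simp [r, reps]
  have e0_3 : r 0 * b⁻¹ = b ^ (-1 : ℤ) * r 0 := flip e0_1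
  have e0_0 : r 0 * a = b ^ (0 : ℤ) * r 1 := by simp [r, reps, mul_assoc]
  have e1_2 : r 1 * a⁻¹ = b ^ (0 : ℤ) * r 0 := flip e0_0
  have e0_2 : r 0 * a⁻¹ = b ^ (0 : ℤ) * r 2 := by simp [r, reps, mul_assoc]
  have e2_0 : r 2 * a = b ^ (0 : ℤ) * r 0 := flip2 e0_2
  have e1_0 : r 1 * a = b ^ (0 : ℤ) * r 2 := by
    refine dd (st (st0 (r 0)) e0_0) (st (st0 (r 0)) e0_2) ?_
    have hw : ((((1 : G) * a) * a) * a) = 1 := by
      calc ((((1 : G) * a) * a) * a) = ((1 : G))⁻¹ * (((((1 : G) * a) * a) * a)) * (1 : G) := by group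
        _ = 1 := by rw [show (((((1 : G) * a) * a) * a)) = 1 by first | (simpa [mul_assoc] using ha) | (simpa [mul_assoc, mul_inv_rev, inv_eq_one] using congrArg (·⁻¹) ha)]; group
    calc ((1 : G) * a) * a = ((((1 : G) * a) * a) * a) * ((1 : G) * a⁻¹) := by first | (simp [mul_assoc]; done) | group
      _ = _ := by rw [hw, one_mul]
  have e2_2 : r 2 * a⁻¹ = b ^ (0 : ℤ) * r 1 := flip e1_0
  have e1_1 : r 1 * b = b ^ (-1 : ℤ) * r 2 := by
    refine dd (st (st0 (r 0)) e0_0) (st (st (st0 (r 0)) e0_3) e0_2) ?_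
    have hw : (((((1 : G) * a) * b) * a) * b) = 1 := by
      calc (((((1 : G) * a) * b) * a) * b) = ((1 : G))⁻¹ * ((((((1 : G) * a) * b) * a) * b)) * (1 : G) := by group
        _ = 1 := by rw [show ((((((1 : G) * a) * b) * a) * b)) = 1 by first | (simpa [mul_assoc] using hab) | (simpa [mul_assoc, mul_inv_rev, inv_eq_one] using congrArg (·⁻¹) hab)]; group
    calc ((1 : G) * a) * b = (((((1 : G) * a) * b) * a) * b) * (((1 : G) * b⁻¹) * a⁻¹) := by first | (simp [mul_assoc]; done) | group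
      _ = _ := by rw [hw, one_mul]
  have e2_3 : r 2 * b⁻¹ = b ^ (1 : ℤ) * r 1 := flip e1_1
  have e1_3 : r 1 * b⁻¹ = b ^ (0 : ℤ) * r 3 := by simp [r, reps, mul_assoc]
  have e3_1 : r 3 * b = b ^ (0 : ℤ) * r 1 := flip2 e1_3
  have e2_1 : r 2 * b = b ^ (0 : ℤ) * r 4 := by simp [r, reps, mul_assoc]
  have e4_3 : r 4 * b⁻¹ = b ^ (0 : ℤ) * r 2 := flip e2_1
  have e4_0 : r 4 * a = b ^ (0 : ℤ) * r 3 := by
    refine dd (st (st (st0 (r 1)) e1_0) e2_1) (st (st0 (r 1)) e1_3) ?_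
    have hw : (((((1 : G) * a) * b) * a) * b) = 1 := by
      calc (((((1 : G) * a) * b) * a) * b) = ((1 : G))⁻¹ * ((((((1 : G) * a) * b) * a) * b)) * (1 : G) := by group
        _ = 1 := by rw [show ((((((1 : G) * a) * b) * a) * b)) = 1 by first | (simpa [mul_assoc] using hab) | (simpa [mul_assoc, mul_inv_rev, inv_eq_one] using congrArg (·⁻¹) hab)]; group
    calc (((1 : G) * a) * b) * a = (((((1 : G) * a) * b) * a) * b) * ((1 : G) * b⁻¹) := by first | (simp [mul_assoc]; done) | group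
      _ = _ := by rw [hw, one_mul]
  have e3_2 : r 3 * a⁻¹ = b ^ (0 : ℤ) * r 4 := flip e4_0
  have e3_0 : r 3 * a = b ^ (0 : ℤ) * r 5 := by simp [r, reps, mul_assoc]
  have e5_2 : r 5 * a⁻¹ = b ^ (0 : ℤ) * r 3 := flip e3_0
  have e5_0 : r 5 * a = b ^ (0 : ℤ) * r 4 := by
    refine dd (st (st0 (r 3)) e3_0) (st (st0 (r 3)) e3_2) ?_
    have hw : ((((1 : G) * a) * a) * a) = 1 := by
      calc ((((1 : G) * a) * a) * a) = ((1 : G))⁻¹ * (((((1 : G) * a) * a) * a)) * (1 : G) := by group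
        _ = 1 := by rw [show (((((1 : G) * a) * a) * a)) = 1 by first | (simpa [mul_assoc] using ha) | (simpa [mul_assoc, mul_inv_rev, inv_eq_one] using congrArg (·⁻¹) ha)]; group
    calc ((1 : G) * a) * a = ((((1 : G) * a) * a) * a) * ((1 : G) * a⁻¹) := by first | (simp [mul_assoc]; done) | group
      _ = _ := by rw [hw, one_mul]
  have e4_2 : r 4 * a⁻¹ = b ^ (0 : ℤ) * r 5 := flip e5_0
  have e3_3 : r 3 * b⁻¹ = b ^ (0 : ℤ) * r 6 := by simp [r, reps, mul_assoc]
  have e6_1 : r 6 * b = b ^ (0 : ℤ) * r 3 := flip2 e3_3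
  have e4_1 : r 4 * b = b ^ (1 : ℤ) * r 6 := by
    refine dd (st (st (st0 (r 1)) e1_1) e2_1) (st (st (st0 (r 1)) e1_3) e3_3) ?_
    have hw : ((((((1 : G) * b) * b) * b) * b) * b) = 1 := by
      calc ((((((1 : G) * b) * b) * b) * b) * b) = ((1 : G))⁻¹ * (((((((1 : G) * b) * b) * b) * b) * b)) * (1 : G) := by group
        _ = 1 := by rw [show (((((((1 : G) * b) * b) * b) * b) * b)) = 1 by first | (simpa [mul_assoc] using hb) | (simpa [mul_assoc, mul_inv_rev, inv_eq_one] using congrArg (·⁻¹) hb)]; group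
    calc (((1 : G) * b) * b) * b = ((((((1 : G) * b) * b) * b) * b) * b) * (((1 : G) * b⁻¹) * b⁻¹) := by first | (simp [mul_assoc]; done) | group
      _ = _ := by rw [hw, one_mul]
  have e6_3 : r 6 * b⁻¹ = b ^ (-1 : ℤ) * r 4 := flip e4_1
  have e5_1 : r 5 * b = b ^ (0 : ℤ) * r 7 := by simp [r, reps, mul_assoc]
  have e7_3 : r 7 * b⁻¹ = b ^ (0 : ℤ) * r 5 := flip e5_1
  have e7_0 : r 7 * a = b ^ (0 : ℤ) * r 6 := by
    refine dd (st (st (st0 (r 3)) e3_0) e5_1) (st (st0 (r 3)) e3_3) ?_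
    have hw : (((((1 : G) * a) * b) * a) * b) = 1 := by
      calc (((((1 : G) * a) * b) * a) * b) = ((1 : G))⁻¹ * ((((((1 : G) * a) * b) * a) * b)) * (1 : G) := by group
        _ = 1 := by rw [show ((((((1 : G) * a) * b) * a) * b)) = 1 by first | (simpa [mul_assoc] using hab) | (simpa [mul_assoc, mul_inv_rev, inv_eq_one] using congrArg (·⁻¹) hab)]; group
    calc (((1 : G) * a) * b) * a = (((((1 : G) * a) * b) * a) * b) * ((1 : G) * b⁻¹) := by first | (simp [mul_assoc]; done) | group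
      _ = _ := by rw [hw, one_mul]
  have e6_2 : r 6 * a⁻¹ = b ^ (0 : ℤ) * r 7 := flip e7_0
  have e5_3 : r 5 * b⁻¹ = b ^ (0 : ℤ) * r 8 := by simp [r, reps, mul_assoc]
  have e8_1 : r 8 * b = b ^ (0 : ℤ) * r 5 := flip2 e5_3
  have e6_0 : r 6 * a = b ^ (-1 : ℤ) * r 8 := by
    refine dd (st (st0 (r 4)) e4_1) (st (st (st0 (r 4)) e4_2) e5_3) ?_
    have hw : (((((1 : G) * b) * a) * b) * a) = 1 := by
      calc (((((1 : G) * b) * a) * b) * a) = (((1 : G) * a))⁻¹ * ((((((1 : G) * a) * b) * a) * b)) * ((1 : G) * a) := by group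
        _ = 1 := by rw [show ((((((1 : G) * a) * b) * a) * b)) = 1 by first | (simpa [mul_assoc] using hab) | (simpa [mul_assoc, mul_inv_rev, inv_eq_one] using congrArg (·⁻¹) hab)]; group
    calc ((1 : G) * b) * a = (((((1 : G) * b) * a) * b) * a) * (((1 : G) * a⁻¹) * b⁻¹) := by first | (simp [mul_assoc]; done) | group
      _ = _ := by rw [hw, one_mul]
  have e8_2 : r 8 * a⁻¹ = b ^ (1 : ℤ) * r 6 := flip e6_0
  have e8_0 : r 8 * a = b ^ (1 : ℤ) * r 7 := by
    refine dd (st (st0 (r 6)) e6_0) (st (st0 (r 6)) e6_2) ?_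
    have hw : ((((1 : G) * a) * a) * a) = 1 := by
      calc ((((1 : G) * a) * a) * a) = ((1 : G))⁻¹ * (((((1 : G) * a) * a) * a)) * (1 : G) := by group
        _ = 1 := by rw [show (((((1 : G) * a) * a) * a)) = 1 by first | (simpa [mul_assoc] using ha) | (simpa [mul_assoc, mul_inv_rev, inv_eq_one] using congrArg (·⁻¹) ha)]; group
    calc ((1 : G) * a) * a = ((((1 : G) * a) * a) * a) * ((1 : G) * a⁻¹) := by first | (simp [mul_assoc]; done) | group
      _ = _ := by rw [hw, one_mul]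
  have e7_2 : r 7 * a⁻¹ = b ^ (-1 : ℤ) * r 8 := flip e8_0
  have e7_1 : r 7 * b = b ^ (0 : ℤ) * r 9 := by simp [r, reps, mul_assoc]
  have e9_3 : r 9 * b⁻¹ = b ^ (0 : ℤ) * r 7 := flip e7_1
  have e8_3 : r 8 * b⁻¹ = b ^ (0 : ℤ) * r 10 := by simp [r, reps, mul_assoc]
  have e10_1 : r 10 * b = b ^ (0 : ℤ) * r 8 := flip2 e8_3
  have e9_1 : r 9 * b = b ^ (0 : ℤ) * r 10 := by
    refine dd (st (st (st0 (r 5)) e5_1) e7_1) (st (st (st0 (r 5)) e5_3) e8_3) ?_
    have hw : ((((((1 : G) * b) * b) * b) * b) * b) = 1 := by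
      calc ((((((1 : G) * b) * b) * b) * b) * b) = ((1 : G))⁻¹ * (((((((1 : G) * b) * b) * b) * b) * b)) * (1 : G) := by group
        _ = 1 := by rw [show (((((((1 : G) * b) * b) * b) * b) * b)) = 1 by first | (simpa [mul_assoc] using hb) | (simpa [mul_assoc, mul_inv_rev, inv_eq_one] using congrArg (·⁻¹) hb)]; group
    calc (((1 : G) * b) * b) * b = ((((((1 : G) * b) * b) * b) * b) * b) * (((1 : G) * b⁻¹) * b⁻¹) := by first | (simp [mul_assoc]; done) | group
      _ = _ := by rw [hw, one_mul]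
  have e10_3 : r 10 * b⁻¹ = b ^ (0 : ℤ) * r 9 := flip e9_1
  have e9_0 : r 9 * a = b ^ (-1 : ℤ) * r 10 := by
    refine dd (st (st0 (r 7)) e7_1) (st (st (st0 (r 7)) e7_2) e8_3) ?_
    have hw : (((((1 : G) * b) * a) * b) * a) = 1 := by
      calc (((((1 : G) * b) * a) * b) * a) = (((1 : G) * a))⁻¹ * ((((((1 : G) * a) * b) * a) * b)) * ((1 : G) * a) := by group
        _ = 1 := by rw [show ((((((1 : G) * a) * b) * a) * b)) = 1 by first | (simpa [mul_assoc] using hab) | (simpa [mul_assoc, mul_inv_rev, inv_eq_one] using congrArg (·⁻¹) hab)]; group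
    calc ((1 : G) * b) * a = (((((1 : G) * b) * a) * b) * a) * (((1 : G) * a⁻¹) * b⁻¹) := by first | (simp [mul_assoc]; done) | group
      _ = _ := by rw [hw, one_mul]
  have e10_2 : r 10 * a⁻¹ = b ^ (1 : ℤ) * r 9 := flip e9_0
  have e9_2 : r 9 * a⁻¹ = b ^ (0 : ℤ) * r 11 := by simp [r, reps, mul_assoc]
  have e11_0 : r 11 * a = b ^ (0 : ℤ) * r 9 := flip2 e9_2
  have e10_0 : r 10 * a = b ^ (1 : ℤ) * r 11 := by
    refine dd (st (st0 (r 9)) e9_0) (st (st0 (r 9)) e9_2) ?_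
    have hw : ((((1 : G) * a) * a) * a) = 1 := by
      calc ((((1 : G) * a) * a) * a) = ((1 : G))⁻¹ * (((((1 : G) * a) * a) * a)) * (1 : G) := by group
        _ = 1 := by rw [show (((((1 : G) * a) * a) * a)) = 1 by first | (simpa [mul_assoc] using ha) | (simpa [mul_assoc, mul_inv_rev, inv_eq_one] using congrArg (·⁻¹) ha)]; group
    calc ((1 : G) * a) * a = ((((1 : G) * a) * a) * a) * ((1 : G) * a⁻¹) := by first | (simp [mul_assoc]; done) | group
      _ = _ := by rw [hw, one_mul]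
  have e11_2 : r 11 * a⁻¹ = b ^ (-1 : ℤ) * r 10 := flip e10_0
  have e11_1 : r 11 * b = b ^ (-1 : ℤ) * r 11 := by
    refine dd (st (st (st0 (r 9)) e9_1) e10_0) (st (st0 (r 9)) e9_2) ?_
    have hw : (((((1 : G) * b) * a) * b) * a) = 1 := by
      calc (((((1 : G) * b) * a) * b) * a) = (((1 : G) * a))⁻¹ * ((((((1 : G) * a) * b) * a) * b)) * ((1 : G) * a) := by group
        _ = 1 := by rw [show ((((((1 : G) * a) * b) * a) * b)) = 1 by first | (simpa [mul_assoc] using hab) | (simpa [mul_assoc, mul_inv_rev, inv_eq_one] using congrArg (·⁻¹) hab)]; group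
    calc (((1 : G) * b) * a) * b = (((((1 : G) * b) * a) * b) * a) * ((1 : G) * a⁻¹) := by first | (simp [mul_assoc]; done) | group
      _ = _ := by rw [hw, one_mul]
  have e11_3 : r 11 * b⁻¹ = b ^ (1 : ℤ) * r 11 := flip e11_1
  have hone : ∀ (k : ℤ) (i : Fin 12) (c : G), (∃ (l : ℤ) (j : Fin 12), r i * c = b ^ l * r j) →
      ∃ (l : ℤ) (j : Fin 12), b ^ k * r i * c = b ^ l * r j := by
    rintro k i c ⟨l, j, h⟩
    exact ⟨k + l, j, by rw [mul_assoc, h, zpow_add, mul_assoc]⟩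
  induction hg using Subgroup.closure_induction_right with
  | one => exact ⟨0, 0, by simp [hr, reps]⟩
  | mul_right x _ y hy ih =>
    obtain ⟨k, i, rfl⟩ := ih
    refine hone k i y ?_
    rcases hy with rfl | rfl
    · fin_cases i
      · exact ⟨_, _, e0_0⟩
      · exact ⟨_, _, e1_0⟩
      · exact ⟨_, _, e2_0⟩
      · exact ⟨_, _, e3_0⟩
      · exact ⟨_, _, e4_0⟩
      · exact ⟨_, _, e5_0⟩
      · exact ⟨_, _, e6_0⟩
      · exact ⟨_, _, e7_0⟩
      · exact ⟨_, _, e8_0⟩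
      · exact ⟨_, _, e9_0⟩
      · exact ⟨_, _, e10_0⟩
      · exact ⟨_, _, e11_0⟩
    · fin_cases i
      · exact ⟨_, _, e0_1⟩
      · exact ⟨_, _, e1_1⟩
      · exact ⟨_, _, e2_1⟩
      · exact ⟨_, _, e3_1⟩
      · exact ⟨_, _, e4_1⟩
      · exact ⟨_, _, e5_1⟩
      · exact ⟨_, _, e6_1⟩
      · exact ⟨_, _, e7_1⟩
      · exact ⟨_, _, e8_1⟩
      · exact ⟨_, _, e9_1⟩
      · exact ⟨_, _, e10_1⟩
      · exact ⟨_, _, e11_1⟩
  | mul_inv_cancel x _ y hy ih =>
    obtain ⟨k, i, rfl⟩ := ih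
    refine hone k i _ ?_
    rcases hy with rfl | rfl
    · fin_cases i
      · exact ⟨_, _, e0_2⟩
      · exact ⟨_, _, e1_2⟩
      · exact ⟨_, _, e2_2⟩
      · exact ⟨_, _, e3_2⟩
      · exact ⟨_, _, e4_2⟩
      · exact ⟨_, _, e5_2⟩
      · exact ⟨_, _, e6_2⟩
      · exact ⟨_, _, e7_2⟩
      · exact ⟨_, _, e8_2⟩
      · exact ⟨_, _, e9_2⟩
      · exact ⟨_, _, e10_2⟩
      · exact ⟨_, _, e11_2⟩
    · fin_cases i
      · exact ⟨_, _, e0_3⟩
      · exact ⟨_, _, e1_3⟩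
      · exact ⟨_, _, e2_3⟩
      · exact ⟨_, _, e3_3⟩
      · exact ⟨_, _, e4_3⟩
      · exact ⟨_, _, e5_3⟩
      · exact ⟨_, _, e6_3⟩
      · exact ⟨_, _, e7_3⟩
      · exact ⟨_, _, e8_3⟩
      · exact ⟨_, _, e9_3⟩
      · exact ⟨_, _, e10_3⟩
      · exact ⟨_, _, e11_3⟩

/-- `A` and `B` in the alternating group. -/
def permA : alternatingGroup (Fin 5) :=
  ⟨Equiv.swap 0 1 * Equiv.swap 1 2, Equiv.Perm.mem_alternatingGroup.mpr (by decide +kernel)⟩

/-- The five-cycle. -/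
def permB : alternatingGroup (Fin 5) :=
  ⟨⟨![2,3,4,0,1], ![3,4,0,1,2], by decide, by decide⟩, Equiv.Perm.mem_alternatingGroup.mpr (by decide +kernel)⟩

theorem perm_rels : permA ^ 3 = 1 ∧ permB ^ 5 = 1 ∧ (permA * permB) ^ 2 = 1 := by decide +kernel

theorem perm_cover : ∀ σ : alternatingGroup (Fin 5), ∃ (k : Fin 5) (i : Fin 12),
    σ = permB ^ (k : ℕ) * reps permA permB i := by decide +kernel

theorem presentation :
    Nonempty (PresentedGroup ({FreeGroup.of (0 : Fin 2) ^ 3, FreeGroup.of (1 : Fin 2) ^ 5,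
        (FreeGroup.of (0 : Fin 2) * FreeGroup.of 1) ^ 2} : Set (FreeGroup (Fin 2))) ≃*
      alternatingGroup (Fin 5)) := by
  set R : Set (FreeGroup (Fin 2)) := {FreeGroup.of (0 : Fin 2) ^ 3, FreeGroup.of (1 : Fin 2) ^ 5,
        (FreeGroup.of (0 : Fin 2) * FreeGroup.of 1) ^ 2} with hR
  have hrels : ∀ x ∈ R, FreeGroup.lift ![permA, permB] x = 1 := by
    obtain ⟨h1, h2, h3⟩ := perm_rels
    rintro x (rfl | rfl | rfl) <;> simp [h1, h2, h3]
  let φ : PresentedGroup R →* alternatingGroup (Fin 5) := PresentedGroup.toGroup hrels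
  set a : PresentedGroup R := PresentedGroup.of 0 with ha
  set b : PresentedGroup R := PresentedGroup.of 1 with hb
  have hone : ∀ g ∈ R, PresentedGroup.mk R g = 1 := fun g hg =>
    (QuotientGroup.eq_one_iff _).2 (Subgroup.subset_normalClosure hg)
  have r1 : a ^ 3 = 1 := by rw [ha, PresentedGroup.of, ← map_pow]; exact hone _ (by simp [hR])
  have r2 : b ^ 5 = 1 := by rw [hb, PresentedGroup.of, ← map_pow]; exact hone _ (by simp [hR])
  have r3 : (a * b) ^ 2 = 1 := by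
    rw [ha, hb, PresentedGroup.of, PresentedGroup.of, ← map_mul, ← map_pow]; exact hone _ (by simp [hR])
  have hc : ∀ g : PresentedGroup R, ∃ (k : Fin 5) (i : Fin 12), g = b ^ (k : ℕ) * reps a b i := by
    intro g
    have hg : g ∈ Subgroup.closure (Set.range (PresentedGroup.of (rels := R))) := by
      rw [PresentedGroup.closure_range_of]; trivial
    have hset : Set.range (PresentedGroup.of (rels := R)) = {a, b} := by
      ext x
      simp only [Set.mem_range, Fin.exists_fin_two, Set.mem_insert_iff, Set.mem_singleton_iff,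
        ha, hb, eq_comm]
    rw [hset] at hg
    obtain ⟨k, i, rfl⟩ := cover (by rw [← pow_three']; exact r1)
      (by rw [← r2]; simp only [pow_succ, pow_zero, one_mul])
      (by rw [← r3]; simp only [pow_succ, pow_zero, one_mul, mul_assoc]) g hg
    refine ⟨⟨(k % 5).toNat, by omega⟩, i, ?_⟩
    congr 1
    rw [← zpow_natCast]
    simp only [Int.toNat_of_nonneg (Int.emod_nonneg k (by norm_num : (5 : ℤ) ≠ 0))]
    conv_lhs => rw [← Int.emod_add_mul_ediv k 5, zpow_add, zpow_mul,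
      show b ^ (5 : ℤ) = 1 from (by exact_mod_cast r2), one_zpow, mul_one]
  have hφ : ∀ (k : ℕ) i, φ (b ^ k * reps a b i) = permB ^ k * reps permA permB i := by
    intro k i
    have ea : φ a = permA := PresentedGroup.toGroup.of hrels
    have eb : φ b = permB := PresentedGroup.toGroup.of hrels
    fin_cases i <;> simp [reps, map_mul, map_pow, map_inv, ea, eb]
  have hsurj : Function.Surjective φ := fun σ => by
    obtain ⟨k, i, rfl⟩ := perm_cover σ
    exact ⟨_, hφ k i⟩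
  have hcov : Function.Surjective (fun p : Fin 5 × Fin 12 => b ^ (p.1 : ℕ) * reps a b p.2) := fun g => by
    obtain ⟨k, i, h⟩ := hc g
    exact ⟨(k, i), h.symm⟩
  haveI : Finite (PresentedGroup R) := Finite.of_surjective _ hcov
  have hle := Nat.card_le_card_of_surjective _ hcov
  have hA : Nat.card (alternatingGroup (Fin 5)) = 60 := by
    rw [nat_card_alternatingGroup, Nat.card_fin]; rfl
  rw [Nat.card_prod, Nat.card_fin, Nat.card_fin] at hle
  exact ⟨MulEquiv.ofBijective φ ((Nat.bijective_iff_surjective_and_card φ).2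
    ⟨hsurj, le_antisymm (by omega) (Nat.card_le_card_of_surjective φ hsurj)⟩)⟩

end Cfsg.Agent.Lib.ThreeTransp.IcoPres
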