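import Cfsg.Agent.Lib.Compute.Leech

/-!
# Short vectors congruent modulo twice the lattice
-/

namespace Cfsg.Agent.Lib.ThreeTransp

open Cfsg
open Cfsg.Agent.Lib.Compute

theorem sqNorm_smul_two (z : GolayPt → ℤ) : sqNorm (2 • z) = 4 * sqNorm z := by
  simp only [sqNorm, Pi.smul_apply, nsmul_eq_mul, Finset.mul_sum]
  exact Finset.sum_congr rfl fun i _ => by push_cast; ring

theorem sqNorm_neg' (z : GolayPt → ℤ) : sqNorm (-z) = sqNorm z := by
  simp [sqNorm]

/-- Two short congruent vectors are equal up to sign, or both of type four and orthogonal. -/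
theorem short_congr {x y : GolayPt → ℤ} (hx : x ∈ leechLattice) (hy : y ∈ leechLattice)
    (hxn : sqNorm x ≤ 64) (hyn : sqNorm y ≤ 64) (hc : ∃ z ∈ leechLattice, x - y = 2 • z) :
    x = y ∨ x = -y ∨ (sqNorm x = 64 ∧ sqNorm y = 64 ∧ dotInt x y = 0) := by
  obtain ⟨z, hz, hzx⟩ := hc
  by_cases hz0 : z = 0
  · left; rw [hz0, smul_zero] at hzx; exact sub_eq_zero.mp hzx
  by_cases hz1 : y + z = 0
  · right; left
    have : x = y + 2 • z := by rw [← hzx]; abel
    rw [this, eq_neg_of_add_eq_zero_right hz1]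
    abel
  right; right
  have e1 : sqNorm x = sqNorm (y + z) + 2 * dotInt (y + z) z + sqNorm z := by
    rw [← sqNorm_add]
    congr 1
    rw [add_assoc, ← two_nsmul, ← hzx]
    abel
  have e2 : sqNorm y = sqNorm (y + z) - 2 * dotInt (y + z) z + sqNorm z := by
    have h := sqNorm_add (y + z) (-z)
    rw [add_neg_cancel_right, sqNorm_neg'] at h
    rw [h]
    have : dotInt (y + z) (-z) = - dotInt (y + z) z := by
      simp [dotInt]
    rw [this]; ring
  have h1 := thirtyTwo_le_sqNorm hz hz0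
  have h2 := thirtyTwo_le_sqNorm (add_mem hy hz) hz1
  refine ⟨by omega, by omega, ?_⟩
  have h3 : sqNorm (x - y) = 128 := by rw [hzx, sqNorm_smul_two]; omega
  have h4 : sqNorm (x - y) = sqNorm x - 2 * dotInt x y + sqNorm y := by
    rw [sub_eq_add_neg, sqNorm_add, sqNorm_neg']
    have : dotInt x (-y) = - dotInt x y := by simp [dotInt]
    rw [this]; ring
  omega

end Cfsg.Agent.Lib.ThreeTransp
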