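import Cfsg.Agent.Lib.Compute.Leech

/-!
# A totally singular subgroup of index 2 ^ 12
-/

namespace Cfsg.Agent.Lib.ThreeTransp

open Cfsg
open Cfsg.Agent.Lib.Compute

/-- The shortest vector `(-3, 1 ^ 23)`. -/
def oddVec : GolayPt → ℤ := fun p => if p = none then -3 else 1

theorem oddVec_mem : oddVec ∈ leechLattice :=
  mem_leechLattice_iff.mpr ⟨1, fun p => if p = none then -2 else 0,
    by decide, by
      have : redTwo (fun p : GolayPt => if p = none then -2 else 0) = 0 := by decide
      rw [this]; exact zero_mem _, by decide⟩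

theorem half_mem_code {y : GolayPt → ℤ} (hy : y ∈ leechLattice) (hp : ∀ i, (2 : ℤ) ∣ y i) :
    redTwo (fun i => y i / 2) ∈ golayCode := by
  obtain ⟨m, w, hf, hw, hs⟩ := mem_leechLattice_iff.mp hy
  obtain ⟨n, rfl⟩ : (2 : ℤ) ∣ m := by
    have := hp none
    have := hf none
    omega
  have e : redTwo (fun i => y i / 2) = (n : ZMod 2) • (1 : GolayPt → ZMod 2) + redTwo w := by
    funext i
    have : y i / 2 = n + w i := by rw [hf i]; omega
    simp [redTwo, this]
  rw [e]
  exact add_mem (Submodule.smul_mem _ _ one_mem_golayCode) hw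

/-- Clear the extra coordinate with `oddVec`. -/
def clearFun (x : GolayPt → ℤ) : GolayPt → ℤ := fun i => x i - x none * oddVec i

theorem clearFun_eq (x : GolayPt → ℤ) : clearFun x = x - x none • oddVec := by
  funext i; simp [clearFun]

theorem clearFun_mem {x : GolayPt → ℤ} (hx : x ∈ leechLattice) : clearFun x ∈ leechLattice := by
  rw [clearFun_eq]; exact sub_mem hx (zsmul_mem oddVec_mem _)

theorem clearFun_none (x : GolayPt → ℤ) : clearFun x none = 4 * x none := by
  simp [clearFun, oddVec]; ring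

theorem two_dvd_clearFun {x : GolayPt → ℤ} (hx : x ∈ leechLattice) (i : GolayPt) :
    (2 : ℤ) ∣ clearFun x i := by
  obtain ⟨m, w, hf, -, -⟩ := mem_leechLattice_iff.mp hx
  simp only [clearFun, oddVec, hf i, hf none]
  split_ifs with h
  · subst h; omega
  · omega

/-- The code words vanishing at the extra point. -/
noncomputable def evalExtra : ↥golayCode →+ ZMod 2 where
  toFun c := (c : GolayPt → ZMod 2) none
  map_zero' := rfl
  map_add' _ _ := rfl

theorem card_ker_evalExtra : Nat.card evalExtra.ker = 2048 := by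
  have h := AddSubgroup.card_eq_card_quotient_mul_card_addSubgroup evalExtra.ker
  have hr : evalExtra.range = ⊤ := by
    rw [AddMonoidHom.range_eq_top]
    intro b
    rcases zmod2_cases b with rfl | rfl
    · exact ⟨0, map_zero _⟩
    · exact ⟨⟨1, one_mem_golayCode⟩, rfl⟩
  rw [Nat.card_congr (QuotientAddGroup.quotientKerEquivRange evalExtra).toEquiv, hr,
    AddSubgroup.card_top, Nat.card_zmod, card_golayCode] at h
  omega

/-- The map onto `ZMod 2 × (words vanishing at the extra point)`. -/
noncomputable def quadMap : ↥leechLattice →+ ZMod 2 × ↥evalExtra.ker where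
  toFun x := (((x : GolayPt → ℤ) none : ZMod 2),
    ⟨⟨redTwo (fun i => clearFun x i / 2), half_mem_code (clearFun_mem x.2) (two_dvd_clearFun x.2)⟩,
      by
        show (((clearFun x none / 2 : ℤ)) : ZMod 2) = 0
        rw [clearFun_none, ZMod.intCast_zmod_eq_zero_iff_dvd]
        omega⟩)
  map_zero' := by
    refine Prod.ext (by simp) (Subtype.ext (Subtype.ext (funext fun i => ?_)))
    simp [redTwo, clearFun]
  map_add' := fun x y => by
    refine Prod.ext (by simp) (Subtype.ext (Subtype.ext (funext fun i => ?_)))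
    show ((clearFun (x + y : GolayPt → ℤ) i / 2 : ℤ) : ZMod 2)
      = ((clearFun x i / 2 : ℤ) : ZMod 2) + ((clearFun y i / 2 : ℤ) : ZMod 2)
    have h : clearFun (x + y : GolayPt → ℤ) i = clearFun x i + clearFun y i := by
      simp only [clearFun, Pi.add_apply]; ring
    rw [h, Int.add_ediv_of_dvd_left (two_dvd_clearFun x.2 i), Int.cast_add]

theorem quadMap_surjective : Function.Surjective quadMap := by
  rintro ⟨b, ⟨⟨c, hc⟩, hc0⟩⟩
  have hc0' : c none = 0 := hc0
  let w : GolayPt → ℤ := fun i => (c i).val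
  have hw : redTwo w = c := funext fun i => by simp [redTwo, w]
  have hy : (fun i => 2 * w i) ∈ leechLattice := by
    refine mem_leechLattice_iff.mpr ⟨0, w, fun i => by simp, by rw [hw]; exact hc, ?_⟩
    have e : ∑ i, w i = (hammingNorm c : ℤ) := by
      rw [hammingNorm, Finset.card_filter, Nat.cast_sum]
      refine Finset.sum_congr rfl fun i _ => ?_
      rcases zmod2_cases (c i) with h | h <;> simp only [w, h] <;> rfl
    rw [e]
    rcases hammingNorm_mem_golayCode hc with e | e | e | e | e <;> rw [e] <;> decide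
  refine ⟨⟨_, add_mem hy (zsmul_mem oddVec_mem (b.val : ℤ))⟩,
    Prod.ext ?_ (Subtype.ext (Subtype.ext (funext fun i => ?_)))⟩
  · show ((2 * w none + (b.val : ℤ) * oddVec none : ℤ) : ZMod 2) = b
    rcases zmod2_cases b with rfl | rfl <;> simp [w, hc0', oddVec] <;> decide
  · show ((clearFun _ i / 2 : ℤ) : ZMod 2) = c i
    simp only [clearFun, Pi.add_apply, Pi.smul_apply, smul_eq_mul]
    have e : w none = 0 := by simp [w, hc0']
    rw [e]
    have h4 : oddVec none = -3 := rfl
    rw [h4, show 2 * w i + (b.val : ℤ) * oddVec i - (2 * 0 + (b.val : ℤ) * -3) * oddVec i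
        = 2 * (w i + 2 * (b.val : ℤ) * oddVec i) by ring, Int.mul_ediv_cancel_left _ (by norm_num),
      ← congrFun hw i]
    simp [redTwo, show (2 : ZMod 2) = 0 from rfl]

/-- The totally singular subgroup. -/
def singularSub : AddSubgroup (GolayPt → ℤ) where
  carrier := {x | x ∈ leechLattice ∧ (2 : ℤ) ∣ x none ∧ ∀ i, (4 : ℤ) ∣ clearFun x i}
  zero_mem' := ⟨zero_mem _, by simp, fun i => by simp [clearFun]⟩
  add_mem' := fun {x y} hx hy => ⟨add_mem hx.1 hy.1, dvd_add hx.2.1 hy.2.1, fun i => by
    have h : clearFun (x + y) i = clearFun x i + clearFun y i := by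
      simp only [clearFun, Pi.add_apply]; ring
    rw [h]; exact dvd_add (hx.2.2 i) (hy.2.2 i)⟩
  neg_mem' := fun {x} hx => ⟨neg_mem hx.1, (hx.2.1).neg_right, fun i => by
    have h : clearFun (-x) i = - clearFun x i := by simp only [clearFun, Pi.neg_apply]; ring
    rw [h]; exact (hx.2.2 i).neg_right⟩

theorem singularSub_eq_ker : singularSub.addSubgroupOf leechLattice = quadMap.ker := by
  ext x
  rw [AddSubgroup.mem_addSubgroupOf, AddMonoidHom.mem_ker]
  constructor
  · rintro ⟨-, h1, h2⟩
    refine Prod.ext ((ZMod.intCast_zmod_eq_zero_iff_dvd _ 2).mpr h1)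
      (Subtype.ext (Subtype.ext (funext fun i => ?_)))
    refine (ZMod.intCast_zmod_eq_zero_iff_dvd _ 2).mpr ?_
    have := h2 i
    push_cast
    omega
  · intro h
    refine ⟨x.2, (ZMod.intCast_zmod_eq_zero_iff_dvd _ 2).mp (congrArg Prod.fst h), fun i => ?_⟩
    have h2 := (ZMod.intCast_zmod_eq_zero_iff_dvd _ 2).mp
      (congrFun (congrArg (fun v : ZMod 2 × ↥evalExtra.ker => ((v.2 : ↥golayCode) : GolayPt → ZMod 2)) h) i)
    have := two_dvd_clearFun x.2 i
    push_cast at h2
    omega

theorem thirtyTwo_dvd_of_singular {x : GolayPt → ℤ} (h : x ∈ singularSub) :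
    (32 : ℤ) ∣ sqNorm x := by
  obtain ⟨hx, ⟨a, ha⟩, hu⟩ := h
  choose u hu using hu
  obtain ⟨m, w, hf, -, hs⟩ := mem_leechLattice_iff.mp (clearFun_mem hx)
  have hsum : (∑ i, u i) % 2 = 0 := by
    have e : 4 * ∑ i, u i = 24 * m + 2 * ∑ i, w i := by
      rw [Finset.mul_sum, Finset.mul_sum, ← sum_const_golayPt m, ← Finset.sum_add_distrib]
      exact Finset.sum_congr rfl fun i _ => by rw [← hu i, hf i]
    have h0 := hu none
    rw [hf none] at h0
    simp only [Int.ModEq] at hs
    omega
  have hpar : ∀ t : ℤ, (2 : ℤ) ∣ t * t - t := fun t => by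
    rw [show t * t - t = t * (t - 1) by ring]; exact (Int.even_mul_pred_self t).two_dvd
  obtain ⟨k, hk⟩ : (2 : ℤ) ∣ ∑ i, (a * oddVec i * u i + u i * u i) := by
    have e : ∑ i, (a * oddVec i * u i + u i * u i) = a * ∑ i, oddVec i * u i + ∑ i, u i * u i := by
      rw [Finset.sum_add_distrib, Finset.mul_sum]
      congr 1
      exact Finset.sum_congr rfl fun i _ => by ring
    rw [e]
    have h1 : (2 : ℤ) ∣ ∑ i, oddVec i * u i := by
      have : ∑ i, oddVec i * u i = (∑ i, u i) - 4 * u none := by
        have e : ∀ i, oddVec i * u i = u i - if i = none then 4 * u none else 0 := fun i => by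
          by_cases h : i = none
          · subst h; simp [oddVec]; ring
          · simp [oddVec, h]
        rw [Finset.sum_congr rfl fun i _ => e i, Finset.sum_sub_distrib, Finset.sum_ite_eq',
          if_pos (Finset.mem_univ _)]
      rw [this]; omega
    have h2 : (2 : ℤ) ∣ ∑ i, u i * u i := by
      have : (2 : ℤ) ∣ ∑ i, (u i * u i - u i) := Finset.dvd_sum fun i _ => hpar (u i)
      rw [Finset.sum_sub_distrib] at this
      omega
    exact dvd_add (h1.mul_left _) h2
  refine ⟨4 * a ^ 2 + k, ?_⟩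
  have hxi : ∀ i, x i = 2 * a * oddVec i + 4 * u i := fun i => by
    rw [← hu i, clearFun, ha]; ring
  have hsq : ∑ i, oddVec i ^ 2 = 32 := by decide
  rw [sqNorm, Finset.sum_congr rfl fun i _ => show x i ^ 2 =
      4 * a ^ 2 * oddVec i ^ 2 + 16 * (a * oddVec i * u i + u i * u i) by rw [hxi i]; ring,
    Finset.sum_add_distrib, ← Finset.mul_sum, ← Finset.mul_sum, hsq, hk]
  ring

end Cfsg.Agent.Lib.ThreeTransp
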