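import Cfsg.Agent.Lib.Compute.Leech
import Cfsg.Agent.Lib.Compute.M24Action
import Cfsg.Agent.Lib.ThreeTransp.LeechQuadratic
import Cfsg.Prelude.Def_Spor_Conway

/-!
# A quadratic form on the lattice modulo 2 invariant under the monomial group vanishes on the
singular subgroup
-/

namespace Cfsg.Agent.Lib.ThreeTransp

open Cfsg
open Cfsg.Agent.Lib.Compute

abbrev Lam : Type := ↥leechLattice

/-- `4 eᵢ + 4 eⱼ`. -/
def pairFun (i j : GolayPt) : GolayPt → ℤ :=
  fun p => (if p = i then 4 else 0) + (if p = j then 4 else 0)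

theorem pairFun_mem (i j : GolayPt) : pairFun i j ∈ leechLattice := by
  refine AddSubgroup.subset_closure (Spor.mem_leechSet_of_const_mod_four _ 0 0 rfl (fun p => ?_) ?_)
  · simp only [pairFun, Int.ModEq]
    split_ifs <;> rfl
  · simp [pairFun, Finset.sum_add_distrib, Int.ModEq]

/-- `4 eᵢ + 4 eⱼ` in the lattice. -/
def vv (i j : GolayPt) : Lam := ⟨pairFun i j, pairFun_mem i j⟩

theorem diff_mem (i j : GolayPt) :
    (fun p => (if p = i then 4 else 0) - (if p = j then 4 else 0) : GolayPt → ℤ) ∈ leechLattice := by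
  refine AddSubgroup.subset_closure (Spor.mem_leechSet_of_const_mod_four _ 0 0 rfl (fun p => ?_) ?_)
  · simp only [Int.ModEq]
    split_ifs <;> rfl
  · simp [Finset.sum_sub_distrib, Int.ModEq]

/-- `4 eᵢ - 4 eⱼ` in the lattice. -/
def dd (i j : GolayPt) : Lam := ⟨_, diff_mem i j⟩

/-- The lattice map given by a permutation of the coordinates. -/
def permMap {σ : Equiv.Perm GolayPt} (hσ : σ ∈ M24) (v : Lam) : Lam :=
  ⟨fun i => (v : GolayPt → ℤ) (σ i), perm_mem_leechLattice hσ v.2⟩

/-- The lattice map given by a sign change on a code word. -/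
def signMap {c : Finset GolayPt} (hc : c ∈ supports (golayCode : Set (GolayPt → ZMod 2))) (v : Lam) :
    Lam :=
  ⟨fun i => if i ∈ c then -(v : GolayPt → ℤ) i else (v : GolayPt → ℤ) i,
    sign_mem_leechLattice hc v.2⟩

theorem exists_co0_perm {σ : Equiv.Perm GolayPt} (hσ : σ ∈ M24) :
    ∃ g : ↥Co0, ∀ v : Lam, g • v = permMap hσ v := by
  refine ⟨⟨{ toFun := permMap hσ
             invFun := permMap (inv_mem hσ)
             left_inv := fun v => Subtype.ext (funext fun i => by simp [permMap, Equiv.Perm.inv_def])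
             right_inv := fun v => Subtype.ext (funext fun i => by simp [permMap, Equiv.Perm.inv_def]) },
    fun v w => rfl, fun v => ?_⟩, fun v => rfl⟩
  exact Equiv.sum_comp σ (fun i => (v : GolayPt → ℤ) i ^ 2)

theorem exists_co0_sign {c : Finset GolayPt}
    (hc : c ∈ supports (golayCode : Set (GolayPt → ZMod 2))) :
    ∃ g : ↥Co0, ∀ v : Lam, g • v = signMap hc v := by
  refine ⟨⟨{ toFun := signMap hc
             invFun := signMap hc
             left_inv := fun v => Subtype.ext (funext fun i => by by_cases h : i ∈ c <;> simp [signMap, h])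
             right_inv := fun v => Subtype.ext (funext fun i => by by_cases h : i ∈ c <;> simp [signMap, h]) },
    fun v w => Subtype.ext (funext fun i => ?_), fun v => ?_⟩, fun v => rfl⟩
  · show (if i ∈ c then -((v : GolayPt → ℤ) i + (w : GolayPt → ℤ) i)
      else (v : GolayPt → ℤ) i + (w : GolayPt → ℤ) i) = _
    by_cases h : i ∈ c <;> simp [signMap, h, add_comm]
  · refine Finset.sum_congr rfl fun i _ => ?_
    by_cases h : i ∈ c <;> simp [signMap, h]

/-- A quadratic form on the lattice modulo 2, invariant under permutations and sign changes. -/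
structure InvForm (q : Lam → ZMod 2) : Prop where
  add : ∀ u v w : Lam, q (u + v + w) + q (u + v) + q w
    = (q (u + w) + q u + q w) + (q (v + w) + q v + q w)
  mod : ∀ v w : Lam, q (v + (w + w)) = q v
  perm : ∀ (σ : Equiv.Perm GolayPt) (hσ : σ ∈ M24) (v : Lam), q (permMap hσ v) = q v
  sign : ∀ (c : Finset GolayPt) (hc : c ∈ supports (golayCode : Set (GolayPt → ZMod 2))) (v : Lam),
    q (signMap hc v) = q v

/-- The polar form. -/
def pol (q : Lam → ZMod 2) (u v : Lam) : ZMod 2 := q (u + v) + q u + q v

theorem z2_self (a : ZMod 2) : a + a = 0 := CharTwo.add_self_eq_zero a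

namespace InvForm

variable {q : Lam → ZMod 2} (h : InvForm q)
include h

theorem pol_add (u v w : Lam) : pol q (u + v) w = pol q u w + pol q v w := h.add u v w

theorem q_add (u v : Lam) : q (u + v) = q u + q v + pol q u v := by
  simp only [pol]
  linear_combination (norm := ring_nf) (-1 : ZMod 2) * (z2_self (q u) + z2_self (q v))

theorem q_zero : q 0 = 0 := by
  have := h.add 0 0 0
  simp only [add_zero] at this
  revert this
  generalize q 0 = a
  revert a
  decide

theorem pol_comm (u v : Lam) : pol q u v = pol q v u := by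
  simp only [pol, add_comm u v]; ring

theorem pol_zero (u : Lam) : pol q 0 u = 0 := by
  simp only [pol, zero_add, h.q_zero, add_zero, z2_self]

theorem pol_self (u : Lam) : pol q u u = 0 := by
  have e : q (u + u) = q 0 := by simpa using h.mod 0 u
  simp only [pol, e, h.q_zero, zero_add, z2_self]

theorem pol_mod (u w v : Lam) : pol q (u + (w + w)) v = pol q u v := by
  rw [h.pol_add, h.pol_add, z2_self, add_zero]

theorem pol_add_right (u v w : Lam) : pol q u (v + w) = pol q u v + pol q u w := by
  rw [h.pol_comm, h.pol_add, h.pol_comm v u, h.pol_comm w u]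

theorem pol_mod_right (u w v : Lam) : pol q v (u + (w + w)) = pol q v u := by
  rw [h.pol_comm, h.pol_mod, h.pol_comm]

end InvForm

theorem vv_comm (i j : GolayPt) : vv i j = vv j i :=
  Subtype.ext (funext fun p => add_comm _ _)

theorem vv_diag (i j : GolayPt) : vv i i = vv j j + (dd i j + dd i j) :=
  Subtype.ext (funext fun p => by
    show pairFun i i p = pairFun j j p + (((if p = i then 4 else 0) - (if p = j then 4 else 0))
      + ((if p = i then 4 else 0) - (if p = j then 4 else 0)))
    simp only [pairFun]; ring)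

theorem vv_chain (i j k : GolayPt) : vv i j + vv j k = vv i k + vv j j :=
  Subtype.ext (funext fun p => by
    show pairFun i j p + pairFun j k p = pairFun i k p + pairFun j j p
    simp only [pairFun]; ring)

theorem perm_vv {σ : Equiv.Perm GolayPt} (hσ : σ ∈ M24) (i j : GolayPt) :
    permMap hσ (vv (σ i) (σ j)) = vv i j :=
  Subtype.ext (funext fun p => by
    show pairFun (σ i) (σ j) (σ p) = pairFun i j p
    simp only [pairFun, EmbeddingLike.apply_eq_iff_eq])

/-- The common class of the vectors `8 eᵢ`. -/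
def ff : Lam := vv none none

theorem exists_sep {i j : GolayPt} (hij : i ≠ j) : ∃ c ∈ supports (golayCode : Set (GolayPt → ZMod 2)),
    i ∈ c ∧ j ∉ c ∨ j ∈ c ∧ i ∉ c := by
  have key : ∀ a b : Fin 24, a ≠ b → ∃ m ∈ golayBasis, m.1.testBit a ≠ m.1.testBit b := by
    decide +kernel
  obtain ⟨m, hm, hne⟩ := key (enc i) (enc j) (fun e => hij (enc.injective e))
  refine ⟨setOf24 m.1, ⟨wordOf m.1, wordOf_mem_of_inCode ?_, support₂_wordOf _⟩, ?_⟩
  · exact (show ∀ b ∈ golayBasis, inCode b.1 = true by decide +kernel) m hm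
  · simp only [mem_setOf24]
    revert hne
    cases m.1.testBit (enc i) <;> cases m.1.testBit (enc j) <;> simp

namespace InvForm

variable {q : Lam → ZMod 2} (h : InvForm q)
include h

theorem q_diag (i : GolayPt) : q (vv i i) = q ff := by
  rw [vv_diag i none, h.mod]; rfl

theorem pol_diag (i : GolayPt) (u : Lam) : pol q (vv i i) u = pol q ff u := by
  rw [vv_diag i none, h.pol_mod]; rfl

theorem q_vv_eq {i j k l : GolayPt} (hij : i ≠ j) (hkl : k ≠ l) : q (vv i j) = q (vv k l) := by
  obtain ⟨g1, a1, b1⟩ := exists_smul_two hij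
  obtain ⟨g2, a2, b2⟩ := exists_smul_two hkl
  have hr : ∀ (g : M24) (x y : GolayPt), q (vv ((g : Equiv.Perm GolayPt) x) ((g : Equiv.Perm GolayPt) y))
      = q (vv x y) := fun g x y => by
    rw [← h.perm _ g.2, perm_vv]
  rw [← a1, ← b1, ← a2, ← b2]
  exact (hr g1 _ _).trans (hr g2 _ _).symm

theorem q_flip {i j : GolayPt} (hij : i ≠ j) : q (vv i j + ff) = q (vv i j) := by
  obtain ⟨c, hc, hcases⟩ := exists_sep hij
  have key : ∀ x y : GolayPt, x ∈ c → y ∉ c → q (vv x y + ff) = q (vv x y) := by
    intro x y hx hy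
    have hxy : x ≠ y := fun e => hy (e ▸ hx)
    have e : signMap hc (vv x y) + (vv x x) = vv x y := by
      refine Subtype.ext (funext fun p => ?_)
      show (if p ∈ c then -pairFun x y p else pairFun x y p) + pairFun x x p = pairFun x y p
      simp only [pairFun]
      by_cases h1 : p = x
      · subst h1; simp [hx, hxy]
      · by_cases h2 : p = y
        · subst h2; simp [hy, h1]
        · simp [h1, h2]
    have e2 : signMap hc (vv x y) = vv x y + ff + (-(vv x x) + dd x none + -(ff) + -(dd x none) + (dd x none + dd x none) + ff + -(ff) + -(dd x none) + -(dd x none)) := by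
      have := eq_sub_of_add_eq e
      rw [this, sub_eq_add_neg]
      abel
    have e3 : signMap hc (vv x y) = (vv x y + ff) + (-(vv x x) + dd x none + (-(vv x x) + dd x none)) := by
      rw [eq_sub_of_add_eq e]
      conv_lhs => rw [vv_diag x none]
      rw [vv_diag x none, sub_eq_add_neg]
      show _ = vv x y + ff + _
      simp only [ff]
      abel
    rw [← h.mod (vv x y + ff) (-(vv x x) + dd x none), ← e3, h.sign]
  rcases hcases with ⟨h1, h2⟩ | ⟨h1, h2⟩
  · exact key i j h1 h2
  · rw [vv_comm i j]; exact key j i h1 h2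

/-- The value on `4 eᵢ + 4 eⱼ`. -/
theorem basic_values : q ff = 0 ∧ (∀ i j, pol q (vv i j) ff = 0) ∧
    (∀ i j k, i ≠ j → j ≠ k → i ≠ k → pol q (vv i j) (vv j k) = q (vv i j)) := by
  have h1 : ∀ i j : GolayPt, i ≠ j → pol q (vv i j) ff = q ff := by
    intro i j hij
    have := h.q_add (vv i j) ff
    rw [h.q_flip hij] at this
    revert this
    generalize q (vv i j) = a; generalize q ff = b; generalize pol q (vv i j) ff = c
    revert a b c; decide
  have h2 : ∀ i j k : GolayPt, i ≠ j → j ≠ k → i ≠ k → pol q (vv i j) (vv j k) = q (vv i j) := by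
    intro i j k hij hjk hik
    have e := h.q_add (vv i j) (vv j k)
    rw [vv_chain, h.q_add, h.q_diag, h.pol_comm, h.pol_diag, h.pol_comm ff, h1 i k hik,
      h.q_vv_eq hik hij, h.q_vv_eq hjk hij] at e
    revert e
    generalize q (vv i j) = a; generalize q ff = b; generalize pol q (vv i j) (vv j k) = c
    revert a b c; decide
  have h3 : q ff = 0 := by
    have h01 : enc.symm (0 : Fin 24) ≠ enc.symm 1 := by decide +kernel
    have h12 : enc.symm (1 : Fin 24) ≠ enc.symm 2 := by decide +kernel
    have h02 : enc.symm (0 : Fin 24) ≠ enc.symm 2 := by decide +kernel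
    set i := enc.symm (0 : Fin 24)
    set j := enc.symm (1 : Fin 24)
    set k := enc.symm (2 : Fin 24)
    have e : vv i j + vv j k + vv k i = ff + (dd j none + dd j none) + (vv i k + vv i k) := by
      rw [vv_chain, vv_diag j none, vv_comm k i]
      show _ = vv none none + _ + _
      abel
    have e1 := h.pol_add_right (vv i j) (vv i j + vv j k) (vv k i)
    rw [e, h.pol_mod_right, h.pol_mod_right, h.pol_add_right, h.pol_self, h1 i j h01,
      h2 i j k h01 h12 h02, h.pol_comm (vv i j) (vv k i), h2 k i j h02.symm h01 h12.symm,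
      h.q_vv_eq h02.symm h01] at e1
    revert e1
    generalize q (vv i j) = a; generalize q ff = b
    revert a b; decide
  refine ⟨h3, fun i j => ?_, h2⟩
  by_cases hij : i = j
  · subst hij
    rw [h.pol_diag, h.pol_self]
  · rw [h1 i j hij, h3]

theorem pol_disjoint {i j k l : GolayPt} (hij : i ≠ j) (hkl : k ≠ l) (hki : k ≠ i) (hkj : k ≠ j)
    (hli : l ≠ i) (hlj : l ≠ j) : pol q (vv i j) (vv k l) = 0 := by
  obtain ⟨-, hf, h2⟩ := h.basic_values
  have e : vv k i + vv i l = vv k l + vv i i := vv_chain k i l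
  have := congrArg (pol q (vv i j)) e
  rw [h.pol_add_right, h.pol_add_right, h.pol_comm (vv i j) (vv i i), h.pol_diag,
    h.pol_comm ff, hf, add_zero, vv_comm k i, vv_comm i j, h2 j i k hij.symm hki.symm hkj.symm,
    h2 j i l hij.symm hli.symm hlj.symm, z2_self] at this
  rw [vv_comm i j]
  exact this.symm

end InvForm

/-- Twice the indicator of an octad. -/
theorem two_ind_mem {m : ℕ} (hc : inCode m = true) (h8 : pop m = 8) :
    (fun p : GolayPt => if p ∈ setOf24 m then (2 : ℤ) else 0) ∈ leechLattice := by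
  refine mem_leechLattice_iff.mpr ⟨0, fun p => if p ∈ setOf24 m then 1 else 0,
    fun p => by by_cases hp : p ∈ setOf24 m <;> simp [hp], ?_, ?_⟩
  · have : redTwo (fun p => if p ∈ setOf24 m then 1 else 0) = wordOf m := by
      funext p
      by_cases hp : p ∈ setOf24 m
      · simp [redTwo, hp, wordOf, mem_setOf24.mp hp]
      · have := hp; rw [mem_setOf24] at this
        simp [redTwo, hp, wordOf, this]
    rw [this]; exact wordOf_mem_of_inCode hc
  · rw [Finset.sum_boole, Finset.filter_mem_eq_inter, Finset.univ_inter, card_setOf24, h8]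
    decide

/-- Twice the indicator of an octad, in the lattice. -/
def octVec (m : ℕ) : Lam :=
  if hm : inCode m = true ∧ pop m = 8 then ⟨_, two_ind_mem hm.1 hm.2⟩ else 0

theorem octVec_apply {m : ℕ} (hc : inCode m = true) (h8 : pop m = 8) :
    (octVec m : GolayPt → ℤ) = fun p => if p ∈ setOf24 m then 2 else 0 := by
  rw [octVec, dif_pos ⟨hc, h8⟩]

/-- The data of one triangle inside an octad. -/
def triOk (o c : ℕ) (i j : Fin 24) : Bool :=
  inCode o && (pop o == 8) && inCode c && ((o &&& c) == (1 <<< (i : ℕ) ||| 1 <<< (j : ℕ))) &&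
    decide (i ≠ j)

theorem oct_identity : ∀ p : GolayPt,
    (if p ∈ setOf24 0x149f then (2 : ℤ) else 0) + (if p ∈ setOf24 0x800c75 then 2 else 0)
    = (if p ∈ setOf24 0x8018ea then 2 else 0)
      + (pairFun (enc.symm 0) (enc.symm 2) p + pairFun (enc.symm 4) (enc.symm 10) p) := by
  decide +kernel

namespace InvForm

variable {q : Lam → ZMod 2} (h : InvForm q)
include h

theorem pol_oct {o c : ℕ} {i j : Fin 24} (hok : triOk o c i j = true) :
    pol q (octVec o) (vv (enc.symm i) (enc.symm j)) = q (vv (enc.symm i) (enc.symm j)) := by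
  simp only [triOk, Bool.and_eq_true, beq_iff_eq, decide_eq_true_eq] at hok
  obtain ⟨⟨⟨⟨hc1, h8⟩, hc2⟩, hand⟩, hij⟩ := hok
  have hsupp : setOf24 c ∈ supports (golayCode : Set (GolayPt → ZMod 2)) :=
    ⟨wordOf c, wordOf_mem_of_inCode hc2, support₂_wordOf _⟩
  set V := vv (enc.symm i) (enc.symm j)
  have e : signMap hsupp (octVec o) = octVec o + V + (-V + -V) := by
    refine Subtype.ext (funext fun p => ?_)
    show (if p ∈ setOf24 c then -((octVec o : Lam) : GolayPt → ℤ) p
      else ((octVec o : Lam) : GolayPt → ℤ) p) =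
      ((octVec o : Lam) : GolayPt → ℤ) p + pairFun (enc.symm i) (enc.symm j) p
      + (-pairFun (enc.symm i) (enc.symm j) p + -pairFun (enc.symm i) (enc.symm j) p)
    have hb := congrArg (fun m => Nat.testBit m (enc p)) hand
    simp only [Nat.testBit_land, Nat.testBit_lor, Nat.one_shiftLeft, Nat.testBit_two_pow] at hb
    simp only [octVec_apply hc1 h8, pairFun, mem_setOf24, Equiv.eq_symm_apply, Fin.ext_iff]
    have hne : (i : ℕ) ≠ j := fun e => hij (Fin.ext e)
    cases ho : o.testBit (enc p) <;> cases hcb : c.testBit (enc p) <;>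
      simp only [ho, hcb, Bool.and_true, Bool.and_false, Bool.or_eq_true, decide_eq_true_eq,
        Bool.true_eq, Bool.false_eq, Bool.or_eq_false_iff, decide_eq_false_iff_not] at hb <;>
      simp only [reduceIte, if_true, if_false, Bool.false_eq_true] <;> split_ifs <;> omega
  have := h.sign _ hsupp (octVec o)
  rw [e, h.mod, h.q_add] at this
  revert this
  generalize q (octVec o) = a; generalize q V = b; generalize pol q (octVec o) V = c
  revert a b c; decide

theorem pol_oct_ff {o c₁ c₂ c₃ : ℕ} {i j l : Fin 24} (h1 : triOk o c₁ i j = true)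
    (h2 : triOk o c₂ j l = true) (h3 : triOk o c₃ i l = true) {a b : GolayPt} (hab : a ≠ b) :
    pol q (octVec o) ff = q (vv a b) := by
  have hne : ∀ {c : ℕ} {x y : Fin 24}, triOk o c x y = true → enc.symm x ≠ enc.symm y :=
    fun {c x y} hh => by
      simp only [triOk, Bool.and_eq_true, decide_eq_true_eq] at hh
      exact fun e => hh.2 (enc.symm.injective e)
  have e := congrArg (pol q (octVec o)) (vv_chain (enc.symm i) (enc.symm j) (enc.symm l))
  rw [h.pol_add_right, h.pol_add_right, h.pol_oct h1, h.pol_oct h2, h.pol_oct h3,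
    vv_diag (enc.symm j) none, h.pol_mod_right, h.q_vv_eq (hne h1) hab, h.q_vv_eq (hne h2) hab,
    h.q_vv_eq (hne h3) hab] at e
  revert e
  show q (vv a b) + q (vv a b) = q (vv a b) + pol q (octVec o) ff → _
  generalize q (vv a b) = x; generalize pol q (octVec o) ff = y
  revert x y; decide

theorem q_vv_eq_zero (i j : GolayPt) : q (vv i j) = 0 := by
  obtain ⟨hf0, hf, -⟩ := h.basic_values
  by_cases hij : i = j
  · subst hij; rw [h.q_diag, hf0]
  have e1 := h.pol_oct_ff (o := 0x149f) (c₁ := 0xd40063) (c₂ := 0x380b06) (c₃ := 0x320265)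
    (i := 0) (j := 1) (l := 2) (by decide +kernel) (by decide +kernel) (by decide +kernel) hij
  have e2 := h.pol_oct_ff (o := 0x800c75) (c₁ := 0x550305) (c₂ := 0x250196) (c₃ := 0x700293)
    (i := 0) (j := 2) (l := 4) (by decide +kernel) (by decide +kernel) (by decide +kernel) hij
  have e3 := h.pol_oct_ff (o := 0x8018ea) (c₁ := 0x2a060b) (c₂ := 0x4a032c) (c₃ := 0x600527)
    (i := 1) (j := 3) (l := 5) (by decide +kernel) (by decide +kernel) (by decide +kernel) hij
  have hsum : octVec 0x149f + octVec 0x800c75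
      = octVec 0x8018ea + (vv (enc.symm 0) (enc.symm 2) + vv (enc.symm 4) (enc.symm 10)) := by
    refine Subtype.ext (funext fun p => ?_)
    show (octVec 0x149f : GolayPt → ℤ) p + (octVec 0x800c75 : GolayPt → ℤ) p =
      (octVec 0x8018ea : GolayPt → ℤ) p
        + (pairFun (enc.symm 0) (enc.symm 2) p + pairFun (enc.symm 4) (enc.symm 10) p)
    rw [octVec_apply (by decide +kernel) (by decide +kernel),
      octVec_apply (by decide +kernel) (by decide +kernel),
      octVec_apply (by decide +kernel) (by decide +kernel)]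
    exact oct_identity p
  have e := congrArg (fun u => pol q u ff) hsum
  simp only [h.pol_add, e1, e2, e3, hf, add_zero, z2_self] at e
  exact e.symm

theorem pol_vv (i j k l : GolayPt) : pol q (vv i j) (vv k l) = 0 := by
  obtain ⟨-, hf, h2⟩ := h.basic_values
  by_cases hij : i = j
  · subst hij; rw [h.pol_diag, h.pol_comm, hf]
  by_cases hkl : k = l
  · subst hkl; rw [h.pol_comm, h.pol_diag, h.pol_comm, hf]
  have share : ∀ {x y z : GolayPt}, x ≠ y → y ≠ z → pol q (vv x y) (vv y z) = 0 := by
    intro x y z hxy hyz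
    by_cases hxz : x = z
    · subst hxz; rw [vv_comm y x, h.pol_self]
    · rw [h2 x y z hxy hyz hxz, h.q_vv_eq_zero]
  by_cases hki : k = i
  · subst hki; rw [vv_comm k j]; exact share (Ne.symm hij) hkl
  by_cases hkj : k = j
  · subst hkj; exact share hij hkl
  by_cases hli : l = i
  · subst hli; rw [vv_comm l j, vv_comm k l]; exact share (Ne.symm hij) (Ne.symm hkl)
  by_cases hlj : l = j
  · subst hlj; rw [vv_comm k l]; exact share hij (Ne.symm hkl)
  exact h.pol_disjoint hij hkl hki hkj hli hlj

omit h in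
/-- The subgroup spanned by the pair vectors and the doubles. -/
theorem mem_closure_of_singular {x : Lam} (hx : (x : GolayPt → ℤ) ∈ singularSub) :
    x ∈ AddSubgroup.closure
      (Set.range (fun p : GolayPt × GolayPt => vv p.1 p.2) ∪ Set.range (fun w : Lam => w + w)) := by
  obtain ⟨hxL, ⟨a, ha⟩, hu⟩ := hx
  choose u hu using hu
  obtain ⟨m, w, hf, -, hs⟩ := mem_leechLattice_iff.mp (clearFun_mem hxL)
  have hsum : (2 : ℤ) ∣ ∑ i, u i := by
    have e : 4 * ∑ i, u i = 24 * m + 2 * ∑ i, w i := by
      rw [Finset.mul_sum, Finset.mul_sum, ← sum_const_golayPt m, ← Finset.sum_add_distrib]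
      exact Finset.sum_congr rfl fun i _ => by rw [← hu i, hf i]
    have h0 := hu none
    rw [hf none] at h0
    simp only [Int.ModEq] at hs
    omega
  obtain ⟨k, hk⟩ := hsum
  set o : Lam := ⟨oddVec, oddVec_mem⟩
  have e : x = (a • o + a • o) + (∑ i, u i • vv i none + -(k • vv none none)) := by
    refine Subtype.ext (funext fun p => ?_)
    have hxp : (x : GolayPt → ℤ) p = 2 * a * oddVec p + 4 * u p := by
      rw [← hu p, clearFun, ha]; ring
    rw [hxp]
    simp only [AddSubgroup.coe_add, AddSubgroup.coe_neg, AddSubgroup.coe_zsmul,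
      AddSubgroup.val_finsetSum, Pi.add_apply, Pi.neg_apply, Pi.smul_apply, Finset.sum_apply,
      smul_eq_mul, o]
    show _ = a * oddVec p + a * oddVec p + ((∑ i, u i * pairFun i none p) + -(k * pairFun none none p))
    simp only [pairFun, mul_add, Finset.sum_add_distrib, mul_ite, mul_zero, Finset.sum_ite_eq,
      Finset.mem_univ, if_true]
    by_cases hp : p = none
    · simp only [hp, if_true, ← Finset.sum_mul, hk]; ring
    · simp only [hp, if_false, Finset.sum_const_zero]; ring
  rw [e]
  have hv : ∀ i j, vv i j ∈ AddSubgroup.closure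
      (Set.range (fun p : GolayPt × GolayPt => vv p.1 p.2) ∪ Set.range (fun w : Lam => w + w)) :=
    fun i j => AddSubgroup.subset_closure (Or.inl ⟨(i, j), rfl⟩)
  refine add_mem (AddSubgroup.subset_closure (Or.inr ⟨_, rfl⟩)) (add_mem (sum_mem fun i _ => ?_) ?_)
  · exact zsmul_mem (hv i none) _
  · exact neg_mem (zsmul_mem (hv none none) _)

theorem neg_eq (x : Lam) : q (-x) = q x := by
  rw [show -x = x + (-x + -x) by abel, h.mod]

theorem pol_neg (x v : Lam) : pol q (-x) v = pol q x v := by
  rw [show -x = x + (-x + -x) by abel, h.pol_mod]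

/-- An invariant form vanishes on the singular subgroup. -/
theorem eq_zero_of_singular {x : Lam} (hx : (x : GolayPt → ℤ) ∈ singularSub) : q x = 0 := by
  have hS := mem_closure_of_singular hx
  have h1 : ∀ y ∈ AddSubgroup.closure
      (Set.range (fun p : GolayPt × GolayPt => vv p.1 p.2) ∪ Set.range (fun w : Lam => w + w)),
      ∀ i j, pol q y (vv i j) = 0 := by
    intro y hy i j
    induction hy using AddSubgroup.closure_induction with
    | mem z hz =>
      rcases hz with ⟨⟨k, l⟩, rfl⟩ | ⟨w, rfl⟩
      · exact h.pol_vv k l i j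
      · show pol q (w + w) _ = 0
        rw [← zero_add (w + w), h.pol_mod, h.pol_zero]
    | zero => exact h.pol_zero _
    | add y z _ _ hy hz => rw [h.pol_add, hy, hz, add_zero]
    | neg y _ hy => rw [h.pol_neg, hy]
  have h2 : ∀ y ∈ AddSubgroup.closure
      (Set.range (fun p : GolayPt × GolayPt => vv p.1 p.2) ∪ Set.range (fun w : Lam => w + w)),
      ∀ z ∈ AddSubgroup.closure
      (Set.range (fun p : GolayPt × GolayPt => vv p.1 p.2) ∪ Set.range (fun w : Lam => w + w)),
      pol q z y = 0 := by
    intro y hy z hz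
    induction hy using AddSubgroup.closure_induction with
    | mem t ht =>
      rcases ht with ⟨⟨k, l⟩, rfl⟩ | ⟨w, rfl⟩
      · exact h1 z hz k l
      · show pol q z (w + w) = 0
        rw [← zero_add (w + w), h.pol_mod_right, h.pol_comm, h.pol_zero]
    | zero => rw [h.pol_comm, h.pol_zero]
    | add y t _ _ hy ht => rw [h.pol_add_right, hy, ht, add_zero]
    | neg y _ hy => rw [h.pol_comm, h.pol_neg, h.pol_comm, hy]
  clear hx
  induction hS using AddSubgroup.closure_induction with
  | mem z hz =>
    rcases hz with ⟨⟨k, l⟩, rfl⟩ | ⟨w, rfl⟩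
    · exact h.q_vv_eq_zero k l
    · show q (w + w) = 0
      rw [← zero_add (w + w), h.mod, h.q_zero]
  | zero => exact h.q_zero
  | add y z hy hz hy0 hz0 =>
    rw [h.q_add, hy0, hz0, h2 z hz y hy, add_zero, add_zero]
  | neg y _ hy0 => rw [h.neg_eq, hy0]

end InvForm

end Cfsg.Agent.Lib.ThreeTransp
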