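import Cfsg.Agent.Lib.Compute.Leech
import Cfsg.Agent.Lib.Compute.GolayFacts
import Cfsg.Agent.Lib.ThreeTransp.LeechQuadratic
import Cfsg.Agent.Lib.ThreeTransp.LeechInvariantForm

/-!
# A lattice automorphism attached to a sextet
-/

namespace Cfsg.Agent.Lib.ThreeTransp

open Cfsg
open Cfsg.Agent.Lib.Compute

/-- Membership test for subgroups of the lattice from generators. -/
theorem leech_mem {H : AddSubgroup (GolayPt → ℤ)}
    (hvv : ∀ i : GolayPt, pairFun i none ∈ H)
    (hb : ∀ b ∈ golayBasis, (fun p : GolayPt => if p ∈ setOf24 b.1 then (2 : ℤ) else 0) ∈ H)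
    {x : GolayPt → ℤ} (hx : x ∈ leechLattice) (hodd : x none • oddVec ∈ H) : x ∈ H := by
  have hcode : ∀ c ∈ golayCode, ∃ h ∈ H, h ∈ leechLattice ∧ (∀ i, (2 : ℤ) ∣ h i) ∧
      redTwo (fun i => h i / 2) = c := by
    intro c hc
    rw [golayCode_eq_span] at hc
    induction hc using Submodule.span_induction with
    | mem w hw =>
      obtain ⟨m, hm, rfl⟩ := hw
      obtain ⟨b, hb', rfl⟩ := List.mem_map.mp hm
      obtain ⟨hc, h8⟩ := basis_octads b hb'
      refine ⟨_, hb b hb', two_ind_mem hc h8,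
        fun i => by by_cases h : i ∈ setOf24 b.1 <;> simp [h], funext fun i => ?_⟩
      by_cases h : i ∈ setOf24 b.1
      · simp [redTwo, wordOf, h, mem_setOf24.mp h]
      · have := h; rw [mem_setOf24] at this
        simp [redTwo, wordOf, h, this]
    | zero => exact ⟨0, zero_mem _, zero_mem _, fun i => dvd_zero _, funext fun i => by simp [redTwo]⟩
    | add v w _ _ hv hw =>
      obtain ⟨g, hgH, hgL, hg2, rfl⟩ := hv
      obtain ⟨k, hkH, hkL, hk2, rfl⟩ := hw
      refine ⟨g + k, add_mem hgH hkH, add_mem hgL hkL, fun i => dvd_add (hg2 i) (hk2 i),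
        funext fun i => ?_⟩
      simp [redTwo, Int.add_ediv_of_dvd_left (hg2 i)]
    | smul a v _ hv =>
      rcases zmod2_cases a with rfl | rfl
      · exact ⟨0, zero_mem _, zero_mem _, fun i => dvd_zero _, funext fun i => by simp [redTwo]⟩
      · simpa using hv
  have hy := clearFun_mem hx
  obtain ⟨g, hgH, hgL, hg2, hg⟩ := hcode _ (half_mem_code hy (two_dvd_clearFun hx))
  set z := clearFun x - g with hz
  have h4 : ∀ i, (4 : ℤ) ∣ z i := by
    intro i
    have h1 := two_dvd_clearFun hx i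
    have h2 := hg2 i
    have h3 := congrFun hg i
    simp only [redTwo] at h3
    rw [ZMod.intCast_eq_intCast_iff_dvd_sub] at h3
    show (4 : ℤ) ∣ clearFun x i - g i
    omega
  choose u hu using h4
  obtain ⟨m, w, hf', -, hs⟩ := mem_leechLattice_iff.mp (sub_mem hy hgL : z ∈ leechLattice)
  have hf : ∀ i, z i = m + 2 * w i := hf'
  obtain ⟨k, hk⟩ : (2 : ℤ) ∣ ∑ i, u i := by
    have e : 4 * ∑ i, u i = 24 * m + 2 * ∑ i, w i := by
      rw [Finset.mul_sum, Finset.mul_sum, ← sum_const_golayPt m, ← Finset.sum_add_distrib]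
      exact Finset.sum_congr rfl fun i _ => by rw [← hu i, hf i]
    have h0 := hu none
    rw [hf none] at h0
    simp only [Int.ModEq] at hs
    omega
  have e : x = x none • oddVec + g + (∑ i, u i • pairFun i none + -(k • pairFun none none)) := by
    funext p
    have hp : x p = x none * oddVec p + g p + 4 * u p := by
      rw [← hu p, hz]; simp only [clearFun, Pi.sub_apply]; ring
    simp only [Pi.add_apply, Pi.neg_apply, Pi.smul_apply, Finset.sum_apply, smul_eq_mul]
    rw [hp]
    simp only [pairFun, mul_add, Finset.sum_add_distrib, mul_ite, mul_zero, Finset.sum_ite_eq,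
      Finset.mem_univ, if_true]
    by_cases hp : p = none
    · simp only [hp, if_true, ← Finset.sum_mul, hk]; ring
    · simp only [hp, if_false, Finset.sum_const_zero]; ring
  rw [e]
  refine add_mem (add_mem hodd hgH) (add_mem (sum_mem fun i _ => zsmul_mem (hvv i) _) ?_)
  exact neg_mem (zsmul_mem (hvv none) _)

/-- A subgroup containing the odd vector, the vectors `4 eᵢ + 4 e∞` and lifts of a basis of the code
contains the lattice. -/
theorem leech_le {H : AddSubgroup (GolayPt → ℤ)} (hodd : oddVec ∈ H)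
    (hvv : ∀ i : GolayPt, pairFun i none ∈ H)
    (hb : ∀ b ∈ golayBasis, (fun p : GolayPt => if p ∈ setOf24 b.1 then (2 : ℤ) else 0) ∈ H) :
    leechLattice ≤ H :=
  fun _ hx => leech_mem hvv hb hx (zsmul_mem hodd _)

/-- The six tetrads of a sextet. -/
def tets : List ℕ := [0xf, 0x400a40, 0x98100, 0x824020, 0x342000, 0x1490]

/-- The tetrad of a point. -/
def tetOf (p : GolayPt) : ℕ := (tets.find? fun t => t.testBit (enc p)).getD 0

/-- The sign of a point. -/
def tetSign (p : GolayPt) : ℤ := if (0xf : ℕ).testBit (enc p) then -1 else 1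

theorem tetOf_facts : ∀ p : GolayPt, (tetOf p).testBit (enc p) = true ∧ pop (tetOf p) = 4 ∧
    ∀ q : GolayPt, (tetOf p).testBit (enc q) = true → tetOf q = tetOf p ∧ tetSign q = tetSign p := by
  decide +kernel

/-- Sum over the tetrad of a point. -/
def tetSum (x : GolayPt → ℤ) (p : GolayPt) : ℤ := ∑ q ∈ setOf24 (tetOf p), x q

/-- Twice the sextet map. -/
def xiTwo : (GolayPt → ℤ) →+ (GolayPt → ℤ) where
  toFun x := fun p => tetSign p * (tetSum x p - 2 * x p)
  map_zero' := funext fun p => by simp [tetSum]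
  map_add' x y := funext fun p => by simp [tetSum, Finset.sum_add_distrib]; ring

theorem tetSum_xiTwo (x : GolayPt → ℤ) (p : GolayPt) :
    tetSum (xiTwo x) p = 2 * (tetSign p * tetSum x p) := by
  obtain ⟨-, h4, hq⟩ := tetOf_facts p
  have hc : (setOf24 (tetOf p)).card = 4 := by rw [card_setOf24, h4]
  have : ∀ q ∈ setOf24 (tetOf p), xiTwo x q = tetSign p * (tetSum x p - 2 * x q) := by
    intro q hqm
    obtain ⟨e1, e2⟩ := hq q (mem_setOf24.mp hqm)
    show tetSign q * (tetSum x q - 2 * x q) = _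
    simp only [tetSum, e1, e2]
  rw [tetSum, Finset.sum_congr rfl this, ← Finset.mul_sum, Finset.sum_sub_distrib, Finset.sum_const,
    hc, ← Finset.mul_sum]
  simp only [tetSum, nsmul_eq_mul, Nat.cast_ofNat]
  ring

theorem xiTwo_xiTwo (x : GolayPt → ℤ) : xiTwo (xiTwo x) = (4 : ℤ) • x := by
  funext p
  show tetSign p * (tetSum (xiTwo x) p - 2 * xiTwo x p) = 4 * x p
  rw [tetSum_xiTwo]
  show tetSign p * (2 * (tetSign p * tetSum x p) - 2 * (tetSign p * (tetSum x p - 2 * x p))) = _
  have : tetSign p * tetSign p = 1 := by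
    simp only [tetSign]; split_ifs <;> norm_num
  linear_combination 4 * x p * this

/-- The sextet map doubles lengths. -/
theorem sqNorm_xiTwo (x : GolayPt → ℤ) : sqNorm (xiTwo x) = 4 * sqNorm x := by
  have hsq : ∀ p, xiTwo x p ^ 2 = 4 * x p ^ 2 + (tetSum x p ^ 2 - 4 * (tetSum x p * x p)) := by
    intro p
    show (tetSign p * (tetSum x p - 2 * x p)) ^ 2 = _
    have : tetSign p * tetSign p = 1 := by
      simp only [tetSign]; split_ifs <;> norm_num
    linear_combination (tetSum x p - 2 * x p) ^ 2 * this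
  have e : ∑ p, tetSum x p ^ 2 = 4 * ∑ p, tetSum x p * x p := by
    have h1 : ∀ p, tetSum x p * tetSum x p = ∑ q ∈ setOf24 (tetOf p), tetSum x p * x q := fun p => by
      simp only [tetSum, Finset.mul_sum]
    simp only [pow_two, h1]
    rw [Finset.sum_comm' (t' := Finset.univ) (s' := fun q => setOf24 (tetOf q))
      (h := fun p q => by
        simp only [Finset.mem_univ, true_and, and_true, mem_setOf24]
        constructor <;> intro h
        · rw [((tetOf_facts p).2.2 q h).1]; exact (tetOf_facts p).1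
        · rw [((tetOf_facts q).2.2 p h).1]; exact (tetOf_facts q).1), Finset.mul_sum]
    refine Finset.sum_congr rfl fun q _ => ?_
    obtain ⟨-, h4, hq⟩ := tetOf_facts q
    have : ∀ p ∈ setOf24 (tetOf q), tetSum x p * x q = tetSum x q * x q := fun p hp => by
      simp only [tetSum, (hq p (mem_setOf24.mp hp)).1]
    rw [Finset.sum_congr rfl this, Finset.sum_const, card_setOf24, h4, nsmul_eq_mul]
    norm_num
  simp only [sqNorm, hsq, Finset.sum_add_distrib, Finset.sum_sub_distrib, ← Finset.mul_sum, e]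
  ring

/-- The lattice test for half of a vector. -/
def halfOk (z : GolayPt → ℤ) : Bool :=
  (decide (∀ p, (2 : ℤ) ∣ z p)) &&
    (decide (∀ p, (2 : ℤ) ∣ z p / 2 - z none / 2)) &&
    inCode (Nat.ofBits fun i : Fin 24 => decide ((z (enc.symm i) / 2 - z none / 2) / 2 % 2 = 1)) &&
    decide ((∑ p, (z p / 2 - z none / 2) / 2 - 2 * (z none / 2)) % 4 = 0)

theorem exists_half_of_halfOk {z : GolayPt → ℤ} (h : halfOk z = true) :
    ∃ y ∈ leechLattice, z = y + y := by
  simp only [halfOk, Bool.and_eq_true, decide_eq_true_eq] at h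
  obtain ⟨⟨⟨h1, h2⟩, h3⟩, h4⟩ := h
  refine ⟨fun p => z p / 2, mem_leechLattice_iff.mpr
    ⟨z none / 2, fun p => (z p / 2 - z none / 2) / 2, fun p => ?_, ?_, ?_⟩, funext fun p => ?_⟩
  · have := h2 p
    show z p / 2 = z none / 2 + 2 * ((z p / 2 - z none / 2) / 2)
    omega
  · convert wordOf_mem_of_inCode h3 using 1
    funext p
    simp only [redTwo, wordOf, Nat.testBit_ofBits, Fin.is_lt, dif_pos, Fin.eta, Equiv.symm_apply_apply,
      decide_eq_true_eq]
    split_ifs with hp
    · exact (ZMod.intCast_eq_intCast_iff' _ 1 2).mpr (by omega)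
    · exact (ZMod.intCast_eq_intCast_iff' _ 0 2).mpr (by omega)
  · simp only [Int.ModEq]
    omega
  · have := h1 p
    show z p = z p / 2 + z p / 2
    omega

theorem xi_odd_ok : halfOk (xiTwo oddVec) = true := by decide +kernel

theorem xi_pair_ok : ∀ i : GolayPt, halfOk (xiTwo (pairFun i none)) = true := by decide +kernel

theorem xi_basis_ok : ∀ b ∈ golayBasis,
    halfOk (xiTwo fun p : GolayPt => if p ∈ setOf24 b.1 then (2 : ℤ) else 0) = true := by
  decide +kernel

theorem xiTwo_half {x : GolayPt → ℤ} (hx : x ∈ leechLattice) :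
    ∃ y ∈ leechLattice, xiTwo x = y + y := by
  have key : leechLattice ≤
      ((leechLattice.map (AddMonoidHom.id (GolayPt → ℤ) + AddMonoidHom.id (GolayPt → ℤ))).comap xiTwo) := by
    refine leech_le ?_ (fun i => ?_) fun b hb => ?_
    all_goals rw [AddSubgroup.mem_comap, AddSubgroup.mem_map]
    · obtain ⟨y, hy, e⟩ := exists_half_of_halfOk xi_odd_ok; exact ⟨y, hy, e.symm⟩
    · obtain ⟨y, hy, e⟩ := exists_half_of_halfOk (xi_pair_ok i); exact ⟨y, hy, e.symm⟩
    · obtain ⟨y, hy, e⟩ := exists_half_of_halfOk (xi_basis_ok b hb); exact ⟨y, hy, e.symm⟩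
  obtain ⟨y, hy, e⟩ := AddSubgroup.mem_map.mp (key hx)
  exact ⟨y, hy, e.symm⟩

/-- The sextet map. -/
def xiFun (x : GolayPt → ℤ) : GolayPt → ℤ := fun p => xiTwo x p / 2

theorem xiFun_add_self {x : GolayPt → ℤ} (hx : x ∈ leechLattice) :
    xiTwo x = xiFun x + xiFun x ∧ xiFun x ∈ leechLattice := by
  obtain ⟨y, hy, e⟩ := xiTwo_half hx
  have : xiFun x = y := funext fun p => by
    show xiTwo x p / 2 = y p
    rw [e]; simp only [Pi.add_apply]; omega
  rw [this]; exact ⟨e, hy⟩

/-- The sextet map on the lattice. -/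
def xiMap (v : Lam) : Lam := ⟨xiFun v, (xiFun_add_self v.2).2⟩

theorem xiMap_xiMap (v : Lam) : xiMap (xiMap v) = v := by
  refine Subtype.ext (funext fun p => ?_)
  have h1 := (xiFun_add_self v.2).1
  have h2 := (xiFun_add_self (xiMap v).2).1
  have h3 := congrFun (xiTwo_xiTwo (v : GolayPt → ℤ)) p
  rw [h1, map_add] at h3
  have h4 := congrFun h2 p
  simp only [Pi.add_apply, Pi.smul_apply, smul_eq_mul] at h3 h4
  show xiFun (xiFun (v : GolayPt → ℤ)) p = _
  change xiTwo (xiFun (v : GolayPt → ℤ)) p = xiFun (xiFun (v : GolayPt → ℤ)) p + xiFun (xiFun (v : GolayPt → ℤ)) p at h4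
  omega

theorem exists_co0_xi : ∃ g : ↥Co0, ∀ v : Lam, g • v = xiMap v := by
  refine ⟨⟨{ toFun := xiMap, invFun := xiMap, left_inv := xiMap_xiMap, right_inv := xiMap_xiMap },
    fun v w => Subtype.ext (funext fun p => ?_), fun v => ?_⟩, fun v => rfl⟩
  · have h1 := congrFun (xiFun_add_self (v + w).2).1 p
    have h2 := congrFun (xiFun_add_self v.2).1 p
    have h3 := congrFun (xiFun_add_self w.2).1 p
    rw [show (((v + w : Lam) : Lam) : GolayPt → ℤ) = (v : GolayPt → ℤ) + w from rfl, map_add] at h1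
    simp only [Pi.add_apply] at h1 h2 h3
    show xiFun ((v : GolayPt → ℤ) + w) p = xiFun v p + xiFun w p
    omega
  · have h1 := (xiFun_add_self v.2).1
    have h2 := sqNorm_xiTwo (v : GolayPt → ℤ)
    have h3 : sqNorm (xiFun (v : GolayPt → ℤ) + xiFun v) = 4 * sqNorm (xiFun (v : GolayPt → ℤ)) := by
      simp only [sqNorm, Pi.add_apply, Finset.mul_sum]
      exact Finset.sum_congr rfl fun i _ => by ring
    rw [h1, h3] at h2
    show sqNorm (xiFun (v : GolayPt → ℤ)) = sqNorm (v : GolayPt → ℤ)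
    linarith

end Cfsg.Agent.Lib.ThreeTransp
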