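import Cfsg.Agent.Lib.Compute.M24Action
import Cfsg.Agent.Lib.Compute.MathieuDodec
import Cfsg.Agent.Lib.ThreeTransp.InvolutionWitness

/-!
# The two classes of involutions of the code group
-/

namespace Cfsg.Agent.Lib.ThreeTransp

open Cfsg Equiv
open MulAction (isMultiplyPretransitive_iff)
open Cfsg.Agent.Lib.Compute

/-- The certified stabiliser of 0, 1, 2, 3. -/
def cert4 : List Lvl := m24Cert.drop 4

theorem chk_cert4 : chk 24 cert4 = true := by decide +kernel

theorem swapTwo_check : (genOk 24 swapTwo && presOk swapTwo.1 &&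
    (app swapTwo.1 0 == 1 && app swapTwo.1 1 == 0 && app swapTwo.1 2 == 3 && app swapTwo.1 3 == 2))
    = true := by decide +kernel

/-- A witness entry is a conjugation to one of the two representatives. -/
def witEntryOk (e : ℕ × ℕ × ℕ) : Bool :=
  genOk 24 (e.2.1, e.2.2) && presOk e.2.1 &&
    ((List.range 24).all (fun i => app e.2.1 (app e.1 i) == app invRep8 (app e.2.1 i)) ||
      (List.range 24).all (fun i => app e.2.1 (app e.1 i) == app invRep0 (app e.2.1 i)))

theorem invWit_check : invWit.all witEntryOk = true := by decide +kernel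

/-- A candidate is no involution or has a witness. -/
def candOk (js : List ℕ) : Bool :=
  !((List.range 24).all fun i =>
      app swapTwo.1 (sift cert4 js (app swapTwo.1 (sift cert4 js i))) == i) ||
    invWit.any fun e => (List.range 24).all fun i => app e.1 i == app swapTwo.1 (sift cert4 js i)

theorem all_candOk : (idxLists cert4).all candOk = true := by decide +kernel

theorem invRep_check : (genOk 24 (invRep8, invRep8) && genOk 24 (invRep0, invRep0) &&
    presOk invRep8 && presOk invRep0) = true := by decide +kernel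

/-- The representative with eight fixed points, on the 24 points. -/
noncomputable def rep8 : Perm GolayPt := toGP (toPerm 24 invRep8)

/-- The representative without fixed points, on the 24 points. -/
noncomputable def rep0 : Perm GolayPt := toGP (toPerm 24 invRep0)

theorem rep_spec {P : ℕ} (h : genOk 24 (P, P) = true) (hp : presOk P = true) :
    toGP (toPerm 24 P) ∈ M24 ∧ toGP (toPerm 24 P) * toGP (toPerm 24 P) = 1 := by
  have hr := repr_toPerm_of_genOk h
  refine ⟨toGP_mem_M24_of_presOk hr hp, ?_⟩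
  rw [← map_mul, (hr.mul hr).eq Repr.one fun i hi => ?_, map_one]
  have := List.all_eq_true.mp h i (List.mem_range.mpr hi)
  rw [Bool.and_eq_true, beq_iff_eq] at this
  exact this.2

theorem rep8_mem : rep8 ∈ M24 ∧ rep8 * rep8 = 1 := by
  have h := invRep_check
  simp only [Bool.and_eq_true] at h
  exact rep_spec h.1.1.1 h.1.2

theorem rep0_mem : rep0 ∈ M24 ∧ rep0 * rep0 = 1 := by
  have h := invRep_check
  simp only [Bool.and_eq_true] at h
  exact rep_spec h.1.1.2 h.2

theorem fix_iff {P : ℕ} (h : genOk 24 (P, P) = true) (p : GolayPt) :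
    toGP (toPerm 24 P) p = p ↔ app P (enc p) = enc p := by
  rw [toGP_apply, Equiv.symm_apply_eq, ← Fin.val_inj, repr_toPerm_of_genOk h]

/-- The fixed points of `rep8`, as a mask. -/
def fixMask8 : ℕ :=
  (List.range 24).foldl (fun r i => bif app invRep8 i == i then r ||| (1 <<< i) else r) 0

theorem rep8_fixed : ∀ p : GolayPt, rep8 p = p ↔ p ∈ setOf24 fixMask8 := by
  have h := invRep_check
  simp only [Bool.and_eq_true] at h
  intro p
  rw [rep8, fix_iff h.1.1.1, mem_setOf24]
  have key : ∀ i : Fin 24, (app invRep8 i = (i : ℕ)) ↔ fixMask8.testBit i = true := by decide +kernel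
  exact key (enc p)

theorem fixMask8_octad : setOf24 fixMask8 ∈ octads :=
  setOf24_mem_octads (by decide +kernel) (by decide +kernel)

theorem rep0_fixed (p : GolayPt) : rep0 p ≠ p := by
  have h := invRep_check
  simp only [Bool.and_eq_true] at h
  rw [rep0, Ne, fix_iff h.1.1.2]
  have key : ∀ i : Fin 24, app invRep0 i ≠ (i : ℕ) := by decide +kernel
  exact key (enc p)

theorem swap_not_mem {a b : GolayPt} (hab : a ≠ b) : Equiv.swap a b ∉ M24 := by
  intro h
  obtain ⟨k, ha, hb⟩ := exists_smul_two hab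
  have h1 : Equiv.swap (enc.symm (0 : Fin 24)) (enc.symm 1) ∈ M24 := by
    have h2 := mul_mem (mul_mem (inv_mem k.2) h) k.2
    convert h2 using 1
    rw [← ha, ← hb]
    show _ = (k : Perm GolayPt)⁻¹
      * Equiv.swap ((k : Perm GolayPt) (enc.symm 0)) ((k : Perm GolayPt) (enc.symm 1))
      * (k : Perm GolayPt)
    rw [Equiv.swap_apply_apply]
    group
  have hbad : ∃ x ∈ golayBasis, ∃ y ∈ golayBasis,
      ∑ p, wordOf x.1 ((Equiv.swap (enc.symm (0 : Fin 24)) (enc.symm 1)) p) * wordOf y.1 p ≠ 0 := by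
    decide +kernel
  obtain ⟨x, hx, y, hy, hne⟩ := hbad
  have := (mem_M24_iff _).mp h1 _ (wordOf_mem_of_inCode (basis_octads x hx).1)
  refine hne ?_
  have h0 := golayCode_orth this (wordOf_mem_of_inCode (basis_octads y hy).1)
  simpa using h0

/-- Every involution is conjugate to one of the representatives. -/
theorem involution_conj {g : Perm GolayPt} (hg : g ∈ M24) (h2 : g * g = 1) (hne : g ≠ 1) :
    ∃ k ∈ M24, k * g * k⁻¹ = rep8 ∨ k * g * k⁻¹ = rep0 := by
  classical
  obtain ⟨a, ha⟩ : ∃ a, g a ≠ a := by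
    by_contra h; push Not at h; exact hne (Equiv.ext h)
  have hgg : ∀ x, g (g x) = x := fun x => DFunLike.congr_fun h2 x
  obtain ⟨b, hba, hbga, hb⟩ : ∃ b, b ≠ a ∧ b ≠ g a ∧ g b ≠ b := by
    by_contra h
    push Not at h
    refine swap_not_mem ha.symm ?_
    convert hg using 1
    refine Equiv.ext fun x => ?_
    by_cases h1 : x = a
    · subst h1; simp
    by_cases h3 : x = g a
    · subst h3; rw [Equiv.swap_apply_right, hgg]
    rw [Equiv.swap_apply_of_ne_of_ne h1 h3, h x h1 h3]
  have hnd : ([a, g a, b, g b] : List GolayPt).Nodup := by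
    have e1 : g b ≠ a := fun e => hbga (by rw [← e, hgg])
    have e2 : g b ≠ g a := fun e => hba (g.injective e)
    simp [ha.symm, hba.symm, hbga.symm, e1.symm, e2.symm, hb.symm]
  have hstd : ([enc.symm (0 : Fin 24), enc.symm 1, enc.symm 2, enc.symm 3] : List GolayPt).Nodup := by
    decide +kernel
  obtain ⟨x, hx⟩ := exists_tuple _ hstd (by decide)
  obtain ⟨y, hy⟩ := exists_tuple _ hnd (by simp)
  obtain ⟨k, hk⟩ := isMultiplyPretransitive_iff.mp M24_multiplyPretransitive x y
  have hkj : ∀ (j : ℕ) (hj : j < 4), (k : Perm GolayPt)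
      (([enc.symm (0 : Fin 24), enc.symm 1, enc.symm 2, enc.symm 3] : List GolayPt)[j]'hj)
      = ([a, g a, b, g b] : List GolayPt)[j]'hj := by
    intro j hj
    rw [← hx j hj, ← hy j hj, ← hk]
    rfl
  have k0 := hkj 0 (by norm_num)
  have k1 := hkj 1 (by norm_num)
  have k2 := hkj 2 (by norm_num)
  have k3 := hkj 3 (by norm_num)
  simp only [List.getElem_cons_zero, List.getElem_cons_succ] at k0 k1 k2 k3
  set g' : Perm GolayPt := (k : Perm GolayPt)⁻¹ * g * k with hg'
  have hg'M : g' ∈ M24 := mul_mem (mul_mem (inv_mem k.2) hg) k.2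
  obtain ⟨σ, hσ⟩ := toGP.surjective g'
  have hσK : σ ∈ K24 := by rw [mem_K24, hσ]; exact hg'M
  have hs : ∀ i j : Fin 24, g' (enc.symm i) = enc.symm j → σ i = j := fun i j h => by
    rw [← hσ, toGP_apply, Equiv.apply_symm_apply] at h
    exact enc.symm.injective h
  have hs0 : σ 0 = 1 := hs _ _ (by
    show (k : Perm GolayPt)⁻¹ (g ((k : Perm GolayPt) _)) = _
    rw [k0, ← k1, Perm.coe_inv, Equiv.symm_apply_apply])
  have hs1 : σ 1 = 0 := hs _ _ (by
    show (k : Perm GolayPt)⁻¹ (g ((k : Perm GolayPt) _)) = _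
    rw [k1, hgg, ← k0, Perm.coe_inv, Equiv.symm_apply_apply])
  have hs2 : σ 2 = 3 := hs _ _ (by
    show (k : Perm GolayPt)⁻¹ (g ((k : Perm GolayPt) _)) = _
    rw [k2, ← k3, Perm.coe_inv, Equiv.symm_apply_apply])
  have hs3 : σ 3 = 2 := hs _ _ (by
    show (k : Perm GolayPt)⁻¹ (g ((k : Perm GolayPt) _)) = _
    rw [k3, hgg, ← k2, Perm.coe_inv, Equiv.symm_apply_apply])
  have ht := swapTwo_check
  simp only [Bool.and_eq_true, beq_iff_eq] at ht
  obtain ⟨⟨htg, htp⟩, ⟨⟨t0, t1⟩, t2⟩, t3⟩ := ht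
  have htr := repr_toPerm_of_genOk htg
  set τ := toPerm 24 swapTwo.1 with hτ
  have hτK : τ ∈ K24 := mem_K24.mpr (toGP_mem_M24_of_presOk htr htp)
  have hτv : τ 0 = 1 ∧ τ 1 = 0 ∧ τ 2 = 3 ∧ τ 3 = 2 :=
    ⟨Fin.ext ((htr 0).trans t0), Fin.ext ((htr 1).trans t1), Fin.ext ((htr 2).trans t2),
      Fin.ext ((htr 3).trans t3)⟩
  have hρ : τ⁻¹ * σ ∈ grp 24 cert4 := by
    refine mem_drop_of_fix 4 m24Cert_ok (K24_eq ▸ mul_mem (inv_mem hτK) hσK) ?_
    intro L hL i hi
    have hlt : L.base < 4 := by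
      revert L
      simp only [m24Cert, List.take_succ_cons, List.take_zero, List.forall_mem_cons]
      refine ⟨?_, ?_, ?_, ?_, fun L hL => absurd hL List.not_mem_nil⟩ <;> intro _ <;> decide +kernel
    rw [Perm.mul_apply, Perm.inv_eq_iff_eq]
    obtain ⟨e0, e1, e2, e3⟩ := hτv
    have : i = 0 ∨ i = 1 ∨ i = 2 ∨ i = 3 := by
      rcases (by omega : (i : ℕ) = 0 ∨ (i : ℕ) = 1 ∨ (i : ℕ) = 2 ∨ (i : ℕ) = 3) with h | h | h | h
      · exact Or.inl (Fin.ext h)
      · exact Or.inr (Or.inl (Fin.ext h))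
      · exact Or.inr (Or.inr (Or.inl (Fin.ext h)))
      · exact Or.inr (Or.inr (Or.inr (Fin.ext h)))
    rcases this with rfl | rfl | rfl | rfl
    · rw [hs0, e0]
    · rw [hs1, e1]
    · rw [hs2, e2]
    · rw [hs3, e3]
  obtain ⟨js, hjs, hjs'⟩ := exists_idx chk_cert4 hρ
  have hr : Repr (τ⁻¹ * σ) (sift cert4 js) := hjs' ▸ (sift_spec chk_cert4 js).1
  have hσr : Repr σ (fun i => app swapTwo.1 (sift cert4 js i)) := by
    have := htr.mul hr
    rwa [mul_inv_cancel_left] at this
  have hσ2 : σ * σ = 1 := by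
    apply toGP.injective
    rw [map_mul, map_one, hσ]
    show (k : Perm GolayPt)⁻¹ * g * k * ((k : Perm GolayPt)⁻¹ * g * k) = 1
    calc _ = (k : Perm GolayPt)⁻¹ * (g * g) * k := by group
      _ = 1 := by rw [h2]; group
  have hc := List.all_eq_true.mp all_candOk js hjs
  simp only [candOk, Bool.or_eq_true, Bool.not_eq_true', List.any_eq_true, List.all_eq_true,
    List.mem_range, beq_iff_eq] at hc
  rcases hc with hc | ⟨e, he, hes⟩
  · exfalso
    have hall : ((List.range 24).all fun i =>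
        app swapTwo.1 (sift cert4 js (app swapTwo.1 (sift cert4 js i))) == i) = true :=
      List.all_eq_true.mpr fun i hi => beq_iff_eq.mpr (by
        have h := congrArg (fun π : Perm (Fin 24) => ((π ⟨i, List.mem_range.mp hi⟩ : Fin 24) : ℕ)) hσ2
        simp only [(hσr.mul hσr) ⟨i, List.mem_range.mp hi⟩] at h
        exact h)
    rw [hall] at hc
    exact Bool.noConfusion hc
  · have hw := List.all_eq_true.mp invWit_check e he
    simp only [witEntryOk, Bool.and_eq_true, Bool.or_eq_true, List.all_eq_true, List.mem_range,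
      beq_iff_eq] at hw
    obtain ⟨⟨hcg, hcp⟩, hconj⟩ := hw
    have hcr := repr_toPerm_of_genOk hcg
    set c := toGP (toPerm 24 e.2.1) with hcdef
    have hcM : c ∈ M24 := toGP_mem_M24_of_presOk hcr hcp
    have key : ∀ P, genOk 24 (P, P) = true →
        (∀ i < 24, app e.2.1 (app e.1 i) = app P (app e.2.1 i)) →
        c * g' * c⁻¹ = toGP (toPerm 24 P) := by
      intro P hP h
      rw [mul_inv_eq_iff_eq_mul, hcdef, ← hσ, ← map_mul, ← map_mul]
      congr 1
      refine (hcr.mul hσr).eq ((repr_toPerm_of_genOk hP).mul hcr) fun i hi => ?_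
      show app e.2.1 (app swapTwo.1 (sift cert4 js i)) = app P (app e.2.1 i)
      rw [← hes i hi]; exact h i hi
    have hrep := invRep_check
    simp only [Bool.and_eq_true] at hrep
    refine ⟨c * (k : Perm GolayPt)⁻¹, mul_mem hcM (inv_mem k.2), ?_⟩
    have e' : c * (k : Perm GolayPt)⁻¹ * g * (c * (k : Perm GolayPt)⁻¹)⁻¹ = c * g' * c⁻¹ := by
      rw [hg']; group
    rw [e']
    rcases hconj with h | h
    · exact Or.inl (key _ hrep.1.1.1 h)
    · exact Or.inr (key _ hrep.1.1.2 h)

end Cfsg.Agent.Lib.ThreeTransp
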