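import Cfsg.Agent.Lib.ThreeTransp.DecompOrthSpread

/-!
In odd characteristic the stabiliser in `omegaGL` of an orthogonal decomposition into isometric blocks of
dimension at least three is maximal, outside three-dimensional blocks over the field of three elements.
-/

set_option autoImplicit false

namespace Cfsg.Agent.Lib.ThreeTransp.DecompOrth

open Matrix QuadraticMap
open Cfsg.Agent.Lib.MaxSub
open Cfsg.Agent.Lib.MaxSub.OrthSplit (InE finrank_inf_ker)
open Cfsg.Agent.Lib.Geometry (quad_add quad_sub quad_smul quad_polar_self quad_polar_comm)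
open scoped MatrixGroups Matrix

attribute [-simp] QuadraticMap.polarBilin_apply_apply

/-- Two non-zero weights represent everything. -/
theorem exists_two_sq {F : Type*} [Field F] [Fintype F] (h2 : (2 : F) ≠ 0) {a b : F} (ha : a ≠ 0) (hb : b ≠ 0)
    (c : F) : ∃ s u : F, s * s * a + u * u * b = c := by
  have hodd : Fintype.card F % 2 = 1 := FiniteField.odd_card_of_char_ne_two fun h => h2 (by
    haveI := ringChar.of_eq h
    exact CharTwo.two_eq_zero)
  obtain ⟨s, u, hsu⟩ := FiniteField.exists_root_sum_quadratic (R := F)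
    (f := Polynomial.C a * Polynomial.X ^ 2 + Polynomial.C (-c))
    (g := Polynomial.C b * Polynomial.X ^ 2)
    (by rw [Polynomial.degree_add_C (by rw [Polynomial.degree_C_mul_X_pow 2 ha]; norm_num),
      Polynomial.degree_C_mul_X_pow 2 ha]; rfl)
    (by rw [Polynomial.degree_C_mul_X_pow 2 hb]; rfl) hodd
  simp only [Polynomial.eval_add, Polynomial.eval_mul, Polynomial.eval_C, Polynomial.eval_pow, Polynomial.eval_X] at hsu
  exact ⟨s, u, by linear_combination hsu⟩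

variable {ι : Type} [Fintype ι] [DecidableEq ι] {F : Type*} [Field F] [Fintype F] {Q : QuadraticForm F (ι → F)}
  {t k : ℕ} {D : Fin t → Submodule F (ι → F)} {K : Subgroup (GL ι F)} (S : Sys Q D k K)
include S

/-- A moving element gives a centre with two components. -/
theorem Sys.exists_start {g : GL ι F} (hgK : g ∈ K) (hgi : g ∈ Cfsg.isometryGroup F ⇑Q)
    (hgs : g ∉ Cfsg.Geo.decompositionStabilizer D) :
    ∃ a b, InE Q K a b ∧ Q b ≠ 0 ∧ ∃ i j, i ≠ j ∧ S.comp i a ≠ 0 ∧ S.comp j a ≠ 0 := by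
  classical
  have hinj : ∀ v, (g : Matrix ι ι F) *ᵥ v = 0 → v = 0 := fun v h => by
    have := congrArg (fun z => ((g⁻¹ : GL ι F) : Matrix ι ι F) *ᵥ z) h
    simpa [Matrix.mulVec_mulVec, ← Units.val_mul] using this
  by_cases hex : ∃ i, ∃ v ∈ D i, v ≠ 0 ∧ Q v = 0 ∧
      ∃ a b, a ≠ b ∧ S.comp a ((g : Matrix ι ι F) *ᵥ v) ≠ 0 ∧ S.comp b ((g : Matrix ι ι F) *ᵥ v) ≠ 0
  · obtain ⟨i, v, hv, hv0, hQv, hab⟩ := hex
    obtain ⟨y, hy, hvy, hQy⟩ := S.sing_aniso hv hv0 hQv
    exact ⟨_, _, (S.eich_mem hv hy hQv hvy).conj hgK hgi, by rwa [Orth.iso_quad hgi], hab⟩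
  exfalso
  have hone : ∀ i, ∀ z ∈ D i, Q z = 0 → ∃ j, (g : Matrix ι ι F) *ᵥ z ∈ D j := fun i z hz hQz => by
    rcases eq_or_ne z 0 with rfl | hz0
    · exact ⟨i, by simp⟩
    refine S.mem_block fun a b hab => ?_
    by_contra hc
    rw [not_or] at hc
    exact hex ⟨i, z, hz, hz0, hQz, a, b, hab, hc.1, hc.2⟩
  have hblock : ∀ i, ∃ b, ∀ z ∈ D i, (g : Matrix ι ι F) *ᵥ z ∈ D b := by
    intro i
    obtain ⟨e, he, -, -, he0, hQe, -, -⟩ := S.hyp i
    obtain ⟨b, hb⟩ := hone i e he hQe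
    refine ⟨b, fun z hz => ?_⟩
    have hle : Submodule.span F {z | z ∈ D i ∧ Q z = 0} ≤ (D b).comap (Matrix.toLin' (g : Matrix ι ι F)) := by
      refine Submodule.span_le.mpr ?_
      rintro z ⟨hz, hQz⟩
      show Matrix.toLin' (g : Matrix ι ι F) z ∈ D b
      rw [Matrix.toLin'_apply]
      rcases eq_or_ne z 0 with rfl | hz0
      · simp
      obtain ⟨d, hd⟩ := hone i z hz hQz
      by_cases hze : polarBilin Q z e = 0
      swap
      · have hdb : d = b := by
          by_contra hdb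
          exact hze (by rw [← Orth.iso_polar hgi]; exact S.orth hdb hd hb)
        exact hdb ▸ hd
      obtain ⟨c, hc⟩ := hone i (z + e) ((D i).add_mem hz he) (by rw [quad_add, hQz, hQe, hze, add_zero, add_zero])
      rw [Matrix.mulVec_add] at hc
      by_contra hdb
      have hdb' : d ≠ b := fun h => hdb (h ▸ hd)
      have h1 : S.comp d ((g : Matrix ι ι F) *ᵥ z + (g : Matrix ι ι F) *ᵥ e) = (g : Matrix ι ι F) *ᵥ z := by
        rw [S.comp_add, S.comp_self hd, S.comp_other hdb' hb, add_zero]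
      have h2 : S.comp b ((g : Matrix ι ι F) *ᵥ z + (g : Matrix ι ι F) *ᵥ e) = (g : Matrix ι ι F) *ᵥ e := by
        rw [S.comp_add, S.comp_self hb, S.comp_other hdb'.symm hd, zero_add]
      by_cases hcd : c = d
      · rw [S.comp_other (fun h : b = c => hdb' (hcd ▸ h.symm)) hc] at h2
        exact he0 (hinj e h2.symm)
      · rw [S.comp_other (Ne.symm hcd) hc] at h1
        exact hz0 (hinj z h1.symm)
    have := hle (S.span_sing i hz)
    rwa [Submodule.mem_comap, Matrix.toLin'_apply] at this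
  choose σ hσ using hblock
  have hσi : Function.Injective σ := fun i i' h => by
    by_contra hne
    have hLinj : Function.Injective (Matrix.toLin' (g : Matrix ι ι F)) := fun a b hab => by
      have := congrArg (fun z => ((g⁻¹ : GL ι F) : Matrix ι ι F) *ᵥ z) hab
      simpa [Matrix.toLin'_apply, Matrix.mulVec_mulVec, ← Units.val_mul] using this
    have hmap : (D i).map (Matrix.toLin' (g : Matrix ι ι F)) = D (σ i) := Submodule.eq_of_le_of_finrank_eq
      (by
        rintro _ ⟨z, hz, rfl⟩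
        rw [Matrix.toLin'_apply]
        exact hσ i z hz)
      (by rw [← (Submodule.equivMapOfInjective _ hLinj _).finrank_eq, S.fin, S.fin])
    obtain ⟨e, he, -, -, he0, -, -, -⟩ := S.hyp i'
    have h' := hσ i' e he
    rw [← h, ← hmap] at h'
    obtain ⟨z, hz, hze⟩ := h'
    rw [Matrix.toLin'_apply] at hze
    have hze' : z = e := hLinj (by rw [Matrix.toLin'_apply, Matrix.toLin'_apply]; exact hze)
    exact he0 (by rw [← S.comp_self he, S.comp_other (Ne.symm hne) (hze' ▸ hz)])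
  exact hgs (mem_stab S.fin (Equiv.ofBijective σ ((Finite.injective_iff_bijective).mp hσi)) hσ)

/-- The vector of a centre is not proportional to it in some block. -/
theorem Sys.exists_indep {a b : ι → F} (hab : InE Q K a b) (hQb : Q b ≠ 0)
    (h2c : ∃ i j, i ≠ j ∧ S.comp i a ≠ 0 ∧ S.comp j a ≠ 0) :
    ∃ a b, ∃ j l : Fin t, l ≠ j ∧ InE Q K a b ∧ S.comp l a ≠ 0 ∧ S.comp j b ∉ F ∙ S.comp j a := by
  obtain ⟨i₁, i₂, hi, h1, h2⟩ := h2c
  by_cases hall : ∀ j, S.comp j b ∈ F ∙ S.comp j a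
  swap
  · push Not at hall
    obtain ⟨j, hj⟩ := hall
    rcases eq_or_ne i₁ j with rfl | hne
    · exact ⟨a, b, i₁, i₂, hi.symm, hab, h2, hj⟩
    · exact ⟨a, b, j, i₁, hne, hab, h1, hj⟩
  have hlam : ∀ j, ∃ c : F, c • S.comp j a = S.comp j b := fun j => Submodule.mem_span_singleton.mp (hall j)
  choose lam hlam using hlam
  obtain ⟨j, l, hlj, hj0, hl0, hne⟩ : ∃ j l, l ≠ j ∧ S.comp j a ≠ 0 ∧ S.comp l a ≠ 0 ∧ lam l - lam j - Q b ≠ 0 := by
    by_cases h : lam i₂ - lam i₁ - Q b = 0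
    · refine ⟨i₂, i₁, hi, h2, h1, fun h' => hQb ?_⟩
      have : (2 : F) * Q b = 0 := by linear_combination -h - h'
      exact (mul_eq_zero.mp this).resolve_left S.h2
    · exact ⟨i₁, i₂, hi.symm, h1, h2, h⟩
  obtain ⟨v, hv, hv0, hQv, hva⟩ := S.sing_ne hj0
  obtain ⟨y, hy, hvy, hQy⟩ := S.sing_aniso hv hv0 hQv
  obtain ⟨_, _, hm⟩ := id hab
  have h' := (S.eich_mem hv hy hQv hvy).conj hm (Orth.toGL_mem_isometry Q _)
  rw [Orth.eichGL_mulVec, Orth.eichGL_mulVec] at h'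
  refine ⟨_, _, j, l, hlj, h', ?_, ?_⟩
  · rw [S.comp_sub, S.comp_add, S.comp_smul, S.comp_smul, S.comp_other hlj hv, zero_add, ← hlam l, smul_smul,
      ← sub_smul]
    refine smul_ne_zero ?_ hl0
    have hvb : polarBilin Q v b = lam j * polarBilin Q v a := by
      rw [← S.polar_comp hv b, ← hlam j, map_smul, S.polar_comp hv, smul_eq_mul]
    rw [hvb]
    intro h
    exact mul_ne_zero hva hne (by linear_combination h)
  · intro hmem
    obtain ⟨c, hc⟩ := Submodule.mem_span_singleton.mp hmem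
    have hvb : ∀ z ∈ D j, polarBilin Q z b = lam j * polarBilin Q z a := fun z hz => by
      rw [← S.polar_comp hz b, ← hlam j, map_smul, S.polar_comp hz, smul_eq_mul]
    simp only [S.comp_sub, S.comp_add, S.comp_smul, S.comp_self hv, S.comp_self hy, ← hlam j, hvb v hv, hvb y hy] at hc
    have e : y = c • v + (Q b * (polarBilin Q y a - c * polarBilin Q v a)) • S.comp j a := by
      linear_combination (norm := module) -hc
    have h0 := congrArg (polarBilin Q v) e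
    rw [hvy, map_add, map_smul, map_smul, Orth.polar_self_of_sing Q hQv, smul_zero, zero_add, S.polar_comp hv,
      smul_eq_mul] at h0
    rw [(mul_eq_zero.mp h0.symm).resolve_right hva, zero_smul, add_zero] at e
    exact hQy (by rw [e, quad_smul, hQv, mul_zero])

/-- A singular vector of the block in the group of vectors of a centre is a seed. -/
theorem Sys.seed_of_sing {a b u x : ι → F} {j l : Fin t} (hlj : l ≠ j) (hab : InE Q K a b) (hla : S.comp l a ≠ 0)
    (hu : u ∈ D j) (hu0 : u ≠ 0) (hQu : Q u = 0) (hx : x ∈ D j) (hux : polarBilin Q u x = 0)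
    (hua : polarBilin Q u a = 0) (hxa : polarBilin Q x a = 0)
    (hb : (polarBilin Q u b ≠ 0 ∧ Q x ≠ 0) ∨ (polarBilin Q u b = 0 ∧ polarBilin Q x b ≠ 0)) : Seed S := by
  have hmv : ∀ z ∈ D j, polarBilin Q u z = 0 → polarBilin Q z a = 0 →
      InE Q K a (polarBilin Q b u • z - (polarBilin Q b z + Q z * polarBilin Q b u) • u) := by
    intro z hz huz hza
    obtain ⟨_, _, hm⟩ := S.eich_mem hu hz hQu huz
    have h := hab.conj hm (Orth.toGL_mem_isometry Q _)
    rw [Orth.eichGL_mulVec, Orth.eichGL_mulVec, quad_polar_comm Q a u, hua, quad_polar_comm Q a z, hza, zero_smul,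
      add_zero, mul_zero, add_zero, zero_smul, sub_zero] at h
    simpa [add_sub_assoc] using h.sub hab
  obtain ⟨c, hc, hmem⟩ : ∃ c : F, c ≠ 0 ∧ InE Q K a (c • u) := by
    rcases hb with ⟨h1, h2⟩ | ⟨h1, h2⟩
    · refine ⟨-(2 * Q x * polarBilin Q u b), neg_ne_zero.mpr (mul_ne_zero (mul_ne_zero S.h2 h2) h1), ?_⟩
      have h := inE_add (hmv x hx hux hxa) (hmv (-x) ((D j).neg_mem hx) (by rw [map_neg, hux, neg_zero])
        (by rw [map_neg, LinearMap.neg_apply, hxa, neg_zero]))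
      convert h using 1
      rw [QuadraticMap.map_neg, map_neg, quad_polar_comm Q u b]
      module
    · refine ⟨-polarBilin Q x b, neg_ne_zero.mpr h2, ?_⟩
      have h := hmv x hx hux hxa
      rwa [quad_polar_comm Q b u, h1, zero_smul, mul_zero, add_zero, zero_sub, quad_polar_comm Q b x, ← neg_smul] at h
  refine ⟨j, l, u, _, hlj, hu, hu0, (inE_flip hmem (by rw [quad_smul, hQu, mul_zero])).scale hc, ?_⟩
  rw [S.comp_smul, S.comp_neg]
  exact smul_ne_zero hc (neg_ne_zero.mpr hla)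

/-- A centre meeting a block in a singular vector or not at all gives a seed. -/
theorem Sys.seed_singular {a b : ι → F} {j l : Fin t} (hlj : l ≠ j) (hab : InE Q K a b) (hla : S.comp l a ≠ 0)
    (hjb : S.comp j b ∉ F ∙ S.comp j a) (hQj : Q (S.comp j a) = 0) : Seed S := by
  have hja : ∀ z ∈ D j, polarBilin Q z a = polarBilin Q z (S.comp j a) := fun z hz => (S.polar_comp hz a).symm
  have hb0 : S.comp j b ≠ 0 := fun h => hjb (h ▸ Submodule.zero_mem _)
  by_cases hj0 : S.comp j a = 0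
  · obtain ⟨u, hu, hu0, hQu, hub⟩ := S.sing_ne hb0
    obtain ⟨x, hx, hux, hQx⟩ := S.sing_aniso hu hu0 hQu
    exact S.seed_of_sing hlj hab hla hu hu0 hQu hx hux (by rw [hja u hu, hj0, map_zero])
      (by rw [hja x hx, hj0, map_zero]) (Or.inl ⟨hub, hQx⟩)
  set u := S.comp j a with hudef
  have hu : u ∈ D j := S.comp_mem j a
  have hua : polarBilin Q u a = 0 := by rw [hja u hu, Orth.polar_self_of_sing Q hQj]
  by_cases hub : polarBilin Q u b = 0
  · obtain ⟨x, hx, hux, hxb⟩ := S.dual_one hu (S.comp_mem j b) hjb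
    rw [S.polar_comp hx] at hxb
    exact S.seed_of_sing hlj hab hla hu hj0 hQj hx hux hua (by rw [hja x hx, quad_polar_comm, hux])
      (Or.inr ⟨hub, by rw [hxb]; exact one_ne_zero⟩)
  · obtain ⟨x, hx, hux, hQx⟩ := S.sing_aniso hu hj0 hQj
    exact S.seed_of_sing hlj hab hla hu hj0 hQj hx hux hua (by rw [hja x hx, quad_polar_comm, hux])
      (Or.inl ⟨hub, hQx⟩)

set_option maxHeartbeats 800000 in
/-- A centre meeting a block in a non-singular vector gives a seed or a plane of vectors. -/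
theorem Sys.exists_plane (hqk : 5 ≤ Fintype.card F ∨ 5 ≤ k) {a b : ι → F} {j l : Fin t} (hlj : l ≠ j)
    (hab : InE Q K a b) (hla : S.comp l a ≠ 0) (hjb : S.comp j b ∉ F ∙ S.comp j a) (hQj : Q (S.comp j a) ≠ 0) :
    Seed S ∨ ∃ p₁ ∈ D j, ∃ p₂ ∈ D j, Q p₁ ≠ 0 ∧ Q p₂ ≠ 0 ∧ polarBilin Q p₁ p₂ = 0 ∧ polarBilin Q p₁ a = 0 ∧
      polarBilin Q p₂ a = 0 ∧ ∀ α β : F, InE Q K a (α • p₁ + β • p₂) := by
  classical
  set aj := S.comp j a with haj
  have hajD : aj ∈ D j := S.comp_mem j a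
  obtain ⟨m, hmj, hQm⟩ : ∃ m, m ≠ j ∧ Q (S.comp m a) ≠ 0 := by
    by_contra! hc
    refine hQj ?_
    have h := S.quad_comp a
    rw [hab.1, Finset.sum_eq_single j (fun i _ hi => hc i hi) (fun h => absurd (Finset.mem_univ j) h)] at h
    exact h.symm
  have hPnd : Nd Q (perp Q (D j) aj) := (S.nd j).perp_aniso S.h2 hajD hQj
  have hPa : ∀ z ∈ perp Q (D j) aj, polarBilin Q z a = 0 := fun z hz => by
    have h : polarBilin Q aj z = 0 := hz.2
    rw [← S.polar_comp hz.1, quad_polar_comm, h]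
  -- the first vector
  obtain ⟨p₁, hp₁, hQ₁, hp₁b⟩ : ∃ p ∈ perp Q (D j) aj, Q p ≠ 0 ∧ polarBilin Q p b ≠ 0 := by
    obtain ⟨z, hz, haz, hzb⟩ := S.dual_one hajD (S.comp_mem j b) hjb
    rw [S.polar_comp hz] at hzb
    have hzP : z ∈ perp Q (D j) aj := ⟨hz, haz⟩
    by_cases hQz : Q z = 0
    swap
    · exact ⟨z, hzP, hQz, by rw [hzb]; exact one_ne_zero⟩
    obtain ⟨y, hy, hzy⟩ := hPnd z hzP fun h => by rw [h, map_zero] at hzb; exact zero_ne_one hzb
    obtain ⟨f, hf, hQf, hzf⟩ := Orth.exists_partner S.hN hQz hzP hy hzy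
    have key : ∀ c : F, c ≠ 0 → 1 + c * polarBilin Q f b ≠ 0 → z + c • f ∈ perp Q (D j) aj ∧ Q (z + c • f) ≠ 0 ∧
        polarBilin Q (z + c • f) b ≠ 0 := fun c hc hb => ⟨Submodule.add_mem _ hzP (Submodule.smul_mem _ c hf),
      by simpa [quad_add, quad_smul, hQz, hQf, map_smul, hzf] using hc,
      by simpa [map_add, map_smul, hzb] using hb⟩
    by_cases h : 1 + 1 * polarBilin Q f b = 0
    · exact ⟨_, key (-1) (neg_ne_zero.mpr one_ne_zero) fun h' => S.h2 (by linear_combination h + h')⟩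
    · exact ⟨_, key 1 one_ne_zero h⟩
  -- the second vector
  have hP1nd : Nd Q (perp Q (perp Q (D j) aj) p₁) := hPnd.perp_aniso S.h2 hp₁ hQ₁
  have hdim : k ≤ Module.finrank F (perp Q (perp Q (D j) aj) p₁) + 2 := by
    have h1 := S.perp_dim j aj
    have h2 := finrank_inf_ker (perp Q (D j) aj) (polarBilin Q p₁)
    show k ≤ Module.finrank F ↥(perp Q (D j) aj ⊓ LinearMap.ker (polarBilin Q p₁)) + 2
    omega
  obtain ⟨p₂, hp₂, hQ₂, s, hs0, hN₀⟩ : ∃ p ∈ perp Q (perp Q (D j) aj) p₁, Q p ≠ 0 ∧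
      ∃ s : F, s ≠ 0 ∧ Q p₁ + s * s * Q p ≠ 0 := by
    by_cases h5 : 5 ≤ k
    · obtain ⟨p, hp, hQp⟩ := hP1nd.exists_value S.h2 (by omega) (Q p₁)
      refine ⟨p, hp, hQp ▸ hQ₁, 1, one_ne_zero, ?_⟩
      rw [hQp, show Q p₁ + 1 * 1 * Q p₁ = 2 * Q p₁ by ring]
      exact mul_ne_zero S.h2 hQ₁
    obtain ⟨p, hp, hQp⟩ := hP1nd.exists_aniso fun h => by
      rw [h, finrank_bot] at hdim
      have := S.hk
      omega
    by_cases h1 : Q p₁ + Q p = 0
    swap
    · exact ⟨p, hp, hQp, 1, one_ne_zero, by simpa using h1⟩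
    obtain ⟨s, -, hs⟩ := Finset.exists_mem_notMem_of_card_lt_card (s := ({0, 1, -1} : Finset F)) (t := Finset.univ)
      (Finset.card_le_three.trans_lt (by rw [Finset.card_univ]; have := hqk.resolve_right h5; omega))
    simp only [Finset.mem_insert, Finset.mem_singleton, not_or] at hs
    refine ⟨p, hp, hQp, s, hs.1, fun h => ?_⟩
    have h' : (s * s - 1) * Q p = 0 := by linear_combination h - h1
    rcases mul_self_eq_one_iff.mp (sub_eq_zero.mp ((mul_eq_zero.mp h').resolve_right hQp)) with e | e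
    · exact hs.2.1 e
    · exact hs.2.2 e
  have h12 : polarBilin Q p₁ p₂ = 0 := hp₂.2
  have h21 : polarBilin Q p₂ p₁ = 0 := by rw [quad_polar_comm, h12]
  have hp₁D : p₁ ∈ D j := hp₁.1
  have hp₂D : p₂ ∈ D j := hp₂.1.1
  have hp₁a := hPa p₁ hp₁
  have hp₂a := hPa p₂ hp₂.1
  have hb₁ : ∀ α β : F, polarBilin Q p₁ (α • p₁ + β • p₂) = 2 * Q p₁ * α := fun α β => by
    simp only [map_add, map_smul, quad_polar_self, h12, smul_eq_mul]; ring
  have hQv : ∀ s : F, Q (p₁ + s • p₂) = Q p₁ + s * s * Q p₂ := fun s => by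
    rw [quad_add, quad_smul, map_smul, h12, smul_zero, add_zero]
  -- an element moving `b` inside the plane
  set N₀ := Q p₁ + s * s * Q p₂ with hN₀def
  set p' := p₁ - (2 * Q p₁ / N₀) • (p₁ + s • p₂) with hp'
  have hp'D : p' ∈ D j := (D j).sub_mem hp₁D ((D j).smul_mem _ ((D j).add_mem hp₁D ((D j).smul_mem _ hp₂D)))
  have hQp' : Q p' = Q p₁ := by
    rw [hp', quad_sub, quad_smul, hQv, map_smul, map_add, map_smul, quad_polar_self, h12, smul_zero, add_zero,
      smul_eq_mul]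
    field_simp
    rw [hN₀def]
    ring
  set g₀ := rr Q p₁ p' with hg₀
  have hp'a : polarBilin Q p' a = 0 := by
    simp only [hp', map_sub, map_add, map_smul, LinearMap.sub_apply, LinearMap.add_apply, LinearMap.smul_apply, hp₁a,
      hp₂a, smul_zero, add_zero, sub_zero]
  have hd₁ := hab.conj (S.rr_mem hp₁D hp'D hQp'.symm (hQp' ▸ hQ₁)) (Orth.toGL_mem_isometry Q _)
  rw [rr_fix hp₁a hp'a, rr_mulVec, hQp'] at hd₁
  have hd := hd₁.sub hab
  set δ := (Q p₁)⁻¹ * polarBilin Q p' b with hδ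
  set γ := (Q p₁)⁻¹ * polarBilin Q p₁ (b - δ • p') with hγ
  obtain ⟨α₀, β₀, hαβ, hmem₀⟩ : ∃ α β : F, (α ≠ 0 ∨ β ≠ 0) ∧ InE Q K a (α • p₁ + β • p₂) := by
    refine ⟨-γ - δ + δ * (2 * Q p₁ / N₀), δ * (2 * Q p₁ / N₀) * s, ?_, ?_⟩
    · by_cases hδ0 : δ = 0
      · left
        rw [hδ0, zero_mul, add_zero, sub_zero, neg_ne_zero, hγ, hδ0, zero_smul, sub_zero]
        exact mul_ne_zero (inv_ne_zero hQ₁) hp₁b
      · exact Or.inr (mul_ne_zero (mul_ne_zero hδ0 (div_ne_zero (mul_ne_zero S.h2 hQ₁) hN₀)) hs0)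
    · convert hd using 1
      rw [hp']
      module
  -- compensated rotations
  have hrot : ∀ s : F, Q p₁ + s * s * Q p₂ ≠ 0 → ∀ α β : F, InE Q K a (α • p₁ + β • p₂) →
      ∀ μ μ' : F, μ = (2 * Q p₁ * α + 2 * s * Q p₂ * β) / (Q p₁ + s * s * Q p₂) →
        μ' = (-(2 * Q p₁ * α) + 2 * s * Q p₂ * β) / (Q p₁ + s * s * Q p₂) →
        InE Q K a ((μ - α) • p₁ + (β - μ * s) • p₂) ∧ InE Q K a ((-α - μ') • p₁ + (β - μ' * s) • p₂) := by
    intro s hN α β hx μ μ' hμ hμ'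
    set p := p₁ + s • p₂ with hp
    have hpD : p ∈ D j := (D j).add_mem hp₁D ((D j).smul_mem _ hp₂D)
    have hPm : Nd Q (perp Q (D m) (S.comp m a)) := (S.nd m).perp_aniso S.h2 (S.comp_mem m a) hQm
    have hdm : 2 ≤ Module.finrank F (perp Q (D m) (S.comp m a)) := by
      have := S.perp_dim m (S.comp m a)
      have := S.hk
      omega
    obtain ⟨c₁, hc₁, hQc₁⟩ := hPm.exists_value S.h2 hdm (Q p₁)
    obtain ⟨c₂, hc₂, hQc₂⟩ := hPm.exists_value S.h2 hdm (Q p)
    have hca : ∀ c ∈ perp Q (D m) (S.comp m a), polarBilin Q c a = 0 := fun c hc => by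
      have h : polarBilin Q (S.comp m a) c = 0 := hc.2
      rw [← S.polar_comp hc.1, quad_polar_comm, h]
    have hQpe : Q p = Q p₁ + s * s * Q p₂ := hQv s
    have hpa : polarBilin Q p a = 0 := by simp [hp, map_add, map_smul, hp₁a, hp₂a]
    have hg₁ := S.rr_mem hp₁D hc₁.1 hQc₁.symm (hQc₁ ▸ hQ₁)
    have hg₂ := S.rr_mem hpD hc₂.1 hQc₂.symm (by rw [hQc₂, hQpe]; exact hN)
    have hin : ∀ α β : F, α • p₁ + β • p₂ ∈ D j := fun α β =>
      (D j).add_mem ((D j).smul_mem _ hp₁D) ((D j).smul_mem _ hp₂D)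
    have hr₁ : ∀ α β : F, (rr Q p₁ c₁ : Matrix ι ι F) *ᵥ (α • p₁ + β • p₂) = (-α) • p₁ + β • p₂ := fun α β => by
      rw [rr_mulVec, S.orth hmj hc₁.1 (hin α β), mul_zero, zero_smul, sub_zero, hb₁]
      have e : (Q p₁)⁻¹ * (2 * Q p₁ * α) = 2 * α := by field_simp
      rw [e]
      module
    have hr₂ : ∀ α β : F, (rr Q p c₂ : Matrix ι ι F) *ᵥ (α • p₁ + β • p₂) =
        (α - (2 * Q p₁ * α + 2 * s * Q p₂ * β) / (Q p₁ + s * s * Q p₂)) • p₁ +
          (β - (2 * Q p₁ * α + 2 * s * Q p₂ * β) / (Q p₁ + s * s * Q p₂) * s) • p₂ := fun α β => by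
      rw [rr_mulVec, S.orth hmj hc₂.1 (hin α β), mul_zero, zero_smul, sub_zero, hQpe, hp]
      simp only [map_add, map_smul, LinearMap.add_apply, LinearMap.smul_apply, quad_polar_self, h12, h21, smul_eq_mul]
      rw [div_eq_inv_mul]
      module
    constructor
    · have h := (hx.conj hg₂ (Orth.toGL_mem_isometry Q _)).conj hg₁ (Orth.toGL_mem_isometry Q _)
      rw [rr_fix hpa (hca c₂ hc₂), rr_fix hp₁a (hca c₁ hc₁), hr₂, hr₁, ← hμ, neg_sub] at h
      exact h
    · have h := (hx.conj hg₁ (Orth.toGL_mem_isometry Q _)).conj hg₂ (Orth.toGL_mem_isometry Q _)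
      rw [rr_fix hp₁a (hca c₁ hc₁), rr_fix hpa (hca c₂ hc₂), hr₁, hr₂, mul_neg, ← hμ'] at h
      exact h
  -- all scalars
  have hscal : ∀ c α β : F, InE Q K a (α • p₁ + β • p₂) → InE Q K a (c • (α • p₁ + β • p₂)) := by
    let T : AddSubgroup F :=
      { carrier := {c | ∀ α β : F, InE Q K a (α • p₁ + β • p₂) → InE Q K a (c • (α • p₁ + β • p₂))}
        add_mem' := fun {c d} hc hd α β h => by rw [add_smul]; exact inE_add (hc α β h) (hd α β h)
        zero_mem' := fun α β h => by rw [zero_smul]; exact inE_zero h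
        neg_mem' := fun {c} hc α β h => by rw [neg_smul]; exact inE_neg (hc α β h) }
    set I := Finset.univ.image fun x : F => x * x with hI
    set U := I.filter fun v => Q p₁ + v * Q p₂ ≠ 0 with hU
    have hU1 : I.card ≤ U.card + 1 := by
      have h1 := Finset.card_filter_add_card_filter_not (s := I) (fun v => Q p₁ + v * Q p₂ ≠ 0)
      have h2 : (I.filter fun v => ¬ (Q p₁ + v * Q p₂ ≠ 0)).card ≤ 1 := Finset.card_le_one.mpr fun x hx y hy => by
        simp only [Finset.mem_filter, not_not] at hx hy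
        exact mul_right_cancel₀ hQ₂ (by linear_combination hx.2 - hy.2)
      rw [← hU] at h1
      omega
    set T' := insert (1 : F) (insert 0 (U.image fun v => -4 * v * Q p₂ / (Q p₁ + v * Q p₂))) with hT'
    have hT2 : 2 ≤ T'.card := by
      rw [← Finset.card_pair (one_ne_zero : (1 : F) ≠ 0)]
      exact Finset.card_le_card (Finset.insert_subset_insert _
        (Finset.singleton_subset_iff.mpr (Finset.mem_insert_self _ _)))
    have hTU : U.card ≤ T'.card := by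
      rw [← Finset.card_image_of_injOn (s := U) (f := fun v => -4 * v * Q p₂ / (Q p₁ + v * Q p₂))
        fun x hx y hy h => by
          have hx' := (Finset.mem_filter.mp hx).2
          have hy' := (Finset.mem_filter.mp hy).2
          simp only [div_eq_div_iff hx' hy'] at h
          have h4 : (4 : F) ≠ 0 := by
            rw [show (4 : F) = 2 * 2 by norm_num]
            exact mul_ne_zero S.h2 S.h2
          have h' : 4 * Q p₂ * Q p₁ * (x - y) = 0 := by linear_combination -h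
          exact sub_eq_zero.mp ((mul_eq_zero.mp h').resolve_left (mul_ne_zero (mul_ne_zero h4 hQ₂) hQ₁))]
      exact Finset.card_le_card fun x hx => Finset.mem_insert_of_mem (Finset.mem_insert_of_mem hx)
    have htop : T = ⊤ := addSubgroup_eq_top S.h2 T T' (fun c hc => by
      rcases Finset.mem_insert.mp hc with rfl | hc
      · intro α β h; rwa [one_smul]
      rcases Finset.mem_insert.mp hc with rfl | hc
      · exact T.zero_mem
      obtain ⟨v, hv, rfl⟩ := Finset.mem_image.mp hc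
      obtain ⟨hv, hN⟩ := Finset.mem_filter.mp hv
      obtain ⟨r, -, rfl⟩ := Finset.mem_image.mp hv
      intro α β h
      obtain ⟨h1, h2⟩ := hrot r hN α β h _ _ rfl rfl
      convert (inE_add h1 h2).sub (inE_add h h) using 1
      have hi := mul_inv_cancel₀ hN
      simp only [div_eq_mul_inv]
      generalize (Q p₁ + r * r * Q p₂)⁻¹ = i at hi ⊢
      match_scalars <;> first
        | ring1
        | linear_combination (-4 * α) * hi
        | linear_combination (4 * α) * hi) (by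
      have h1 := card_sq (F := F)
      rw [← hI] at h1
      have hodd : Fintype.card F % 2 = 1 := FiniteField.odd_card_of_char_ne_two fun h => S.h2 (by
        haveI := ringChar.of_eq h
        exact CharTwo.two_eq_zero)
      omega)
    intro c
    have hc : c ∈ T := by rw [htop]; trivial
    exact hc
  have hQd : Q (α₀ • p₁ + β₀ • p₂) = α₀ * α₀ * Q p₁ + β₀ * β₀ * Q p₂ := by
    rw [quad_add, quad_smul, quad_smul, map_smul, map_smul, LinearMap.smul_apply, h12, smul_zero, smul_zero, add_zero]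
  by_cases hd0 : Q (α₀ • p₁ + β₀ • p₂) = 0
  · left
    refine ⟨j, l, α₀ • p₁ + β₀ • p₂, -a, hlj, (D j).add_mem ((D j).smul_mem _ hp₁D) ((D j).smul_mem _ hp₂D),
      fun h => ?_, inE_flip hmem₀ hd0, by rw [S.comp_neg]; exact neg_ne_zero.mpr hla⟩
    have e1 := congrArg (polarBilin Q p₁) h
    have e2 := congrArg (polarBilin Q p₂) h
    simp only [map_add, map_smul, map_zero, h12, h21, quad_polar_self, smul_eq_mul, mul_zero, add_zero, zero_add,
      mul_eq_zero, S.h2, hQ₁, hQ₂, or_false] at e1 e2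
    exact hαβ.elim (fun h => h e1) (fun h => h e2)
  right
  refine ⟨p₁, hp₁D, p₂, hp₂D, hQ₁, hQ₂, h12, hp₁a, hp₂a, fun A B => ?_⟩
  obtain ⟨h1, -⟩ := hrot s hN₀ α₀ β₀ hmem₀ _ _ rfl rfl
  set μ := (2 * Q p₁ * α₀ + 2 * s * Q p₂ * β₀) / (Q p₁ + s * s * Q p₂) with hμ
  set Δ := α₀ * (β₀ - μ * s) - β₀ * (μ - α₀) with hΔdef
  have hμN : μ * (Q p₁ + s * s * Q p₂) = 2 * Q p₁ * α₀ + 2 * s * Q p₂ * β₀ := by rw [hμ, div_mul_cancel₀ _ hN₀]
  have hΔ : Δ ≠ 0 := by
    intro h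
    rw [hΔdef] at h
    have h' : (2 * s) * (α₀ * α₀ * Q p₁ + β₀ * β₀ * Q p₂) = 0 := by
      linear_combination (-(Q p₁ + s * s * Q p₂)) * h - (s * α₀ + β₀) * hμN
    rw [← hQd] at h'
    exact mul_ne_zero (mul_ne_zero S.h2 hs0) hd0 h'
  have h3 := inE_add (hscal ((A * (β₀ - μ * s) - B * (μ - α₀)) / Δ) _ _ hmem₀)
    (hscal ((B * α₀ - A * β₀) / Δ) _ _ h1)
  convert h3 using 1
  match_scalars <;> field_simp <;> rw [hΔdef] <;> ring

set_option maxHeartbeats 800000 in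
/-- A plane of vectors of a centre gives a seed. -/
theorem Sys.seed_plane {a : ι → F} {j l : Fin t} (hlj : l ≠ j) (hla : S.comp l a ≠ 0) {p₁ p₂ : ι → F}
    (hp₁ : p₁ ∈ D j) (hp₂ : p₂ ∈ D j) (hQ₁ : Q p₁ ≠ 0) (hQ₂ : Q p₂ ≠ 0) (h12 : polarBilin Q p₁ p₂ = 0)
    (hp₁a : polarBilin Q p₁ a = 0) (hp₂a : polarBilin Q p₂ a = 0)
    (hpl : ∀ α β : F, InE Q K a (α • p₁ + β • p₂)) : Seed S := by
  have hQa : Q a = 0 := (hpl 0 0).1
  set al := S.comp l a with hal
  have halD : al ∈ D l := S.comp_mem l a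
  have hla' : ∀ z ∈ D l, polarBilin Q z a = polarBilin Q z al := fun z hz => (S.polar_comp hz a).symm
  obtain ⟨w, hw, u, hu, w₂, hw₂, hu0, hQu, huw, hQw, hw₂Q, hwa, hw₂a⟩ : ∃ w ∈ D l, ∃ u ∈ D l, ∃ w₂ ∈ D l,
      u ≠ 0 ∧ Q u = 0 ∧ polarBilin Q u w = 0 ∧ Q w ≠ 0 ∧ Q w₂ = Q w ∧ polarBilin Q w a ≠ 0 ∧
        polarBilin Q w₂ a = 0 := by
    by_cases hQl : Q al = 0
    · obtain ⟨f, hf, hQf, haf⟩ := S.partner halD hla hQl
      obtain ⟨n₀, hn, han, hfn, hQn⟩ := S.pair_aniso halD hf hQl hQf haf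
      have hQw : Q (n₀ + f) = Q n₀ := by rw [quad_add, hQf, quad_polar_comm Q n₀ f, hfn, add_zero, add_zero]
      refine ⟨n₀ + f, (D l).add_mem hn hf, f, hf, n₀, hn, fun h => by simp [h] at haf, hQf, ?_, hQw ▸ hQn, hQw.symm,
        ?_, ?_⟩
      · rw [map_add, hfn, Orth.polar_self_of_sing Q hQf, add_zero]
      · rw [hla' _ ((D l).add_mem hn hf), map_add, LinearMap.add_apply, quad_polar_comm Q n₀ al, han,
          quad_polar_comm Q f al, haf, zero_add]
        exact one_ne_zero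
      · rw [hla' _ hn, quad_polar_comm, han]
    have hW : ∀ ν : F, ∃ w₂ ∈ D l, Q w₂ = ν ∧ polarBilin Q w₂ a = 0 := fun ν => by
      obtain ⟨x, hx, hQx⟩ := ((S.nd l).perp_aniso S.h2 halD hQl).exists_value S.h2 (by
        have := S.perp_dim l al
        have := S.hk
        omega) ν
      have h : polarBilin Q al x = 0 := hx.2
      exact ⟨x, hx.1, hQx, by rw [hla' x hx.1, quad_polar_comm, h]⟩
    obtain ⟨e, he, f, hf, he0, hQe, hQf, hef⟩ := S.hyp l
    have hf0 : f ≠ 0 := fun h => by simp [h] at hef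
    by_cases hee : polarBilin Q e al = 0 ∧ polarBilin Q f al = 0
    · obtain ⟨w₂, h1, h2, h3⟩ := hW (Q al)
      exact ⟨al, halD, e, he, w₂, h1, he0, hQe, hee.1, hQl, h2, by
        rw [hla' al halD, quad_polar_self]; exact mul_ne_zero S.h2 hQl, h3⟩
    obtain ⟨n₀, hn, hen, hfn, hQn⟩ := S.pair_aniso he hf hQe hQf hef
    have hcand : ∀ g ∈ D l, g ≠ 0 → Q g = 0 → polarBilin Q g n₀ = 0 → polarBilin Q g al ≠ 0 →
        ∃ w ∈ D l, ∃ u ∈ D l, ∃ w₂ ∈ D l, u ≠ 0 ∧ Q u = 0 ∧ polarBilin Q u w = 0 ∧ Q w ≠ 0 ∧ Q w₂ = Q w ∧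
          polarBilin Q w a ≠ 0 ∧ polarBilin Q w₂ a = 0 := by
      intro g hg hg0 hQg hgn hga
      by_cases h0 : polarBilin Q n₀ al = 0
      · obtain ⟨w₂, h1, h2, h3⟩ := hW (Q (n₀ + g))
        refine ⟨n₀ + g, (D l).add_mem hn hg, g, hg, w₂, h1, hg0, hQg, ?_, ?_, h2, ?_, h3⟩
        · rw [map_add, hgn, Orth.polar_self_of_sing Q hQg, add_zero]
        · rw [quad_add, hQg, quad_polar_comm Q n₀ g, hgn, add_zero, add_zero]; exact hQn
        · rw [hla' _ ((D l).add_mem hn hg), map_add, LinearMap.add_apply, h0, zero_add]; exact hga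
      · obtain ⟨w₂, h1, h2, h3⟩ := hW (Q n₀)
        exact ⟨n₀, hn, g, hg, w₂, h1, hg0, hQg, hgn, hQn, h2, by rw [hla' _ hn]; exact h0, h3⟩
    rcases not_and_or.mp hee with h | h
    · exact hcand e he he0 hQe hen h
    · exact hcand f hf hf0 hQf hfn h
  set κ := (Q w)⁻¹ * polarBilin Q w a with hκ
  have hκ0 : κ ≠ 0 := mul_ne_zero (inv_ne_zero hQw) hwa
  set a' := a - κ • w with ha'
  have hxD : ∀ α β : F, α • p₁ + β • p₂ ∈ D j := fun α β =>
    (D j).add_mem ((D j).smul_mem _ hp₁) ((D j).smul_mem _ hp₂)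
  have hpl' : ∀ α β : F, InE Q K a' (α • p₁ + β • p₂) := fun α β => by
    have h := (hpl α β).conj (S.rr_mem hw hw₂ hw₂Q.symm (hw₂Q ▸ hQw)) (Orth.toGL_mem_isometry Q _)
    rw [rr_fix (S.orth hlj hw (hxD α β)) (S.orth hlj hw₂ (hxD α β)), rr_mulVec, hw₂a, mul_zero, zero_smul,
      sub_zero] at h
    exact h
  set d := polarBilin Q a' a with hd
  have hd' : d = -(κ * polarBilin Q w a) := by
    rw [hd, ha', map_sub, map_smul, LinearMap.sub_apply, LinearMap.smul_apply, Orth.polar_self_of_sing Q hQa,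
      smul_eq_mul, zero_sub]
  have hd0 : d ≠ 0 := by rw [hd']; exact neg_ne_zero.mpr (mul_ne_zero hκ0 hwa)
  obtain ⟨α, β, hαβ⟩ := exists_two_sq S.h2 hQ₁ hQ₂ d⁻¹
  set x := α • p₁ + β • p₂ with hx
  set x₂ := (β * Q p₂) • p₁ + (-(α * Q p₁)) • p₂ with hx₂
  have h21 : polarBilin Q p₂ p₁ = 0 := by rw [quad_polar_comm, h12]
  have hQx : Q x = d⁻¹ := by
    rw [hx, quad_add, quad_smul, quad_smul, map_smul, map_smul, LinearMap.smul_apply, h12, smul_zero, smul_zero,
      add_zero, hαβ]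
  have hQx₂ : Q x₂ = Q p₁ * Q p₂ * d⁻¹ := by
    rw [hx₂, quad_add, quad_smul, quad_smul, map_smul, map_smul, LinearMap.smul_apply, h12, smul_zero, smul_zero,
      add_zero, ← hαβ]
    ring
  have hQx₂0 : Q x₂ ≠ 0 := by rw [hQx₂]; exact mul_ne_zero (mul_ne_zero hQ₁ hQ₂) (inv_ne_zero hd0)
  have hx₂x : polarBilin Q x₂ x = 0 := by
    simp only [hx, hx₂, map_add, map_smul, LinearMap.add_apply, LinearMap.smul_apply, h12, h21, quad_polar_self,
      smul_eq_mul]
    ring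
  have hxa : polarBilin Q x a = 0 := by simp [hx, map_add, map_smul, hp₁a, hp₂a]
  have hx₂a : polarBilin Q x₂ a = 0 := by simp [hx₂, map_add, map_smul, hp₁a, hp₂a]
  have hxj : x ∈ D j := hxD _ _
  have hx₂j : x₂ ∈ D j := hxD _ _
  obtain ⟨_, _, hm⟩ := hpl α β
  have h2 := (hpl' (β * Q p₂) (-(α * Q p₁))).conj hm (Orth.toGL_mem_isometry Q _)
  have ha'x : polarBilin Q a' x = 0 := by
    rw [ha', map_sub, map_smul, LinearMap.sub_apply, LinearMap.smul_apply, quad_polar_comm Q a x, hxa,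
      S.orth hlj hw hxj, smul_zero, sub_zero]
  rw [Orth.eichGL_mulVec, Orth.eichGL_mulVec, ← hx, ← hx₂, ← hd, ha'x, zero_add, hQx, inv_mul_cancel₀ hd0, one_smul,
    hx₂a, zero_smul, hx₂x, mul_zero, add_zero, add_zero, zero_smul, sub_zero] at h2
  set a'' := a' + d • x - a with ha''
  have ha''e : a'' = d • x - κ • w := by rw [ha'', ha']; abel
  obtain ⟨y, hy, huy, hyw⟩ := S.dual_one hu hw fun h => by
    obtain ⟨c, hc⟩ := Submodule.mem_span_singleton.mp h
    exact hQw (by rw [← hc, quad_smul, hQu, mul_zero])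
  obtain ⟨_, _, hm'⟩ := S.eich_mem hu hy hQu huy
  have h3 := h2.conj hm' (Orth.toGL_mem_isometry Q _)
  have e1 : polarBilin Q a'' u = 0 := by
    simp [ha''e, map_sub, map_smul, S.orth hlj.symm hxj hu, quad_polar_comm Q w u, huw]
  have e2 : polarBilin Q a'' y = -κ := by
    simp [ha''e, map_sub, map_smul, S.orth hlj.symm hxj hy, quad_polar_comm Q w y, hyw]
  rw [Orth.eichGL_mulVec, Orth.eichGL_mulVec, e1, e2, S.orth hlj.symm hx₂j hu,
    S.orth hlj.symm hx₂j hy] at h3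
  simp only [zero_smul, add_zero, mul_zero, sub_zero, neg_smul, sub_neg_eq_add] at h3
  have h4 := inE_split (z := κ • u) (by rw [map_smul, e1, smul_zero]) (by rw [quad_smul, hQu, mul_zero])
    (by rw [map_smul, LinearMap.smul_apply, S.orth hlj hu hx₂j, smul_zero]) h2 h3
  refine ⟨l, j, u, _, hlj.symm, hu, hu0, h4.scale hκ0, fun h => ?_⟩
  have h5 := congrArg (polarBilin Q x₂) h
  rw [S.polar_comp hx₂j, map_zero] at h5
  simp only [ha''e, map_smul, map_neg, map_add, map_sub, hx₂x, S.orth hlj.symm hx₂j hw, quad_polar_self, smul_eq_mul,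
    mul_zero, sub_zero, add_zero] at h5
  exact mul_ne_zero hκ0 (neg_ne_zero.mpr (mul_ne_zero S.h2 hQx₂0)) h5

/-- A moving element gives all of `omegaGL`. -/
theorem Sys.omega_le (hqk : 5 ≤ Fintype.card F ∨ 5 ≤ k) {g : GL ι F} (hgK : g ∈ K)
    (hgi : g ∈ Cfsg.isometryGroup F ⇑Q) (hgs : g ∉ Cfsg.Geo.decompositionStabilizer D) :
    Cfsg.Geo.omegaGL ⇑Q ≤ K := by
  refine S.omega_le_of_seed ?_
  obtain ⟨a₀, b₀, h₀, hb₀, h2c⟩ := S.exists_start hgK hgi hgs
  obtain ⟨a, b, j, l, hlj, hab, hla, hjb⟩ := S.exists_indep h₀ hb₀ h2c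
  by_cases hQj : Q (S.comp j a) = 0
  · exact S.seed_singular hlj hab hla hjb hQj
  rcases S.exists_plane hqk hlj hab hla hjb hQj with h | ⟨p₁, hp₁, p₂, hp₂, hQ₁, hQ₂, h12, h1a, h2a, hpl⟩
  · exact h
  · exact S.seed_plane hlj hla hp₁ hp₂ hQ₁ hQ₂ h12 h1a h2a hpl

omit S in
/-- The stabiliser of the decomposition is maximal. -/
theorem maximal (hN : (polarBilin Q).Nondegenerate) (h2 : (2 : F) ≠ 0) (h7 : 7 ≤ Fintype.card ι) (hk : 3 ≤ k)
    (hD : Cfsg.Geo.IsOrthogonalMDecomposition (⇑Q) k D) (hqk : 5 ≤ Fintype.card F ∨ 5 ≤ k) :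
    Cfsg.Geo.IsMaximalIn (Cfsg.Geo.omegaGL ⇑Q)
      (Cfsg.Geo.decompositionStabilizer D ⊓ Cfsg.Geo.omegaGL ⇑Q) := by
  have S : Sys Q D k (Cfsg.Geo.decompositionStabilizer D ⊓ Cfsg.Geo.omegaGL ⇑Q) := ⟨hN, h2, hD, hk, h7, le_rfl⟩
  refine ⟨lt_of_le_of_ne inf_le_right fun h => ?_, fun M hle hMS => ?_⟩
  · have ht := hD.decomp.decomp.two_le
    let i₀ : Fin t := ⟨0, by omega⟩
    let i₁ : Fin t := ⟨1, by omega⟩
    have hne : i₀ ≠ i₁ := by simp [i₀, i₁]
    obtain ⟨e, he, f, hf, he0, hQe, hQf, hef⟩ := S.hyp i₀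
    obtain ⟨x, hx, hQx⟩ := (S.nd i₁).exists_value h2 (by rw [S.fin]; omega) 1
    have hex : polarBilin Q e x = 0 := S.orth hne he hx
    obtain ⟨⟨σ, hσ⟩, -⟩ := (h.symm ▸ Orth.eichGL_mem_omega hN h7 hQe hex :
      Orth.eichGL Q e x hQe hex ∈ Cfsg.Geo.decompositionStabilizer D ⊓ Cfsg.Geo.omegaGL ⇑Q)
    have h1 : (Orth.eichGL Q e x hQe hex : Matrix ι ι F) *ᵥ e ∈ D (σ i₀) :=
      hσ i₀ ▸ ⟨e, he, Matrix.toLin'_apply _ _⟩
    have h1' : (Orth.eichGL Q e x hQe hex : Matrix ι ι F) *ᵥ f ∈ D (σ i₀) :=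
      hσ i₀ ▸ ⟨f, hf, Matrix.toLin'_apply _ _⟩
    rw [Orth.eichGL_mulVec, Orth.polar_self_of_sing Q hQe, hex, zero_smul, add_zero, mul_zero, add_zero, zero_smul,
      sub_zero] at h1
    have hσ0 : σ i₀ = i₀ := by
      by_contra hne'
      exact he0 (by rw [← S.comp_self he, S.comp_other (Ne.symm hne') h1])
    rw [hσ0, Orth.eichGL_mulVec, quad_polar_comm Q f e, hef, one_smul, S.orth hne hf hx] at h1'
    have h2' := S.comp_other hne.symm h1'
    rw [S.comp_sub, S.comp_add, S.comp_smul, S.comp_self hx, S.comp_other hne.symm hf, S.comp_other hne.symm he,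
      zero_add, smul_zero, sub_zero] at h2'
    rw [h2', map_zero] at hQx
    exact zero_ne_one hQx
  by_cases hMD : M ≤ Cfsg.Geo.decompositionStabilizer D
  · exact Or.inl (le_antisymm (le_inf hMD hMS) hle)
  right
  obtain ⟨g, hgM, hgs⟩ := SetLike.not_le_iff_exists.mp hMD
  have SM : Sys Q D k M := ⟨hN, h2, hD, hk, h7, hle⟩
  exact le_antisymm hMS (SM.omega_le hqk hgM (Orth.omegaGL_le_isometry (hMS hgM)) hgs)

end Cfsg.Agent.Lib.ThreeTransp.DecompOrth
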