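import Cfsg.Agent.Lib.ThreeTransp.LeechXi
import Cfsg.Agent.Lib.Golay.Pointed

/-!
# Uniqueness of the invariant quadratic form on the lattice modulo 2
-/

namespace Cfsg.Agent.Lib.ThreeTransp

open Cfsg
open Cfsg.Agent.Lib.Compute
open Cfsg.Agent.Lib.GolayOrbit (baseOctad baseOctad_mem exists_to_octPtOut exists_to_baseOctad)
open scoped Pointwise

theorem two_indicator_mem {O : Finset GolayPt} (hO : O ∈ octads) :
    (fun p : GolayPt => if p ∈ O then (2 : ℤ) else 0) ∈ leechLattice := by
  obtain ⟨⟨v, hv, rfl⟩, hc⟩ := hO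
  refine mem_leechLattice_iff.mpr ⟨0, fun p => if p ∈ support₂ v then 1 else 0,
    fun p => by by_cases hp : p ∈ support₂ v <;> simp [hp], ?_, ?_⟩
  · have : redTwo (fun p => if p ∈ support₂ v then 1 else 0) = v := by
      funext p
      rcases zmod2_cases (v p) with h | h <;> simp [redTwo, mem_support₂, h]
    rw [this]; exact hv
  · rw [Finset.sum_boole, Finset.filter_mem_eq_inter, Finset.univ_inter, hc]
    decide

open Classical in
/-- Twice the indicator of an octad given as a set. -/
noncomputable def twoInd (O : Finset GolayPt) : Lam :=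
  if h : O ∈ octads then ⟨_, two_indicator_mem h⟩ else 0

theorem twoInd_apply {O : Finset GolayPt} (hO : O ∈ octads) :
    (twoInd O : GolayPt → ℤ) = fun p => if p ∈ O then 2 else 0 := by
  rw [twoInd, dif_pos hO]

theorem octVec_eq {m : ℕ} (hc : inCode m = true) (h8 : pop m = 8) : octVec m = twoInd (setOf24 m) :=
  Subtype.ext (by rw [octVec_apply hc h8, twoInd_apply (setOf24_mem_octads hc h8)])

theorem perm_twoInd {g : Equiv.Perm GolayPt} (hg : g ∈ M24) {O : Finset GolayPt} (hO : O ∈ octads) :
    permMap hg (twoInd (g • O)) = twoInd O := by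
  refine Subtype.ext (funext fun p => ?_)
  show (twoInd (g • O) : GolayPt → ℤ) (g p) = (twoInd O : GolayPt → ℤ) p
  rw [twoInd_apply (smul_mem_octads hg hO), twoInd_apply hO]
  have : (g p ∈ g • O) ↔ p ∈ O := Finset.smul_mem_smul_finset_iff (s := O) g (b := p)
  by_cases hp : p ∈ O
  · simp [hp, this.mpr hp]
  · simp [hp, mt this.mp hp]

theorem permMap_add {g : Equiv.Perm GolayPt} (hg : g ∈ M24) (u v : Lam) :
    permMap hg (u + v) = permMap hg u + permMap hg v := rfl

theorem singular_pair (i j : GolayPt) : (vv i j : GolayPt → ℤ) ∈ singularSub := by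
  have h4 : ∀ p, (4 : ℤ) ∣ pairFun i j p := fun p => by
    simp only [pairFun]; split_ifs <;> norm_num
  refine ⟨(vv i j).2, (Dvd.dvd.trans (by norm_num) (h4 none)), fun p => ?_⟩
  show (4 : ℤ) ∣ pairFun i j p - pairFun i j none * oddVec p
  exact dvd_sub (h4 p) (Dvd.dvd.mul_right (h4 none) _)

theorem singular_of_four {x : Lam} (h : ∀ p, (4 : ℤ) ∣ (x : GolayPt → ℤ) p) :
    (x : GolayPt → ℤ) ∈ singularSub :=
  ⟨x.2, Dvd.dvd.trans (by norm_num) (h none), fun p =>
    dvd_sub (h p) (Dvd.dvd.mul_right (h none) _)⟩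

namespace InvForm

variable {q : Lam → ZMod 2} (h : InvForm q)
include h

theorem q_add_singular {x y : Lam} (hx : (x : GolayPt → ℤ) ∈ singularSub)
    (hy : (y : GolayPt → ℤ) ∈ singularSub) : pol q x y = 0 := by
  simp only [pol, h.eq_zero_of_singular hx, h.eq_zero_of_singular hy,
    h.eq_zero_of_singular (x := x + y) (add_mem hx hy), add_zero]

theorem pol_perm {g : Equiv.Perm GolayPt} (hg : g ∈ M24) (u v : Lam) :
    pol q (permMap hg u) (permMap hg v) = pol q u v := by
  simp only [pol, ← permMap_add, h.perm g hg]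

/-- Values on (point of an octad, point outside) agree. -/
theorem flag_eq {O O' : Finset GolayPt} (hO : O ∈ octads) (hO' : O' ∈ octads) {p q' r s : GolayPt}
    (hp : p ∈ O) (hq : q' ∉ O) (hr : r ∈ O') (hs : s ∉ O') :
    pol q (twoInd O) (vv p q') = pol q (twoInd O') (vv r s) := by
  obtain ⟨g, hg, h1, h2, h3⟩ := exists_to_octPtOut hO hp hq
  obtain ⟨g', hg', h1', h2', h3'⟩ := exists_to_octPtOut hO' hr hs
  rw [← perm_twoInd hg hO, ← perm_twoInd hg' hO', ← perm_vv hg p q', ← perm_vv hg' r s,
    h.pol_perm hg, h.pol_perm hg', h1, h1', h2, h2', h3, h3']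

theorem pol_oct_ff_const {O O' : Finset GolayPt} (hO : O ∈ octads) (hO' : O' ∈ octads) :
    pol q (twoInd O) ff = pol q (twoInd O') ff := by
  have key : ∀ {U : Finset GolayPt}, U ∈ octads →
      pol q (twoInd U) ff = pol q (twoInd baseOctad) ff := by
    intro U hU
    obtain ⟨g, hg, he⟩ := exists_to_baseOctad hU
    have h1 : pol q (twoInd baseOctad) ff = pol q (twoInd baseOctad) (vv (g none) (g none)) := by
      rw [h.pol_comm _ (vv (g none) (g none)), h.pol_diag, h.pol_comm]
    rw [h1, ← he, ← h.pol_perm hg (twoInd (g • U)) (vv (g none) (g none)), perm_twoInd hg hU,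
      perm_vv hg]
    rfl
  rw [key hO, key hO']

/-- The hypothesis: a point inside and a point outside pair trivially with the octad. -/
theorem pol_oct_pair (hβ : pol q (octVec 0x149f) (vv (enc.symm 0) (enc.symm 5)) = 0)
    {O : Finset GolayPt} (hO : O ∈ octads) (i j : GolayPt) : pol q (twoInd O) (vv i j) = 0 := by
  have h0 : setOf24 0x149f ∈ octads := setOf24_mem_octads (by decide +kernel) (by decide +kernel)
  have hflag : ∀ {U : Finset GolayPt}, U ∈ octads → ∀ {p r : GolayPt}, p ∈ U → r ∉ U →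
      pol q (twoInd U) (vv p r) = 0 := by
    intro U hU p r hp hr
    rw [h.flag_eq hU h0 hp hr (r := enc.symm 0) (s := enc.symm 5) (by decide +kernel)
      (by decide +kernel), ← octVec_eq (by decide +kernel) (by decide +kernel)]
    exact hβ
  have hchain : ∀ {U : Finset GolayPt}, U ∈ octads → ∀ x y z,
      pol q (twoInd U) (vv x y) + pol q (twoInd U) (vv y z)
        = pol q (twoInd U) (vv x z) + pol q (twoInd U) ff := by
    intro U hU x y z
    rw [← h.pol_add_right, vv_chain, h.pol_add_right, h.pol_comm _ (vv y y), h.pol_diag,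
      h.pol_comm ff]
  have hout : ∀ {U : Finset GolayPt}, U ∈ octads → ∃ r, r ∉ U := by
    intro U hU
    by_contra hc
    push Not at hc
    have h8 := card_of_mem_octads hU
    rw [Finset.eq_univ_of_forall hc] at h8
    exact absurd h8 (by decide)
  have hin : ∀ {U : Finset GolayPt}, U ∈ octads → ∀ {x y}, x ∈ U → y ∈ U →
      pol q (twoInd U) (vv x y) = pol q (twoInd U) ff := by
    intro U hU x y hx hy
    obtain ⟨r, hr⟩ := hout hU
    have := hchain hU x r y
    rw [hflag hU hx hr, vv_comm r y, hflag hU hy hr, add_zero] at this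
    exact CharTwo.add_eq_zero.mp this.symm
  have hF : pol q (twoInd O) ff = 0 := by
    rw [h.pol_oct_ff_const hO h0]
    rw [← hin h0 (x := enc.symm 0) (y := enc.symm 1) (by decide +kernel) (by decide +kernel),
      ← octVec_eq (by decide +kernel) (by decide +kernel),
      h.pol_oct (c := 0xd40063) (by decide +kernel), h.q_vv_eq_zero]
  obtain ⟨r, hr⟩ := hout hO
  by_cases hi : i ∈ O <;> by_cases hj : j ∈ O
  · rw [hin hO hi hj, hF]
  · exact hflag hO hi hj
  · rw [vv_comm]; exact hflag hO hj hi
  · obtain ⟨x, hx⟩ : ∃ x, x ∈ O := Finset.card_pos.mp (by rw [card_of_mem_octads hO]; norm_num)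
    have := hchain hO i x j
    rw [vv_comm i x, hflag hO hx hi, hflag hO hx hj, hF, add_zero, add_zero] at this
    exact this.symm

theorem pol_oct_singular (hβ : pol q (octVec 0x149f) (vv (enc.symm 0) (enc.symm 5)) = 0)
    {O : Finset GolayPt} (hO : O ∈ octads) {y : Lam} (hy : (y : GolayPt → ℤ) ∈ singularSub) :
    pol q (twoInd O) y = 0 := by
  have hy' := mem_closure_of_singular hy
  clear hy
  induction hy' using AddSubgroup.closure_induction with
  | mem t ht =>
    rcases ht with ⟨⟨k, l⟩, rfl⟩ | ⟨w, rfl⟩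
    · exact h.pol_oct_pair hβ hO k l
    · show pol q _ (w + w) = 0
      rw [← zero_add (w + w), h.pol_mod_right, h.pol_comm, h.pol_zero]
  | zero => rw [h.pol_comm, h.pol_zero]
  | add y t _ _ hy ht => rw [h.pol_add_right, hy, ht, add_zero]
  | neg y _ hy => rw [h.pol_comm, h.pol_neg, h.pol_comm, hy]

end InvForm

/-- The octad of two tetrads. -/
def sexOct : ℕ := 0x498b40

theorem xi_pair_identity : ∀ p : GolayPt,
    xiTwo (pairFun (enc.symm 6) (enc.symm 8)) p =
      2 * ((if p ∈ setOf24 sexOct then 2 else 0) - pairFun (enc.symm 6) (enc.symm 8) p) := by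
  decide +kernel

namespace InvForm

variable {q : Lam → ZMod 2} (h : InvForm q)
include h

theorem q_oct (hξ : ∀ v, q (xiMap v) = q v)
    (hβ : pol q (octVec 0x149f) (vv (enc.symm 0) (enc.symm 5)) = 0)
    {O : Finset GolayPt} (hO : O ∈ octads) : q (twoInd O) = 0 := by
  have key : ∀ {U : Finset GolayPt}, U ∈ octads → q (twoInd U) = q (twoInd baseOctad) := by
    intro U hU
    obtain ⟨g, hg, he⟩ := exists_to_baseOctad hU
    rw [← perm_twoInd hg hU, h.perm g hg, he]
  have hs : setOf24 sexOct ∈ octads := setOf24_mem_octads (by decide +kernel) (by decide +kernel)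
  rw [key hO, ← key hs]
  set V := vv (enc.symm 6) (enc.symm 8)
  have e : xiMap V = twoInd (setOf24 sexOct) + V + (-V + -V) := by
    refine Subtype.ext (funext fun p => ?_)
    show xiTwo (pairFun (enc.symm 6) (enc.symm 8)) p / 2 = (twoInd (setOf24 sexOct) : GolayPt → ℤ) p
      + pairFun (enc.symm 6) (enc.symm 8) p
      + (-pairFun (enc.symm 6) (enc.symm 8) p + -pairFun (enc.symm 6) (enc.symm 8) p)
    rw [xi_pair_identity, twoInd_apply hs]
    simp only []
    split_ifs <;> omega
  have := hξ V
  rw [e, h.mod, h.q_add, h.q_vv_eq_zero, h.pol_oct_pair hβ hs] at this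
  simpa using this

/-- Octads meeting in four points pair trivially. -/
theorem pol_oct_four (hξ : ∀ v, q (xiMap v) = q v)
    (hβ : pol q (octVec 0x149f) (vv (enc.symm 0) (enc.symm 5)) = 0) {a b : ℕ}
    (ha : (inCode a && pop a == 8) = true) (hb : (inCode b && pop b == 8) = true)
    (hab : (inCode (a ^^^ b) && pop (a ^^^ b) == 8) = true) :
    pol q (octVec a) (octVec b) = 0 := by
  simp only [Bool.and_eq_true, beq_iff_eq] at ha hb hab
  have hoa := setOf24_mem_octads ha.1 ha.2
  have hob := setOf24_mem_octads hb.1 hb.2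
  have hoc := setOf24_mem_octads hab.1 hab.2
  rw [octVec_eq ha.1 ha.2, octVec_eq hb.1 hb.2]
  set y := twoInd (setOf24 a) + twoInd (setOf24 b) - twoInd (setOf24 (a ^^^ b)) with hy
  have hys : (y : GolayPt → ℤ) ∈ singularSub := by
    refine singular_of_four fun p => ?_
    show (4 : ℤ) ∣ (twoInd (setOf24 a) : GolayPt → ℤ) p + (twoInd (setOf24 b) : GolayPt → ℤ) p
      - (twoInd (setOf24 (a ^^^ b)) : GolayPt → ℤ) p
    rw [twoInd_apply hoa, twoInd_apply hob, twoInd_apply hoc]
    simp only [mem_setOf24, Nat.testBit_xor]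
    cases a.testBit (enc p) <;> cases b.testBit (enc p) <;> decide
  have e : twoInd (setOf24 a) + twoInd (setOf24 b) = twoInd (setOf24 (a ^^^ b)) + y := by
    rw [hy]; abel
  simp only [pol]
  rw [e, h.q_add, h.q_oct hξ hβ hoc, h.eq_zero_of_singular hys, h.pol_oct_singular hβ hoc hys,
    h.q_oct hξ hβ hoa, h.q_oct hξ hβ hob]
  rfl

theorem pol_oct_split (hξ : ∀ v, q (xiMap v) = q v)
    (hβ : pol q (octVec 0x149f) (vv (enc.symm 0) (enc.symm 5)) = 0) {a b c : ℕ}
    (ha : (inCode a && pop a == 8) = true) (hb : (inCode b && pop b == 8) = true)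
    (hc : (inCode c && pop c == 8) = true) (hbc : (inCode (b ^^^ c) && pop (b ^^^ c) == 8) = true)
    (h1 : pol q (octVec a) (octVec c) = 0) (h2 : pol q (octVec a) (octVec (b ^^^ c)) = 0) :
    pol q (octVec a) (octVec b) = 0 := by
  simp only [Bool.and_eq_true, beq_iff_eq] at ha hb hc hbc
  set y := octVec b - octVec c - octVec (b ^^^ c) with hy
  have hys : (y : GolayPt → ℤ) ∈ singularSub := by
    refine singular_of_four fun p => ?_
    show (4 : ℤ) ∣ (octVec b : GolayPt → ℤ) p - (octVec c : GolayPt → ℤ) p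
      - (octVec (b ^^^ c) : GolayPt → ℤ) p
    rw [octVec_apply hb.1 hb.2, octVec_apply hc.1 hc.2, octVec_apply hbc.1 hbc.2]
    simp only [mem_setOf24, Nat.testBit_xor]
    cases b.testBit (enc p) <;> cases c.testBit (enc p) <;> decide
  have e : octVec b = octVec c + octVec (b ^^^ c) + y := by rw [hy]; abel
  rw [e, h.pol_add_right, h.pol_add_right, h1, h2, octVec_eq ha.1 ha.2,
    h.pol_oct_singular hβ (setOf24_mem_octads ha.1 ha.2) hys]
  rfl

end InvForm

/-- Whether the test of `pol_oct_four` applies. -/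
def fourOk (a b : ℕ) : Bool :=
  inCode a && pop a == 8 && (inCode b && pop b == 8) && (inCode (a ^^^ b) && pop (a ^^^ b) == 8)

/-- The auxiliary octads for basis octads meeting in two points. -/
def helperOct : List ℕ := [0x400a4f, 0x800c75]

theorem basis_pairs_ok : ∀ a ∈ golayBasis, ∀ b ∈ golayBasis, a.1 = b.1 ∨ fourOk a.1 b.1 = true ∨
    ∃ c ∈ helperOct, fourOk a.1 c = true ∧ fourOk a.1 (b.1 ^^^ c) = true ∧
      (inCode c && pop c == 8) = true ∧ (inCode (b.1 ^^^ c) && pop (b.1 ^^^ c) == 8) = true := by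
  decide +kernel

/-- The octad with odd tetrads used to move the odd vector. -/
def oddOct : ℕ := 0x200f68

theorem xi_odd_even : ∀ p : GolayPt,
    (2 : ℤ) ∣ xiTwo (fun r => if r ∈ setOf24 oddOct then -oddVec r else oddVec r) p / 2 := by
  decide +kernel

theorem xi_ff_four : ∀ p : GolayPt, (4 : ℤ) ∣ xiTwo (pairFun none none) p / 2 := by
  decide +kernel

namespace InvForm

variable {q : Lam → ZMod 2} (h : InvForm q)
include h

/-- A form invariant under the sextet map with trivial flag value vanishes. -/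
theorem eq_zero (hξ : ∀ v, q (xiMap v) = q v)
    (hβ : pol q (octVec 0x149f) (vv (enc.symm 0) (enc.symm 5)) = 0) (v : Lam) : q v = 0 := by
  have hξadd : ∀ u w : Lam, xiMap (u + w) = xiMap u + xiMap w := by
    intro u w
    obtain ⟨g, hg⟩ := exists_co0_xi
    rw [← hg, ← hg, ← hg]
    exact Subtype.ext (congrArg Subtype.val (g.2.1 u w))
  have hξpol : ∀ u w, pol q (xiMap u) (xiMap w) = pol q u w := fun u w => by
    simp only [pol, ← hξadd, hξ]
  set o : Lam := ⟨oddVec, oddVec_mem⟩
  let S0 : Set Lam := {x | (x : GolayPt → ℤ) ∈ singularSub} ∪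
    {x | ∃ b ∈ golayBasis, x = octVec b.1}
  have hoctS : ∀ b ∈ golayBasis, ∀ y : Lam, (y : GolayPt → ℤ) ∈ singularSub →
      pol q (octVec b.1) y = 0 := fun b hb y hy => by
    obtain ⟨hc, h8⟩ := basis_octads b hb
    rw [octVec_eq hc h8]
    exact h.pol_oct_singular hβ (setOf24_mem_octads hc h8) hy
  have hoo : ∀ a ∈ golayBasis, ∀ b ∈ golayBasis, pol q (octVec a.1) (octVec b.1) = 0 := by
    intro a ha b hb
    rcases basis_pairs_ok a ha b hb with e | e | ⟨c, -, e1, e2, e3, e4⟩
    · rw [e, h.pol_self]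
    · simp only [fourOk, Bool.and_eq_true] at e
      exact h.pol_oct_four hξ hβ (by simp [e.1.1]) (by simp [e.1.2]) (by simp [e.2])
    · obtain ⟨hc, h8⟩ := basis_octads a ha
      obtain ⟨hc', h8'⟩ := basis_octads b hb
      simp only [fourOk, Bool.and_eq_true] at e1 e2
      exact h.pol_oct_split hξ hβ (by simp [hc, h8]) (by simp [hc', h8']) e3 e4
        (h.pol_oct_four hξ hβ (by simp [e1.1.1]) (by simp [e1.1.2]) (by simp [e1.2]))
        (h.pol_oct_four hξ hβ (by simp [e2.1.1]) (by simp [e2.1.2]) (by simp [e2.2]))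
  have closure_zero : ∀ (S : Set Lam), (∀ s ∈ S, q s = 0) → (∀ s ∈ S, ∀ t ∈ S, pol q s t = 0) →
      ∀ x ∈ AddSubgroup.closure S, q x = 0 ∧ ∀ t ∈ S, pol q x t = 0 := by
    intro S h0 hp x hx
    induction hx using AddSubgroup.closure_induction with
    | mem s hs => exact ⟨h0 s hs, hp s hs⟩
    | zero => exact ⟨h.q_zero, fun t _ => h.pol_zero t⟩
    | add u w hu hw hu0 hw0 =>
      have hpu : pol q u w = 0 := by
        clear hw0
        induction hw using AddSubgroup.closure_induction with
        | mem s hs => exact hu0.2 s hs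
        | zero => rw [h.pol_comm, h.pol_zero]
        | add y t _ _ hy ht => rw [h.pol_add_right, hy, ht, add_zero]
        | neg y _ hy => rw [h.pol_comm, h.pol_neg, h.pol_comm, hy]
      exact ⟨by rw [h.q_add, hu0.1, hw0.1, hpu, add_zero, add_zero],
        fun t ht => by rw [h.pol_add, hu0.2 t ht, hw0.2 t ht, add_zero]⟩
    | neg u _ hu0 => exact ⟨by rw [h.neg_eq, hu0.1], fun t ht => by rw [h.pol_neg, hu0.2 t ht]⟩
  have hS0q : ∀ s ∈ S0, q s = 0 := by
    rintro s (hs | ⟨b, hb, rfl⟩)
    · exact h.eq_zero_of_singular hs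
    · obtain ⟨hc, h8⟩ := basis_octads b hb
      rw [octVec_eq hc h8]; exact h.q_oct hξ hβ (setOf24_mem_octads hc h8)
  have hS0p : ∀ s ∈ S0, ∀ t ∈ S0, pol q s t = 0 := by
    rintro s (hs | ⟨b, hb, rfl⟩) t (ht | ⟨b', hb', rfl⟩)
    · exact h.q_add_singular hs ht
    · rw [h.pol_comm]; exact hoctS b' hb' s hs
    · exact hoctS b hb t ht
    · exact hoo b hb b' hb'
  -- the subgroup spanned by `S0` contains the vectors with even coordinates
  have hgen : ∀ {H : AddSubgroup Lam}, (∀ s ∈ S0, s ∈ H) → ∀ x : Lam,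
      (x : GolayPt → ℤ) none • oddVec ∈ H.map leechLattice.subtype → x ∈ H := by
    intro H hH x hodd
    have := leech_mem (H := H.map leechLattice.subtype)
      (fun i => ⟨vv i none, hH _ (Or.inl (singular_pair _ _)), rfl⟩)
      (fun b hb => ⟨octVec b.1, hH _ (Or.inr ⟨b, hb, rfl⟩), by
        obtain ⟨hc, h8⟩ := basis_octads b hb
        exact octVec_apply hc h8⟩) x.2 hodd
    obtain ⟨y, hy, e⟩ := this
    rwa [show x = y from Subtype.ext e.symm]
  have heven : ∀ x : Lam, (2 : ℤ) ∣ (x : GolayPt → ℤ) none → x ∈ AddSubgroup.closure S0 := by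
    intro x hx
    refine hgen (fun s hs => AddSubgroup.subset_closure hs) x ?_
    obtain ⟨k, hk⟩ := hx
    refine ⟨k • o + k • o, AddSubgroup.subset_closure (Or.inl ?_), ?_⟩
    · refine ⟨(k • o + k • o : Lam).2, ⟨k * oddVec none, ?_⟩, fun i => ⟨2 * k * oddVec i, ?_⟩⟩
      · show k * oddVec none + k * oddVec none = _; ring
      · show k * oddVec i + k * oddVec i - (k * oddVec none + k * oddVec none) * oddVec i = _
        have : oddVec none = -3 := rfl
        rw [this]; ring
    · funext p
      show k * oddVec p + k * oddVec p = (x : GolayPt → ℤ) none * oddVec p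
      rw [hk]; ring
  have hsupp : setOf24 oddOct ∈ supports (golayCode : Set (GolayPt → ZMod 2)) :=
    ⟨wordOf oddOct, wordOf_mem_of_inCode (by decide +kernel), support₂_wordOf _⟩
  set o' := signMap hsupp o
  have hx0 : (2 : ℤ) ∣ (xiMap o' : GolayPt → ℤ) none := xi_odd_even none
  have hffx : (xiMap ff : GolayPt → ℤ) ∈ singularSub :=
    singular_of_four fun p => xi_ff_four p
  have hEff : pol q o' ff = 0 := by
    rw [← hξpol]
    exact (closure_zero S0 hS0q hS0p _ (heven _ hx0)).2 _ (Or.inl hffx)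
  -- `o` pairs trivially with `ff`
  have hff : pol q o ff = 0 := by
    have he : (2 : ℤ) ∣ ((o' - o : Lam) : GolayPt → ℤ) none := by
      show (2 : ℤ) ∣ (if none ∈ setOf24 oddOct then -oddVec none else oddVec none) - oddVec none
      have : oddVec none = -3 := rfl
      rw [this]; split_ifs <;> decide
    have h1 := (closure_zero S0 hS0q hS0p _ (heven _ he)).2 ff (Or.inl (singular_pair _ _))
    rw [show o' = (o' - o) + o by abel, h.pol_add, h1, zero_add] at hEff
    exact hEff
  -- `o` pairs trivially with every pair vector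
  have hdd : ∀ r : GolayPt, pol q o (vv r none) = 0 := by
    intro r
    by_cases hr : r = none
    · subst hr; exact hff
    obtain ⟨g₁, a1, -⟩ := exists_smul_two (Ne.symm hr)
    obtain ⟨g₂, a2, -⟩ := exists_smul_two hr
    set g : Equiv.Perm GolayPt := (g₁ : Equiv.Perm GolayPt) * (g₂ : Equiv.Perm GolayPt)⁻¹
    have hg : g ∈ M24 := mul_mem g₁.2 (inv_mem g₂.2)
    have hgr : g r = none := by
      have e1 : (g₁ : Equiv.Perm GolayPt) (enc.symm 0) = none := a1
      have e2 : (g₂ : Equiv.Perm GolayPt) (enc.symm 0) = r := a2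
      show (g₁ : Equiv.Perm GolayPt) ((g₂ : Equiv.Perm GolayPt)⁻¹ r) = none
      rw [← e2, Equiv.Perm.inv_def, Equiv.symm_apply_apply, e1]
    have e : permMap hg o = o + dd none r := by
      refine Subtype.ext (funext fun p => ?_)
      show oddVec (g p) = oddVec p + ((if p = none then 4 else 0) - (if p = r then 4 else 0))
      by_cases h1 : p = r
      · subst h1; rw [hgr]; simp [oddVec, hr]
      · have h2 : g p ≠ none := fun e => h1 (g.injective (e.trans hgr.symm))
        by_cases h3 : p = none <;> simp [oddVec, h1, h2, h3]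
        subst h3; simp [h2, Ne.symm hr]
    have hd4 : (dd none r : GolayPt → ℤ) ∈ singularSub := singular_of_four fun p => by
      show (4 : ℤ) ∣ (if p = none then 4 else 0) - (if p = r then 4 else 0)
      split_ifs <;> norm_num
    have h1 := h.perm g hg o
    rw [e, h.q_add, h.eq_zero_of_singular hd4] at h1
    have h2 : pol q o (dd none r) = 0 := by simpa using h1
    have e2 : vv r none = dd none r + vv r r := Subtype.ext (funext fun p => by
      show pairFun r none p = ((if p = none then 4 else 0) - (if p = r then 4 else 0)) + pairFun r r p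
      simp only [pairFun]; ring)
    rw [e2, h.pol_add_right, h2, h.pol_comm, h.pol_diag, h.pol_comm, hff, add_zero]
  have hoSing : ∀ y : Lam, (y : GolayPt → ℤ) ∈ singularSub → pol q o y = 0 := by
    intro y hy
    have hy' := mem_closure_of_singular hy
    clear hy
    induction hy' using AddSubgroup.closure_induction with
    | mem t ht =>
      rcases ht with ⟨⟨k, l⟩, rfl⟩ | ⟨w, rfl⟩
      · show pol q o (vv k l) = 0
        have h1 := congrArg (pol q o) (vv_chain k none l)
        rw [h.pol_add_right, h.pol_add_right, hdd k, vv_comm none l, hdd l, hdd none] at h1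
        simpa using h1.symm
      · show pol q _ (w + w) = 0
        rw [← zero_add (w + w), h.pol_mod_right, h.pol_comm, h.pol_zero]
    | zero => rw [h.pol_comm, h.pol_zero]
    | add y t _ _ hy ht => rw [h.pol_add_right, hy, ht, add_zero]
    | neg y _ hy => rw [h.pol_comm, h.pol_neg, h.pol_comm, hy]
  have hoOct : ∀ b ∈ golayBasis, pol q o (octVec b.1) = 0 := by
    intro b hb
    obtain ⟨hc, h8⟩ := basis_octads b hb
    have hsb : setOf24 b.1 ∈ supports (golayCode : Set (GolayPt → ZMod 2)) :=
      ⟨wordOf b.1, wordOf_mem_of_inCode hc, support₂_wordOf _⟩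
    set y := signMap hsb o - o - octVec b.1 with hy
    have hys : (y : GolayPt → ℤ) ∈ singularSub := by
      refine singular_of_four fun p => ?_
      show (4 : ℤ) ∣ (if p ∈ setOf24 b.1 then -oddVec p else oddVec p) - oddVec p
        - (octVec b.1 : GolayPt → ℤ) p
      rw [octVec_apply hc h8]
      rcases (show oddVec p = -3 ∨ oddVec p = 1 by
        by_cases hi : p = none <;> simp [oddVec, hi]) with e | e <;>
        by_cases hp : p ∈ setOf24 b.1 <;> simp [e, hp]
    have h1 := h.sign _ hsb o
    rw [show signMap hsb o = o + octVec b.1 + y by rw [hy]; abel, h.q_add, h.q_add,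
      hS0q _ (Or.inr ⟨b, hb, rfl⟩), h.eq_zero_of_singular hys, h.pol_add, hoSing y hys,
      hoctS b hb y hys] at h1
    simpa using h1
  have ho : q o = 0 := by
    rw [← h.sign _ hsupp o, ← hξ]
    exact (closure_zero S0 hS0q hS0p _ (heven _ hx0)).1
  have hoS : ∀ s ∈ S0, pol q o s = 0 := by
    rintro s (hs | ⟨b, hb, rfl⟩)
    exacts [hoSing s hs, hoOct b hb]
  have hS1q : ∀ s ∈ insert o S0, q s = 0 := by
    rintro s (rfl | hs)
    exacts [ho, hS0q s hs]
  have hS1p : ∀ s ∈ insert o S0, ∀ t ∈ insert o S0, pol q s t = 0 := by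
    rintro s (rfl | hs) t (rfl | ht)
    · exact h.pol_self _
    · exact hoS t ht
    · rw [h.pol_comm]; exact hoS s hs
    · exact hS0p s hs t ht
  refine (closure_zero _ hS1q hS1p v (hgen (fun s hs => AddSubgroup.subset_closure
    (Set.mem_insert_of_mem _ hs)) v ?_)).1
  exact ⟨(v : GolayPt → ℤ) none • o, zsmul_mem (AddSubgroup.subset_closure (Set.mem_insert _ _)) _, rfl⟩

end InvForm

end Cfsg.Agent.Lib.ThreeTransp
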