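/-
The `p`-core of a finite group is a normal `p`-subgroup.
-/
import Cfsg.Prelude.Def_Solvable

set_option autoImplicit false

namespace Cfsg.Agent.Lib.ThreeTransp

theorem pCore_le_sylow {G : Type*} [Group G] [Finite G] (p : ℕ) [Fact p.Prime] (P : Sylow p G) :
    Cfsg.pCore p G ≤ P := by
  refine sSup_le fun N hN => ?_
  obtain ⟨hNn, hNp⟩ := hN
  obtain ⟨Q, hQ⟩ := hNp.exists_le_sylow
  obtain ⟨g, rfl⟩ := MulAction.exists_smul_eq G Q P
  intro x hx
  rw [Sylow.coe_subgroup_smul]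
  exact (Subgroup.mem_smul_pointwise_iff_exists _ (MulAut.conj g) _).2
    ⟨g⁻¹ * x * g, hQ (by simpa using hNn.conj_mem x hx g⁻¹), by simp [MulAut.smul_def, mul_assoc]⟩

theorem pCore_normal' {G : Type*} [Group G] (p : ℕ) : (Cfsg.pCore p G).Normal := by
  refine ⟨fun x hx g => ?_⟩
  have h : (Cfsg.pCore p G).map (MulAut.conj g).toMonoidHom ≤ Cfsg.pCore p G := by
    rw [Subgroup.map_le_iff_le_comap]
    refine sSup_le fun N hN => ?_
    rw [← Subgroup.map_le_iff_le_comap]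
    refine le_trans ?_ (le_sSup hN)
    rintro _ ⟨y, hy, rfl⟩
    exact hN.1.conj_mem y hy g
  exact h ⟨x, hx, rfl⟩

theorem isPGroup_pCore_two {G : Type*} [Group G] [Finite G] :
    IsPGroup 2 (Cfsg.pCore 2 G) ∧ (Cfsg.pCore 2 G).Normal :=
  ⟨(Classical.arbitrary (Sylow 2 G)).2.to_le (pCore_le_sylow 2 _), pCore_normal' 2⟩

end Cfsg.Agent.Lib.ThreeTransp
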