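import Cfsg.Prelude.Def_Transfer
import Cfsg.Prelude.Def_MonsterType
import Cfsg.Agent.Lib.Classification.Extraspecial
import Cfsg.Agent.Lib.ThreeTransp.Core

/-!
Basic facts about extraspecial 2-subgroups containing their centralizer and normal in the centralizer
of their centre.
-/

set_option autoImplicit false

namespace Cfsg.Agent.Lib.ThreeTransp

open Cfsg.Agent.Lib.Classification

variable {G : Type*} [Group G] [Finite G]

/-- The centre of an extraspecial 2-subgroup is generated by an involution with the usual data. -/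
theorem exists_center_gen {Q : Subgroup G} (hE : Cfsg.IsExtraspecial 2 ↥Q) :
    ∃ z : G, orderOf z = 2 ∧ (Subgroup.center ↥Q).map Q.subtype = Subgroup.zpowers z ∧
      TwoExtraData Q z := by
  obtain ⟨⟨⟨z, hzQ⟩, hzc⟩, hne, -⟩ := (Nat.card_eq_two_iff' (1 : Subgroup.center ↥Q)).1 hE.2
  have hz1 : z ≠ 1 := fun e => hne (Subtype.ext (Subtype.ext e))
  have hz : orderOf z = 2 := by
    have h : (⟨z, hzQ⟩ : Q) ^ 2 = 1 := extraspecial_center_sq (hE := hE) hzc
    exact orderOf_eq_prime (congrArg Subtype.val h) hz1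
  have hzq : ∀ q ∈ Q, z * q = q * z := fun q hq =>
    (congrArg Subtype.val (Subgroup.mem_center_iff.1 hzc ⟨q, hq⟩)).symm
  have hD := TwoExtraData.of_isExtraspecial hE hzQ hz hzq
  refine ⟨z, hz, le_antisymm ?_ (Subgroup.zpowers_le.2 ⟨⟨z, hzQ⟩, hzc, rfl⟩), hD⟩
  rintro _ ⟨⟨c, hcQ⟩, hc, rfl⟩
  rcases hD.center_le c hcQ (fun q hq => (congrArg Subtype.val
    (Subgroup.mem_center_iff.1 hc ⟨q, hq⟩)).symm) with e | e
  · show c ∈ _; rw [e]; exact one_mem _
  · show c ∈ _; rw [e]; exact Subgroup.mem_zpowers z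

theorem eq_one_of_pow_two_pow {G : Type*} [Group G] {K : Subgroup G} (hK : Odd (Nat.card K)) {x : G}
    (hx : x ∈ K) {n : ℕ} (h : x ^ 2 ^ n = 1) : x = 1 := by
  rw [← orderOf_eq_one_iff]
  refine Nat.eq_one_of_dvd_coprimes (Nat.Coprime.pow_left n hK.coprime_two_left)
    (orderOf_dvd_of_pow_eq_one h) ?_
  have := orderOf_dvd_natCard (⟨x, hx⟩ : K)
  rwa [Subgroup.orderOf_mk] at this

/-- A fixed-point-free involution on a finite subgroup inverts it. -/
theorem inverts_of_fpf {K : Subgroup G} {t : G} (ht : t * t = 1) (hn : ∀ k ∈ K, t * k * t⁻¹ ∈ K)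
    (hf : ∀ k ∈ K, t * k = k * t → k = 1) : ∀ k ∈ K, t * k * t⁻¹ = k⁻¹ := by
  let f : K → K := fun k => ⟨(k : G)⁻¹ * (t * k * t⁻¹), K.mul_mem (K.inv_mem k.2) (hn _ k.2)⟩
  have hinj : Function.Injective f := by
    intro k l e
    have e' : (k : G)⁻¹ * (t * k * t⁻¹) = (l : G)⁻¹ * (t * l * t⁻¹) := congrArg Subtype.val e
    have h := hf _ (K.mul_mem k.2 (K.inv_mem l.2)) (mul_inv_eq_iff_eq_mul.1 (by
      calc t * ((k : G) * (l : G)⁻¹) * t⁻¹
          = k * ((k : G)⁻¹ * (t * k * t⁻¹)) * (t * l * t⁻¹)⁻¹ := by group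
        _ = (k : G) * (l : G)⁻¹ := by rw [e']; group))
    exact Subtype.ext (mul_inv_eq_one.1 h)
  intro k hk
  obtain ⟨l, hl⟩ := (Finite.injective_iff_surjective.1 hinj) ⟨k, hk⟩
  have hl' : (l : G)⁻¹ * (t * l * t⁻¹) = k := congrArg Subtype.val hl
  have htt : t⁻¹ = t := inv_eq_of_mul_eq_one_right ht
  rw [← hl', htt]
  calc t * ((l : G)⁻¹ * (t * l * t)) * t = t * (l : G)⁻¹ * t * (l : G) * (t * t) := by group
    _ = ((l : G)⁻¹ * (t * l * t))⁻¹ := by rw [ht, mul_inv_rev, mul_inv_rev, mul_inv_rev, htt]; group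

/-- Odd subgroups normalised by `Q` meet the centralizer of the central involution trivially. -/
theorem odd_centralizer_center {Q : Subgroup G} {z : G} (hD : TwoExtraData Q z)
    (hC : Subgroup.centralizer (Q : Set G) = Subgroup.zpowers z)
    (hN : Subgroup.centralizer ({z} : Set G) ≤ Subgroup.normalizer (Q : Set G))
    (hQ : IsPGroup 2 ↥Q) {K : Subgroup G} (hK : Odd (Nat.card K))
    (hQK : Q ≤ Subgroup.normalizer (K : Set G)) :
    ∀ k ∈ K, z * k = k * z → k = 1 := by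
  intro k hk hzk
  have hkn := Subgroup.mem_normalizer_iff.1 (hN (Subgroup.mem_centralizer_singleton_iff.2 hzk.symm))
  have hmem : k ∈ Subgroup.centralizer (Q : Set G) := fun q hq => by
    have h1 : q * k * q⁻¹ * k⁻¹ ∈ K :=
      K.mul_mem ((Subgroup.mem_normalizer_iff.1 (hQK hq) k).1 hk) (K.inv_mem hk)
    have h2 : q * k * q⁻¹ * k⁻¹ ∈ Q := by
      rw [show q * k * q⁻¹ * k⁻¹ = q * (k * q⁻¹ * k⁻¹) by group]
      exact Q.mul_mem hq ((hkn _).1 (Q.inv_mem hq))
    obtain ⟨n, hn⟩ := hQ ⟨_, h2⟩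
    have h3 := eq_one_of_pow_two_pow hK h1 (congrArg Subtype.val hn)
    exact mul_inv_eq_iff_eq_mul.1 (mul_inv_eq_one.1 h3)
  rw [hC] at hmem
  rcases TwoExtraData.mem_zpowers hD hmem with e | e
  · exact e
  · exact eq_one_of_pow_two_pow hK hk (n := 1) (by rw [pow_one, pow_two, e, hD.sq])

/-- The criterion by an involution whose centralizer has the centre in its 2-core. -/
theorem isLarge_of_core {Q : Subgroup G} (hE : Cfsg.IsExtraspecial 2 ↥Q)
    (h2 : Subgroup.centralizer (Q : Set G) = (Subgroup.center ↥Q).map Q.subtype)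
    (h3 : Subgroup.centralizer (((Subgroup.center ↥Q).map Q.subtype) : Set G) ≤
      Subgroup.normalizer (Q : Set G))
    {b : G} (hbQ : b ∈ Q) (hbZ : b ∉ (Subgroup.center ↥Q).map Q.subtype) (hb : orderOf b = 2)
    (hZ : (Subgroup.center ↥Q).map Q.subtype ≤
      (Cfsg.pCore 2 ↥(Subgroup.centralizer ({b} : Set G))).map
        (Subgroup.centralizer ({b} : Set G)).subtype) :
    Cfsg.IsLargeExtraspecial Q := by
  obtain ⟨z, hz, hZeq, hD⟩ := exists_center_gen hE
  refine ⟨hE, h2, h3, fun K hK hQK => ?_⟩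
  rw [hZeq] at h2 h3 hbZ hZ
  have hN : Subgroup.centralizer ({z} : Set G) ≤ Subgroup.normalizer (Q : Set G) := by
    rwa [← Subgroup.centralizer_closure, ← Subgroup.zpowers_eq_closure]
  have hnK : ∀ q ∈ Q, ∀ k ∈ K, q * k * q⁻¹ ∈ K := fun q hq k hk =>
    (Subgroup.mem_normalizer_iff.1 (hQK hq) k).1 hk
  have hfz := odd_centralizer_center hD h2 hN hE.1.1 hK hQK
  have hiz := inverts_of_fpf hD.sq (hnK z hD.mem) hfz
  have hbb : b * b = 1 := by rw [← pow_two, ← hb, pow_orderOf_eq_one]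
  -- the centralizer of `b`
  have hfb : ∀ k ∈ K, b * k = k * b → k = 1 := by
    intro k hk hbk
    have hP : IsPGroup 2 ↥(Cfsg.pCore 2 ↥(Subgroup.centralizer ({b} : Set G))) :=
      (Cfsg.Agent.Lib.ThreeTransp.isPGroup_pCore_two).1
    haveI := pCore_normal' (G := ↥(Subgroup.centralizer ({b} : Set G))) 2
    obtain ⟨⟨z', hz'⟩, hzP, rfl⟩ := hZ (Subgroup.mem_zpowers z)
    set kk : ↥(Subgroup.centralizer ({b} : Set G)) :=
      ⟨k, Subgroup.mem_centralizer_singleton_iff.2 hbk.symm⟩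
    have hmem : kk * ⟨z', hz'⟩ * kk⁻¹ * (⟨z', hz'⟩ : ↥(Subgroup.centralizer ({b} : Set G)))⁻¹ ∈
        Cfsg.pCore 2 _ :=
      Subgroup.mul_mem _ (Subgroup.Normal.conj_mem inferInstance _ hzP kk) (Subgroup.inv_mem _ hzP)
    obtain ⟨n, hn⟩ := hP ⟨_, hmem⟩
    have hiz' : ∀ x ∈ K, z' * x * z'⁻¹ = x⁻¹ := hiz
    have e : k * z' * k⁻¹ * z'⁻¹ = k * k := by
      calc k * z' * k⁻¹ * z'⁻¹ = k * (z' * k⁻¹ * z'⁻¹) := by group
        _ = k * k := by rw [hiz' _ (K.inv_mem hk), inv_inv]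
    have h4 : (k * z' * k⁻¹ * z'⁻¹) ^ 2 ^ n = 1 := congrArg (fun u : ↥(Cfsg.pCore 2 ↥(Subgroup.centralizer ({b} : Set G))) => ((u : ↥(Subgroup.centralizer ({b} : Set G))) : G)) hn
    rw [e, ← pow_two, ← pow_mul] at h4
    exact eq_one_of_pow_two_pow hK hk (n := n + 1) (by rwa [pow_succ'])
  -- a conjugate of `b` by an element of `Q` is `z * b`
  obtain ⟨q, hq, hqb⟩ : ∃ q ∈ Q, q * b * q⁻¹ = z * b := by
    by_contra hne
    push Not at hne
    refine hbZ ?_
    rcases hD.center_le b hbQ (fun q hq => (mul_inv_eq_iff_eq_mul.1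
      ((hD.conj_eq hq hbQ).resolve_right (hne q hq))).symm) with e | e
    · rw [e]; exact one_mem _
    · rw [e]; exact Subgroup.mem_zpowers z
  have hib := inverts_of_fpf hbb (hnK b hbQ) hfb
  rw [eq_bot_iff]
  intro k hk
  rw [Subgroup.mem_bot]
  -- `z b` centralizes `K`
  have hzb : z * b * k * (z * b)⁻¹ = k := by
    calc z * b * k * (z * b)⁻¹ = z * (b * k * b⁻¹) * z⁻¹ := by group
      _ = k := by rw [hib k hk, hiz _ (K.inv_mem hk), inv_inv]
  -- so `b` centralizes the conjugate of `k`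
  have h5 : b * (q⁻¹ * k * q) = q⁻¹ * k * q * b := by
    calc b * (q⁻¹ * k * q) = q⁻¹ * (q * b * q⁻¹ * k) * q := by group
      _ = q⁻¹ * (k * (q * b * q⁻¹)) * q := by rw [hqb, mul_inv_eq_iff_eq_mul.1 hzb]
      _ = q⁻¹ * k * q * b := by group
  have h6 := hfb _ (by simpa using hnK q⁻¹ (Q.inv_mem hq) k hk) h5
  calc k = q * (q⁻¹ * k * q) * q⁻¹ := by group
    _ = 1 := by rw [h6]; group

end Cfsg.Agent.Lib.ThreeTransp
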