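/-
Elementary facts about involutions and products of two involutions.
-/
import Mathlib

set_option autoImplicit false

namespace Cfsg.Agent.Lib.ThreeTransp

variable {G : Type*} [Group G]

theorem inv_sq {a : G} (ha : orderOf a = 2) : a * a = 1 := by
  have := pow_orderOf_eq_one a
  rwa [ha, pow_two] at this

theorem inv_inv_self {a : G} (ha : orderOf a = 2) : a⁻¹ = a :=
  inv_eq_of_mul_eq_one_left (inv_sq ha)

theorem inv_ne_one {a : G} (ha : orderOf a = 2) : a ≠ 1 := by
  rintro rfl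
  simp at ha

theorem orderOf_conj (g x : G) : orderOf (g * x * g⁻¹) = orderOf x :=
  (MulAut.conj g).orderOf_eq x

theorem isConj_conj (g x : G) : IsConj x (g * x * g⁻¹) := isConj_iff.2 ⟨g, rfl⟩

theorem commute_of_sq {a b : G} (ha : orderOf a = 2) (hb : orderOf b = 2) (h : (a * b) ^ 2 = 1) :
    Commute a b := by
  have h1 : (a * b)⁻¹ = a * b := by
    rw [inv_eq_iff_mul_eq_one, ← pow_two, h]
  rw [mul_inv_rev, inv_inv_self ha, inv_inv_self hb] at h1
  exact h1.symm

theorem sq_of_commute {a b : G} (ha : orderOf a = 2) (hb : orderOf b = 2) (h : Commute a b) :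
    (a * b) ^ 2 = 1 := by
  rw [h.mul_pow, pow_two, pow_two, inv_sq ha, inv_sq hb, mul_one]

theorem orderOf_mul_eq_two {a b : G} (ha : orderOf a = 2) (hb : orderOf b = 2) (hne : a ≠ b)
    (h : Commute a b) : orderOf (a * b) = 2 := by
  apply orderOf_eq_prime (sq_of_commute ha hb h)
  intro h1
  exact hne (by rw [mul_eq_one_iff_eq_inv, inv_inv_self hb] at h1; exact h1)

/-- `a` inverts the powers of `a * b`. -/
theorem inv_pow_mul {a b : G} (ha : orderOf a = 2) (hb : orderOf b = 2) (k : ℕ) :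
    a * (a * b) ^ k * a = ((a * b) ^ k)⁻¹ := by
  induction k with
  | zero => simp [inv_sq ha]
  | succ k ih =>
    have hab : a * (a * b) * a = (a * b)⁻¹ := by
      rw [mul_inv_rev, inv_inv_self ha, inv_inv_self hb, ← mul_assoc, inv_sq ha, one_mul]
    calc a * (a * b) ^ (k + 1) * a = (a * (a * b) ^ k * a) * (a * (a * b) * a) := by
          simp only [pow_succ, mul_assoc]
          rw [← mul_assoc a a, inv_sq ha, one_mul]
      _ = ((a * b) ^ (k + 1))⁻¹ := by rw [ih, hab, ← mul_inv_rev, ← pow_succ']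

/-- If `a * b` has odd order then `a` and `b` are conjugate. -/
theorem isConj_of_odd {a b : G} (ha : orderOf a = 2) (hb : orderOf b = 2)
    (hodd : Odd (orderOf (a * b))) : IsConj a b := by
  obtain ⟨k, hk⟩ := hodd
  refine isConj_iff.2 ⟨(a * b) ^ k, ?_⟩
  have h1 := inv_pow_mul ha hb k
  have h2 : a * ((a * b) ^ k)⁻¹ = (a * b) ^ k * a := by
    rw [← h1, ← mul_assoc, ← mul_assoc, inv_sq ha, one_mul]
  have h3 : (a * b) ^ (2 * k + 1) = 1 := hk ▸ pow_orderOf_eq_one (a * b)
  rw [mul_assoc, h2, ← mul_assoc, ← pow_add, ← two_mul]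
  rw [pow_succ, mul_eq_one_iff_eq_inv, mul_inv_rev, inv_inv_self ha, inv_inv_self hb] at h3
  rw [h3, mul_assoc, inv_sq ha, mul_one]

/-- If `a * b` has even order `2 * m` then `(a * b) ^ m` is an involution commuting with `a` and `b`,
and `a` times it is conjugate to `a` or to `b`. -/
theorem even_case {a b : G} (ha : orderOf a = 2) (hb : orderOf b = 2) {m : ℕ} (hm : 0 < m)
    (h : orderOf (a * b) = 2 * m) :
    orderOf ((a * b) ^ m) = 2 ∧ Commute a ((a * b) ^ m) ∧ Commute b ((a * b) ^ m) ∧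
      (IsConj a (a * (a * b) ^ m) ∨ IsConj b (a * (a * b) ^ m)) := by
  have h2 : orderOf ((a * b) ^ m) = 2 := by
    rw [orderOf_pow' _ hm.ne', h, Nat.gcd_eq_right (dvd_mul_left m 2), Nat.mul_div_cancel _ hm]
  have hz : ((a * b) ^ m)⁻¹ = (a * b) ^ m := inv_inv_self h2
  have hca : Commute a ((a * b) ^ m) := by
    have h1 := inv_pow_mul ha hb m
    rw [hz] at h1
    calc a * (a * b) ^ m = a * (a * (a * b) ^ m * a) := by rw [h1]
      _ = (a * b) ^ m * a := by
        rw [← mul_assoc a _ a, ← mul_assoc a, inv_sq ha, one_mul]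
  have hcb : Commute b ((a * b) ^ m) := by
    have : Commute (a * b) ((a * b) ^ m) := (Commute.refl _).pow_right m
    have h3 := hca.mul_left this
    rwa [← mul_assoc, inv_sq ha, one_mul] at h3
  refine ⟨h2, hca, hcb, ?_⟩
  have hx : ∀ k, (a * b) ^ k * a * ((a * b) ^ k)⁻¹ = (a * b) ^ (2 * k) * a := by
    intro k
    have h1 := inv_pow_mul ha hb k
    rw [mul_assoc, ← h1, ← mul_assoc a, ← mul_assoc a, inv_sq ha, one_mul, ← mul_assoc,
      ← pow_add, ← two_mul]
  rw [hca.eq]
  rcases Nat.even_or_odd m with ⟨k, hk⟩ | ⟨k, hk⟩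
  · left
    refine isConj_iff.2 ⟨(a * b) ^ k, ?_⟩
    rw [hx, hk, ← two_mul]
  · right
    have e : b = a * ((a * b) * a) * a := by
      rw [← mul_assoc, ← mul_assoc, inv_sq ha, one_mul, mul_assoc, inv_sq ha, mul_one]
    refine isConj_iff.2 ⟨(a * b) ^ k * a, ?_⟩
    have h1 := inv_pow_mul ha hb k
    have hc : Commute (a * b) ((a * b) ^ k) := (Commute.refl _).pow_right k
    calc (a * b) ^ k * a * b * ((a * b) ^ k * a)⁻¹
        = (a * b) ^ k * (a * b) * (a * ((a * b) ^ k)⁻¹) := by
          rw [mul_inv_rev, inv_inv_self ha]; simp only [mul_assoc]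
      _ = (a * b) ^ k * (a * b) * ((a * b) ^ k * a) := by
          rw [← h1, ← mul_assoc a, ← mul_assoc a, inv_sq ha, one_mul]
      _ = (a * b) ^ m * a := by
          rw [← mul_assoc, ← pow_succ, ← pow_add, hk]
          congr 2
          omega

end Cfsg.Agent.Lib.ThreeTransp
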