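/-
Conjugate involutions whose centralizers have extraspecial 2-cores containing their centralizers:
symmetry of the relation `x ∈ Q_z`, and the groups `Q_U`, `L_U` of a singular subgroup `U`.
-/
import Cfsg.Prelude.Def_Transfer
import Cfsg.Agent.Lib.ThreeTransp.Core
import Cfsg.Agent.Lib.ThreeTransp.Invol
import Cfsg.Agent.Lib.ThreeTransp.Extraspecial

set_option autoImplicit false

namespace Cfsg.Agent.Lib.ThreeTransp

variable {G : Type*} [Group G]

/-- `S` is extraspecial of exponent dividing 4 with centre `{1, u}`, in elementwise form. -/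
structure ExtraAt (S : Subgroup G) (u : G) : Prop where
  mem : u ∈ S
  ne_one : u ≠ 1
  sq : u * u = 1
  comm : ∀ a ∈ S, ∀ b ∈ S, a * b * a⁻¹ = b ∨ a * b * a⁻¹ = b * u
  central : ∀ b ∈ S, u * b = b * u
  center : ∀ a ∈ S, (∀ b ∈ S, a * b = b * a) → a = 1 ∨ a = u

namespace ExtraAt

variable {S : Subgroup G} {u : G}

theorem conj_conj (h : ExtraAt S u) {a b c : G} (ha : a ∈ S) (hb : b ∈ S) (hc : c ∈ S)
    (h1 : a * c * a⁻¹ = c * u) (h2 : b * c * b⁻¹ = c * u) : a * b * c = c * (a * b) := by
  have h4 : b * c = c * u * b := mul_inv_eq_iff_eq_mul.1 h2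
  have h3 : a * c = c * u * a := mul_inv_eq_iff_eq_mul.1 h1
  calc a * b * c = a * (c * u * b) := by rw [mul_assoc, h4]
    _ = (a * c) * (u * b) := by simp only [mul_assoc]
    _ = c * (u * a) * (u * b) := by rw [h3]; simp only [mul_assoc]
    _ = c * (a * u) * (u * b) := by rw [h.central a ha]
    _ = c * a * ((u * u) * b) := by simp only [mul_assoc]
    _ = c * (a * b) := by rw [h.sq, one_mul, mul_assoc]

/-- Double centralizer: an element centralized by the centralizer of a subgroup `W ∋ u` lies in `W`. -/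
theorem mem_of_forall [Finite G] (h : ExtraAt S u) {W : Subgroup G} (hW : W ≤ S) (huW : u ∈ W)
    {a : G} (ha : a ∈ S) (hc : ∀ q ∈ S, (∀ w ∈ W, q * w = w * q) → q * a = a * q) : a ∈ W := by
  suffices H : ∀ T : Set G, T.Finite → T ⊆ W → ∀ a ∈ S,
      (∀ q ∈ S, (∀ w ∈ T, q * w = w * q) → q * a = a * q) → a ∈ W from
    H W (Set.toFinite _) le_rfl a ha hc
  intro T hT
  induction T, hT using Set.Finite.induction_on with
  | empty =>
    intro _ a ha hc
    rcases h.center a ha (fun b hb => (hc b hb (by simp)).symm) with rfl | rfl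
    · exact W.one_mem
    · exact huW
  | @insert w T hwT hTfin ih =>
    intro hTW a ha hc
    have hTW' : T ⊆ W := (Set.subset_insert _ _).trans hTW
    have hw : w ∈ W := hTW (Set.mem_insert _ _)
    by_cases h0 : ∀ q ∈ S, (∀ v ∈ T, q * v = v * q) → q * a = a * q
    · exact ih hTW' a ha h0
    · push Not at h0
      obtain ⟨q0, hq0, hq0T, hq0a⟩ := h0
      have hq0w : ¬ q0 * w = w * q0 := fun e => hq0a (hc q0 hq0 (by
        intro v hv; rcases hv with rfl | hv; exacts [e, hq0T v hv]))
      have := ih hTW' (a * w) (S.mul_mem ha (hW hw)) (by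
        intro q hq hqT
        by_cases hqw : q * w = w * q
        · have hqa := hc q hq (by intro v hv; rcases hv with rfl | hv; exacts [hqw, hqT v hv])
          rw [← mul_assoc, hqa, mul_assoc, hqw, mul_assoc]
        · have hw' : ∀ {p : G}, p ∈ S → ¬ p * w = w * p → p * w * p⁻¹ = w * u := fun {p} hp hn =>
            (h.comm p hp w (hW hw)).resolve_left (fun e => hn (mul_inv_eq_iff_eq_mul.1 e))
          have ha' : q0 * a * q0⁻¹ = a * u :=
            (h.comm q0 hq0 a ha).resolve_left (fun e => hq0a (mul_inv_eq_iff_eq_mul.1 e))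
          have hqa : q * a * q⁻¹ = a * u := by
            rcases h.comm q hq a ha with e | e
            · exfalso
              have hp : (q * q0) * w = w * (q * q0) :=
                h.conj_conj hq hq0 (hW hw) (hw' hq hqw) (hw' hq0 hq0w)
              have hpa := hc (q * q0) (S.mul_mem hq hq0) (by
                intro v hv; rcases hv with rfl | hv
                · exact hp
                · rw [mul_assoc, hq0T v hv, ← mul_assoc, hqT v hv, mul_assoc])
              apply hq0a
              have e' : q * a = a * q := mul_inv_eq_iff_eq_mul.1 e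
              calc q0 * a = q⁻¹ * ((q * q0) * a) := by group
                _ = q⁻¹ * (a * q) * q0 := by rw [hpa]; group
                _ = q⁻¹ * (q * a) * q0 := by rw [e']
                _ = a * q0 := by group
            · exact e
          have hqw' := hw' hq hqw
          have : q * (a * w) * q⁻¹ = a * w := by
            calc q * (a * w) * q⁻¹ = (q * a * q⁻¹) * (q * w * q⁻¹) := by group
              _ = a * u * (w * u) := by rw [hqa, hqw']
              _ = a * ((u * w) * u) := by group
              _ = a * ((w * u) * u) := by rw [h.central w (hW hw)]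
              _ = a * w := by rw [mul_assoc w u u, h.sq, mul_one]
          exact mul_inv_eq_iff_eq_mul.1 this)
      simpa using W.mul_mem this (W.inv_mem hw)

end ExtraAt

/-- The 2-core of the centralizer of `x`, inside `G`. -/
def coreAt (x : G) : Subgroup G :=
  (Cfsg.pCore 2 ↥(Subgroup.centralizer ({x} : Set G))).map
    (Subgroup.centralizer ({x} : Set G)).subtype

theorem coreAt_comm {x q : G} (hq : q ∈ coreAt x) : q * x = x * q := by
  obtain ⟨y, -, rfl⟩ := hq
  exact Subgroup.mem_centralizer_singleton_iff.1 y.2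

theorem coreAt_conj_mem {x c q : G} (hc : c * x = x * c) (hq : q ∈ coreAt x) :
    c * q * c⁻¹ ∈ coreAt x := by
  obtain ⟨y, hy, rfl⟩ := hq
  haveI := pCore_normal' (G := ↥(Subgroup.centralizer ({x} : Set G))) 2
  exact ⟨⟨c, Subgroup.mem_centralizer_singleton_iff.2 hc⟩ * y * ⟨c, _⟩⁻¹,
    Subgroup.Normal.conj_mem inferInstance y hy _, rfl⟩

theorem coreAt_map_conj [Finite G] (g x : G) {q : G} (hq : q ∈ coreAt x) :
    g * q * g⁻¹ ∈ coreAt (g * x * g⁻¹) := by
  set C' := Subgroup.centralizer ({g * x * g⁻¹} : Set G)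
  set N := (coreAt x).map (MulAut.conj g).toMonoidHom with hN
  have hNC : N ≤ C' := by
    rintro _ ⟨y, hy, rfl⟩
    rw [Subgroup.mem_centralizer_singleton_iff]
    simp only [MulEquiv.coe_toMonoidHom, MulAut.conj_apply]
    calc g * y * g⁻¹ * (g * x * g⁻¹) = g * (y * x) * g⁻¹ := by group
      _ = g * (x * y) * g⁻¹ := by rw [coreAt_comm hy]
      _ = g * x * g⁻¹ * (g * y * g⁻¹) := by group
  have hn : (N.subgroupOf C').Normal := by
    refine ⟨fun y hy c => ?_⟩
    obtain ⟨v, hv, hve⟩ := Subgroup.mem_map.1 (Subgroup.mem_subgroupOf.1 hy)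
    simp only [MulEquiv.coe_toMonoidHom, MulAut.conj_apply] at hve
    rw [Subgroup.mem_subgroupOf]
    have hc := Subgroup.mem_centralizer_singleton_iff.1 c.2
    refine ⟨(g⁻¹ * (c : G) * g) * v * (g⁻¹ * (c : G) * g)⁻¹, coreAt_conj_mem ?_ hv, ?_⟩
    · calc g⁻¹ * (c : G) * g * x = g⁻¹ * ((c : G) * (g * x * g⁻¹)) * g := by group
        _ = g⁻¹ * (g * x * g⁻¹ * (c : G)) * g := by rw [hc]
        _ = x * (g⁻¹ * c * g) := by group
    · simp only [MulEquiv.coe_toMonoidHom, MulAut.conj_apply, Subgroup.coe_mul, InvMemClass.coe_inv,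
        ← hve]
      group
  have hp : IsPGroup 2 (N.subgroupOf C') :=
    (((isPGroup_pCore_two (G := ↥(Subgroup.centralizer ({x} : Set G)))).1.map _).map
      (MulAut.conj g).toMonoidHom).of_equiv (Subgroup.subgroupOfEquivOfLe hNC).symm
  have hle : N.subgroupOf C' ≤ Cfsg.pCore 2 C' := le_sSup ⟨hn, hp⟩
  have hmem : g * q * g⁻¹ ∈ N := ⟨q, hq, rfl⟩
  exact ⟨⟨_, hNC hmem⟩, hle (Subgroup.mem_subgroupOf.2 hmem), rfl⟩

section Setting

variable [Finite G] {z : G} (hz : orderOf z = 2) (hE : Cfsg.IsExtraspecial 2 ↥(coreAt z))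
  (hC : Subgroup.centralizer ((coreAt z : Subgroup G) : Set G) ≤ coreAt z)

include hz hE hC

theorem extraAt_base : ExtraAt (coreAt z) z := by
  have hzmem : z ∈ coreAt z := hC fun q hq => coreAt_comm hq
  have hzc : (⟨z, hzmem⟩ : coreAt z) ∈ Subgroup.center (coreAt z) :=
    Subgroup.mem_center_iff.2 fun q => Subtype.ext (coreAt_comm q.2)
  have hz1 := inv_ne_one hz
  have two : ∀ c : coreAt z, c ∈ Subgroup.center (coreAt z) → (c : G) = 1 ∨ (c : G) = z := by
    intro c hc
    by_cases h : c = 1
    · exact Or.inl (congrArg Subtype.val h)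
    · exact Or.inr (congrArg Subtype.val (extraspecial_center_eq (hE := hE) hc hzc h
        (fun e => hz1 (congrArg Subtype.val e))))
  refine ⟨hzmem, hz1, inv_sq hz, fun a ha b hb => ?_, fun b hb => (coreAt_comm hb).symm,
    fun a ha h => two ⟨a, ha⟩ (Subgroup.mem_center_iff.2 fun b => Subtype.ext (h b b.2).symm)⟩
  have hmem : (⟨b, hb⟩ : coreAt z)⁻¹ * (⟨a, ha⟩ * ⟨b, hb⟩ * ⟨a, ha⟩⁻¹) ∈
      Subgroup.center (coreAt z) := by
    rw [← hE.1.2.2]
    have := Subgroup.commutator_mem_commutator (Subgroup.mem_top (⟨b, hb⟩ : coreAt z)⁻¹)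
      (Subgroup.mem_top (⟨a, ha⟩ : coreAt z))
    rwa [commutatorElement_def, inv_inv, mul_assoc, mul_assoc, ← mul_assoc (⟨a, ha⟩ : coreAt z)]
      at this
  rcases two _ hmem with h | h
  · left
    have h' : b⁻¹ * (a * b * a⁻¹) = 1 := h
    rwa [inv_mul_eq_one, eq_comm] at h'
  · right
    have h' : b⁻¹ * (a * b * a⁻¹) = z := h
    rwa [inv_mul_eq_iff_eq_mul] at h'

theorem extraAt_conj (g : G) : ExtraAt (coreAt (g * z * g⁻¹)) (g * z * g⁻¹) := by
  have h := extraAt_base hz hE hC
  have back : ∀ {q}, q ∈ coreAt (g * z * g⁻¹) → g⁻¹ * q * g ∈ coreAt z := by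
    intro q hq
    have := coreAt_map_conj g⁻¹ _ hq
    simpa [mul_assoc] using this
  have hinv : ∀ y : G, g * (g⁻¹ * y * g) * g⁻¹ = y := fun y => by group
  refine ⟨coreAt_map_conj g z h.mem, fun e => h.ne_one (conj_eq_one_iff.1 e),
    by rw [show g * z * g⁻¹ * (g * z * g⁻¹) = g * (z * z) * g⁻¹ by group, h.sq]; group,
    fun a ha b hb => ?_, fun b hb => (coreAt_comm hb).symm, fun a ha hab => ?_⟩
  · have e : a * b * a⁻¹ = g * ((g⁻¹ * a * g) * (g⁻¹ * b * g) * (g⁻¹ * a * g)⁻¹) * g⁻¹ := by group
    rcases h.comm _ (back ha) _ (back hb) with h1 | h1 <;> rw [h1] at e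
    · exact Or.inl (e.trans (by group))
    · exact Or.inr (e.trans (by group))
  · rcases h.center _ (back ha) (fun b hb => by
      have h1 := hab _ (coreAt_map_conj g z hb)
      calc g⁻¹ * a * g * b = g⁻¹ * (a * (g * b * g⁻¹)) * g := by group
        _ = g⁻¹ * ((g * b * g⁻¹) * a) * g := by rw [h1]
        _ = b * (g⁻¹ * a * g) := by group) with e | e
    · left; rw [← hinv a, e]; group
    · right; rw [← hinv a, e]

theorem centralizer_coreAt_conj (g : G) :
    Subgroup.centralizer ((coreAt (g * z * g⁻¹) : Subgroup G) : Set G) ≤ coreAt (g * z * g⁻¹) := by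
  intro a ha
  rw [show a = g * (g⁻¹ * a * g) * g⁻¹ by group]
  refine coreAt_map_conj g z (hC fun q hq => ?_)
  have := ha _ (coreAt_map_conj g z hq)
  calc q * (g⁻¹ * a * g) = g⁻¹ * (g * q * g⁻¹ * a) * g := by group
    _ = g⁻¹ * (a * (g * q * g⁻¹)) * g := by rw [this]
    _ = g⁻¹ * a * g * q := by group

/-- Singularity is symmetric: if a conjugate `x` of `z` lies in `Q_z` then `z` lies in `Q_x`. -/
theorem coreAt_symm (g : G) (hx : g * z * g⁻¹ ∈ coreAt z) : z ∈ coreAt (g * z * g⁻¹) := by
  have hX := extraAt_conj hz hE hC g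
  have hXC := centralizer_coreAt_conj hz hE hC g
  have hZ := extraAt_base hz hE hC
  obtain ⟨x, hxdef⟩ : ∃ x, x = g * z * g⁻¹ := ⟨_, rfl⟩
  rw [← hxdef] at hX hXC hx ⊢
  by_contra hzB
  have hxz : x ≠ z := fun e => hzB (by simpa [e] using hX.mem)
  have hzx : z * x = x * z := (coreAt_comm hx).symm
  have hzinv : z⁻¹ = z := inv_inv_self hz
  -- an element of `coreAt z` moving `x`
  obtain ⟨q0, hq0, hq0x⟩ : ∃ q ∈ coreAt z, ¬ x * q = q * x := by
    by_contra hh
    push Not at hh
    rcases hZ.center x hx hh with e | e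
    · exact hX.ne_one e
    · exact hxz e
  have hq0x' : q0 * x * q0⁻¹ = x * z := (hZ.comm q0 hq0 x hx).resolve_left
    (fun e => hq0x (mul_inv_eq_iff_eq_mul.1 e).symm)
  -- if some `t` in `coreAt x` maps `z` to `z * x`, the triangle is symmetric
  by_cases htri : ∃ t ∈ coreAt x, t * z * t⁻¹ = z * x
  · obtain ⟨t, ht, htz⟩ := htri
    have e1 : t * x * t⁻¹ = x := by rw [coreAt_comm ht]; group
    have e2 : q0 * z * q0⁻¹ = z := by rw [coreAt_comm hq0]; group
    have e3 : t * (z * x) * t⁻¹ = z := by
      calc t * (z * x) * t⁻¹ = (t * z * t⁻¹) * (t * x * t⁻¹) := by group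
        _ = z * (x * x) := by rw [htz, e1, mul_assoc]
        _ = z := by rw [hX.sq, mul_one]
    -- the product `w` exchanges `x` and `z`
    have e4 : q0 * (z * x) * q0⁻¹ = x := by
      calc q0 * (z * x) * q0⁻¹ = (q0 * z * q0⁻¹) * (q0 * x * q0⁻¹) := by group
        _ = z * (x * z) := by rw [e2, hq0x']
        _ = x := by rw [← hzx, ← mul_assoc, hZ.sq, one_mul]
    have w1 : q0 * t * q0 * z * (q0 * t * q0)⁻¹ = x := by
      calc q0 * t * q0 * z * (q0 * t * q0)⁻¹
          = q0 * (t * (q0 * z * q0⁻¹) * t⁻¹) * q0⁻¹ := by group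
        _ = x := by rw [e2, htz, e4]
    have w2 : q0 * t * q0 * x * (q0 * t * q0)⁻¹ = z := by
      calc q0 * t * q0 * x * (q0 * t * q0)⁻¹
          = q0 * (t * (q0 * x * q0⁻¹) * t⁻¹) * q0⁻¹ := by group
        _ = z := by rw [hq0x', ← hzx, e3, e2]
    have := coreAt_map_conj (q0 * t * q0) z hx
    rw [w1, w2] at this
    exact hzB this
  push Not at htri
  -- commutation modulo `x`
  have hxc : ∀ t ∈ coreAt x, x * t = t * x := hX.central
  have hR : ∀ t ∈ coreAt x, (z * t * z⁻¹ = t ∨ z * t * z⁻¹ = t * x) → z * t = t * z := by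
    intro t ht h
    rcases h with h | h
    · exact mul_inv_eq_iff_eq_mul.1 h
    · exfalso
      refine htri t ht ?_
      have h' : z * t = t * x * z := mul_inv_eq_iff_eq_mul.1 h
      calc t * z * t⁻¹ = x * (x * (t * z)) * t⁻¹ := by rw [← mul_assoc x x, hX.sq, one_mul]
        _ = x * (z * t) * t⁻¹ := by rw [← mul_assoc x t z, hxc t ht, ← h']
        _ = z * x := by rw [mul_assoc, mul_assoc, mul_inv_cancel, mul_one, hzx]
  by_cases hab : ∃ p ∈ coreAt z, ∃ p' ∈ coreAt z, p * x = x * p ∧ p' * x = x * p' ∧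
      p * p' * p⁻¹ = p' * z
  · obtain ⟨p, hp, p', hp', hpx, hp'x, hpp'⟩ := hab
    -- `A`: common part of the two cores
    have hA : ∀ a ∈ coreAt x, a ∈ coreAt z → a = 1 ∨ a = x := by
      intro a haX haZ
      let W : Subgroup G := Subgroup.closure {x, z}
      have hW : W ≤ coreAt z := (Subgroup.closure_le _).2 (by
        rintro _ (rfl | rfl); exacts [hx, hZ.mem])
      have hmem : a ∈ W := by
        refine hZ.mem_of_forall hW (Subgroup.subset_closure (by simp)) haZ ?_
        intro q hq hqW
        have hqx : q * x = x * q := hqW x (Subgroup.subset_closure (by simp))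
        have h1 := coreAt_conj_mem (c := q) hqx haX
        rcases hZ.comm q hq a haZ with e | e
        · exact mul_inv_eq_iff_eq_mul.1 e
        · exfalso
          rw [e] at h1
          exact hzB (by simpa using (coreAt x).mul_mem ((coreAt x).inv_mem haX) h1)
      have h4 : ∀ w ∈ W, w = 1 ∨ w = x ∨ w = z ∨ w = x * z := by
        intro w hw
        induction hw using Subgroup.closure_induction with
        | mem w hw => rcases hw with rfl | rfl <;> simp
        | one => simp
        | mul u v _ _ hu hv =>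
          have a1 : x * (x * z) = z := by rw [← mul_assoc, hX.sq, one_mul]
          have a2 : z * (x * z) = x := by rw [← mul_assoc, hzx, mul_assoc, hZ.sq, mul_one]
          have a3 : x * z * x = z := by rw [mul_assoc, hzx, a1]
          have a4 : x * z * (x * z) = 1 := by rw [← mul_assoc, a3, hZ.sq]
          rcases hu with rfl | rfl | rfl | rfl <;> rcases hv with rfl | rfl | rfl | rfl <;>
            simp [hX.sq, hZ.sq, hzx, a1, a2, a3, a4, mul_assoc] <;> simp [← mul_assoc, hX.sq, hZ.sq]
        | inv u _ hu =>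
          have hxinv : x⁻¹ = x := inv_eq_of_mul_eq_one_left hX.sq
          rcases hu with rfl | rfl | rfl | rfl <;> simp [hxinv, hzinv, hzx]
      rcases h4 a hmem with e | e | e | e
      · exact Or.inl e
      · exact Or.inr e
      · exact absurd (e ▸ haX) hzB
      · exact absurd (by
          have := (coreAt x).mul_mem ((coreAt x).inv_mem hX.mem) (e ▸ haX)
          simpa using this) hzB
    -- conjugation by elements of `C_{Q_z}(x)` is trivial on `C_{Q_x}(z)` modulo `x`
    have hRP : ∀ r ∈ coreAt x, r * z = z * r → ∀ s ∈ coreAt z, s * x = x * s →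
        s * r * s⁻¹ = r ∨ s * r * s⁻¹ = r * x := by
      intro r hr hrz s hs hsx
      have h1 := (coreAt x).mul_mem ((coreAt x).inv_mem hr) (coreAt_conj_mem (c := s) hsx hr)
      have h2 : r⁻¹ * (s * r * s⁻¹) ∈ coreAt z := by
        have h5 := coreAt_conj_mem (c := r⁻¹) (q := s)
          ((Commute.inv_left (hrz : Commute r z)).eq) hs
        have := (coreAt z).mul_mem h5 ((coreAt z).inv_mem hs)
        simpa [mul_assoc] using this
      rcases hA _ h1 h2 with e | e
      · left; rw [inv_mul_eq_iff_eq_mul, mul_one] at e; exact e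
      · right; rw [inv_mul_eq_iff_eq_mul] at e; exact e
    -- `[t, z]` commutes with `z`
    have hδ : ∀ t ∈ coreAt x, z * (t⁻¹ * (z * t * z⁻¹)) = (t⁻¹ * (z * t * z⁻¹)) * z := by
      intro t ht
      have hu : t⁻¹ * (z * t * z⁻¹) ∈ coreAt x :=
        (coreAt x).mul_mem ((coreAt x).inv_mem ht) (coreAt_conj_mem hzx ht)
      refine hR _ hu ?_
      have e : z * (t⁻¹ * (z * t * z⁻¹)) * z⁻¹ = (t⁻¹ * (z * t * z⁻¹))⁻¹ := by
        simp only [mul_inv_rev, inv_inv, hzinv, mul_assoc, hZ.sq, mul_one]
      have hs : ∀ v ∈ coreAt x, v⁻¹ = v ∨ v⁻¹ = v * x := by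
        intro v hv
        have hsq : ∀ b ∈ coreAt x, v * v * b = b * (v * v) := by
          intro b hb
          rcases hX.comm v hv b hb with h | h
          · have h' : v * b = b * v := mul_inv_eq_iff_eq_mul.1 h
            rw [mul_assoc, h', ← mul_assoc, h', mul_assoc]
          · exact hX.conj_conj hv hv hb h h
        rcases hX.center _ ((coreAt x).mul_mem hv hv) hsq with h | h
        · exact Or.inl (inv_eq_of_mul_eq_one_left h)
        · right
          refine inv_eq_of_mul_eq_one_right ?_
          rw [← mul_assoc, h, hX.sq]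
      rcases hs _ hu with h | h <;> rw [h] at e
      · exact Or.inl e
      · exact Or.inr e
    -- the centralizer of `C_{Q_x}(z)` in `Q_x` centralizes `z`
    have hperp : ∀ d ∈ coreAt x, (∀ r ∈ coreAt x, z * r = r * z → d * r = r * d) → z * d = d * z := by
      intro d hd hdR
      refine hR d hd ?_
      have hu : d⁻¹ * (z * d * z⁻¹) ∈ coreAt x :=
        (coreAt x).mul_mem ((coreAt x).inv_mem hd) (coreAt_conj_mem hzx hd)
      have hcen : ∀ t ∈ coreAt x, (d⁻¹ * (z * d * z⁻¹)) * t = t * (d⁻¹ * (z * d * z⁻¹)) := by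
        intro t ht
        -- `[zdz, t] = [d, ztz] = [d, t]`
        have hmm : t⁻¹ * (z * t * z⁻¹) ∈ coreAt x :=
          (coreAt x).mul_mem ((coreAt x).inv_mem ht) (coreAt_conj_mem hzx ht)
        have h1 := hdR _ hmm (hδ t ht)
        have hzd : z * d * z⁻¹ ∈ coreAt x := coreAt_conj_mem hzx hd
        have h2 : d * (z * t * z⁻¹) * d⁻¹ = (d * t * d⁻¹) * (t⁻¹ * (z * t * z⁻¹)) := by
          calc d * (z * t * z⁻¹) * d⁻¹ = (d * t * d⁻¹) * (d * (t⁻¹ * (z * t * z⁻¹)) * d⁻¹) := by
                group
            _ = _ := by rw [h1, mul_inv_cancel_right]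
        have h3 : (z * d * z⁻¹) * t * (z * d * z⁻¹)⁻¹ = z * (d * (z * t * z⁻¹) * d⁻¹) * z⁻¹ := by
          simp only [mul_inv_rev, hzinv, mul_assoc]
        have h4 : z * (t⁻¹ * (z * t * z⁻¹)) * z⁻¹ = t⁻¹ * (z * t * z⁻¹) := by
          rw [hδ t ht, mul_inv_cancel_right]
        rcases hX.comm d hd t ht with e | e
        · rw [e] at h2
          rw [h2, ← mul_assoc t, mul_inv_cancel, one_mul] at h3
          have h3' : z * d * z⁻¹ * t * (z * d * z⁻¹)⁻¹ = t := by
            rw [h3]; simp [mul_assoc, hzinv, hZ.sq]; rw [← mul_assoc, hZ.sq, one_mul]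
          have a1 : (z * d * z⁻¹) * t = t * (z * d * z⁻¹) := mul_inv_eq_iff_eq_mul.1 h3'
          have a2 : d⁻¹ * t = t * d⁻¹ :=
            ((Commute.inv_left (mul_inv_eq_iff_eq_mul.1 e : Commute d t))).eq
          rw [mul_assoc, a1, ← mul_assoc, a2, mul_assoc]
        · rw [e] at h2
          have h2' : d * (z * t * z⁻¹) * d⁻¹ = (z * t * z⁻¹) * x := by
            rw [h2, mul_assoc t x, hxc _ hmm, ← mul_assoc, ← mul_assoc, mul_inv_cancel, one_mul]
          rw [h2'] at h3
          have h3' : z * d * z⁻¹ * t * (z * d * z⁻¹)⁻¹ = t * x := by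
            rw [h3]
            calc z * (z * t * z⁻¹ * x) * z⁻¹ = (z * z) * t * (z⁻¹ * x * z⁻¹) := by group
              _ = t * x := by
                rw [hZ.sq, one_mul, hzinv, hzx, mul_assoc x z z, hZ.sq, mul_one]
          have hd' : d⁻¹ * t * d⁻¹⁻¹ = t * x := by
            rcases hX.comm d⁻¹ ((coreAt x).inv_mem hd) t ht with e' | e'
            · exfalso
              have e'' : d * t * d⁻¹ = t := by
                have := ((Commute.inv_left (mul_inv_eq_iff_eq_mul.1 e' : Commute d⁻¹ t))).eq
                rw [inv_inv] at this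
                rw [this, mul_inv_cancel_right]
              rw [e''] at e
              exact hX.ne_one (mul_eq_left.1 e.symm)
            · exact e'
          exact hX.conj_conj ((coreAt x).inv_mem hd) hzd ht hd' h3'
      rcases hX.center _ hu hcen with e | e
      · left; rw [inv_mul_eq_iff_eq_mul, mul_one] at e; exact e
      · right; rw [inv_mul_eq_iff_eq_mul] at e; exact e
    -- each `s` moves `t` by an element of `C_{Q_x}(z)`
    have hmove : ∀ t ∈ coreAt x, ∀ s ∈ coreAt z, s * x = x * s →
        ∃ r ∈ coreAt x, r * z = z * r ∧ s * t * s⁻¹ = t * r := by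
      intro t ht s hs hsx
      refine ⟨t⁻¹ * (s * t * s⁻¹), (coreAt x).mul_mem ((coreAt x).inv_mem ht)
        (coreAt_conj_mem hsx ht), (hperp _ ((coreAt x).mul_mem ((coreAt x).inv_mem ht)
        (coreAt_conj_mem hsx ht)) ?_).symm, by group⟩
      intro r hr hzr
      -- `[s t s⁻¹, r] = [t, r]`
      have hr' := hRP r hr hzr.symm s hs hsx
      have hst := coreAt_conj_mem hsx ht
      have key : (s * t * s⁻¹) * r * (s * t * s⁻¹)⁻¹ = t * r * t⁻¹ := by
        have hsr : s⁻¹ * r * s = r ∨ s⁻¹ * r * s = r * x := by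
          have := hRP r hr hzr.symm s⁻¹ ((coreAt z).inv_mem hs) (Commute.inv_left (hsx : Commute s x)).eq
          rwa [inv_inv] at this
        rcases hX.comm t ht r hr with e | e
        · rcases hsr with e' | e'
          · calc _ = s * (t * (s⁻¹ * r * s) * t⁻¹) * s⁻¹ := by group
              _ = s * r * s⁻¹ := by rw [e', e]
              _ = s * (s⁻¹ * r * s) * s⁻¹ := by rw [e']
              _ = _ := by rw [e]; group
          · calc _ = s * (t * (s⁻¹ * r * s) * t⁻¹) * s⁻¹ := by group
              _ = s * (t * r * t⁻¹ * (t * x * t⁻¹)) * s⁻¹ := by rw [e']; group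
              _ = s * (s⁻¹ * r * s) * s⁻¹ := by rw [e, ← hxc t ht, mul_inv_cancel_right, e']
              _ = _ := by rw [e]; group
        · have hsxs : s * x * s⁻¹ = x := by rw [hsx, mul_inv_cancel_right]
          rcases hsr with e' | e'
          · calc _ = s * (t * (s⁻¹ * r * s) * t⁻¹) * s⁻¹ := by group
              _ = (s * r * s⁻¹) * (s * x * s⁻¹) := by rw [e', e]; group
              _ = (s * (s⁻¹ * r * s) * s⁻¹) * x := by rw [e', hsxs]
              _ = _ := by rw [e]; group
          · calc _ = s * (t * (s⁻¹ * r * s) * t⁻¹) * s⁻¹ := by group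
              _ = s * (t * r * t⁻¹ * (t * x * t⁻¹)) * s⁻¹ := by rw [e']; group
              _ = s * (r * (x * x)) * s⁻¹ := by
                rw [e, ← hxc t ht, mul_inv_cancel_right]; simp only [mul_assoc]
              _ = s * ((s⁻¹ * r * s) * x) * s⁻¹ := by rw [e']; simp only [mul_assoc]
              _ = r * (s * x * s⁻¹) := by group
              _ = _ := by rw [hsxs, e]
      have htinv := (coreAt x).inv_mem ht
      rcases hX.comm t ht r hr with e | e
      · rw [e] at key
        have a1 : (s * t * s⁻¹) * r = r * (s * t * s⁻¹) := mul_inv_eq_iff_eq_mul.1 key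
        have a2 : t⁻¹ * r = r * t⁻¹ := ((Commute.inv_left (mul_inv_eq_iff_eq_mul.1 e : Commute t r))).eq
        rw [mul_assoc, a1, ← mul_assoc, a2, mul_assoc]
      · rw [e] at key
        refine hX.conj_conj htinv hst hr ?_ key
        rcases hX.comm t⁻¹ htinv r hr with e' | e'
        · exfalso
          have := ((Commute.inv_left (mul_inv_eq_iff_eq_mul.1 e' : Commute t⁻¹ r))).eq
          rw [inv_inv] at this
          rw [this, mul_inv_cancel_right] at e
          exact hX.ne_one (mul_eq_left.1 e.symm)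
        · exact e'
    apply hzB
    refine hXC fun t ht => ?_
    refine (hR t ht ?_).symm
    -- modulo `x`, conjugations by `p` and `p'` commute
    let M : G → G → Prop := fun a b => a = b ∨ a = b * x
    have Msymm : ∀ a b, M a b → M b a := by
      rintro a b (e | e)
      · exact Or.inl e.symm
      · exact Or.inr (by rw [e, mul_assoc, hX.sq, mul_one])
    have Mtrans : ∀ a b c, M a b → M b c → M a c := by
      rintro a b c (rfl | rfl) (rfl | rfl)
      · exact Or.inl rfl
      · exact Or.inr rfl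
      · exact Or.inr rfl
      · exact Or.inl (by rw [mul_assoc, hX.sq, mul_one])
    have Mleft : ∀ c a b, M a b → M (c * a) (c * b) := by
      rintro c a b (rfl | rfl)
      · exact Or.inl rfl
      · exact Or.inr (mul_assoc c b x).symm
    have Mconj : ∀ s, s * x = x * s → ∀ a b, M a b → M (s * a * s⁻¹) (s * b * s⁻¹) := by
      rintro s hs a b (rfl | rfl)
      · exact Or.inl rfl
      · right
        have : s * x * s⁻¹ = x := by rw [hs, mul_inv_cancel_right]
        calc s * (b * x) * s⁻¹ = s * b * s⁻¹ * (s * x * s⁻¹) := by group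
          _ = _ := by rw [this]
    obtain ⟨r, hr, hrz, hpt⟩ := hmove t ht p hp hpx
    obtain ⟨r', hr', hr'z, hp't⟩ := hmove t ht p' hp' hp'x
    have hrr : M (r * r') (r' * r) := by
      rcases hX.comm r hr r' hr' with e | e
      · exact Or.inl (mul_inv_eq_iff_eq_mul.1 e)
      · right
        rw [mul_inv_eq_iff_eq_mul.1 e, mul_assoc r' x r, hxc r hr, mul_assoc]
    have c1 : M (p * (p' * t * p'⁻¹) * p⁻¹) (t * (r * r')) := by
      rw [hp't, show p * (t * r') * p⁻¹ = (p * t * p⁻¹) * (p * r' * p⁻¹) by group, hpt, ← mul_assoc t]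
      exact Mleft _ _ _ (hRP r' hr' hr'z p hp hpx)
    have c2 : M (p' * (p * t * p⁻¹) * p'⁻¹) (t * (r' * r)) := by
      rw [hpt, show p' * (t * r) * p'⁻¹ = (p' * t * p'⁻¹) * (p' * r * p'⁻¹) by group, hp't,
        ← mul_assoc t]
      exact Mleft _ _ _ (hRP r hr hrz p' hp' hp'x)
    have c3 : M (p * (p' * t * p'⁻¹) * p⁻¹) (p' * (p * t * p⁻¹) * p'⁻¹) :=
      Mtrans _ _ _ c1 (Mtrans _ _ _ (Mleft t _ _ hrr) (Msymm _ _ c2))
    -- `p p' = p' z p`
    have hz' : p * p' = p' * (p * z) := by
      rw [mul_inv_eq_iff_eq_mul.1 hpp', mul_assoc, hZ.central p hp]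
    have c4 : p * (p' * t * p'⁻¹) * p⁻¹ = p' * (p * (z * t * z⁻¹) * p⁻¹) * p'⁻¹ := by
      calc p * (p' * t * p'⁻¹) * p⁻¹ = (p * p') * t * (p * p')⁻¹ := by group
        _ = (p' * (p * z)) * t * (p' * (p * z))⁻¹ := by rw [hz']
        _ = _ := by group
    rw [c4] at c3
    have c5 := Mconj p⁻¹ (Commute.inv_left (hpx : Commute p x)).eq _ _
      (Mconj p'⁻¹ (Commute.inv_left (hp'x : Commute p' x)).eq _ _ c3)
    simpa [M, mul_assoc] using c5
  · -- width one: the centralizer of `x` is a 2-group
    push Not at hab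
    apply hzB
    have hPab : ∀ p ∈ coreAt z, p * x = x * p → ∀ p' ∈ coreAt z, p' * x = x * p' →
        p * p' = p' * p := fun p hp hpx p' hp' hp'x =>
      mul_inv_eq_iff_eq_mul.1 ((hZ.comm p hp p' hp').resolve_right (hab p hp p' hp' hpx hp'x))
    have hPsmall : ∀ p ∈ coreAt z, p * x = x * p → p = 1 ∨ p = z ∨ p = x ∨ p = x * z := by
      intro p hp hpx
      have hcen : ∀ v ∈ coreAt z, v * x = x * v → v * q0 = q0 * v → v = 1 ∨ v = z := by
        intro v hv hvx hvq
        refine hZ.center v hv fun b hb => ?_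
        rcases hZ.comm b hb x hx with e | e
        · exact hPab v hv hvx b hb (mul_inv_eq_iff_eq_mul.1 e)
        · have hbq : b * q0 * x = x * (b * q0) := hZ.conj_conj hb hq0 hx e hq0x'
          have h1 := hPab v hv hvx (b * q0) ((coreAt z).mul_mem hb hq0) hbq
          calc v * b = v * (b * q0) * q0⁻¹ := by group
            _ = b * q0 * v * q0⁻¹ := by rw [h1]
            _ = b * (v * q0) * q0⁻¹ := by rw [hvq]; group
            _ = b * v := by group
      rcases hZ.comm q0 hq0 p hp with e | e
      · rcases hcen p hp hpx (mul_inv_eq_iff_eq_mul.1 e).symm with h | h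
        · exact Or.inl h
        · exact Or.inr (Or.inl h)
      · have h1 : (p * x) * x = x * (p * x) := by rw [← mul_assoc, ← hpx]
        have h2 : (p * x) * q0 = q0 * (p * x) := by
          symm
          apply mul_inv_eq_iff_eq_mul.1
          calc q0 * (p * x) * q0⁻¹ = (q0 * p * q0⁻¹) * (q0 * x * q0⁻¹) := by group
            _ = p * ((z * x) * z) := by rw [e, hq0x']; group
            _ = p * ((x * z) * z) := by rw [hzx]
            _ = p * x := by rw [mul_assoc x z z, hZ.sq, mul_one]
        rcases hcen _ ((coreAt z).mul_mem hp hx) h1 h2 with h | h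
        · exact Or.inr (Or.inr (Or.inl (by
            rw [mul_eq_one_iff_eq_inv, inv_eq_of_mul_eq_one_left hX.sq] at h; exact h)))
        · refine Or.inr (Or.inr (Or.inr ?_))
          rw [← mul_inv_eq_iff_eq_mul.2 h.symm, inv_eq_of_mul_eq_one_left hX.sq, hzx]
    -- the elements of `coreAt z` up to the centre
    have hEl : ∀ p ∈ coreAt z, ∃ w ∈ ({1, x, q0, x * q0} : Set G), p = w ∨ p = w * z := by
      intro p hp
      rcases hZ.comm p hp x hx with e | e
      · rcases hPsmall p hp (mul_inv_eq_iff_eq_mul.1 e) with h | h | h | h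
        · exact ⟨1, by simp, Or.inl h⟩
        · exact ⟨1, by simp, Or.inr (by rw [h, one_mul])⟩
        · exact ⟨x, by simp, Or.inl h⟩
        · exact ⟨x, by simp, Or.inr h⟩
      · have e' : q0⁻¹ * x * q0⁻¹⁻¹ = x * z := by
          rcases hZ.comm q0⁻¹ ((coreAt z).inv_mem hq0) x hx with e1 | e1
          · exfalso
            have := ((Commute.inv_left (mul_inv_eq_iff_eq_mul.1 e1 : Commute q0⁻¹ x))).eq
            rw [inv_inv] at this
            exact hq0x this.symm
          · exact e1
        have h0 := hPsmall (p * q0⁻¹) ((coreAt z).mul_mem hp ((coreAt z).inv_mem hq0))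
          (hZ.conj_conj hp ((coreAt z).inv_mem hq0) hx e e')
        rcases h0 with h | h | h | h <;> rw [mul_inv_eq_iff_eq_mul] at h
        · exact ⟨q0, by simp, Or.inl (by rw [h, one_mul])⟩
        · exact ⟨q0, by simp, Or.inr (by rw [h, hZ.central q0 hq0])⟩
        · exact ⟨x * q0, by simp, Or.inl h⟩
        · exact ⟨x * q0, by simp, Or.inr (by rw [h, mul_assoc, hZ.central q0 hq0, mul_assoc])⟩
    have hq0sq : q0 * q0 = 1 ∨ q0 * q0 = z := by
      refine hZ.center _ ((coreAt z).mul_mem hq0 hq0) fun b hb => ?_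
      rcases hZ.comm q0 hq0 b hb with h | h
      · have h' : q0 * b = b * q0 := mul_inv_eq_iff_eq_mul.1 h
        rw [mul_assoc, h', ← mul_assoc, h', mul_assoc]
      · exact hZ.conj_conj hq0 hq0 hb h h
    -- `r` has order four, `s` is an involution
    obtain ⟨r, hr, hrx, hrsq, hssq, hgen⟩ : ∃ r ∈ coreAt z, r * x * r⁻¹ = x * z ∧ r * r = z ∧
        (x * r) * (x * r) = 1 ∧
        ∀ p ∈ coreAt z, ∃ w ∈ ({1, x, r, x * r} : Set G), p = w ∨ p = w * z := by
      have hxq : (x * q0) * (x * q0) = z * (q0 * q0) := by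
        have : q0 * x = x * z * q0 := mul_inv_eq_iff_eq_mul.1 hq0x'
        calc (x * q0) * (x * q0) = x * (q0 * x) * q0 := by group
          _ = (x * x) * z * (q0 * q0) := by rw [this]; group
          _ = z * (q0 * q0) := by rw [hX.sq, one_mul]
      rcases hq0sq with h | h
      · refine ⟨x * q0, (coreAt z).mul_mem hx hq0, ?_, by rw [hxq, h, mul_one], ?_, ?_⟩
        · calc x * q0 * x * (x * q0)⁻¹ = x * (q0 * x * q0⁻¹) * x⁻¹ := by group
            _ = x * x * z * x⁻¹ := by rw [hq0x']; group
            _ = x * z := by rw [hX.sq, one_mul, inv_eq_of_mul_eq_one_left hX.sq, hzx]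
        · rw [← mul_assoc x x q0, hX.sq, one_mul, h]
        · intro p hp
          obtain ⟨w, hw, hpw⟩ := hEl p hp
          refine ⟨w, ?_, hpw⟩
          rw [← mul_assoc, hX.sq, one_mul]
          simp only [Set.mem_insert_iff, Set.mem_singleton_iff] at hw ⊢
          tauto
      · exact ⟨q0, hq0, hq0x', h, by rw [hxq, h, hZ.sq], hEl⟩
    have hxr : r * x = x * z * r := mul_inv_eq_iff_eq_mul.1 hrx
    have hfour : ∀ p ∈ coreAt z, p * p = z → p = r ∨ p = r * z := by
      intro p hp hpp
      have hwz : ∀ v ∈ coreAt z, (v * z) * (v * z) = v * v := by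
        intro v hv
        calc (v * z) * (v * z) = v * (z * v) * z := by group
          _ = v * v * (z * z) := by rw [hZ.central v hv]; group
          _ = v * v := by rw [hZ.sq, mul_one]
      obtain ⟨w, hw, hpw⟩ := hgen p hp
      have hwmem : w ∈ coreAt z := by
        rcases hw with rfl | rfl | rfl | rfl
        exacts [one_mem _, hx, hr, (coreAt z).mul_mem hx hr]
      have hww : w * w = z := by
        rcases hpw with rfl | rfl
        · exact hpp
        · rwa [hwz w hwmem] at hpp
      rcases hw with rfl | rfl | rfl | rfl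
      · rw [one_mul] at hww; exact absurd hww.symm hZ.ne_one
      · rw [hX.sq] at hww; exact absurd hww.symm hZ.ne_one
      · exact hpw
      · rw [hssq] at hww; exact absurd hww.symm hZ.ne_one
    have hCp : IsPGroup 2 (⊤ : Subgroup ↥(Subgroup.centralizer ({z} : Set G))) := by
      rintro ⟨c, -⟩
      obtain ⟨c, hc⟩ := c
      have hcz : c * z = z * c := Subgroup.mem_centralizer_singleton_iff.1 hc
      have hczc : c * z * c⁻¹ = z := by rw [hcz, mul_inv_cancel_right]
      have mconj : ∀ {d : G}, d * z = z * d → d * r * d⁻¹ = r ∨ d * r * d⁻¹ = r * z := by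
        intro d hd
        refine hfour _ (coreAt_conj_mem hd hr) ?_
        calc d * r * d⁻¹ * (d * r * d⁻¹) = d * (r * r) * d⁻¹ := by group
          _ = z := by rw [hrsq, hd, mul_inv_cancel_right]
      have fin : ∀ {d : G}, d * z = z * d → (d * x * d⁻¹ = x ∨ d * x * d⁻¹ = x * z) →
          d * d * x = x * (d * d) ∧ d * d * r = r * (d * d) := by
        intro d hd hdx
        have two : ∀ v, (d * v * d⁻¹ = v ∨ d * v * d⁻¹ = v * z) → d * d * v = v * (d * d) := by
          intro v hv
          apply mul_inv_eq_iff_eq_mul.1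
          have : d * z * d⁻¹ = z := by rw [hd, mul_inv_cancel_right]
          rcases hv with h | h
          · calc d * d * v * (d * d)⁻¹ = d * (d * v * d⁻¹) * d⁻¹ := by group
              _ = v := by rw [h, h]
          · calc d * d * v * (d * d)⁻¹ = d * (d * v * d⁻¹) * d⁻¹ := by group
              _ = d * (v * z) * d⁻¹ := by rw [h]
              _ = (d * v * d⁻¹) * (d * z * d⁻¹) := by group
              _ = v := by rw [h, this, mul_assoc, hZ.sq, mul_one]
        exact ⟨two x hdx, two r (mconj hd)⟩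
      have hcc : c * c * z = z * (c * c) := by rw [mul_assoc, hcz, ← mul_assoc, hcz, mul_assoc]
      have hxc2 : c * c * x * (c * c)⁻¹ = x ∨ c * c * x * (c * c)⁻¹ = x * z := by
        have hcxc := coreAt_conj_mem hcz hx
        obtain ⟨w, hw, hpw⟩ := hgen _ hcxc
        have hwmem : w ∈ coreAt z := by
          rcases hw with rfl | rfl | rfl | rfl
          exacts [one_mem _, hx, hr, (coreAt z).mul_mem hx hr]
        have e2 : c * c * x * (c * c)⁻¹ = c * (c * x * c⁻¹) * c⁻¹ := by group
        have ez : ∀ v, c * (v * z) * c⁻¹ = c * v * c⁻¹ * z := fun v => by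
          calc c * (v * z) * c⁻¹ = c * v * c⁻¹ * (c * z * c⁻¹) := by group
            _ = _ := by rw [hczc]
        have flip : ∀ v u : G, (v = u ∨ v = u * z) → (v * z = u ∨ v * z = u * z) := by
          rintro v u (rfl | rfl)
          · exact Or.inr rfl
          · exact Or.inl (by rw [mul_assoc, hZ.sq, mul_one])
        suffices hwgoal : c * w * c⁻¹ = x ∨ c * w * c⁻¹ = x * z by
          rcases hpw with h | h <;> rw [e2, h]
          · exact hwgoal
          · rw [ez]; exact flip _ _ hwgoal
        have hne : c * x * c⁻¹ ≠ 1 ∧ c * x * c⁻¹ ≠ z := by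
          refine ⟨fun h => hX.ne_one (conj_eq_one_iff.1 h), fun h => hxz ?_⟩
          calc x = c⁻¹ * (c * x * c⁻¹) * c := by group
            _ = c⁻¹ * (z * c) := by rw [h, mul_assoc]
            _ = z := by rw [← hcz, inv_mul_cancel_left]
        rcases hw with rfl | rfl | rfl | rfl
        · exfalso
          rcases hpw with h | h
          · exact hne.1 h
          · exact hne.2 (by rw [h, one_mul])
        · rcases hpw with h | h <;> simp [h]
        · exfalso
          have hxx : (c * x * c⁻¹) * (c * x * c⁻¹) = 1 := by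
            rw [show c * x * c⁻¹ * (c * x * c⁻¹) = c * (x * x) * c⁻¹ by group, hX.sq]; group
          rcases hpw with h | h <;> rw [h] at hxx
          · rw [hrsq] at hxx; exact hZ.ne_one hxx
          · rw [show w * z * (w * z) = w * (z * w) * z by group, hZ.central w hr,
              show w * (w * z) * z = w * w * (z * z) by group, hrsq, hZ.sq, mul_one] at hxx
            exact hZ.ne_one hxx
        · rw [show c * (x * r) * c⁻¹ = (c * x * c⁻¹) * (c * r * c⁻¹) by group]
          have hxrr : x * r * r = x * z := by rw [mul_assoc, hrsq]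
          have hrz : z * r = r * z := hZ.central r hr
          rcases hpw with h | h <;> rcases mconj hcz with h' | h' <;> rw [h, h']
          · exact Or.inr hxrr
          · left; rw [← mul_assoc, hxrr, mul_assoc, hZ.sq, mul_one]
          · left; rw [mul_assoc (x * r), hrz, ← mul_assoc, hxrr, mul_assoc, hZ.sq, mul_one]
          · right
            rw [show x * r * z * (r * z) = x * r * (z * r) * z by group, hrz,
              show x * r * (r * z) * z = x * r * r * (z * z) by group, hxrr, hZ.sq, mul_one]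
      obtain ⟨f1, f2⟩ := fin hcc hxc2
      have hmemQ : c * c * (c * c) ∈ coreAt z := by
        refine hC fun v hv => ?_
        obtain ⟨w, hw, hvw⟩ := hgen v hv
        have key : ∀ u, c * c * (c * c) * u = u * (c * c * (c * c)) →
            c * c * (c * c) * (u * z) = u * z * (c * c * (c * c)) := by
          intro u hu
          have hz4 : c * c * (c * c) * z = z * (c * c * (c * c)) := by
            rw [mul_assoc (c * c) (c * c) z, hcc, ← mul_assoc, hcc, mul_assoc]
          rw [← mul_assoc, hu, mul_assoc, hz4, ← mul_assoc]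
        have hw' : c * c * (c * c) * w = w * (c * c * (c * c)) := by
          rcases hw with h | h | h | h <;> rw [h]
          · simp
          · exact f1
          · exact f2
          · rw [← mul_assoc (c * c * (c * c)) x r, f1, mul_assoc x, f2, ← mul_assoc]
        rcases hvw with rfl | rfl
        · exact hw'.symm
        · exact (key w hw').symm
      obtain ⟨k, hk⟩ := (IsPGroup.iff_orderOf.1 hE.1.1) ⟨_, hmemQ⟩
      refine ⟨k + 2, Subtype.ext (Subtype.ext ?_)⟩
      rw [← Subgroup.orderOf_coe] at hk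
      show c ^ 2 ^ (k + 2) = 1
      rw [pow_add, mul_comm, pow_mul, show c ^ 2 ^ 2 = c * c * (c * c) by
        simp [pow_succ, mul_assoc], ← hk, pow_orderOf_eq_one]
    -- `y = g⁻¹ z g` lies in the centralizer of `z`, hence in its core
    have hy : g⁻¹ * z * g * z = z * (g⁻¹ * z * g) := by
      have h := hzx
      rw [hxdef] at h
      calc g⁻¹ * z * g * z = g⁻¹ * (z * (g * z * g⁻¹)) * g := by group
        _ = g⁻¹ * ((g * z * g⁻¹) * z) * g := by rw [h]
        _ = z * (g⁻¹ * z * g) := by group
    have htop : (⊤ : Subgroup ↥(Subgroup.centralizer ({z} : Set G))) ≤ Cfsg.pCore 2 _ :=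
      le_sSup ⟨inferInstance, hCp⟩
    have hyQ : g⁻¹ * z * g ∈ coreAt z :=
      ⟨⟨_, Subgroup.mem_centralizer_singleton_iff.2 hy⟩, htop (Subgroup.mem_top _), rfl⟩
    have := coreAt_map_conj g z hyQ
    rw [← hxdef, show g * (g⁻¹ * z * g) * g⁻¹ = z by group] at this
    exact this

end Setting

end Cfsg.Agent.Lib.ThreeTransp
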