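import Cfsg.Agent.Lib.ThreeTransp.Parabolic
import Cfsg.Agent.Lib.ThreeTransp.LargeBasic
import Cfsg.Agent.Lib.ThreeTransp.LargeExtra

/-!
The centralizer of a transvection in the linear group, and of a translation in the affine group.
-/

set_option autoImplicit false
set_option linter.unusedVariables false
set_option linter.style.haveILetI false

namespace Cfsg.Agent.Lib.ThreeTransp

open Matrix

namespace Par

variable {n : ℕ}

/-- The linear map of the block matrix. -/
def toLin (p : Par n) : (Fin (n + 2) → ZMod 2) →ₗ[ZMod 2] (Fin (n + 2) → ZMod 2) where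
  toFun v := Fin.cons (v 0 + p.l ⬝ᵥ (fun i => v i.succ.succ) + p.c * v 1)
    (Fin.cons (v 1)
      ((p.g : Matrix (Fin n) (Fin n) (ZMod 2)) *ᵥ (fun i => v i.succ.succ) + v 1 • p.w))
  map_add' u v := by
    funext j
    refine Fin.cases ?_ (fun j => Fin.cases ?_ (fun i => ?_) j) j
    · simp only [Fin.cons_zero, Pi.add_apply]
      rw [show (fun i : Fin n => u i.succ.succ + v i.succ.succ) =
        (fun i => u i.succ.succ) + fun i => v i.succ.succ from rfl, dotProduct_add, mul_add]
      abel
    · simp
    · simp only [Fin.cons_succ, Pi.add_apply, Pi.smul_apply, smul_eq_mul]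
      rw [show (fun i : Fin n => u i.succ.succ + v i.succ.succ) =
        (fun i => u i.succ.succ) + fun i => v i.succ.succ from rfl, Matrix.mulVec_add, Pi.add_apply,
        add_mul]
      abel
  map_smul' a v := by
    funext j
    refine Fin.cases ?_ (fun j => Fin.cases ?_ (fun i => ?_) j) j
    · simp only [Fin.cons_zero, Pi.smul_apply, smul_eq_mul, RingHom.id_apply]
      rw [show (fun i : Fin n => a * v i.succ.succ) = a • fun i => v i.succ.succ from rfl, dotProduct_smul,
        smul_eq_mul]
      ring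
    · simp
    · simp only [Fin.cons_succ, Pi.add_apply, Pi.smul_apply, smul_eq_mul, RingHom.id_apply]
      rw [show (fun i : Fin n => a * v i.succ.succ) = a • fun i => v i.succ.succ from rfl,
        Matrix.mulVec_smul, Pi.smul_apply, smul_eq_mul]
      ring

theorem toLin_zero (p : Par n) (v : Fin (n + 2) → ZMod 2) :
    p.toLin v 0 = v 0 + p.l ⬝ᵥ (fun i => v i.succ.succ) + p.c * v 1 := rfl

theorem toLin_one (p : Par n) (v : Fin (n + 2) → ZMod 2) : p.toLin v 1 = v 1 := rfl

theorem toLin_succ (p : Par n) (v : Fin (n + 2) → ZMod 2) (i : Fin n) :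
    p.toLin v i.succ.succ =
      ((p.g : Matrix (Fin n) (Fin n) (ZMod 2)) *ᵥ fun i => v i.succ.succ) i + v 1 * p.w i := rfl

theorem cases_two {P : Fin (n + 2) → Prop} (j : Fin (n + 2)) (h0 : P 0) (h1 : P 1)
    (hs : ∀ i : Fin n, P i.succ.succ) : P j :=
  Fin.cases h0 (fun j => Fin.cases (motive := fun j => P j.succ) h1 hs j) j

theorem toLin_mul (p q : Par n) : (p * q).toLin = p.toLin.comp q.toLin := by
  apply LinearMap.ext; intro v
  funext j
  have hs : (fun i => q.toLin v i.succ.succ) =
      (q.g : Matrix (Fin n) (Fin n) (ZMod 2)) *ᵥ (fun i => v i.succ.succ) + v 1 • q.w :=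
    funext fun i => rfl
  induction j using cases_two with
  | h0 =>
    rw [LinearMap.comp_apply, toLin_zero, toLin_zero, hs, toLin_zero, toLin_one, mul_c, mul_l,
      dotProduct_add, dotProduct_smul, Matrix.dotProduct_mulVec, add_dotProduct, smul_eq_mul]
    ring
  | h1 => rfl
  | hs i =>
    rw [LinearMap.comp_apply, toLin_succ, toLin_succ, hs, toLin_one, mul_g, mul_w, Units.val_mul,
      ← Matrix.mulVec_mulVec, Matrix.mulVec_add, Matrix.mulVec_smul]
    simp only [Pi.add_apply, Pi.smul_apply, smul_eq_mul]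
    ring

theorem toLin_one_map : (1 : Par n).toLin = LinearMap.id := by
  apply LinearMap.ext; intro v
  funext j
  induction j using cases_two with
  | h0 => simp [toLin_zero]
  | h1 => rfl
  | hs i => simp [toLin_succ]

/-- The block matrix as a matrix. -/
def toMat : Par n →* Matrix (Fin (n + 2)) (Fin (n + 2)) (ZMod 2) where
  toFun p := LinearMap.toMatrix' p.toLin
  map_one' := by rw [toLin_one_map, LinearMap.toMatrix'_id]
  map_mul' p q := by rw [toLin_mul, LinearMap.toMatrix'_comp]

theorem toMat_mulVec (p : Par n) (v : Fin (n + 2) → ZMod 2) : toMat p *ᵥ v = p.toLin v :=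
  LinearMap.toMatrix'_mulVec _ _

theorem det_one_of_unit {m : Type*} [Fintype m] [DecidableEq m] {M : Matrix m m (ZMod 2)}
    (h : IsUnit M) : M.det = 1 :=
  (zmod2_cases _).resolve_left ((Matrix.isUnit_iff_isUnit_det M).1 h).ne_zero

/-- The block matrix in the special linear group. -/
def toSL : Par n →* Matrix.SpecialLinearGroup (Fin (n + 2)) (ZMod 2) where
  toFun p := ⟨toMat p, det_one_of_unit ((Group.isUnit p).map toMat)⟩
  map_one' := Subtype.ext toMat.map_one
  map_mul' p q := Subtype.ext (toMat.map_mul p q)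

theorem coe_toSL (p : Par n) :
    (toSL p : Matrix (Fin (n + 2)) (Fin (n + 2)) (ZMod 2)) = toMat p := rfl

theorem toSL_injective : Function.Injective (toSL (n := n)) := by
  rw [injective_iff_map_eq_one]
  intro p hp
  have h : ∀ v, p.toLin v = v := fun v => by
    rw [← toMat_mulVec, ← coe_toSL, hp, Matrix.SpecialLinearGroup.coe_one, Matrix.one_mulVec]
  have hA : ∀ (a : ZMod 2) (x : Fin n → ZMod 2),
      p.l ⬝ᵥ x + p.c * a = 0 ∧ (p.g : Matrix (Fin n) (Fin n) (ZMod 2)) *ᵥ x + a • p.w = x := by
    intro a x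
    have e := h (Fin.cons 0 (Fin.cons a x))
    refine ⟨?_, funext fun i => ?_⟩
    · have := congrFun e 0
      rw [toLin_zero] at this
      simpa using this
    · have := congrFun e i.succ.succ
      rw [toLin_succ] at this
      simpa using this
  refine Par.ext ?_ (funext fun i => ?_) ?_ (Units.ext (Matrix.ext_of_mulVec_single fun i => ?_))
  · simpa using (hA 1 0).1
  · simpa using (hA 0 (Pi.single i 1)).1
  · simpa using (hA 1 0).2
  · have := (hA 0 (Pi.single i 1)).2
    rw [zero_smul, add_zero] at this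
    rw [this, show (1 : Par n).g = 1 from rfl, Units.val_one, Matrix.one_mulVec]

theorem transvection_mulVec (v : Fin (n + 2) → ZMod 2) :
    Matrix.transvection (0 : Fin (n + 2)) 1 (1 : ZMod 2) *ᵥ v = v + Pi.single 0 (v 1) := by
  rw [Matrix.transvection, Matrix.add_mulVec, Matrix.one_mulVec, Matrix.single_mulVec, one_mul]
  rfl

theorem coe_toSL_zP : (toSL (zP : Par n) : Matrix (Fin (n + 2)) (Fin (n + 2)) (ZMod 2)) =
    Matrix.transvection 0 1 1 := by
  refine Matrix.ext_of_mulVec_single fun k => ?_
  rw [coe_toSL, toMat_mulVec, transvection_mulVec]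
  funext j
  induction j using cases_two with
  | h0 => simp [toLin_zero, zP]
  | h1 => simp [toLin_one]
  | hs i => simp [toLin_succ, zP, Fin.succ_ne_zero]

theorem range_toSL : (toSL (n := n)).range =
    Subgroup.centralizer ({toSL (zP : Par n)} : Set (Matrix.SpecialLinearGroup (Fin (n + 2)) (ZMod 2))) := by
  refine le_antisymm ?_ ?_
  · rintro _ ⟨p, rfl⟩
    rw [Subgroup.mem_centralizer_singleton_iff, ← map_mul, ← map_mul]
    exact congrArg _ (Par.ext (by simp [zP, add_comm]) (by simp [zP]) (by simp [zP]) (by simp [zP]))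
  · intro M hM
    rw [Subgroup.mem_centralizer_singleton_iff] at hM
    set A := (M : Matrix (Fin (n + 2)) (Fin (n + 2)) (ZMod 2)) with hA
    have hinj : Function.Injective A.mulVec :=
      Matrix.mulVec_injective_of_isUnit
        ((Matrix.isUnit_iff_isUnit_det A).2 (by rw [hA, M.det_coe]; exact isUnit_one))
    have hcomm : ∀ v : Fin (n + 2) → ZMod 2,
        A *ᵥ Pi.single 0 (v 1) = Pi.single 0 ((A *ᵥ v) 1) := by
      intro v
      have e := congrArg (fun T : Matrix.SpecialLinearGroup (Fin (n + 2)) (ZMod 2) =>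
        (T : Matrix (Fin (n + 2)) (Fin (n + 2)) (ZMod 2)) *ᵥ v) hM
      simp only [Matrix.SpecialLinearGroup.coe_mul, coe_toSL_zP, ← Matrix.mulVec_mulVec,
        transvection_mulVec, ← hA, Matrix.mulVec_add] at e
      exact add_left_cancel e
    have he0 : A *ᵥ Pi.single 0 1 = Pi.single 0 1 := by
      have h := hcomm (Pi.single 1 1)
      rw [Pi.single_eq_same] at h
      rcases zmod2_cases ((A *ᵥ Pi.single 1 1) 1) with h1 | h1
      · rw [h1, Pi.single_zero, ← Matrix.mulVec_zero A] at h
        exact absurd (congrFun (hinj h) 0) (by simp)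
      · rw [h, h1]
    have hrow : ∀ v : Fin (n + 2) → ZMod 2, (A *ᵥ v) 1 = v 1 := by
      intro v
      have h := hcomm v
      have hs : (Pi.single 0 (v 1) : Fin (n + 2) → ZMod 2) = v 1 • Pi.single 0 1 := by
        rw [← Pi.single_smul, smul_eq_mul, mul_one]
      rw [hs, Matrix.mulVec_smul, he0] at h
      simpa using (congrFun h 0).symm
    let x0 : (Fin n → ZMod 2) → (Fin (n + 2) → ZMod 2) := fun x => Fin.cons 0 (Fin.cons 0 x)
    let B : Matrix (Fin n) (Fin n) (ZMod 2) := fun i j => A i.succ.succ j.succ.succ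
    have hdec : ∀ v : Fin (n + 2) → ZMod 2, ∀ j, (A *ᵥ v) j =
        v 0 * A j 0 + v 1 * A j 1 + ∑ k : Fin n, A j k.succ.succ * v k.succ.succ := by
      intro v j
      rw [Matrix.mulVec, dotProduct, Fin.sum_univ_succ, Fin.sum_univ_succ]
      show A j 0 * v 0 + (A j 1 * v 1 + _) = _
      rw [mul_comm (A j 0), mul_comm (A j 1), add_assoc]
    have hcol : ∀ j, A j 0 = (Pi.single 0 1 : Fin (n + 2) → ZMod 2) j := fun j => by
      have := congrFun he0 j
      rwa [Matrix.mulVec_single_one] at this
    have hB : IsUnit B := by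
      rw [← Matrix.mulVec_injective_iff_isUnit]
      intro x y hxy
      have hsub : B *ᵥ (x - y) = 0 := by rw [Matrix.mulVec_sub, sub_eq_zero]; exact hxy
      let v : Fin (n + 2) → ZMod 2 :=
        Fin.cons (-(∑ k : Fin n, A 0 k.succ.succ * (x - y) k)) (Fin.cons 0 (x - y))
      have hv : A *ᵥ v = A *ᵥ 0 := by
        rw [Matrix.mulVec_zero]
        funext j
        induction j using cases_two with
        | h0 => rw [hdec, hcol]; simp [v, CharTwo.add_self_eq_zero]
        | h1 => rw [hrow]; rfl
        | hs i =>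
          rw [hdec, hcol]
          have := congrFun hsub i
          simp only [Matrix.mulVec, dotProduct] at this
          simpa [v, B] using this
      have := hinj hv
      refine sub_eq_zero.1 (funext fun i => ?_)
      simpa [v] using congrFun this i.succ.succ
    refine ⟨⟨A 0 1, fun k => A 0 k.succ.succ, fun i => A i.succ.succ 1, hB.unit⟩, ?_⟩
    refine Subtype.ext (Matrix.ext_of_mulVec_single fun k => ?_)
    rw [coe_toSL, toMat_mulVec, ← hA]
    funext j
    induction j using cases_two with
    | h0 =>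
      rw [toLin_zero, hdec, hcol]
      simp only [Pi.single_eq_same, mul_one, dotProduct]
      ring
    | h1 => rw [toLin_one, hrow]
    | hs i =>
      rw [toLin_succ, hdec, hcol]
      rw [show ((hB.unit : GL (Fin n) (ZMod 2)) : Matrix (Fin n) (Fin n) (ZMod 2)) = B from rfl]
      simp only [B, Matrix.mulVec, dotProduct, ne_eq, Fin.succ_ne_zero,
        not_false_eq_true, Pi.single_eq_of_ne, mul_zero, zero_add]
      ring

/-- Over the field with two elements the general linear group is the special one. -/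
noncomputable def slEquivGL (n : ℕ) :
    Matrix.SpecialLinearGroup (Fin n) (ZMod 2) ≃* Matrix.GeneralLinearGroup (Fin n) (ZMod 2) :=
  MulEquiv.ofBijective Matrix.SpecialLinearGroup.toGL
    ⟨Matrix.SpecialLinearGroup.toGL_injective, fun g =>
      ⟨⟨g, det_one_of_unit g.isUnit⟩, Units.ext rfl⟩⟩

theorem large_toSL (hn : 1 ≤ n) (Q : Subgroup (Matrix.SpecialLinearGroup (Fin (n + 2)) (ZMod 2)))
    (hQ : Q = coreAt (toSL (zP : Par n))) : Cfsg.IsLargeExtraspecial Q := by
  obtain ⟨hQ', hE, -, -, hZ, h2, h3, -⟩ := package hn toSL toSL_injective range_toSL Q hQ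
  let p : Par n := ⟨0, 0, Pi.single ⟨0, hn⟩ 1, 1⟩
  set i0 : Fin (n + 2) := (⟨0, hn⟩ : Fin n).succ.succ with hi0
  set e := Equiv.swap (0 : Fin (n + 2)) i0 with he
  let S : Matrix (Fin (n + 2)) (Fin (n + 2)) (ZMod 2) := e.toPEquiv.toMatrix
  have hSS : S * S = 1 := by
    simp only [S, ← PEquiv.toMatrix_trans, ← Equiv.toPEquiv_trans]
    rw [he, Equiv.swap_swap]
    simp
  let s : Matrix.SpecialLinearGroup (Fin (n + 2)) (ZMod 2) :=
    ⟨S, det_one_of_unit ⟨⟨S, S, hSS, hSS⟩, rfl⟩⟩
  have hS : ∀ v, S *ᵥ v = v ∘ e := fun v => by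
    funext j
    simp [S, Matrix.mulVec, dotProduct, PEquiv.toMatrix_apply]
  have hs1 : s * s = 1 := Subtype.ext hSS
  have hsinv : s⁻¹ = s := inv_eq_of_mul_eq_one_right hs1
  have hconj : s * toSL (zP : Par n) * s⁻¹ = toSL p := by
    rw [hsinv]
    refine Subtype.ext (Matrix.ext_of_mulVec_single fun k => ?_)
    rw [Matrix.SpecialLinearGroup.coe_mul, Matrix.SpecialLinearGroup.coe_mul, coe_toSL_zP, coe_toSL,
      ← Matrix.mulVec_mulVec, ← Matrix.mulVec_mulVec, transvection_mulVec, toMat_mulVec]
    show S *ᵥ (S *ᵥ _ + Pi.single 0 ((S *ᵥ _) 1)) = _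
    rw [Matrix.mulVec_add, hS, hS, hS]
    funext j
    have he1 : e 1 = 1 := Equiv.swap_apply_of_ne_of_ne (by simp) (by
      rw [hi0]
      intro h
      have h' : (0 : Fin (n + 1)).succ = (⟨0, hn⟩ : Fin n).succ.succ := h
      exact Fin.succ_ne_zero _ (Fin.succ_injective _ h').symm)
    have hee : e (e j) = j := Equiv.swap_apply_self _ _ _
    simp only [Function.comp_apply, Pi.add_apply, he1, hee]
    induction j using cases_two with
    | h0 =>
      rw [show e (0 : Fin (n + 2)) = i0 from Equiv.swap_apply_left _ _]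
      simp [toLin_zero, p, hi0, Fin.succ_ne_zero]
    | h1 =>
      rw [toLin_one, he1]
      simp
    | hs i =>
      rw [toLin_succ]
      by_cases hi : i = ⟨0, hn⟩
      · subst hi
        rw [show e ((⟨0, hn⟩ : Fin n).succ.succ) = 0 from Equiv.swap_apply_right _ _]
        simp [p]
      · have hne : i.succ.succ ≠ i0 := fun h => hi (Fin.succ_injective _ (Fin.succ_injective _ h))
        rw [show e i.succ.succ = i.succ.succ from Equiv.swap_apply_of_ne_of_ne (Fin.succ_ne_zero _) hne]
        simp [p, hi, Fin.succ_ne_zero]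
  have hbQ : toSL p ∈ Q := hQ' ▸ ⟨p, rfl, rfl⟩
  have hb2 : p * p = 1 := Par.ext (by simp [p]) (by simp [p])
    (funext fun i => by
      rw [mul_w, Pi.add_apply, show p.g = 1 from rfl, Units.val_one, Matrix.one_mulVec]
      exact CharTwo.add_self_eq_zero _) (by simp [p])
  have hbne : toSL p ≠ 1 := fun h => by
    have := congrFun (congrArg Par.w (toSL_injective (h.trans (map_one _).symm))) ⟨0, hn⟩
    simp [p] at this
  refine isLarge_of_core hE h2 h3 (b := toSL p) hbQ ?_
    (orderOf_eq_prime (by rw [pow_two, ← map_mul, hb2, map_one]) hbne) ?_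
  · rw [hZ]
    intro h
    rw [← mem_powers_iff_mem_zpowers] at h
    obtain ⟨k, hk⟩ := h
    have hw : ∀ k : ℕ, ((zP : Par n) ^ k).w = 0 := fun k => by
      induction k with
      | zero => rfl
      | succ k ih => rw [pow_succ, mul_w, ih, zero_add]; exact Matrix.mulVec_zero _
    have h' : ((zP : Par n) ^ k) = p := toSL_injective (by rw [map_pow]; exact hk)
    have h'' := congrFun ((hw k).symm.trans (congrArg Par.w h')) ⟨0, hn⟩
    simp [p] at h''
  · rw [hZ, Subgroup.zpowers_le]
    show toSL zP ∈ coreAt (toSL p)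
    have h := coreAt_map_conj s (toSL (zP : Par n)) (hQ ▸ hbQ)
    rw [hconj] at h
    rw [← hconj, hsinv] at h
    rw [show s * (s * toSL (zP : Par n) * s) * s = (s * s) * toSL (zP : Par n) * (s * s) by group,
      hs1, one_mul, mul_one] at h
    rwa [← hconj, hsinv]

end Par

end Cfsg.Agent.Lib.ThreeTransp
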