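import Cfsg.Agent.Lib.ThreeTransp.AffineModel
import Cfsg.Agent.Lib.ThreeTransp.ParabolicModels
import Cfsg.Agent.S0381
import Cfsg.Agent.S1554
import Cfsg.Agent.S5394
import Cfsg.Agent.S5615
import Cfsg.Prelude.Def_SporadicCombinatorics

/-!
The centralizer of an involution fixing an octad in the Mathieu group of degree 24.
-/

set_option autoImplicit false
set_option linter.unusedVariables false
set_option linter.style.haveILetI false

namespace Cfsg.Agent.Lib.ThreeTransp.M24Octad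

open Cfsg Equiv
open scoped Pointwise
open Cfsg.Agent.S1553 (octStab card_octStab mem_iff_of_mem)

variable {o : Finset GolayPt}

/-- The pointwise stabiliser. -/
def fixO (o : Finset GolayPt) : Subgroup (Perm GolayPt) :=
  M24 ⊓ fixingSubgroup (Perm GolayPt) (o : Set GolayPt)

/-- The stabiliser of the octad and a point. -/
def stabP (o : Finset GolayPt) (p : GolayPt) : Subgroup (Perm GolayPt) :=
  M24 ⊓ MulAction.stabilizer (Perm GolayPt) o ⊓ MulAction.stabilizer (Perm GolayPt) p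

theorem mem_fixO {g : Perm GolayPt} : g ∈ fixO o ↔ g ∈ M24 ∧ ∀ q ∈ o, g q = q := by
  rw [fixO, Subgroup.mem_inf, mem_fixingSubgroup_iff]
  rfl

theorem mem_stabP {g : Perm GolayPt} {p : GolayPt} :
    g ∈ stabP o p ↔ g ∈ M24 ∧ g • o = o ∧ g p = p := by
  rw [stabP, Subgroup.mem_inf, Subgroup.mem_inf, and_assoc]
  rfl

theorem stab_of_fix {g : Perm GolayPt} (h : ∀ q ∈ o, g q = q) : g • o = o := by
  rw [show g • o = o.image (fun x => g x) from rfl]
  conv_rhs => rw [← Finset.image_id (s := o)]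
  exact Finset.image_congr fun x hx => h x hx

theorem fixO_inf (ho : o ∈ octads) {p : GolayPt} (hp : p ∉ o) {g : Perm GolayPt}
    (hg : g ∈ fixO o) (hgp : g p = p) : g = 1 := by
  have h : g ∈ fixO o ⊓ stabP o p :=
    ⟨hg, mem_stabP.2 ⟨hg.1, stab_of_fix (mem_fixO.1 hg).2, hgp⟩⟩
  rw [show fixO o ⊓ stabP o p = ⊥ from (Cfsg.Agent.S1554.result o ho p hp).1] at h
  exact h

/-- The pointwise stabiliser is transitive on the outside. -/
theorem fixO_transitive (ho : o ∈ octads) {p q : GolayPt} (hp : p ∉ o) (hq : q ∉ o) :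
    ∃ u ∈ fixO o, u p = q := by
  classical
  haveI : Fintype (fixO o) := Fintype.ofFinite _
  let f : fixO o → {x : GolayPt // x ∉ o} := fun u => ⟨(u : Perm GolayPt) p, fun h => hp (by
    have h1 := (mem_fixO.1 u.2).2 _ h
    rwa [(u : Perm GolayPt).injective h1] at h)⟩
  have hinj : Function.Injective f := fun u v h => by
    have h' : (u : Perm GolayPt) p = (v : Perm GolayPt) p := congrArg Subtype.val h
    refine Subtype.ext (inv_mul_eq_one.1 (fixO_inf ho hp
      (mul_mem (inv_mem v.2) u.2) ?_)).symm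
    show (v : Perm GolayPt)⁻¹ ((u : Perm GolayPt) p) = p
    rw [h']
    exact Equiv.symm_apply_apply _ _
  have hcard : Fintype.card (fixO o) = Fintype.card {x : GolayPt // x ∉ o} := by
    rw [← Nat.card_eq_fintype_card, (show Nat.card (fixO o) = 16 from (Cfsg.Agent.S0381.result o ho).1),
      Fintype.card_subtype_compl, Fintype.card_coe]
    have h8 : o.card = 8 := by
      obtain ⟨g', -, he⟩ := Cfsg.Agent.Lib.GolayOrbit.exists_to_baseOctad ho
      rw [← Finset.card_smul_finset g', he]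
      decide +kernel
    rw [h8]
    rfl
  obtain ⟨u, hu⟩ := ((Fintype.bijective_iff_injective_and_card f).2 ⟨hinj, hcard⟩).2 ⟨q, hq⟩
  exact ⟨u, u.2, congrArg Subtype.val hu⟩

theorem octStab_eq : octStab o = M24 ⊓ MulAction.stabilizer (Perm GolayPt) o := rfl

/-- The point stabiliser acts faithfully on the pointwise stabiliser. -/
theorem stabP_faithful (ho : o ∈ octads) {p : GolayPt} (hp : p ∉ o) {m : Perm GolayPt}
    (hm : m ∈ stabP o p) (hcomm : ∀ u ∈ fixO o, m * u * m⁻¹ = u) : m = 1 := by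
  classical
  obtain ⟨hmM, -, hmp⟩ := mem_stabP.1 hm
  have hout : ∀ q, q ∉ o → m q = q := fun q hq => by
    obtain ⟨u, hu, rfl⟩ := fixO_transitive ho hp hq
    have h : (m * u) p = (u * m) p := by rw [mul_inv_eq_iff_eq_mul.1 (hcomm u hu)]
    simpa [hmp] using h
  obtain ⟨h15, -, -⟩ := Cfsg.Agent.S5615.result o ho
  obtain ⟨T, hT, hoT⟩ := Set.nonempty_of_ncard_ne_zero
    (s := {T : Finset (Finset GolayPt) | T ∈ trios ∧ o ∈ T}) (by rw [h15]; norm_num)
  obtain ⟨o₁, ho₁, o₂, ho₂, h12⟩ := Finset.one_lt_card.1 (by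
    rw [Finset.card_erase_of_mem hoT, hT.1]; norm_num : 1 < (T.erase o).card)
  rw [Finset.mem_erase] at ho₁ ho₂
  have hd1 : Disjoint o o₁ := hT.2.2 o hoT o₁ ho₁.2 (Ne.symm ho₁.1)
  have hd2 : Disjoint o o₂ := hT.2.2 o hoT o₂ ho₂.2 (Ne.symm ho₂.1)
  have h8 : o₂.Nonempty := by
    rw [← Finset.card_pos]
    obtain ⟨g', -, he⟩ := Cfsg.Agent.Lib.GolayOrbit.exists_to_baseOctad (hT.2.1 o₂ ho₂.2)
    rw [← Finset.card_smul_finset g', he]
    decide +kernel
  obtain ⟨q, hq⟩ := h8
  refine fixO_inf (hT.2.1 o₁ ho₁.2) (p := q) ?_ (mem_fixO.2 ⟨hmM, fun x hx => ?_⟩) ?_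
  · exact Finset.disjoint_right.1 (hT.2.2 o₁ ho₁.2 o₂ ho₂.2 h12) hq
  · exact hout x (Finset.disjoint_right.1 hd1 hx)
  · exact hout q (Finset.disjoint_right.1 hd2 hq)

theorem card_stabP (ho : o ∈ octads) {p : GolayPt} (hp : p ∉ o) : Nat.card (stabP o p) = 20160 := by
  obtain ⟨-, -, ⟨e⟩⟩ := Cfsg.Agent.S1554.result o ho p hp
  rw [show Nat.card (stabP o p) = Nat.card (alternatingGroup (Fin 8)) from Nat.card_congr e.toEquiv,
    nat_card_alternatingGroup, Nat.card_fin]
  rfl

theorem card_mulAut_le (ho : o ∈ octads) : Nat.card (↥(fixO o) ≃* ↥(fixO o)) ≤ 20160 := by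
  obtain ⟨hc, hsq⟩ := Cfsg.Agent.S0381.result o ho
  have hsq' : ∀ a : fixO o, a * a = 1 := fun a => Subtype.ext (hsq _ a.2)
  letI : CommGroup (fixO o) := { (inferInstance : Group (fixO o)) with
    mul_comm := fun a b => by
      calc a * b = (a * b)⁻¹ := (inv_eq_of_mul_eq_one_right (hsq' _)).symm
        _ = _ := by rw [_root_.mul_inv_rev, inv_eq_of_mul_eq_one_right (hsq' a),
          inv_eq_of_mul_eq_one_right (hsq' b)] }
  letI : Module (ZMod 2) (Additive (fixO o)) := AddCommGroup.zmodModule fun u => by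
    rw [two_nsmul]; exact hsq' (Additive.toMul u)
  haveI : Module.Finite (ZMod 2) (Additive (fixO o)) := Module.Finite.of_finite
  have hfr : Module.finrank (ZMod 2) (Additive (fixO o)) = 4 := by
    have h : Nat.card (Additive (fixO o)) = 2 ^ 4 := (Nat.card_congr Additive.toMul).trans hc
    rw [Module.natCard_eq_pow_finrank (K := ZMod 2), Nat.card_zmod] at h
    exact Nat.pow_right_injective le_rfl h
  let b := Module.finBasisOfFinrankEq (ZMod 2) (Additive (fixO o)) hfr
  let f : (↥(fixO o) ≃* ↥(fixO o)) → GL (Fin 4) (ZMod 2) := fun φ =>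
    Matrix.GeneralLinearGroup.toLin.symm (LinearMap.GeneralLinearGroup.ofLinearEquiv
      ((b.equivFun.symm.trans
        { MulEquiv.toAdditive φ with
          map_smul' := fun c x => ZMod.map_smul (MulEquiv.toAdditive φ) c x }).trans b.equivFun))
  have hf : Function.Injective f := fun φ ψ h => by
    simp only [f, EmbeddingLike.apply_eq_iff_eq] at h
    refine MulEquiv.ext fun u => ?_
    have h' := congrArg (fun T : LinearMap.GeneralLinearGroup (ZMod 2) (Fin 4 → ZMod 2) =>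
      T.1 (b.equivFun (Additive.ofMul u))) h
    simp [LinearMap.GeneralLinearGroup.ofLinearEquiv] at h'
    exact h'
  refine (Nat.card_le_card_of_injective f hf).trans (le_of_eq ?_)
  rw [Matrix.card_GL_field, ZMod.card]
  decide

/-- The structure of the centralizer. -/
theorem octad_involution (z : ↥M24) (hz : orderOf z = 2)
    (hfix : (Finset.univ.filter fun p : GolayPt => (z : Perm GolayPt) p = p) ∈ octads)
    (Q : Subgroup ↥M24) (hQ : Q = (Cfsg.pCore 2 ↥(Subgroup.centralizer ({z} : Set ↥M24))).map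
      (Subgroup.centralizer ({z} : Set ↥M24)).subtype) :
    Cfsg.IsExtraspecial 2 ↥Q ∧ Nat.card ↥Q = 2 ^ 7 ∧
      (∃ E : Subgroup ↥M24, E ≤ Q ∧ Cfsg.IsElementaryAbelian 2 E ∧ Nat.card ↥E = 2 ^ 4) ∧
      Cfsg.IsLargeExtraspecial Q ∧ ∃ K : Subgroup ↥M24, K ≤ Subgroup.centralizer ({z} : Set ↥M24) ∧
        Q ⊓ K = ⊥ ∧ Q ⊔ K = Subgroup.centralizer ({z} : Set ↥M24) ∧
        Nonempty (↥K ≃* Matrix.SpecialLinearGroup (Fin 3) (ZMod 2)) := by
  classical
  set o := Finset.univ.filter fun p : GolayPt => (z : Perm GolayPt) p = p with hodef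
  have hmo : ∀ {q}, q ∈ o ↔ (z : Perm GolayPt) q = q := fun {q} => by simp [hodef]
  have hz1 : z ≠ 1 := fun h => by rw [h, orderOf_one] at hz; norm_num at hz
  obtain ⟨p, hp⟩ : ∃ p, p ∉ o := by
    by_contra hne
    push Not at hne
    exact hz1 (Subtype.ext (Equiv.ext fun q => hmo.1 (hne q)))
  have hle : octStab o ≤ M24 := inf_le_left
  let incl : ↥(octStab o) →* ↥M24 := Subgroup.inclusion hle
  have hincl : Function.Injective incl := Subgroup.inclusion_injective hle
  let U : Subgroup ↥(octStab o) := (fixO o).subgroupOf (octStab o)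
  let M : Subgroup ↥(octStab o) := (stabP o p).subgroupOf (octStab o)
  have hFo : fixO o ≤ octStab o := fun g hg => ⟨hg.1, stab_of_fix (mem_fixO.1 hg).2⟩
  have hKo : stabP o p ≤ octStab o := inf_le_left
  haveI : U.Normal := ⟨fun a ha g => by
    refine mem_fixO.2 ⟨mul_mem (mul_mem g.2.1 (mem_fixO.1 ha).1) (inv_mem g.2.1), fun q hq => ?_⟩
    show (g : Perm GolayPt) ((a : Perm GolayPt) ((g : Perm GolayPt)⁻¹ q)) = q
    have ha' : ∀ r ∈ o, (a : Perm GolayPt) r = r := (mem_fixO.1 ha).2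
    rw [ha' _ ((mem_iff_of_mem g _).1 (by rwa [Equiv.Perm.coe_inv, Equiv.apply_symm_apply]))]
    exact Equiv.apply_symm_apply _ _⟩
  obtain ⟨hc16, hsq⟩ := Cfsg.Agent.S0381.result o hfix
  obtain ⟨hb, ht, -⟩ := Cfsg.Agent.S1554.result o hfix p hp
  have hcomm : ∀ a b : fixO o, a * b = b * a := fun a b => by
    have hs : ∀ c : fixO o, c * c = 1 := fun c => Subtype.ext (hsq _ c.2)
    calc a * b = (a * b)⁻¹ := (inv_eq_of_mul_eq_one_right (hs _)).symm
      _ = _ := by rw [_root_.mul_inv_rev, inv_eq_of_mul_eq_one_right (hs a),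
        inv_eq_of_mul_eq_one_right (hs b)]
  have hU : Cfsg.IsElementaryAbelian 2 U :=
    ⟨⟨⟨fun a b => Subtype.ext (Subtype.ext (congrArg (Subtype.val : fixO o → Perm GolayPt)
      (hcomm ⟨_, a.2⟩ ⟨_, b.2⟩) :))⟩⟩, fun a ha => Subtype.ext (by rw [pow_two]; exact hsq _ ha)⟩
  have hUcard : Nat.card U = 2 ^ (3 + 1) := by
    rw [Nat.card_congr (Subgroup.subgroupOfEquivOfLe hFo).toEquiv]
    exact hc16
  have hUM : U ⊓ M = ⊥ := by
    rw [eq_bot_iff]
    intro a ha
    have h : (a : Perm GolayPt) ∈ fixO o ⊓ stabP o p := ⟨ha.1, ha.2⟩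
    rw [show fixO o ⊓ stabP o p = ⊥ from hb] at h
    exact Subtype.ext h
  have hUM' : U ⊔ M = ⊤ := by
    rw [← Subgroup.subgroupOf_sup hFo hKo]
    exact Subgroup.subgroupOf_eq_top.2 (le_of_eq ht.symm)
  have hfaith : ∀ m ∈ M, (∀ u ∈ U, m * u * m⁻¹ = u) → m = 1 := fun m hm h =>
    Subtype.ext (stabP_faithful hfix hp hm fun u hu =>
      congrArg Subtype.val (h ⟨u, hFo hu⟩ hu))
  have hfull : ∀ φ : ↥U ≃* ↥U, ∃ m ∈ M, ∀ u : ↥U, ((φ u : ↥U) : ↥(octStab o)) = m * u * m⁻¹ := by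
    let f : M → (↥U ≃* ↥U) := fun m => MulAut.conjNormal (m : ↥(octStab o))
    haveI : Finite (↥U ≃* ↥U) := Finite.of_injective (fun φ => (φ : U → U)) DFunLike.coe_injective
    have hf : Function.Injective f := fun m m' h => by
      refine Subtype.ext (inv_mul_eq_one.1 (hfaith _ (mul_mem (inv_mem m'.2) m.2) fun u hu => ?_)).symm
      have h' := congrArg Subtype.val (MulEquiv.congr_fun h ⟨u, hu⟩)
      simp only [f, MulAut.conjNormal_apply] at h'
      calc (m' : ↥(octStab o))⁻¹ * m * u * ((m' : ↥(octStab o))⁻¹ * m)⁻¹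
          = (m' : ↥(octStab o))⁻¹ * ((m : ↥(octStab o)) * u * (m : ↥(octStab o))⁻¹) * m' := by group
        _ = u := by rw [h']; group
    have hcards : Nat.card M = Nat.card (↥U ≃* ↥U) := by
      refine le_antisymm (Nat.card_le_card_of_injective f hf) ?_
      rw [Nat.card_congr (Subgroup.subgroupOfEquivOfLe hKo).toEquiv, card_stabP hfix hp]
      let e := Subgroup.subgroupOfEquivOfLe hFo
      refine le_trans (le_of_eq (Nat.card_congr
        { toFun := fun φ => (e.symm.trans φ).trans e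
          invFun := fun φ => (e.trans φ).trans e.symm
          left_inv := fun φ => by ext x; simp
          right_inv := fun φ => by ext x; simp })) (card_mulAut_le hfix)
    intro φ
    obtain ⟨m, rfl⟩ := ((Nat.bijective_iff_injective_and_card f).2 ⟨hf, hcards⟩).2 φ
    exact ⟨m, m.2, fun u => MulAut.conjNormal_apply _ _⟩
  have hzfix : (z : Perm GolayPt) ∈ fixO o := mem_fixO.2 ⟨z.2, fun q hq => hmo.1 hq⟩
  let z' : ↥(octStab o) := ⟨z, hFo hzfix⟩
  obtain ⟨φ0, hinj0, hφ0z, hr0, -, hUle⟩ := Par.affine_embed (n := 3) (by norm_num) U M hU hUcard hUM hUM'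
    hfaith hfull z' hzfix (fun h => hz1 (Subtype.ext (congrArg Subtype.val h :)))
  let φ : Par 3 →* ↥M24 := incl.comp φ0
  have hinj : Function.Injective φ := hincl.comp hinj0
  have hφz : φ Par.zP = z := by
    show incl (φ0 Par.zP) = z
    rw [hφ0z]
    rfl
  have hcen : ∀ c : ↥M24, c * z = z * c → (c : Perm GolayPt) ∈ octStab o := fun c hc => by
    refine ⟨c.2, ?_⟩
    show (c : Perm GolayPt) • o = o
    have hc' : ∀ q, (c : Perm GolayPt) ((z : Perm GolayPt) q) = (z : Perm GolayPt) ((c : Perm GolayPt) q) :=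
      fun q => Equiv.congr_fun (congrArg Subtype.val hc) q
    ext q
    rw [← Finset.inv_smul_mem_iff, hmo, hmo, Equiv.Perm.smul_def]
    constructor
    · intro h
      have h2 := hc' ((c : Perm GolayPt)⁻¹ q)
      rw [h] at h2
      simpa using h2.symm
    · intro h
      apply (c : Perm GolayPt).injective
      rw [hc']
      simpa using h
  have hr : φ.range = Subgroup.centralizer ({φ Par.zP} : Set ↥M24) := by
    refine le_antisymm ?_ fun c hc => ?_
    · rintro _ ⟨q, rfl⟩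
      have h : φ0 q ∈ φ0.range := ⟨q, rfl⟩
      rw [hr0, Subgroup.mem_centralizer_singleton_iff, ← hφ0z] at h
      rw [Subgroup.mem_centralizer_singleton_iff]
      show incl (φ0 q) * incl (φ0 Par.zP) = incl (φ0 Par.zP) * incl (φ0 q)
      rw [← map_mul, h, map_mul]
    · rw [Subgroup.mem_centralizer_singleton_iff, hφz] at hc
      have h : (⟨c, hcen c hc⟩ : ↥(octStab o)) ∈ φ0.range := by
        rw [hr0, Subgroup.mem_centralizer_singleton_iff]
        exact Subtype.ext (congrArg Subtype.val hc :)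
      obtain ⟨q, hq⟩ := h
      refine ⟨q, ?_⟩
      show incl (φ0 q) = c
      rw [hq]
      rfl
  rw [← hφz] at hQ ⊢
  obtain ⟨hQ', hE, hcard, hA, hZ, h2, h3, K, hK1, hK2, hK3, ⟨e⟩⟩ :=
    Par.package (by norm_num) φ hinj hr Q hQ
  refine ⟨hE, hcard, hA, ?_, K, hK1, hK2, hK3, ⟨e.trans (Par.slEquivGL 3).symm⟩⟩
  have hUQ : ∀ u : ↥M24, (u : Perm GolayPt) ∈ fixO o → u ∈ Q := by
    intro u hu
    obtain ⟨q, hq1, hq2⟩ := hUle ⟨u, hFo hu⟩ hu
    refine hQ' ▸ ⟨q, hq1, ?_⟩
    show incl (φ0 q) = u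
    rw [hq2]
    rfl
  obtain ⟨b, hb1, hbz⟩ : ∃ b : fixO o, (b : Perm GolayPt) ≠ 1 ∧ (b : Perm GolayPt) ≠ z := by
    by_contra hne
    push Not at hne
    have h2 : Nat.card (fixO o) ≤ Nat.card ({1, ⟨z, hzfix⟩} : Set (fixO o)) :=
      Nat.card_le_card_of_injective (fun b => (⟨b, by
        by_cases h : (b : Perm GolayPt) = 1
        · exact Or.inl (Subtype.ext h)
        · exact Or.inr (Subtype.ext (hne b h))⟩ : ({1, ⟨z, hzfix⟩} : Set (fixO o))))
        (fun a c h => by simpa using h)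
    rw [show Nat.card (fixO o) = 16 from hc16, Nat.card_coe_set_eq] at h2
    exact absurd (h2.trans (Set.ncard_insert_le _ _)) (by simp)
  let b' : ↥M24 := ⟨b, b.2.1⟩
  have hb2 : orderOf b' = 2 :=
    orderOf_eq_prime (by rw [pow_two]; exact Subtype.ext (hsq _ b.2))
      fun h => hb1 (congrArg Subtype.val h)
  have hbfree : ∀ q, q ∉ o → (b : Perm GolayPt) q ≠ q := fun q hq h =>
    hb1 (fixO_inf hfix hq b.2 h)
  have hbfixed : ∀ q ∈ o, (b : Perm GolayPt) q = q := (mem_fixO.1 b.2).2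
  have hno : ∀ g : Perm GolayPt, (∀ q ∈ o, g q = q) → ¬ ∀ q, g q ≠ q := fun g hg hall => by
    have : o.Nonempty := by
      rw [Finset.nonempty_iff_ne_empty]
      intro he
      rw [he] at hfix
      obtain ⟨g', -, he'⟩ := Cfsg.Agent.Lib.GolayOrbit.exists_to_baseOctad hfix
      rw [Finset.smul_finset_empty] at he'
      exact absurd (congrArg Finset.card he') (by decide +kernel)
    obtain ⟨q, hq⟩ := this
    exact hall q (hg q hq)
  obtain ⟨g, hg, hgz⟩ := (Cfsg.Agent.S5394.result).2.2.2 _ z.2 _ b.2.1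
    ((Subgroup.orderOf_coe z).trans hz) ((Subgroup.orderOf_coe b').trans hb2)
    (iff_of_false (hno _ (mem_fixO.1 hzfix).2) (hno _ hbfixed))
  -- the conjugating element stabilises the octad
  have hgo : ∀ q ∈ o, g q ∈ o := fun q hq => by
    by_contra hgq
    refine hbfree _ hgq ?_
    rw [← hgz]
    show g ((z : Perm GolayPt) (g.symm (g q))) = g q
    rw [Equiv.symm_apply_apply, hmo.1 hq]
  let g' : ↥M24 := ⟨g, hg⟩
  have hgz' : g' * z * g'⁻¹ = b' := Subtype.ext hgz
  refine isLarge_of_core hE h2 h3 (b := b') (hUQ _ b.2) ?_ hb2 ?_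
  · rw [hZ, hφz]
    intro h
    rw [← mem_powers_iff_mem_zpowers] at h
    obtain ⟨k, hk⟩ := h
    change z ^ k = b' at hk
    rw [← pow_mod_orderOf, hz] at hk
    rcases Nat.mod_two_eq_zero_or_one k with hk' | hk' <;> rw [hk'] at hk
    · exact hb1 (congrArg Subtype.val hk).symm
    · rw [pow_one] at hk
      exact hbz (congrArg Subtype.val hk).symm
  · rw [hZ, hφz, Subgroup.zpowers_le]
    show z ∈ coreAt b'
    have hpre : g'⁻¹ * z * g' ∈ Q := by
      refine hUQ _ (mem_fixO.2 ⟨(g'⁻¹ * z * g').2, fun q hq => ?_⟩)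
      show g.symm ((z : Perm GolayPt) (g q)) = q
      rw [hmo.1 (hgo q hq), Equiv.symm_apply_apply]
    rw [hQ, hφz] at hpre
    have h := coreAt_map_conj g' z hpre
    rw [hgz', show g' * (g'⁻¹ * z * g') * g'⁻¹ = z by group] at h
    exact h

end Cfsg.Agent.Lib.ThreeTransp.M24Octad
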