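import Cfsg.Agent.Lib.ThreeTransp.TensorMax

/-!
The dichotomy for groups containing `SL_a ⊗ SL_b`, `a < b`.
-/

set_option autoImplicit false

namespace Cfsg.Agent.Lib.ThreeTransp.Tensor

open Matrix Module
open Cfsg.Agent.Lib.MaxSub (tv InK tv_mulVec tv_mem_specialLinear exists_functional)
open scoped MatrixGroups Matrix Kronecker

variable {a b : ℕ} {F : Type*} [Field F]
variable {M : Subgroup (GL (Fin a × Fin b) F)}

variable (hM : Contains M)
include hM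

omit hM in
theorem lin_ext {W : Type*} [AddCommGroup W] [Module F W] {f g : (Fin a × Fin b → F) →ₗ[F] W}
    (h : ∀ x u, f (pure x u) = g (pure x u)) (p : Fin a × Fin b → F) : f p = g p := by
  refine LinearMap.congr_fun ((Pi.basisFun F (Fin a × Fin b)).ext fun q => ?_) p
  rw [Pi.basisFun_apply, show q = (q.1, q.2) from rfl, single_pure]
  exact h _ _

omit hM in
theorem vecMul_kr (gh : GL (Fin a) F × GL (Fin b) F) (η : Fin a → F) (χ : Fin b → F) :
    pure η χ ᵥ* (kr gh : Matrix (Fin a × Fin b) (Fin a × Fin b) F) =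
      pure (η ᵥ* (gh.1 : Matrix (Fin a) (Fin a) F)) (χ ᵥ* (gh.2 : Matrix (Fin b) (Fin b) F)) := by
  refine dotProduct_eq _ _ fun p => ?_
  rw [← Matrix.dotProduct_mulVec]
  exact lin_ext (f := (dotProductBilin F F (pure η χ)).comp (Matrix.mulVecLin (kr gh : Matrix _ _ F)))
    (g := dotProductBilin F F (pure (η ᵥ* (gh.1 : Matrix (Fin a) (Fin a) F)) (χ ᵥ* (gh.2 : Matrix (Fin b) (Fin b) F))))
    (fun x u => by
      show pure η χ ⬝ᵥ _ *ᵥ pure x u = pure _ _ ⬝ᵥ pure x u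
      rw [kr_pure, pure_dot, pure_dot, Matrix.dotProduct_mulVec, Matrix.dotProduct_mulVec]) p

omit hM in
theorem ctr_kr (gh : GL (Fin a) F × GL (Fin b) F) (φ : Fin b → F) (p : Fin a × Fin b → F) :
    ctr φ ((kr gh : Matrix (Fin a × Fin b) (Fin a × Fin b) F) *ᵥ p) =
      (gh.1 : Matrix (Fin a) (Fin a) F) *ᵥ ctr (φ ᵥ* (gh.2 : Matrix (Fin b) (Fin b) F)) p := by
  refine lin_ext (f := (ctr φ).comp (Matrix.mulVecLin (kr gh : Matrix _ _ F)))
    (g := (Matrix.mulVecLin (gh.1 : Matrix (Fin a) (Fin a) F)).comp (ctr (φ ᵥ* (gh.2 : Matrix (Fin b) (Fin b) F))))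
    (fun x u => ?_) p
  simp only [LinearMap.comp_apply, Matrix.mulVecLin_apply, kr_pure, ctr_pure, Matrix.mulVec_smul,
    Matrix.dotProduct_mulVec]

/-- An element trivial on `A ⊗ β` and on its quotient whose conjugates of the group stay inside is `1 ⊗` a map. -/
theorem axis_of_unipotent [Finite F] (hb : 3 ≤ b) (hex : 3 ≤ a ∨ 2 < Nat.card F) (hno : NoPure M) {β : Fin b → F}
    (hβ : β ≠ 0) (X : GL (Fin a × Fin b) F)
    (hX1 : ∀ x, (X : Matrix (Fin a × Fin b) (Fin a × Fin b) F) *ᵥ pure x β = pure x β)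
    (hX2 : ∀ p, ∀ φ : Fin b → F, φ ⬝ᵥ β = 0 →
      ctr φ ((X : Matrix (Fin a × Fin b) (Fin a × Fin b) F) *ᵥ p) = ctr φ p)
    (hconj : ∀ gh : GL (Fin a) F × GL (Fin b) F, gh.1 ∈ Cfsg.Geo.specialLinear (Fin a) F →
      gh.2 ∈ Cfsg.Geo.specialLinear (Fin b) F → X * kr gh * X⁻¹ ∈ M) :
    ∃ (ψ : Fin b → F) (h : ψ ⬝ᵥ β = 0), X = T β ψ h := by
  classical
  obtain ⟨ξ, hξ⟩ := exists_dot_one hβ
  let L : (Fin b → F) → (Fin a → F) →ₗ[F] (Fin a → F) := fun u =>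
    (ctr ξ).comp ((Matrix.mulVecLin (X : Matrix (Fin a × Fin b) (Fin a × Fin b) F) - LinearMap.id).comp (left u))
  let Λ : (Fin b → F) → Matrix (Fin a) (Fin a) F := fun u => LinearMap.toMatrix' (L u)
  have hform : ∀ x u, (X : Matrix (Fin a × Fin b) (Fin a × Fin b) F) *ᵥ pure x u = pure x u + pure (Λ u *ᵥ x) β := by
    intro x u
    have h0 := eq_smul_of_ctr hξ (p := (X : Matrix (Fin a × Fin b) (Fin a × Fin b) F) *ᵥ pure x u - pure x u)
      fun φ hφ => by rw [map_sub, hX2 _ φ hφ, sub_self]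
    rw [show Λ u *ᵥ x = ctr ξ ((X : Matrix (Fin a × Fin b) (Fin a × Fin b) F) *ᵥ pure x u - pure x u) by
      rw [← Matrix.toLin'_apply, Matrix.toLin'_toMatrix']; rfl, ← h0, add_sub_cancel]
  have hadd : ∀ u w, Λ (u + w) = Λ u + Λ w := fun u w => by
    simp only [Λ, ← map_add]
    congr 1
    refine LinearMap.ext fun x => ?_
    simp [L, left, pure_add_right, Matrix.mulVec_add]
    abel
  have hsmul : ∀ (c : F) u, Λ (c • u) = c • Λ u := fun c u => by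
    simp only [Λ, ← map_smul]
    congr 1
    refine LinearMap.ext fun x => ?_
    simp [L, left, pure_smul_right, Matrix.mulVec_smul, smul_sub]
  have hΛβ : Λ β = 0 := by
    simp only [Λ, LinearEquiv.map_eq_zero_iff]
    refine LinearMap.ext fun x => ?_
    simp [L, left, hX1]
  have hinv : ∀ x u, ((X⁻¹ : GL (Fin a × Fin b) F) : Matrix (Fin a × Fin b) (Fin a × Fin b) F) *ᵥ pure x u =
      pure x u - pure (Λ u *ᵥ x) β := fun x u => by
    have h1 : (X : Matrix (Fin a × Fin b) (Fin a × Fin b) F) *ᵥ (pure x u - pure (Λ u *ᵥ x) β) = pure x u := by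
      rw [Matrix.mulVec_sub, hX1, hform, add_sub_cancel_right]
    conv_lhs => rw [← h1, mulVec_inv_mulVec]
  have hscal : ∀ w, ∃ c : F, Λ w = c • 1 := by
    intro w
    obtain ⟨z, hz⟩ : ∃ z : Fin b → F, z ∉ Submodule.span F {β, w} := by
      by_contra hc
      push Not at hc
      have h1 := Submodule.finrank_mono (show (⊤ : Submodule F (Fin b → F)) ≤ Submodule.span F {β, w} from
        fun z _ => hc z)
      rw [finrank_top, Module.finrank_fin_fun] at h1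
      have h7 := finrank_span_finset_le_card (R := F) ({β, w} : Finset (Fin b → F))
      rw [Set.finrank, Finset.coe_insert, Finset.coe_singleton] at h7
      have := Finset.card_le_two (a := β) (b := w)
      omega
    obtain ⟨χ, hχ, hχz⟩ := exists_functional _ hz
    have hχβ := hχ β (Submodule.subset_span (by simp))
    have hχw := hχ w (Submodule.subset_span (by simp))
    have hχ0 : χ ≠ 0 := fun e => by rw [e, zero_dotProduct] at hχz; exact zero_ne_one hχz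
    have hτ : ∀ x u, (kr ((1 : GL (Fin a) F), tv w χ hχw) : Matrix (Fin a × Fin b) (Fin a × Fin b) F) *ᵥ pure x u =
        pure x (u + (χ ⬝ᵥ u) • w) := fun x u => by rw [kr_pure, tv_mulVec, Units.val_one, Matrix.one_mulVec]
    have hτi : ∀ x u, (((kr ((1 : GL (Fin a) F), tv w χ hχw))⁻¹ : GL (Fin a × Fin b) F) :
        Matrix (Fin a × Fin b) (Fin a × Fin b) F) *ᵥ pure x u = pure x (u - (χ ⬝ᵥ u) • w) := fun x u => by
      rw [← map_inv, kr_pure]
      simp only [Prod.fst_inv, Prod.snd_inv, inv_one, Units.val_one, Matrix.one_mulVec, Cfsg.Agent.Lib.MaxSub.tv_inv,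
        tv_mulVec, neg_dotProduct, neg_smul, ← sub_eq_add_neg]
    have hmem : InX M (Λ w) β χ := by
      refine ⟨hχβ, X * kr ((1 : GL (Fin a) F), tv w χ hχw) * X⁻¹ * (kr ((1 : GL (Fin a) F), tv w χ hχw))⁻¹,
        M.mul_mem (hconj _ (one_mem _) (tv_mem_specialLinear _ _ hχw))
          (M.inv_mem (hM _ (one_mem _) (tv_mem_specialLinear _ _ hχw))), fun x u => ?_⟩
      rw [mulVec_mul, mulVec_mul, mulVec_mul, hτi, hinv, Matrix.mulVec_sub, hτ, hτ, dotProduct_sub, dotProduct_smul,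
        hχw, smul_zero, sub_zero, sub_add_cancel, hχβ, zero_smul, add_zero, Matrix.mulVec_sub, hform, hX1,
        show Λ (u - (χ ⬝ᵥ u) • w) = Λ u - (χ ⬝ᵥ u) • Λ w by
          rw [eq_sub_iff_add_eq, ← hsmul, ← hadd, sub_add_cancel],
        Matrix.sub_mulVec, Matrix.smul_mulVec, ← pure_smul_left]
      funext q
      simp [pure]
      ring
    exact scalar_of_all hM hex hno hβ hχ0 hχβ fun χ' hχ' => hmem.all_axes hM hb hβ hχ0 hχ'
  choose c hc using hscal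
  let ψ : Fin b → F := fun j => c (Pi.single j 1)
  have hψ : ∀ u, Λ u = (ψ ⬝ᵥ u) • (1 : Matrix (Fin a) (Fin a) F) := by
    intro u
    let Λ' : (Fin b → F) →ₗ[F] Matrix (Fin a) (Fin a) F := { toFun := Λ, map_add' := hadd, map_smul' := hsmul }
    have h1 : Λ' = (dotProductBilin F F ψ).smulRight (1 : Matrix (Fin a) (Fin a) F) :=
      (Pi.basisFun F (Fin b)).ext fun j => by
        rw [Pi.basisFun_apply, LinearMap.smulRight_apply]
        show Λ _ = (ψ ⬝ᵥ Pi.single j 1) • _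
        rw [hc, dotProduct_single, mul_one]
    exact LinearMap.congr_fun h1 u
  rcases isEmpty_or_nonempty (Fin a) with ha | ⟨⟨i₀⟩⟩
  · refine ⟨0, zero_dotProduct β, Units.ext (eq_of_pure fun x u => ?_)⟩
    funext q
    exact (ha.false q.1).elim
  have hψβ : ψ ⬝ᵥ β = 0 := by
    have h1 := hψ β
    rw [hΛβ] at h1
    have h2 := congrFun (congrFun h1 i₀) i₀
    simpa using h2.symm
  refine ⟨ψ, hψβ, Units.ext (eq_of_pure fun x u => ?_)⟩
  rw [hform, T_pure, hψ, Matrix.smul_mulVec, Matrix.one_mulVec, pure_smul_left]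

omit hM in
theorem noPure_conj (hno : NoPure M) (n : GL (Fin a) F × GL (Fin b) F) :
    NoPure (M.map (MulAut.conj (kr n)⁻¹).toMonoidHom) := by
  intro α η β χ hα hη hβ hχ hηα hχβ h
  obtain ⟨hd, g, hg, hge⟩ := h
  have hne : ∀ {m : ℕ} (g : GL (Fin m) F) {η : Fin m → F}, η ≠ 0 →
      η ᵥ* ((g⁻¹ : GL (Fin m) F) : Matrix (Fin m) (Fin m) F) ≠ 0 := fun {m} g η hη e => hη (by
    have h2 := congrArg (fun y => Matrix.vecMul y (Units.val g)) e
    simpa [Matrix.vecMul_vecMul, ← Units.val_mul] using h2)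
  have hne' : ∀ {m : ℕ} (g : GL (Fin m) F) {v : Fin m → F}, v ≠ 0 → (g : Matrix (Fin m) (Fin m) F) *ᵥ v ≠ 0 :=
    fun {m} g v hv e => hv (by
      simpa [mulVec_inv_mulVec] using
        congrArg (((g⁻¹ : GL (Fin m) F) : Matrix (Fin m) (Fin m) F) *ᵥ ·) e)
  have hdot : ∀ {m : ℕ} (g : GL (Fin m) F) (η v : Fin m → F),
      (η ᵥ* ((g⁻¹ : GL (Fin m) F) : Matrix (Fin m) (Fin m) F)) ⬝ᵥ (g : Matrix (Fin m) (Fin m) F) *ᵥ v = η ⬝ᵥ v := by
    intro m g η v
    rw [← Matrix.dotProduct_mulVec, mulVec_inv_mulVec]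
  have hd' : pure (η ᵥ* ((n.1⁻¹ : GL (Fin a) F) : Matrix (Fin a) (Fin a) F))
      (χ ᵥ* ((n.2⁻¹ : GL (Fin b) F) : Matrix (Fin b) (Fin b) F)) ⬝ᵥ
      pure ((n.1 : Matrix (Fin a) (Fin a) F) *ᵥ α) ((n.2 : Matrix (Fin b) (Fin b) F) *ᵥ β) = 0 := by
    rw [pure_dot, hdot, hdot, ← pure_dot, hd]
  refine hno _ _ _ _ (hne' n.1 hα) (hne n.1 hη) (hne' n.2 hβ) (hne n.2 hχ) (by rw [hdot, hηα]) (by rw [hdot, hχβ])
    ⟨hd', ?_⟩
  have e1 : (kr n)⁻¹ * g * ((kr n)⁻¹)⁻¹ = tv (pure α β) (pure η χ) hd := hge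
  have e2 : (g : GL (Fin a × Fin b) F) =
      kr n * (tv (pure α β) (pure η χ) hd : GL (Fin a × Fin b) F) * (kr n)⁻¹ := by
    rw [← e1]; group
  suffices h3 : (tv _ _ hd' : GL (Fin a × Fin b) F) = g by rw [h3]; exact hg
  rw [e2]
  refine Units.ext (eq_of_pure fun x u => ?_)
  rw [mulVec_mul, mulVec_mul, ← map_inv, kr_pure, tv_mulVec, tv_mulVec, Matrix.mulVec_add, Matrix.mulVec_smul,
    kr_pure, kr_pure, pure_dot, pure_dot]
  simp only [Prod.fst_inv, Prod.snd_inv, mulVec_mulVec_inv, Matrix.dotProduct_mulVec]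

/-- An element stabilising some `A ⊗ β` lies in the Kronecker group. -/
theorem mem_of_stab [Finite F] (h1a : 1 ≤ a) (hb : 3 ≤ b) (hex : 3 ≤ a ∨ 2 < Nat.card F) (hno : NoPure M)
    {s : GL (Fin a × Fin b) F} (hs : s ∈ M) {β : Fin b → F} (hβ : β ≠ 0)
    (hst : ∀ x, ∃ y, (s : Matrix (Fin a × Fin b) (Fin a × Fin b) F) *ᵥ pure x β = pure y β) :
    s ∈ Cfsg.Geo.kroneckerSubgroup a b F := by
  classical
  obtain ⟨ξ, hξ⟩ := exists_dot_one hβ
  -- the action on `A ⊗ β`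
  let Aα : Matrix (Fin a) (Fin a) F :=
    LinearMap.toMatrix' ((ctr ξ).comp ((Matrix.mulVecLin (s : Matrix (Fin a × Fin b) (Fin a × Fin b) F)).comp (left β)))
  have hAα : ∀ x, (s : Matrix (Fin a × Fin b) (Fin a × Fin b) F) *ᵥ pure x β = pure (Aα *ᵥ x) β := by
    intro x
    obtain ⟨y, hy⟩ := hst x
    rw [show Aα *ᵥ x = ctr ξ ((s : Matrix (Fin a × Fin b) (Fin a × Fin b) F) *ᵥ pure x β) by
      rw [← Matrix.toLin'_apply, Matrix.toLin'_toMatrix']; rfl, hy, ctr_pure, hξ, one_smul]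
  have hAu : IsUnit Aα := by
    rw [← Matrix.mulVec_injective_iff_isUnit]
    intro x y e
    refine pure_left_cancel hβ (?_ : pure x β = pure y β)
    have h1 := congrArg (((s⁻¹ : GL (Fin a × Fin b) F) : Matrix (Fin a × Fin b) (Fin a × Fin b) F) *ᵥ ·)
      ((hAα x).trans ((congrArg (fun z => pure z β) e).trans (hAα y).symm))
    simpa only [mulVec_inv_mulVec] using h1
  set α : GL (Fin a) F := hAu.unit with hα
  have hαv : (α : Matrix (Fin a) (Fin a) F) = Aα := rfl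
  have hsi : ∀ x, ((s⁻¹ : GL (Fin a × Fin b) F) : Matrix (Fin a × Fin b) (Fin a × Fin b) F) *ᵥ pure x β =
      pure (((α⁻¹ : GL (Fin a) F) : Matrix (Fin a) (Fin a) F) *ᵥ x) β := fun x => by
    have h1 : (s : Matrix (Fin a × Fin b) (Fin a × Fin b) F) *ᵥ
        pure (((α⁻¹ : GL (Fin a) F) : Matrix (Fin a) (Fin a) F) *ᵥ x) β = pure x β := by
      rw [hAα, ← hαv, mulVec_mulVec_inv]
    conv_lhs => rw [← h1, mulVec_inv_mulVec]
  -- conjugates of the axes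
  have hψ : ∀ ψ : Fin b → F, ψ ⬝ᵥ β = 0 → ∃ φ : Fin b → F, φ ⬝ᵥ β = 0 ∧ ∀ x u,
      ctr φ ((s : Matrix (Fin a × Fin b) (Fin a × Fin b) F) *ᵥ pure x u) = (ψ ⬝ᵥ u) • (Aα *ᵥ x) := by
    intro ψ hψ
    have hT : T (a := a) β ψ hψ ∈ M := hM _ (one_mem _) (tv_mem_specialLinear _ _ hψ)
    have e : ∀ p, ((s * T β ψ hψ * s⁻¹ : GL (Fin a × Fin b) F) : Matrix (Fin a × Fin b) (Fin a × Fin b) F) *ᵥ p =
        p + pure (Aα *ᵥ ctr ψ (((s⁻¹ : GL (Fin a × Fin b) F) : Matrix (Fin a × Fin b) (Fin a × Fin b) F) *ᵥ p)) β :=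
      fun p => by rw [mulVec_mul, mulVec_mul, T_mulVec, Matrix.mulVec_add, mulVec_mulVec_inv, hAα]
    obtain ⟨φ, hφ, hφe⟩ := axis_of_unipotent hM hb hex hno hβ (s * T β ψ hψ * s⁻¹)
      (fun x => by rw [e, hsi, ctr_pure, hψ, zero_smul, Matrix.mulVec_zero, pure_zero_left, add_zero])
      (fun p φ hφ => by rw [e, map_add, ctr_pure, hφ, zero_smul, add_zero])
      (fun gh h1 h2 => M.mul_mem (M.mul_mem (M.mul_mem (M.mul_mem hs hT) (M.inv_mem hs)) (hM gh h1 h2))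
        (M.inv_mem (M.mul_mem (M.mul_mem hs hT) (M.inv_mem hs))))
    refine ⟨φ, hφ, fun x u => ?_⟩
    have h1 := e ((s : Matrix (Fin a × Fin b) (Fin a × Fin b) F) *ᵥ pure x u)
    rw [hφe, T_mulVec, mulVec_inv_mulVec, ctr_pure, Matrix.mulVec_smul] at h1
    exact pure_left_cancel hβ (add_left_cancel h1)
  choose φ hφ hφe using hψ
  -- the second factor
  let i₀ : Fin a := ⟨0, h1a⟩
  let e₀ : Fin a → F := Pi.single i₀ 1
  set s₁ : GL (Fin a × Fin b) F := kr (α⁻¹, (1 : GL (Fin b) F)) * s with hs₁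
  have hs₁β : ∀ x, (s₁ : Matrix (Fin a × Fin b) (Fin a × Fin b) F) *ᵥ pure x β = pure x β := fun x => by
    rw [hs₁, mulVec_mul, hAα, kr_pure, ← hαv, mulVec_inv_mulVec, Units.val_one, Matrix.one_mulVec]
  have hs₁φ : ∀ ψ h x u, ctr (φ ψ h) ((s₁ : Matrix (Fin a × Fin b) (Fin a × Fin b) F) *ᵥ pure x u) =
      (ψ ⬝ᵥ u) • x := fun ψ h x u => by
    rw [hs₁, mulVec_mul, ctr_kr, Units.val_one, Matrix.vecMul_one, hφe, ← hαv, Matrix.mulVec_smul, mulVec_inv_mulVec]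
  let H : Matrix (Fin b) (Fin b) F := LinearMap.toMatrix'
    ((ctl e₀).comp ((Matrix.mulVecLin (s₁ : Matrix (Fin a × Fin b) (Fin a × Fin b) F)).comp (right e₀)))
  have hH : ∀ u, H *ᵥ u = ctl e₀ ((s₁ : Matrix (Fin a × Fin b) (Fin a × Fin b) F) *ᵥ pure e₀ u) := fun u => by
    rw [← Matrix.toLin'_apply, Matrix.toLin'_toMatrix']; rfl
  have he₀ : e₀ ⬝ᵥ e₀ = 1 := by simp [e₀]
  have hHφ : ∀ ψ h u, φ ψ h ⬝ᵥ H *ᵥ u = ψ ⬝ᵥ u := fun ψ h u => by
    have h1 := congrArg (e₀ ⬝ᵥ ·) (hs₁φ ψ h e₀ u)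
    rw [dotProduct_smul, he₀, smul_eq_mul, mul_one] at h1
    rw [← h1, hH]
    simp only [ctr, ctl, dotProduct, LinearMap.coe_mk, AddHom.coe_mk, Finset.mul_sum]
    rw [Finset.sum_comm]
    exact Finset.sum_congr rfl fun i _ => Finset.sum_congr rfl fun j _ => by ring
  have hHβ : H *ᵥ β = β := by rw [hH, hs₁β, ctl_pure, he₀, one_smul]
  have hHu : IsUnit H := by
    rw [← Matrix.mulVec_injective_iff_isUnit]
    refine (injective_iff_map_eq_zero (Matrix.mulVecLin H)).mpr fun u hu => ?_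
    have hu' : H *ᵥ u = 0 := hu
    by_cases hm : u ∈ F ∙ β
    · obtain ⟨c, rfl⟩ := Submodule.mem_span_singleton.mp hm
      rw [Matrix.mulVec_smul, hHβ] at hu'
      exact hu'
    · obtain ⟨ψ, hψ, hψu⟩ := exists_functional _ hm
      have h1 := hHφ ψ (hψ β (Submodule.mem_span_singleton_self β)) u
      rw [hu', dotProduct_zero, hψu] at h1
      exact absurd h1 zero_ne_one
  set h₂ : GL (Fin b) F := hHu.unit with hh₂
  have hh₂v : (h₂ : Matrix (Fin b) (Fin b) F) = H := rfl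
  -- every axis occurs
  have hsurj : ∀ ρ : Fin b → F, ρ ⬝ᵥ β = 0 → ∃ ψ h, φ ψ h = ρ := by
    intro ρ hρ
    haveI : Finite {ρ : Fin b → F // ρ ⬝ᵥ β = 0} := Subtype.finite
    let Φ' : {ρ : Fin b → F // ρ ⬝ᵥ β = 0} → {ρ : Fin b → F // ρ ⬝ᵥ β = 0} := fun ψ => ⟨φ ψ.1 ψ.2, hφ ψ.1 ψ.2⟩
    have hinj : Function.Injective Φ' := fun ψ ψ' e => Subtype.ext (dotProduct_eq _ _ fun u => by
      rw [← hHφ ψ.1 ψ.2, ← hHφ ψ'.1 ψ'.2]
      exact congrArg (· ⬝ᵥ H *ᵥ u) (congrArg Subtype.val e))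
    obtain ⟨ψ, hψ⟩ := (Finite.injective_iff_surjective.mp hinj) ⟨ρ, hρ⟩
    exact ⟨ψ.1, ψ.2, congrArg Subtype.val hψ⟩
  set n : GL (Fin a) F × GL (Fin b) F := (α, h₂) with hn
  set X : GL (Fin a × Fin b) F := (kr n)⁻¹ * s with hX
  have hXs : X = kr ((1 : GL (Fin a) F), h₂⁻¹) * s₁ := by
    rw [hX, hs₁, ← mul_assoc, ← map_mul, ← map_inv]; congr 2; simp [hn]
  have hh₂β : ((h₂⁻¹ : GL (Fin b) F) : Matrix (Fin b) (Fin b) F) *ᵥ β = β := by
    conv_lhs => rw [← hHβ, ← hh₂v, mulVec_inv_mulVec]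
  obtain ⟨ψ, hψ0, hXe⟩ := axis_of_unipotent (M := M.map (MulAut.conj (kr n)⁻¹).toMonoidHom)
    (fun gh h1 h2 => ⟨kr (n * gh * n⁻¹), hM _ ((MonoidHom.normal_ker _).conj_mem _ h1 _)
      ((MonoidHom.normal_ker _).conj_mem _ h2 _), by
        show (kr n)⁻¹ * kr (n * gh * n⁻¹) * ((kr n)⁻¹)⁻¹ = kr gh
        rw [map_mul, map_mul, map_inv]; group⟩)
    hb hex (noPure_conj hno n) hβ X
    (fun x => by rw [hXs, mulVec_mul, hs₁β, kr_pure, hh₂β, Units.val_one, Matrix.one_mulVec])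
    (fun p ρ hρ => by
      refine lin_ext (f := (ctr ρ).comp (Matrix.mulVecLin (X : Matrix (Fin a × Fin b) (Fin a × Fin b) F)))
        (g := ctr ρ) (fun x u => ?_) p
      rw [LinearMap.comp_apply, Matrix.mulVecLin_apply, hXs, mulVec_mul, ctr_kr, Units.val_one, Matrix.one_mulVec]
      obtain ⟨ψ, h, hψe⟩ := hsurj (ρ ᵥ* ((h₂⁻¹ : GL (Fin b) F) : Matrix (Fin b) (Fin b) F))
        (by rw [← Matrix.dotProduct_mulVec, hh₂β, hρ])
      rw [← hψe, hs₁φ, ctr_pure, ← hHφ ψ h u, hψe, ← Matrix.dotProduct_mulVec, ← hh₂v, mulVec_inv_mulVec])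
    (fun gh h1 h2 => ⟨s * kr gh * s⁻¹, M.mul_mem (M.mul_mem hs (hM gh h1 h2)) (M.inv_mem hs), by
      show (kr n)⁻¹ * (s * kr gh * s⁻¹) * ((kr n)⁻¹)⁻¹ = X * kr gh * X⁻¹
      rw [hX]; group⟩)
  rw [show s = kr n * X by rw [hX]; group, hXe]
  exact Subgroup.mul_mem _ (mem_kronecker.mpr ⟨n, rfl⟩) (mem_kronecker.mpr ⟨_, rfl⟩)

/-- An element carrying one `1 ⊗` transvection to another lies in the Kronecker group. -/
theorem mem_of_conj_T [Finite F] (h1a : 1 ≤ a) (hb : 3 ≤ b) (hex : 3 ≤ a ∨ 2 < Nat.card F) (hno : NoPure M)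
    {k : GL (Fin a × Fin b) F} (hk : k ∈ M) {β φ β' φ' : Fin b → F} {h : φ ⬝ᵥ β = 0} {h' : φ' ⬝ᵥ β' = 0}
    (hφ : φ ≠ 0) (hβ : β ≠ 0) (hβ' : β' ≠ 0) (e : k * T β φ h * k⁻¹ = T β' φ' h') :
    k ∈ Cfsg.Geo.kroneckerSubgroup a b F := by
  obtain ⟨g, hg, hgβ⟩ := exists_SL_map (show 2 ≤ b by omega) hβ' hβ
  have hg' : kr ((1 : GL (Fin a) F), g) ∈ M := hM _ (one_mem _) hg
  suffices h1 : kr ((1 : GL (Fin a) F), g) * k ∈ Cfsg.Geo.kroneckerSubgroup a b F by
    have := Subgroup.mul_mem _ (Subgroup.inv_mem _ (mem_kronecker.mpr ⟨((1 : GL (Fin a) F), g), rfl⟩)) h1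
    rwa [inv_mul_cancel_left] at this
  refine mem_of_stab hM h1a hb hex hno (M.mul_mem hg' hk) hβ fun x => ?_
  obtain ⟨w, hw⟩ : ∃ w : Fin b → F, φ ⬝ᵥ w = 1 := by
    obtain ⟨ξ, hξ⟩ := exists_dot_one hφ
    exact ⟨ξ, by rw [dotProduct_comm]; exact hξ⟩
  have e1 : k * T β φ h = T β' φ' h' * k := by rw [← e]; group
  have e2 := congrArg (fun M : GL (Fin a × Fin b) F => (M : Matrix (Fin a × Fin b) (Fin a × Fin b) F) *ᵥ pure x w) e1
  simp only [mulVec_mul, T_pure, hw, one_smul, Matrix.mulVec_add] at e2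
  rw [T_mulVec] at e2
  refine ⟨ctr φ' ((k : Matrix (Fin a × Fin b) (Fin a × Fin b) F) *ᵥ pure x w), ?_⟩
  rw [mulVec_mul, add_left_cancel e2, kr_pure, hgβ, Units.val_one, Matrix.one_mulVec]

omit hM in
/-- Two pure tensors with a pure sum. -/
theorem pure_add_pure {x y z : Fin a → F} {u w t : Fin b → F} (h : pure x u + pure y w = pure z t)
    (hxy : ¬ ∃ c : F, c • x = y) (hx : x ≠ 0) (hu : u ≠ 0) : ∃ c : F, c • u = w := by
  have hyx : x ∉ F ∙ y := fun hm => by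
    obtain ⟨c, hc⟩ := Submodule.mem_span_singleton.mp hm
    rcases eq_or_ne c 0 with rfl | hc0
    · exact hx (by rw [← hc, zero_smul])
    · exact hxy ⟨c⁻¹, by rw [← hc, inv_smul_smul₀ hc0]⟩
  obtain ⟨η₁, h11, h12⟩ := exists_functional _ hyx
  obtain ⟨η₂, h21, h22⟩ := exists_functional (F ∙ x) (x := y) fun hm => hxy (Submodule.mem_span_singleton.mp hm)
  have e1 := congrArg (ctl η₁) h
  have e2 := congrArg (ctl η₂) h
  rw [map_add, ctl_pure, ctl_pure, ctl_pure, h12, h11 y (Submodule.mem_span_singleton_self y), one_smul, zero_smul,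
    add_zero] at e1
  rw [map_add, ctl_pure, ctl_pure, ctl_pure, h22, h21 x (Submodule.mem_span_singleton_self x), one_smul, zero_smul,
    zero_add] at e2
  have hne : η₁ ⬝ᵥ z ≠ 0 := fun e => hu (by rw [e1, e, zero_smul])
  exact ⟨(η₂ ⬝ᵥ z) / (η₁ ⬝ᵥ z), by rw [e1, e2, smul_smul, div_mul_cancel₀ _ hne]⟩

/-- A conjugate of a transvection inside the Kronecker group. -/
theorem key_mem [Finite F] (ha : 2 ≤ a) (hab : a < b) (h5 : 5 ≤ b) (hex : 3 ≤ a ∨ 2 < Nat.card F) (hno : NoPure M)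
    {k : GL (Fin a × Fin b) F} (hk : k ∈ M) {β φ : Fin b → F} (h : φ ⬝ᵥ β = 0) (hβ : β ≠ 0) (hφ : φ ≠ 0)
    (hkN : k * T β φ h * k⁻¹ ∈ Cfsg.Geo.kroneckerSubgroup a b F) : k ∈ Cfsg.Geo.kroneckerSubgroup a b F := by
  have hb : 3 ≤ b := by omega
  obtain ⟨gh, hgh⟩ := mem_kronecker.mp hkN
  have hTD : ∀ q, ((T (a := a) β φ h : Matrix (Fin a × Fin b) (Fin a × Fin b) F) - 1) *ᵥ q = pure (ctr φ q) β := by
    intro q; rw [Matrix.sub_mulVec, Matrix.one_mulVec, T_mulVec, add_sub_cancel_left]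
  have hD : ∀ q, ((kr gh : Matrix (Fin a × Fin b) (Fin a × Fin b) F) - 1) *ᵥ q =
      (k : Matrix (Fin a × Fin b) (Fin a × Fin b) F) *ᵥ
        pure (ctr φ (((k⁻¹ : GL (Fin a × Fin b) F) : Matrix (Fin a × Fin b) (Fin a × Fin b) F) *ᵥ q)) β := fun q => by
    rw [hgh, Matrix.sub_mulVec, Matrix.one_mulVec, mulVec_mul, mulVec_mul, T_mulVec, Matrix.mulVec_add,
      mulVec_mulVec_inv, add_sub_cancel_left]
  obtain ⟨β', φ', h', hβ', -, he⟩ := eq_T (show 1 ≤ a by omega) hab h5 gh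
    (by
      intro e
      have e2 : T (a := a) β φ h = 1 := by rwa [hgh, conj_eq_one_iff] at e
      obtain ⟨w, hw⟩ := exists_dot_one hφ
      rw [dotProduct_comm] at hw
      have e3 := hTD (pure (Pi.single (⟨0, by omega⟩ : Fin a) (1 : F)) w)
      rw [e2, Units.val_one, sub_self, Matrix.zero_mulVec, ctr_pure, hw, one_smul] at e3
      exact pure_ne_zero (by simp) hβ e3.symm)
    (fun q => by rw [hD q, hD, mulVec_inv_mulVec, ctr_pure, h, zero_smul, pure_zero_left, Matrix.mulVec_zero])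
    (by
      refine (Submodule.finrank_mono (show _ ≤ LinearMap.range ((Matrix.mulVecLin
          (k : Matrix (Fin a × Fin b) (Fin a × Fin b) F)).comp (left β)) by
        rintro _ ⟨q, rfl⟩
        exact ⟨_, (hD q).symm⟩)).trans ?_
      exact (LinearMap.finrank_range_le _).trans (Module.finrank_fin_fun F).le)
  exact mem_of_conj_T hM (by omega) hb hex hno hk hφ hβ hβ' (hgh.symm.trans he)

set_option maxHeartbeats 800000 in
/-- Pure tensors go to pure tensors. -/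
theorem pure_to_pure [Finite F] (ha : 2 ≤ a) (hab : a < b) (h5 : 5 ≤ b) (hex : 3 ≤ a ∨ 2 < Nat.card F) (hno : NoPure M)
    {g : GL (Fin a × Fin b) F} (hg : g ∈ M) (x : Fin a → F) (u : Fin b → F) :
    ∃ y w, (g : Matrix (Fin a × Fin b) (Fin a × Fin b) F) *ᵥ pure x u = pure y w := by
  classical
  obtain ⟨p, hchar⟩ := CharP.exists F
  haveI := hchar
  haveI hpf : Fact p.Prime := ⟨CharP.char_is_prime F p⟩
  have hb : 3 ≤ b := by omega
  set N := Cfsg.Geo.kroneckerSubgroup a b F with hN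
  have key : ∀ k ∈ M, ∀ (β φ : Fin b → F) (h : φ ⬝ᵥ β = 0), β ≠ 0 → φ ≠ 0 → k * T β φ h * k⁻¹ ∈ N → k ∈ N :=
    fun k hk β φ h hβ hφ hkN => key_mem hM ha hab h5 hex hno hk h hβ hφ hkN
  -- a Sylow subgroup of the stabiliser of a pure tensor
  let i₀ : Fin a := ⟨0, by omega⟩
  let j₀ : Fin b := ⟨0, by omega⟩
  let j₁ : Fin b := ⟨1, by omega⟩
  have hj : j₀ ≠ j₁ := Fin.ne_of_val_ne (by simp [j₀, j₁])
  set v : Fin a × Fin b → F := pure (Pi.single i₀ 1) (Pi.single j₀ 1) with hv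
  have h0 : (Pi.single j₁ (1 : F) : Fin b → F) ⬝ᵥ (Pi.single j₀ 1 : Fin b → F) = 0 := by simp [hj]
  set t := T (a := a) (Pi.single j₀ (1 : F)) (Pi.single j₁ 1) h0 with ht
  have htM : t ∈ M := hM _ (one_mem _) (tv_mem_specialLinear _ _ h0)
  let Mv : Subgroup (GL (Fin a × Fin b) F) :=
    { carrier := {g | g ∈ M ∧ (g : Matrix (Fin a × Fin b) (Fin a × Fin b) F) *ᵥ v = v}
      one_mem' := ⟨M.one_mem, by simp⟩
      mul_mem' := fun {g g'} hg hg' => ⟨M.mul_mem hg.1 hg'.1, by rw [mulVec_mul, hg'.2, hg.2]⟩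
      inv_mem' := fun {g} hg => ⟨M.inv_mem hg.1, by conv_lhs => rw [← hg.2, mulVec_inv_mulVec]⟩ }
  have hTp : ∀ (β φ : Fin b → F) (h : φ ⬝ᵥ β = 0), IsPGroup p (Subgroup.zpowers (T (a := a) β φ h)) := by
    intro β φ h
    have hpow : ∀ m : ℕ, ∀ q, ((T (a := a) β φ h ^ m : GL (Fin a × Fin b) F) : Matrix (Fin a × Fin b) (Fin a × Fin b) F) *ᵥ q =
        q + (m : F) • pure (ctr φ q) β := fun m => by
      induction m with
      | zero => intro q; simp
      | succ m ih =>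
        intro q
        rw [pow_succ', mulVec_mul, ih, T_mulVec, map_add, map_smul, ctr_pure, h, zero_smul, smul_zero, add_zero,
          Nat.cast_succ, add_smul, one_smul]
        abel
    have hp1 : T (a := a) β φ h ^ p = 1 := Units.ext (Cfsg.Agent.Lib.MaxSub.eq_of_mulVec_eq fun q => by
      rw [hpow, CharP.cast_eq_zero, zero_smul, add_zero, Units.val_one, Matrix.one_mulVec])
    exact fun y => ⟨1, by
      obtain ⟨y, i, rfl⟩ := y
      refine Subtype.ext ?_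
      rw [SubmonoidClass.coe_pow, pow_one, ← zpow_natCast, ← _root_.zpow_mul, mul_comm, _root_.zpow_mul, zpow_natCast, hp1, _root_.one_zpow]
      rfl⟩
  have htv : t ∈ Mv := ⟨htM, by rw [ht, hv, T_pure]; simp [hj.symm]⟩
  have htN : t ∈ N := mem_kronecker.mpr ⟨_, rfl⟩
  obtain ⟨P₀, hP₀⟩ := ((hTp _ _ h0).comap_subtype (K := Mv ⊓ N)).exists_le_sylow
  set P : Subgroup (GL (Fin a × Fin b) F) := (P₀ : Subgroup ↥(Mv ⊓ N)).map (Mv ⊓ N).subtype with hP
  have hPle : P ≤ Mv ⊓ N := Subgroup.map_subtype_le _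
  have htP : t ∈ P := ⟨⟨t, htv, htN⟩, hP₀ (Subgroup.mem_zpowers t), rfl⟩
  have hPp : IsPGroup p P := P₀.isPGroup'.map _
  obtain ⟨P₁, hP₁⟩ := (hPp.comap_subtype (K := Mv)).exists_le_sylow
  set P' : Subgroup (GL (Fin a × Fin b) F) := (P₁ : Subgroup Mv).map Mv.subtype with hP'
  have hP'le : P' ≤ Mv := Subgroup.map_subtype_le _
  have hPP' : P ≤ P' := fun y hy => ⟨⟨y, (hPle hy).1⟩, hP₁ hy, rfl⟩
  have hPN : P' ≤ N := by
    have hP'p : IsPGroup p P' := P₁.isPGroup'.map _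
    -- the part in the Kronecker group is `P`
    have hint : P' ⊓ N ≤ P := by
      intro y hy
      have hle : (P₀ : Subgroup ↥(Mv ⊓ N)) ≤ (P' ⊓ N).subgroupOf (Mv ⊓ N) := fun z hz =>
        ⟨hPP' ⟨z, hz, rfl⟩, z.2.2⟩
      have h1 := P₀.3 ((hP'p.to_le inf_le_left).comap_subtype) hle
      have hy' : (⟨y, hP'le hy.1, hy.2⟩ : ↥(Mv ⊓ N)) ∈ (P₀ : Subgroup ↥(Mv ⊓ N)) := h1 ▸ hy
      exact ⟨_, hy', rfl⟩
    by_contra hne
    haveI := hP'p.isNilpotent
    have hlt : P.subgroupOf P' < ⊤ := lt_top_iff_ne_top.mpr fun e => hne fun y hy =>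
      (hPle ((Subgroup.subgroupOf_eq_top.mp e) hy)).2
    obtain ⟨⟨y, hy⟩, hyN, hyP⟩ := SetLike.exists_of_lt (Group.normalizerCondition_of_isNilpotent _ hlt)
    rw [Subgroup.mem_normalizer_iff] at hyN
    have h1 : y * t * y⁻¹ ∈ P := (hyN ⟨t, hPP' htP⟩).mp htP
    exact hyP (hint ⟨hy, key y (hP'le hy).1 _ _ h0 (by simp) (by simp) (hPle h1).2⟩)
  rcases eq_or_ne x 0 with rfl | hx
  · exact ⟨0, 0, by rw [pure_zero_left, Matrix.mulVec_zero, pure_zero_left]⟩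
  rcases eq_or_ne u 0 with rfl | hu
  · exact ⟨0, 0, by rw [pure_zero_right, Matrix.mulVec_zero, pure_zero_left]⟩
  obtain ⟨g₁, hg₁, hg₁x⟩ := exists_SL_map ha (show (Pi.single i₀ 1 : Fin a → F) ≠ 0 by simp) hx
  obtain ⟨g₂, hg₂, hg₂u⟩ := exists_SL_map (show 2 ≤ b by omega) (show (Pi.single j₀ 1 : Fin b → F) ≠ 0 by simp) hu
  set g' := g * kr (g₁, g₂) with hg'
  have hg'M : g' ∈ M := M.mul_mem hg (hM _ hg₁ hg₂)
  have hxu : (g : Matrix (Fin a × Fin b) (Fin a × Fin b) F) *ᵥ pure x u =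
      (g' : Matrix (Fin a × Fin b) (Fin a × Fin b) F) *ᵥ v := by rw [hg', mulVec_mul, hv, kr_pure, hg₁x, hg₂u]
  rw [hxu]
  set z := (g' : Matrix (Fin a × Fin b) (Fin a × Fin b) F) *ᵥ v with hz
  -- a transvection fixing the image
  let cz : (Fin b → F) →ₗ[F] (Fin a → F) :=
    { toFun := fun ψ => ctr ψ z
      map_add' := fun ψ ψ' => by funext i; simp [ctr, mul_add, Finset.sum_add_distrib]
      map_smul' := fun c ψ => by funext i; simp [ctr, Finset.mul_sum, mul_left_comm] }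
  obtain ⟨φ, hφz, hφ0⟩ := Submodule.exists_mem_ne_zero_of_ne_bot (p := LinearMap.ker cz) (fun e => by
    have h1 := cz.finrank_range_add_finrank_ker
    have h2 : finrank F (LinearMap.range cz) ≤ a := (Submodule.finrank_le _).trans (Module.finrank_fin_fun F).le
    rw [e, finrank_bot, Module.finrank_fin_fun] at h1
    omega)
  let dφ : (Fin b → F) →ₗ[F] F := dotProductBilin F F φ
  obtain ⟨β, hβφ, hβ0⟩ := Submodule.exists_mem_ne_zero_of_ne_bot (p := LinearMap.ker dφ) (fun e => by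
    have h1 := dφ.finrank_range_add_finrank_ker
    have h2 : finrank F (LinearMap.range dφ) ≤ 1 := (Submodule.finrank_le _).trans (finrank_self F).le
    rw [e, finrank_bot, Module.finrank_fin_fun] at h1
    omega)
  have hφβ : φ ⬝ᵥ β = 0 := hβφ
  set t' := T (a := a) β φ hφβ with ht'
  have ht'z : (t' : Matrix (Fin a × Fin b) (Fin a × Fin b) F) *ᵥ z = z := by
    rw [ht', T_mulVec, show ctr φ z = 0 from hφz, pure_zero_left, add_zero]
  have hmem : g'⁻¹ * t' * g' ∈ Mv := ⟨M.mul_mem (M.mul_mem (M.inv_mem hg'M) (hM _ (one_mem _)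
    (tv_mem_specialLinear _ _ hφβ))) hg'M, by rw [mulVec_mul, mulVec_mul, ← hz, ht'z, hz, mulVec_inv_mulVec]⟩
  obtain ⟨P₂, hP₂⟩ := (((hTp β φ hφβ).map (MulAut.conj g'⁻¹).toMonoidHom).comap_subtype (K := Mv)).exists_le_sylow
  obtain ⟨j, hjP⟩ := MulAction.exists_smul_eq Mv P₂ P₁
  have h1 : (j : GL (Fin a × Fin b) F) * (g'⁻¹ * t' * g') * (j : GL (Fin a × Fin b) F)⁻¹ ∈ P' := by
    let mm : Mv := ⟨g'⁻¹ * t' * g', hmem⟩
    refine ⟨j * mm * j⁻¹, ?_, by simp only [map_mul, map_inv, Subgroup.coe_subtype, mm]⟩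
    rw [← hjP, Sylow.coe_subgroup_smul]
    exact ⟨mm, hP₂ ⟨t', Subgroup.mem_zpowers t', by
      rw [MulEquiv.coe_toMonoidHom, MulAut.conj_apply, inv_inv]; rfl⟩, by
      rw [MulDistribMulAction.toMonoidEnd_apply]; rfl⟩
  have h2 : (j : GL (Fin a × Fin b) F) * g'⁻¹ ∈ N := key _ (M.mul_mem j.2.1 (M.inv_mem hg'M)) β φ hφβ hβ0 hφ0 (by
    rw [show (j : GL (Fin a × Fin b) F) * g'⁻¹ * t' * ((j : GL (Fin a × Fin b) F) * g'⁻¹)⁻¹ =
      (j : GL (Fin a × Fin b) F) * (g'⁻¹ * t' * g') * (j : GL (Fin a × Fin b) F)⁻¹ by group]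
    exact hPN h1)
  obtain ⟨n, hn⟩ := mem_kronecker.mp (N.inv_mem h2)
  refine ⟨(n.1 : Matrix (Fin a) (Fin a) F) *ᵥ Pi.single i₀ 1, (n.2 : Matrix (Fin b) (Fin b) F) *ᵥ Pi.single j₀ 1, ?_⟩
  have hjv : (((j : GL (Fin a × Fin b) F)⁻¹ : GL (Fin a × Fin b) F) : Matrix (Fin a × Fin b) (Fin a × Fin b) F) *ᵥ v =
      v := (congrArg (_ *ᵥ ·) j.2.2).symm.trans (mulVec_inv_mulVec _ _)
  rw [← kr_pure, hn, ← hv, _root_.mul_inv_rev, inv_inv, mulVec_mul, hjv, hz]

/-- An element preserving pure tensors lies in the Kronecker group. -/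
theorem mem_of_pure_preserving [Finite F] (ha : 2 ≤ a) (hab : a < b) (h5 : 5 ≤ b) (hex : 3 ≤ a ∨ 2 < Nat.card F)
    (hno : NoPure M) {g : GL (Fin a × Fin b) F} (hg : g ∈ M)
    (hpure : ∀ g ∈ M, ∀ x u, ∃ y w, (g : Matrix (Fin a × Fin b) (Fin a × Fin b) F) *ᵥ pure x u = pure y w) :
    g ∈ Cfsg.Geo.kroneckerSubgroup a b F := by
  classical
  have hb : 3 ≤ b := by omega
  set N := Cfsg.Geo.kroneckerSubgroup a b F with hN
  let i₀ : Fin a := ⟨0, by omega⟩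
  let j₀ : Fin b := ⟨0, by omega⟩
  -- rows go to rows
  have hrow : ∀ x, x ≠ 0 → ∃ y, y ≠ 0 ∧ ∀ u, ∃ w, (g : Matrix (Fin a × Fin b) (Fin a × Fin b) F) *ᵥ pure x u = pure y w := by
    intro x hx
    choose y w hyw using hpure g hg x
    let f : (Fin b → F) →ₗ[F] (Fin a × Fin b → F) :=
      (Matrix.mulVecLin (g : Matrix (Fin a × Fin b) (Fin a × Fin b) F)).comp (right x)
    have hf : ∀ u, f u = (g : Matrix (Fin a × Fin b) (Fin a × Fin b) F) *ᵥ pure x u := fun u => rfl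
    have hfinj : Function.Injective f := fun u u' e => pure_right_cancel hx (by
      have := congrArg (((g⁻¹ : GL (Fin a × Fin b) F) : Matrix (Fin a × Fin b) (Fin a × Fin b) F) *ᵥ ·) e
      simpa [hf, mulVec_inv_mulVec] using this)
    have hne : ∀ u, u ≠ 0 → y u ≠ 0 ∧ w u ≠ 0 := fun u hu => by
      constructor <;> intro e <;> refine hu (hfinj ?_) <;> rw [map_zero, hf, hyw, e]
      · rw [pure_zero_left]
      · rw [pure_zero_right]
    let u₀ : Fin b → F := Pi.single j₀ 1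
    obtain ⟨hy0, hw0⟩ := hne u₀ (by simp [u₀])
    have hdicho : ∀ u, f u ∈ LinearMap.range (right (b := b) (y u₀)) ∨ f u ∈ LinearMap.range (left (a := a) (w u₀)) := by
      intro u
      by_cases hc : ∃ c : F, c • y u₀ = y u
      · obtain ⟨c, hc⟩ := hc
        refine Or.inl ⟨c • w u, ?_⟩
        show pure (y u₀) (c • w u) = f u
        rw [hf, hyw, ← hc, pure_smul_left, pure_smul_right]
      · have h1 : pure (y u₀) (w u₀) + pure (y u) (w u) = pure (y (u₀ + u)) (w (u₀ + u)) := by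
          rw [← hyw, ← hyw, ← hyw, ← Matrix.mulVec_add, pure_add_right]
        obtain ⟨d, hd⟩ := pure_add_pure h1 hc hy0 hw0
        refine Or.inr ⟨d • y u, ?_⟩
        show pure (d • y u) (w u₀) = f u
        rw [hf, hyw, ← hd, pure_smul_left, pure_smul_right]
    by_cases hall : ∀ u, f u ∈ LinearMap.range (right (b := b) (y u₀))
    · exact ⟨y u₀, hy0, fun u => (hall u).imp fun w' hw' => hw'.symm⟩
    push Not at hall
    obtain ⟨u₁, hu₁⟩ := hall
    have h2 : ∀ u, f u ∈ LinearMap.range (left (a := a) (w u₀)) := fun u => by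
      rcases hdicho u with h | h
      · rcases hdicho (u + u₁) with h' | h'
        · exact absurd (by simpa [map_add] using Submodule.sub_mem _ h' h) hu₁
        · simpa [map_add] using Submodule.sub_mem _ h' ((hdicho u₁).resolve_left hu₁)
      · exact h
    have h3 := Submodule.finrank_mono (show LinearMap.range f ≤ LinearMap.range (left (a := a) (w u₀)) by
      rintro _ ⟨u, rfl⟩; exact h2 u)
    have h4 := LinearMap.finrank_range_le (left (a := a) (w u₀))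
    rw [LinearMap.finrank_range_of_inj hfinj, Module.finrank_fin_fun] at h3
    rw [Module.finrank_fin_fun] at h4
    omega
  choose! Y hY0 hY using hrow
  -- the columns go to columns
  let β₀ : Fin b → F := Pi.single j₀ 1
  have hβ₀ : β₀ ≠ 0 := by simp [β₀]
  have hWne : ∀ x (hx : x ≠ 0), ∀ w, (g : Matrix (Fin a × Fin b) (Fin a × Fin b) F) *ᵥ pure x β₀ = pure (Y x) w → w ≠ 0 := by
    intro x hx w hw e
    rw [e, pure_zero_right] at hw
    refine pure_ne_zero hx hβ₀ ?_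
    have := congrArg (((g⁻¹ : GL (Fin a × Fin b) F) : Matrix (Fin a × Fin b) (Fin a × Fin b) F) *ᵥ ·) hw
    simpa [mulVec_inv_mulVec] using this
  have hYind : ∀ x x' : Fin a → F, x ≠ 0 → x' ≠ 0 → (¬ ∃ c : F, c • x = x') → ¬ ∃ c : F, c • Y x = Y x' := by
    rintro x x' hx hx' hne ⟨c, hc⟩
    -- the two blocks would meet
    choose W hW using hY x hx
    choose W' hW' using hY x' hx'
    have hWinj : Function.Injective W := fun u u' e => pure_right_cancel hx (by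
      have h1 : (g : Matrix (Fin a × Fin b) (Fin a × Fin b) F) *ᵥ pure x u =
          (g : Matrix (Fin a × Fin b) (Fin a × Fin b) F) *ᵥ pure x u' := by rw [hW, hW, e]
      have := congrArg (((g⁻¹ : GL (Fin a × Fin b) F) : Matrix (Fin a × Fin b) (Fin a × Fin b) F) *ᵥ ·) h1
      simpa [mulVec_inv_mulVec] using this)
    obtain ⟨u, hu⟩ := (Finite.injective_iff_surjective.mp hWinj) (c • W' β₀)
    have h1 : (g : Matrix (Fin a × Fin b) (Fin a × Fin b) F) *ᵥ (pure x u + -(pure x' β₀)) = 0 := by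
      rw [Matrix.mulVec_add, Matrix.mulVec_neg, hW, hu, hW', ← hc, pure_smul_left, pure_smul_right, add_neg_cancel]
    have h2 : pure x u + pure x' (-β₀) = 0 := by
      have h3 := congrArg (((g⁻¹ : GL (Fin a × Fin b) F) : Matrix (Fin a × Fin b) (Fin a × Fin b) F) *ᵥ ·) h1
      simp only [mulVec_inv_mulVec, Matrix.mulVec_zero] at h3
      rw [← h3]
      funext q; simp [pure]
    exact hβ₀ (neg_eq_zero.mp (pure_indep hne hx h2).2)
  let e₀ : Fin a → F := Pi.single i₀ 1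
  have he₀ : e₀ ≠ 0 := by simp [e₀]
  obtain ⟨w₀, hw₀⟩ := hY e₀ he₀ β₀
  have hw₀0 := hWne e₀ he₀ w₀ hw₀
  have hcol : ∀ x, ∃ y, (g : Matrix (Fin a × Fin b) (Fin a × Fin b) F) *ᵥ pure x β₀ = pure y w₀ := by
    intro x
    rcases eq_or_ne x 0 with rfl | hx
    · exact ⟨0, by rw [pure_zero_left, Matrix.mulVec_zero, pure_zero_left]⟩
    by_cases hc : ∃ c : F, c • e₀ = x
    · obtain ⟨c, rfl⟩ := hc
      exact ⟨c • Y e₀, by rw [pure_smul_left, Matrix.mulVec_smul, hw₀, pure_smul_left]⟩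
    obtain ⟨w, hw⟩ := hY x hx β₀
    obtain ⟨z, w', hzw⟩ := hpure g hg (e₀ + x) β₀
    rw [pure_add_left, Matrix.mulVec_add, hw₀, hw] at hzw
    obtain ⟨d, hd⟩ := pure_add_pure hzw (hYind e₀ x he₀ hx hc) (hY0 e₀ he₀) hw₀0
    exact ⟨d • Y x, by rw [hw, ← hd, pure_smul_left, pure_smul_right]⟩
  obtain ⟨h, hh, hhw⟩ := exists_SL_map (show 2 ≤ b by omega) hw₀0 hβ₀
  have h1 : kr ((1 : GL (Fin a) F), h) * g ∈ N := mem_of_stab hM (by omega) hb hex hno
    (M.mul_mem (hM _ (one_mem _) hh) hg) hβ₀ fun x => by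
      obtain ⟨y, hy⟩ := hcol x
      exact ⟨y, by rw [mulVec_mul, hy, kr_pure, hhw, Units.val_one, Matrix.one_mulVec]⟩
  have := N.mul_mem (N.inv_mem (mem_kronecker.mpr ⟨((1 : GL (Fin a) F), h), rfl⟩)) h1
  rwa [inv_mul_cancel_left] at this

/-- The dichotomy. -/
theorem dichotomy [Finite F] (ha : 2 ≤ a) (hab : a < b) (h5 : 5 ≤ b) (hex : 3 ≤ a ∨ 2 < Nat.card F) :
    M ≤ Cfsg.Geo.kroneckerSubgroup a b F ∨ Cfsg.Geo.specialLinear (Fin a × Fin b) F ≤ M := by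
  classical
  by_cases hno : NoPure M
  swap
  · simp only [NoPure, not_forall, not_not] at hno
    obtain ⟨α, η, β, χ, hα, hη, hβ, hχ, hηα, hχβ, h⟩ := hno
    exact Or.inr (SL_le_of_pure hM ha (by omega) hα hη hβ hχ hηα hχβ h)
  exact Or.inl fun g hg => mem_of_pure_preserving hM ha hab h5 hex hno hg fun h hh x u => pure_to_pure hM ha hab h5 hex hno hh x u

end Cfsg.Agent.Lib.ThreeTransp.Tensor
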