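import Cfsg.Agent.Lib.MaxSub.OrthSplit
import Cfsg.Agent.Lib.Geometry.Reflection
import Mathlib.LinearAlgebra.QuadraticForm.Basic
import Mathlib.LinearAlgebra.DFinsupp

/-!
Orthogonal decompositions into non-degenerate blocks in odd characteristic: components, vectors with
prescribed value in a block, block elements of the stabiliser, and identities between Eichler elements.
-/

set_option autoImplicit false

namespace Cfsg.Agent.Lib.ThreeTransp.DecompOrth

open Matrix QuadraticMap
open Cfsg.Agent.Lib.MaxSub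
open Cfsg.Agent.Lib.MaxSub.OrthSplit (InE finrank_inf_ker)
open Cfsg.Agent.Lib.Geometry (quad_add quad_sub quad_smul quad_polar_self quad_polar_comm refl refl_apply)
open scoped MatrixGroups Matrix commutatorElement

attribute [-simp] QuadraticMap.polarBilin_apply_apply

variable {ι : Type} [Fintype ι] [DecidableEq ι] {F : Type*} [Field F] {Q : QuadraticForm F (ι → F)}

/-- The polar form is non-degenerate on `W`. -/
def Nd (Q : QuadraticForm F (ι → F)) (W : Submodule F (ι → F)) : Prop :=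
  ∀ x ∈ W, x ≠ 0 → ∃ y ∈ W, polarBilin Q x y ≠ 0

/-- The part of `W` orthogonal to `a`. -/
abbrev perp (Q : QuadraticForm F (ι → F)) (W : Submodule F (ι → F)) (a : ι → F) : Submodule F (ι → F) :=
  W ⊓ LinearMap.ker (polarBilin Q a)

theorem Nd.perp_aniso {W : Submodule F (ι → F)} (hW : Nd Q W) (h2 : (2 : F) ≠ 0) {a : ι → F} (ha : a ∈ W)
    (hQa : Q a ≠ 0) : Nd Q (perp Q W a) := by
  intro x hx hx0
  obtain ⟨y, hy, hxy⟩ := hW x hx.1 hx0
  have hax : polarBilin Q a x = 0 := hx.2
  refine ⟨y - (polarBilin Q a y / (2 * Q a)) • a, ⟨W.sub_mem hy (W.smul_mem _ ha), ?_⟩, ?_⟩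
  · show polarBilin Q a _ = 0
    rw [map_sub, map_smul, quad_polar_self, smul_eq_mul, div_mul_cancel₀ _ (mul_ne_zero h2 hQa), sub_self]
  · rw [map_sub, map_smul, quad_polar_comm Q x a, hax, smul_zero, sub_zero]
    exact hxy

theorem Nd.perp_pair {W : Submodule F (ι → F)} (hW : Nd Q W) {e f : ι → F} (he : e ∈ W) (hf : f ∈ W)
    (hQe : Q e = 0) (hQf : Q f = 0) (hef : polarBilin Q e f = 1) : Nd Q (perp Q (perp Q W e) f) := by
  rintro x ⟨⟨hxW, hxe⟩, hxf⟩ hx0
  obtain ⟨y, hy, hxy⟩ := hW x hxW hx0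
  have hxe : polarBilin Q e x = 0 := hxe
  have hxf : polarBilin Q f x = 0 := hxf
  refine ⟨y - polarBilin Q f y • e - polarBilin Q e y • f,
    ⟨⟨W.sub_mem (W.sub_mem hy (W.smul_mem _ he)) (W.smul_mem _ hf), ?_⟩, ?_⟩, ?_⟩
  · show polarBilin Q e _ = 0
    simp [map_sub, map_smul, Orth.polar_self_of_sing Q hQe, hef]
  · show polarBilin Q f _ = 0
    simp [map_sub, map_smul, Orth.polar_self_of_sing Q hQf, quad_polar_comm Q f e, hef]
  · simp only [map_sub, map_smul, quad_polar_comm Q x e, hxe, quad_polar_comm Q x f, hxf, smul_zero, sub_zero]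
    exact hxy

theorem Nd.exists_aniso {W : Submodule F (ι → F)} (hW : Nd Q W) (h0 : W ≠ ⊥) : ∃ a ∈ W, Q a ≠ 0 := by
  obtain ⟨x, hx, hx0⟩ := (Submodule.ne_bot_iff W).mp h0
  obtain ⟨y, hy, hxy⟩ := hW x hx hx0
  by_contra! hall
  have := hall (x + y) (W.add_mem hx hy)
  rw [quad_add, hall x hx, hall y hy, zero_add, zero_add] at this
  exact hxy this

/-- A non-degenerate space of dimension at least two takes every value. -/
theorem Nd.exists_value [Fintype F] {W : Submodule F (ι → F)} (hW : Nd Q W) (h2 : (2 : F) ≠ 0)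
    (hd : 2 ≤ Module.finrank F W) (c : F) : ∃ x ∈ W, Q x = c := by
  obtain ⟨a, ha, hQa⟩ := hW.exists_aniso fun h => by rw [h, finrank_bot] at hd; omega
  obtain ⟨b, hb, hQb⟩ := (hW.perp_aniso h2 ha hQa).exists_aniso fun h => by
    have h1 := finrank_inf_ker W (polarBilin Q a)
    unfold perp at h
    rw [h, finrank_bot] at h1
    omega
  have hab : polarBilin Q a b = 0 := hb.2
  have hodd : Fintype.card F % 2 = 1 := FiniteField.odd_card_of_char_ne_two fun h => h2 (by
    haveI := ringChar.of_eq h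
    exact CharTwo.two_eq_zero)
  obtain ⟨s, u, hsu⟩ := FiniteField.exists_root_sum_quadratic (R := F)
    (f := Polynomial.C (Q a) * Polynomial.X ^ 2 + Polynomial.C (-c))
    (g := Polynomial.C (Q b) * Polynomial.X ^ 2)
    (by rw [Polynomial.degree_add_C (by rw [Polynomial.degree_C_mul_X_pow 2 hQa]; norm_num),
      Polynomial.degree_C_mul_X_pow 2 hQa]; rfl)
    (by rw [Polynomial.degree_C_mul_X_pow 2 hQb]; rfl) hodd
  simp only [Polynomial.eval_add, Polynomial.eval_mul, Polynomial.eval_C, Polynomial.eval_pow, Polynomial.eval_X] at hsu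
  refine ⟨s • a + u • b, W.add_mem (W.smul_mem _ ha) (W.smul_mem _ hb.1), ?_⟩
  simp only [quad_add, quad_smul, map_smul, LinearMap.smul_apply, hab, smul_zero, add_zero]
  linear_combination hsu

/-- An additive subgroup of an odd field containing more than a third of it is everything. -/
theorem addSubgroup_eq_top [Fintype F] (h2 : (2 : F) ≠ 0) (S : AddSubgroup F) (T : Finset F)
    (hT : ∀ x ∈ T, x ∈ S) (h : Fintype.card F < 3 * T.card) : S = ⊤ := by
  classical
  have hodd : Fintype.card F % 2 = 1 := FiniteField.odd_card_of_char_ne_two fun h => h2 (by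
    haveI := ringChar.of_eq h
    exact CharTwo.two_eq_zero)
  have h1 : T.card ≤ Nat.card S := by
    rw [Nat.card_eq_fintype_card, ← Fintype.card_coe]
    exact Fintype.card_le_of_injective (fun x : T => (⟨x.1, hT x.1 x.2⟩ : S))
      fun x y hxy => Subtype.ext (congrArg (fun z : S => (z : F)) hxy)
  obtain ⟨d, hd⟩ := S.card_addSubgroup_dvd_card
  rw [Nat.card_eq_fintype_card (α := F)] at hd
  refine S.eq_top_of_card_eq ?_
  rw [Nat.card_eq_fintype_card (α := F), hd]
  rcases d with _ | _ | _ | d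
  · rw [mul_zero] at hd; rw [hd] at hodd; omega
  · simp
  · rw [hd] at hodd; omega
  · nlinarith

theorem card_sq [Fintype F] [DecidableEq F] :
    Fintype.card F ≤ 2 * (Finset.univ.image fun x : F => x * x).card := by
  refine Finset.card_le_mul_card_image Finset.univ 2 fun y _ => ?_
  by_cases h : ∃ x : F, x * x = y
  · obtain ⟨x, rfl⟩ := h
    refine (Finset.card_le_card (t := {x, -x}) fun z hz => ?_).trans Finset.card_le_two
    rcases mul_self_eq_mul_self_iff.mp (Finset.mem_filter.mp hz).2 with h | h <;> simp [h]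
  · rw [Finset.filter_false_of_mem fun z _ hz => h ⟨z, hz⟩]
    simp

/-- An additive subgroup containing the squares is everything. -/
theorem eq_top_of_sq [Fintype F] (h2 : (2 : F) ≠ 0) (S : AddSubgroup F) (h : ∀ x, x * x ∈ S) : S = ⊤ := by
  classical
  refine addSubgroup_eq_top h2 S (Finset.univ.image fun x : F => x * x) (fun x hx => ?_) ?_
  · obtain ⟨y, -, rfl⟩ := Finset.mem_image.mp hx
    exact h y
  · have := card_sq (F := F)
    have := Fintype.card_pos (α := F)
    omega

/-! ### Eichler elements -/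

section Eich

variable {K : Subgroup (GL ι F)}

theorem inE_zero {u x : ι → F} (h : InE Q K u x) : InE Q K u 0 := by simpa using h.sub h

theorem inE_neg {u x : ι → F} (h : InE Q K u x) : InE Q K u (-x) := by simpa using (inE_zero h).sub h

theorem inE_add {u x y : ι → F} (h : InE Q K u x) (h' : InE Q K u y) : InE Q K u (x + y) := by
  simpa using h.sub (inE_neg h')

theorem inE_flip {u z : ι → F} (h : InE Q K u z) (hz : Q z = 0) : InE Q K z (-u) := by
  obtain ⟨hu, huz, hm⟩ := h
  refine ⟨hz, by rw [map_neg, quad_polar_comm, huz, neg_zero], ?_⟩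
  convert hm using 1
  refine Units.ext (Matrix.ext_of_mulVec_single fun j => ?_)
  simp only [Orth.eichGL_mulVec, QuadraticMap.map_neg, hu, hz, map_neg]
  module

/-- Splitting off a singular summand of a centre. -/
theorem inE_split {p z x : ι → F} (hpz : polarBilin Q p z = 0) (hQz : Q z = 0) (hzx : polarBilin Q z x = 0)
    (h : InE Q K p x) (h' : InE Q K (p + z) x) : InE Q K z (-(x + Q x • p)) := by
  obtain ⟨hp, hpx, hm⟩ := h
  obtain ⟨hq, hqx, hm'⟩ := inE_neg h'
  have hzz := Orth.polar_self_of_sing Q hQz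
  have hpp := Orth.polar_self_of_sing Q hp
  refine ⟨hQz, by simp [map_neg, map_add, map_smul, hzx, quad_polar_comm Q z p, hpz], ?_⟩
  convert K.mul_mem hm' hm using 1
  refine Units.ext (Matrix.ext_of_mulVec_single fun j => ?_)
  set y : ι → F := Pi.single j 1
  rw [Units.val_mul, ← Matrix.mulVec_mulVec, Orth.eichGL_mulVec, Orth.eichGL_mulVec, Orth.eichGL_mulVec]
  simp only [map_add, map_sub, map_neg, map_smul, LinearMap.add_apply, LinearMap.sub_apply, LinearMap.smul_apply,
    QuadraticMap.map_neg, quad_add, quad_smul, smul_eq_mul, hp, hpx, hpp, hpz, hzz, hzx, quad_polar_comm Q x p,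
    quad_polar_comm Q x z, quad_polar_comm Q z p, quad_polar_self Q x]
  module

variable (Q) in
/-- The product of two reflections, as a matrix. -/
noncomputable def rr (p c : ι → F) : GL ι F := Orth.toGL Q (refl Q p * refl Q c)

theorem rr_mulVec (p c x : ι → F) :
    (rr Q p c : Matrix ι ι F) *ᵥ x = (x - ((Q c)⁻¹ * polarBilin Q c x) • c) -
      ((Q p)⁻¹ * polarBilin Q p (x - ((Q c)⁻¹ * polarBilin Q c x) • c)) • p := by
  rw [rr, Orth.toGL_mulVec]
  show (refl Q p : (ι → F) ≃ₗ[F] (ι → F)) ((refl Q c : (ι → F) ≃ₗ[F] (ι → F)) x) = _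
  rw [refl_apply, refl_apply]

theorem rr_fix {p c x : ι → F} (hp : polarBilin Q p x = 0) (hc : polarBilin Q c x = 0) :
    (rr Q p c : Matrix ι ι F) *ᵥ x = x := by
  rw [rr_mulVec, hc, mul_zero, zero_smul, sub_zero, hp, mul_zero, zero_smul, sub_zero]

/-- Two reflections of equal value multiply to an element of `omegaGL`. -/
theorem rr_mem_omega (hN : (polarBilin Q).Nondegenerate) {p c : ι → F} (h : Q p = Q c) (hc : Q c ≠ 0) :
    rr Q p c ∈ Cfsg.Geo.omegaGL ⇑Q := by
  open Cfsg.Agent.Lib.Geometry in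
  obtain ⟨T, hT, hTp⟩ : ∃ T : (ι → F) ≃ₗ[F] (ι → F), (∀ v, Q (T v) = Q v) ∧ T p = c := by
    have hp0 : p ≠ 0 := fun e => hc (by rw [← h, e, map_zero])
    have hc0 : c ≠ 0 := fun e => hc (by rw [e, map_zero])
    let e := LinearEquiv.toSpanNonzeroSingleton F (ι → F) p hp0
    have he : ∀ a : F, (⟨a • p, Submodule.smul_mem _ a (Submodule.mem_span_singleton_self p)⟩ : F ∙ p) = e a :=
      fun a => rfl
    obtain ⟨T, hT, hTx⟩ := witt_quadratic Q hN (F ∙ p) (e.symm.toLinearMap.smulRight c)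
      (fun x y hxy => e.symm.injective (smul_left_injective F hc0 hxy)) (fun x => by
        obtain ⟨x, hx⟩ := x
        obtain ⟨a, rfl⟩ := Submodule.mem_span_singleton.mp hx
        rw [LinearMap.smulRight_apply, LinearEquiv.coe_coe, he, LinearEquiv.symm_apply_apply, quad_smul, ← h,
          ← quad_smul]
        rfl)
    refine ⟨T, hT, ?_⟩
    have := hTx (e 1)
    rw [LinearMap.smulRight_apply, LinearEquiv.coe_coe, LinearEquiv.symm_apply_apply, one_smul] at this
    simpa [e] using this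
  open Cfsg.Agent.Lib.Geometry in
  let t : quadIsometries Q := ⟨T, hT⟩
  have heq : refl Q p * refl Q c = ⁅refl Q p, t⁆ := by
    rw [commutatorElement_def, inv_eq_of_mul_eq_one_right (Geometry.refl_mul_self Q p), mul_assoc (refl Q p),
      mul_assoc (refl Q p), Geometry.refl_conj]
    exact congrArg (fun z => refl Q p * refl Q z) hTp.symm
  refine ⟨(Geometry.isometryEquiv Q).symm (refl Q p * refl Q c), ?_, rfl⟩
  rw [heq, map_commutatorElement]
  exact Subgroup.commutator_mem_commutator (Subgroup.mem_top _) (Subgroup.mem_top _)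

end Eich

/-! ### The decomposition -/

/-- A group containing the stabiliser in `omegaGL` of an orthogonal decomposition. -/
structure Sys (Q : QuadraticForm F (ι → F)) {t : ℕ} (D : Fin t → Submodule F (ι → F)) (k : ℕ)
    (K : Subgroup (GL ι F)) : Prop where
  hN : (polarBilin Q).Nondegenerate
  h2 : (2 : F) ≠ 0
  hD : Cfsg.Geo.IsOrthogonalMDecomposition (⇑Q) k D
  hk : 3 ≤ k
  h7 : 7 ≤ Fintype.card ι
  hK : Cfsg.Geo.decompositionStabilizer D ⊓ Cfsg.Geo.omegaGL ⇑Q ≤ K

variable {t k : ℕ} {D : Fin t → Submodule F (ι → F)} {K : Subgroup (GL ι F)}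

/-- A matrix mapping each block into a block, injectively, stabilises the decomposition. -/
theorem mem_stab (hfin : ∀ i, Module.finrank F (D i) = k) {g : GL ι F} (σ : Equiv.Perm (Fin t))
    (h : ∀ i, ∀ z ∈ D i, (g : Matrix ι ι F) *ᵥ z ∈ D (σ i)) : g ∈ Cfsg.Geo.decompositionStabilizer D := by
  have hinj : Function.Injective (Matrix.toLin' (g : Matrix ι ι F)) := fun x y hxy => by
    have := congrArg (fun z => ((g⁻¹ : GL ι F) : Matrix ι ι F) *ᵥ z) hxy
    simpa [Matrix.toLin'_apply, Matrix.mulVec_mulVec, ← Units.val_mul] using this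
  refine ⟨σ, fun i => Submodule.eq_of_le_of_finrank_eq ?_ ?_⟩
  · rintro _ ⟨x, hx, rfl⟩
    rw [Matrix.toLin'_apply]
    exact h i x hx
  · rw [← (Submodule.equivMapOfInjective _ hinj _).finrank_eq, hfin, hfin]

variable (S : Sys Q D k K)
include S

theorem Sys.orth {i j : Fin t} (h : i ≠ j) {x y : ι → F} (hx : x ∈ D i) (hy : y ∈ D j) : polarBilin Q x y = 0 :=
  S.hD.decomp.orthogonal i j h x hx y hy

theorem Sys.nd (i : Fin t) : Nd Q (D i) := fun x hx hx0 => (S.hD.decomp.nondegenerate i x hx hx0).2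

theorem Sys.fin (i : Fin t) : Module.finrank F (D i) = k := S.hD.decomp.decomp.finrank_eq i

theorem Sys.exists_comp (v : ι → F) : ∃ c : Fin t → ι → F, (∀ i, c i ∈ D i) ∧ ∑ i, c i = v := by
  have hv : v ∈ ⨆ i ∈ (Finset.univ : Finset (Fin t)), D i := by
    simp [S.hD.decomp.decomp.iSup_eq_top]
  obtain ⟨μ, hμ⟩ := (Submodule.mem_iSup_finset_iff_exists_sum _ _).mp hv
  exact ⟨fun i => μ i, fun i => (μ i).2, hμ⟩

/-- The component in a block. -/
noncomputable def Sys.comp (i : Fin t) (v : ι → F) : ι → F := (S.exists_comp v).choose i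

theorem Sys.comp_mem (i : Fin t) (v : ι → F) : S.comp i v ∈ D i := (S.exists_comp v).choose_spec.1 i

theorem Sys.sum_comp (v : ι → F) : ∑ i, S.comp i v = v := (S.exists_comp v).choose_spec.2

theorem Sys.polar_comp {i : Fin t} {w : ι → F} (hw : w ∈ D i) (v : ι → F) :
    polarBilin Q w (S.comp i v) = polarBilin Q w v := by
  conv_rhs => rw [← S.sum_comp v, map_sum]
  rw [Finset.sum_eq_single i]
  · exact fun j _ hj => S.orth (Ne.symm hj) hw (S.comp_mem j v)
  · exact fun h => absurd (Finset.mem_univ i) h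

theorem Sys.polar_comp' {i : Fin t} {w : ι → F} (hw : w ∈ D i) (v : ι → F) :
    polarBilin Q (S.comp i v) w = polarBilin Q v w := by
  rw [quad_polar_comm, S.polar_comp hw, quad_polar_comm]

theorem Sys.comp_eq {i : Fin t} {v y : ι → F} (hy : y ∈ D i)
    (h : ∀ w ∈ D i, polarBilin Q w y = polarBilin Q w v) : S.comp i v = y := by
  by_contra hne
  obtain ⟨w, hw, hne'⟩ := S.nd i _ ((D i).sub_mem (S.comp_mem i v) hy) (sub_ne_zero.mpr hne)
  refine hne' ?_
  rw [quad_polar_comm, map_sub, S.polar_comp hw, h w hw, sub_self]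

theorem Sys.comp_self {i : Fin t} {v : ι → F} (hv : v ∈ D i) : S.comp i v = v :=
  S.comp_eq hv fun _ _ => rfl

theorem Sys.comp_other {i j : Fin t} (h : j ≠ i) {v : ι → F} (hv : v ∈ D i) : S.comp j v = 0 :=
  S.comp_eq (D j).zero_mem fun w hw => by rw [map_zero, S.orth h hw hv]

theorem Sys.comp_add (i : Fin t) (v w : ι → F) : S.comp i (v + w) = S.comp i v + S.comp i w :=
  S.comp_eq ((D i).add_mem (S.comp_mem i v) (S.comp_mem i w)) fun z hz => by
    rw [map_add, map_add, S.polar_comp hz, S.polar_comp hz]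

theorem Sys.comp_smul (i : Fin t) (c : F) (v : ι → F) : S.comp i (c • v) = c • S.comp i v :=
  S.comp_eq ((D i).smul_mem _ (S.comp_mem i v)) fun z hz => by
    rw [map_smul, map_smul, S.polar_comp hz]

theorem Sys.comp_neg (i : Fin t) (v : ι → F) : S.comp i (-v) = -S.comp i v := by
  rw [← neg_one_smul F v, S.comp_smul, neg_one_smul]

theorem Sys.comp_sub (i : Fin t) (v w : ι → F) : S.comp i (v - w) = S.comp i v - S.comp i w := by
  rw [sub_eq_add_neg, S.comp_add, S.comp_neg, sub_eq_add_neg]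

/-- A vector with a single component lies in a block. -/
theorem Sys.mem_block {v : ι → F} (h : ∀ i j, i ≠ j → S.comp i v = 0 ∨ S.comp j v = 0) : ∃ j, v ∈ D j := by
  by_cases hz : ∀ i, S.comp i v = 0
  · refine ⟨⟨0, by have := S.hD.decomp.decomp.two_le; omega⟩, ?_⟩
    rw [← S.sum_comp v, Finset.sum_eq_zero fun i _ => hz i]
    exact Submodule.zero_mem _
  push Not at hz
  obtain ⟨j, hj⟩ := hz
  refine ⟨j, ?_⟩
  rw [← S.sum_comp v, Finset.sum_eq_single j (fun i _ hi => (h i j hi).resolve_right hj)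
    (fun h => absurd (Finset.mem_univ j) h)]
  exact S.comp_mem j v

theorem Sys.quad_comp (v : ι → F) : Q v = ∑ i, Q (S.comp i v) := by
  classical
  conv_lhs => rw [← S.sum_comp v]
  suffices ∀ s : Finset (Fin t), Q (∑ i ∈ s, S.comp i v) = ∑ i ∈ s, Q (S.comp i v) from this _
  intro s
  induction s using Finset.induction_on with
  | empty => simp
  | insert a s ha ih =>
    rw [Finset.sum_insert ha, Finset.sum_insert ha, quad_add, ih, map_sum,
      Finset.sum_eq_zero fun i hi => S.orth (fun e : a = i => ha (e ▸ hi)) (S.comp_mem a v) (S.comp_mem i v), add_zero]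

/-- Duality inside a block. -/
theorem Sys.dual {i : Fin t} {W : Submodule F (ι → F)} (hW : W ≤ D i) {x : ι → F} (hx : x ∈ D i) (hxW : x ∉ W) :
    ∃ z ∈ D i, (∀ w ∈ W, polarBilin Q z w = 0) ∧ polarBilin Q z x = 1 := by
  obtain ⟨z, hz, hzx⟩ := Orth.exists_dual S.hN W hxW
  exact ⟨_, S.comp_mem i z, fun w hw => by rw [S.polar_comp' (hW hw), hz w hw], by rw [S.polar_comp' hx, hzx]⟩

theorem Sys.dual_one {i : Fin t} {u x : ι → F} (hu : u ∈ D i) (hx : x ∈ D i) (hxu : x ∉ F ∙ u) :
    ∃ z ∈ D i, polarBilin Q u z = 0 ∧ polarBilin Q z x = 1 := by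
  obtain ⟨z, hz, h, h'⟩ := S.dual ((Submodule.span_singleton_le_iff_mem _ _).mpr hu) hx hxu
  exact ⟨z, hz, by rw [quad_polar_comm]; exact h u (Submodule.mem_span_singleton_self u), h'⟩

theorem Sys.perp_dim (i : Fin t) (a : ι → F) : k ≤ Module.finrank F (perp Q (D i) a) + 1 :=
  (S.fin i).symm.trans_le (finrank_inf_ker (D i) (polarBilin Q a))

/-- A block holds a non-singular vector orthogonal to a given singular pair. -/
theorem Sys.pair_aniso {i : Fin t} {e f : ι → F} (he : e ∈ D i) (hf : f ∈ D i) (hQe : Q e = 0) (hQf : Q f = 0)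
    (hef : polarBilin Q e f = 1) :
    ∃ x ∈ D i, polarBilin Q e x = 0 ∧ polarBilin Q f x = 0 ∧ Q x ≠ 0 := by
  obtain ⟨x, ⟨⟨hx, hxe⟩, hxf⟩, hQx⟩ := ((S.nd i).perp_pair he hf hQe hQf hef).exists_aniso fun h => by
    have h1 := finrank_inf_ker (perp Q (D i) e) (polarBilin Q f)
    have h2 := S.perp_dim i e
    have := S.hk
    unfold perp at h h1 h2
    rw [h, finrank_bot] at h1
    omega
  exact ⟨x, hx, hxe, hxf, hQx⟩

theorem Sys.partner {i : Fin t} {u : ι → F} (hu : u ∈ D i) (hu0 : u ≠ 0) (hQu : Q u = 0) :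
    ∃ f ∈ D i, Q f = 0 ∧ polarBilin Q u f = 1 := by
  obtain ⟨z, hz, huz⟩ := S.nd i u hu hu0
  exact Orth.exists_partner S.hN hQu hu hz huz

/-- A block holds a non-singular vector orthogonal to a given singular one. -/
theorem Sys.sing_aniso {i : Fin t} {u : ι → F} (hu : u ∈ D i) (hu0 : u ≠ 0) (hQu : Q u = 0) :
    ∃ x ∈ D i, polarBilin Q u x = 0 ∧ Q x ≠ 0 := by
  obtain ⟨f, hf, hQf, huf⟩ := S.partner hu hu0 hQu
  obtain ⟨x, hx, hux, -, hQx⟩ := S.pair_aniso hu hf hQu hQf huf
  exact ⟨x, hx, hux, hQx⟩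

theorem Sys.hyp [Finite F] (i : Fin t) :
    ∃ e ∈ D i, ∃ f ∈ D i, e ≠ 0 ∧ Q e = 0 ∧ Q f = 0 ∧ polarBilin Q e f = 1 := by
  obtain ⟨e, he, he0, hQe⟩ := Orth.exists_singular (Q := Q) (D i) (by rw [S.fin i]; exact S.hk)
  obtain ⟨f, hf, hQf, hef⟩ := S.partner he he0 hQe
  exact ⟨e, he, f, hf, he0, hQe, hQf, hef⟩

/-- Each block is spanned by its singular vectors. -/
theorem Sys.span_sing [Finite F] (i : Fin t) : D i ≤ Submodule.span F {z | z ∈ D i ∧ Q z = 0} := by
  obtain ⟨e, he, f, hf, -, hQe, hQf, hef⟩ := S.hyp i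
  intro x hx
  set r := x - polarBilin Q f x • e - polarBilin Q e x • f with hr
  have hre : polarBilin Q e r = 0 := by simp [hr, map_sub, map_smul, Orth.polar_self_of_sing Q hQe, hef]
  have hrf : polarBilin Q f r = 0 := by
    simp [hr, map_sub, map_smul, Orth.polar_self_of_sing Q hQf, quad_polar_comm Q f e, hef]
  have hrD : r ∈ D i := (D i).sub_mem ((D i).sub_mem hx ((D i).smul_mem _ he)) ((D i).smul_mem _ hf)
  have hs : r + e - Q r • f ∈ Submodule.span F {z | z ∈ D i ∧ Q z = 0} := Submodule.subset_span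
    ⟨(D i).sub_mem ((D i).add_mem hrD he) ((D i).smul_mem _ hf), by
      simp [quad_sub, quad_add, quad_smul, hQe, hQf, map_add, map_smul, hre, hrf, quad_polar_comm Q r e,
        quad_polar_comm Q r f, hef]⟩
  have he' : e ∈ Submodule.span F {z | z ∈ D i ∧ Q z = 0} := Submodule.subset_span ⟨he, hQe⟩
  have hf' : f ∈ Submodule.span F {z | z ∈ D i ∧ Q z = 0} := Submodule.subset_span ⟨hf, hQf⟩
  have := Submodule.add_mem _ (Submodule.add_mem _ hs (Submodule.smul_mem _ (polarBilin Q f x - 1) he'))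
    (Submodule.smul_mem _ (polarBilin Q e x + Q r) hf')
  convert this using 1
  rw [hr]
  module

/-- A singular vector of a block not orthogonal to a given vector. -/
theorem Sys.sing_ne [Finite F] {i : Fin t} {b : ι → F} (hb : S.comp i b ≠ 0) :
    ∃ u ∈ D i, u ≠ 0 ∧ Q u = 0 ∧ polarBilin Q u b ≠ 0 := by
  by_contra! hc
  obtain ⟨y, hy, hne⟩ := S.nd i _ (S.comp_mem i b) hb
  refine hne ?_
  rw [quad_polar_comm, S.polar_comp hy]
  have hle : D i ≤ LinearMap.ker ((polarBilin Q).flip b) := (S.span_sing i).trans (Submodule.span_le.mpr fun z hz => by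
    show polarBilin Q z b = 0
    rcases eq_or_ne z 0 with rfl | hz0
    · simp
    · exact hc z hz.1 hz0 hz.2)
  exact hle hy

theorem Sys.eich_mem [Finite F] {l : Fin t} {u x : ι → F} (hu : u ∈ D l) (hx : x ∈ D l) (hQu : Q u = 0)
    (hux : polarBilin Q u x = 0) : InE Q K u x := by
  refine ⟨hQu, hux, S.hK ⟨mem_stab S.fin 1 fun i z hz => ?_, Orth.eichGL_mem_omega S.hN S.h7 hQu hux⟩⟩
  rw [Equiv.Perm.one_apply, Orth.eichGL_mulVec]
  by_cases h : i = l
  · subst h
    exact (D i).sub_mem ((D i).add_mem hz ((D i).smul_mem _ hx)) ((D i).smul_mem _ hu)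
  · rw [S.orth h hz hu, S.orth h hz hx]
    simpa using hz

theorem Sys.rr_mem {a b : Fin t} {p c : ι → F} (hp : p ∈ D a) (hc : c ∈ D b) (h : Q p = Q c) (h0 : Q c ≠ 0) :
    rr Q p c ∈ K := by
  refine S.hK ⟨mem_stab S.fin 1 fun i z hz => ?_, rr_mem_omega S.hN h h0⟩
  have key : ∀ {d : Fin t} {q x : ι → F}, q ∈ D d → x ∈ D i → x - ((Q q)⁻¹ * polarBilin Q q x) • q ∈ D i := by
    intro d q x hq hx
    by_cases hd : d = i
    · exact (D i).sub_mem hx ((D i).smul_mem _ (hd ▸ hq))
    · rw [S.orth hd hq hx, mul_zero, zero_smul, sub_zero]; exact hx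
  rw [Equiv.Perm.one_apply, rr_mulVec]
  exact key hp (key hc hz)

end Cfsg.Agent.Lib.ThreeTransp.DecompOrth
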