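import Cfsg.Agent.Lib.MaxSub.LinSubfield
import Cfsg.Agent.Lib.ThreeTransp.DecompOrthBase

/-!
Eichler elements relative to a rational structure over a subfield of prime index: one irrational parameter
on a rational pair of orthogonal singular vectors gives all of `omegaGL`.
-/

set_option autoImplicit false

namespace Cfsg.Agent.Lib.ThreeTransp.SubOrth

open Matrix QuadraticMap
open Cfsg.Agent.Lib.MaxSub
open Cfsg.Agent.Lib.MaxSub.OrthSplit (InE)
open Cfsg.Agent.Lib.ThreeTransp.DecompOrth (inE_zero inE_neg inE_add inE_flip)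
open Cfsg.Agent.Lib.Geometry (quad_add quad_sub quad_smul quad_polar_self quad_polar_comm)
open scoped MatrixGroups Matrix

attribute [-simp] QuadraticMap.polarBilin_apply_apply

/-! ### Choices in one space -/

section gen

variable {ι : Type} [Fintype ι] [DecidableEq ι] {F : Type*} [Field F] [Finite F] {Q : QuadraticForm F (ι → F)}

theorem gen_exists_sing (s t : Finset (ι → F)) (h : s.card + t.card + 3 ≤ Fintype.card ι) :
    ∃ z, Q z = 0 ∧ z ∉ Submodule.span F (t : Set (ι → F)) ∧ ∀ x ∈ s, polarBilin Q x z = 0 := by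
  classical
  let T : (ι → F) →ₗ[F] (s → F) := LinearMap.pi fun x => polarBilin Q x.1
  obtain ⟨C, hC⟩ := Submodule.exists_isCompl (Submodule.span F (t : Set (ι → F)))
  have h1 := T.finrank_range_add_finrank_ker
  have h2 : Module.finrank F (LinearMap.range T) ≤ s.card := (Submodule.finrank_le _).trans (by simp)
  have h3 := Submodule.finrank_sup_add_finrank_inf_eq (LinearMap.ker T) C
  have h4 := Submodule.finrank_le (LinearMap.ker T ⊔ C)
  have h5 := Submodule.finrank_add_eq_of_isCompl hC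
  have h6 : Module.finrank F (Submodule.span F (t : Set (ι → F))) ≤ t.card := finrank_span_finset_le_card t
  rw [Module.finrank_fintype_fun_eq_card] at h1 h4 h5
  obtain ⟨z, hz, hz0, hQz⟩ := Orth.exists_singular (Q := Q) (LinearMap.ker T ⊓ C) (by omega)
  exact ⟨z, hQz, fun hm => hz0 (Submodule.disjoint_def.mp hC.disjoint z hm hz.2),
    fun x hx => congrFun (LinearMap.mem_ker.mp hz.1) ⟨x, hx⟩⟩

omit [Finite F] in
theorem gen_partner (hN : (polarBilin Q).Nondegenerate) (s : Finset (ι → F)) {e : ι → F} (hQe : Q e = 0)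
    (hes : ∀ x ∈ s, polarBilin Q x e = 0) (he : e ∉ Submodule.span F (s : Set (ι → F))) :
    ∃ f, Q f = 0 ∧ polarBilin Q e f = 1 ∧ ∀ x ∈ s, polarBilin Q x f = 0 := by
  obtain ⟨z, hz, hze⟩ := Orth.exists_dual hN _ he
  rw [quad_polar_comm] at hze
  refine ⟨z - Q z • e, ?_, ?_, fun x hx => ?_⟩
  · rw [quad_sub, quad_smul, hQe, map_smul, quad_polar_comm Q z e, hze, smul_eq_mul]; ring
  · rw [map_sub, map_smul, Orth.polar_self_of_sing Q hQe, hze, smul_zero, sub_zero]
  · rw [map_sub, map_smul, quad_polar_comm Q x z, hz x (Submodule.subset_span hx), hes x hx, smul_zero, sub_zero]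

theorem gen_pair (hN : (polarBilin Q).Nondegenerate) (s : Finset (ι → F))
    (h : 2 * s.card + 3 ≤ Fintype.card ι) :
    ∃ e f, Q e = 0 ∧ Q f = 0 ∧ polarBilin Q e f = 1 ∧ ∀ x ∈ s, polarBilin Q x e = 0 ∧ polarBilin Q x f = 0 := by
  obtain ⟨e, hQe, he, hes⟩ := gen_exists_sing (Q := Q) s s (by omega)
  obtain ⟨f, hQf, hef, hfs⟩ := gen_partner hN s hQe hes he
  exact ⟨e, f, hQe, hQf, hef, fun x hx => ⟨hes x hx, hfs x hx⟩⟩

theorem gen_span_sing (hN : (polarBilin Q).Nondegenerate) (s : Finset (ι → F))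
    (h : 2 * s.card + 3 ≤ Fintype.card ι) {x : ι → F} (hx : ∀ y ∈ s, polarBilin Q y x = 0) :
    x ∈ Submodule.span F {z | Q z = 0 ∧ ∀ y ∈ s, polarBilin Q y z = 0} := by
  obtain ⟨e, f, hQe, hQf, hef, hs⟩ := gen_pair hN s h
  set S := Submodule.span F {z | Q z = 0 ∧ ∀ y ∈ s, polarBilin Q y z = 0} with hS
  set r := x - polarBilin Q f x • e - polarBilin Q e x • f with hr
  have hre : polarBilin Q e r = 0 := by simp [hr, map_sub, map_smul, Orth.polar_self_of_sing Q hQe, hef]
  have hrf : polarBilin Q f r = 0 := by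
    simp [hr, map_sub, map_smul, Orth.polar_self_of_sing Q hQf, quad_polar_comm Q f e, hef]
  have hs1 : r + e - Q r • f ∈ S := Submodule.subset_span
    ⟨by simp [quad_sub, quad_add, quad_smul, hQe, hQf, map_add, map_smul, hre, hrf, quad_polar_comm Q r e,
        quad_polar_comm Q r f, hef],
      fun y hy => by simp [hr, map_add, map_sub, map_smul, hx y hy, (hs y hy).1, (hs y hy).2]⟩
  have he' : e ∈ S := Submodule.subset_span ⟨hQe, fun y hy => (hs y hy).1⟩
  have hf' : f ∈ S := Submodule.subset_span ⟨hQf, fun y hy => (hs y hy).2⟩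
  have := S.add_mem (S.add_mem hs1 (S.smul_mem (polarBilin Q f x - 1) he')) (S.smul_mem (polarBilin Q e x + Q r) hf')
  convert this using 1
  rw [hr]
  module

omit [Finite F] in
/-- A totally isotropic subspace orthogonal to a family with a dual family. -/
theorem gen_iso_bound (hN : (polarBilin Q).Nondegenerate) (U : Submodule F (ι → F))
    (hU : ∀ x ∈ U, ∀ y ∈ U, polarBilin Q x y = 0) {m : ℕ} (v v' : Fin m → ι → F)
    (hv : ∀ i, ∀ x ∈ U, polarBilin Q (v i) x = 0) (hv' : ∀ i, ∀ x ∈ U, polarBilin Q x (v' i) = 0)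
    (hd : ∀ i j, polarBilin Q (v i) (v' j) = if i = j then 1 else 0) :
    2 * Module.finrank F U + m ≤ Fintype.card ι := by
  classical
  set O := LinearMap.BilinForm.orthogonal (polarBilin Q) U with hO
  let T : O →ₗ[F] (Fin m → F) := (LinearMap.pi fun i => polarBilin Q (v i)).domRestrict O
  have hsur : LinearMap.range T = ⊤ := eq_top_iff.mpr fun w _ => by
    refine ⟨∑ j, w j • (⟨v' j, fun x hx => hv' j x hx⟩ : O), funext fun i => ?_⟩
    simp [T, map_sum, map_smul, hd]
  have h1 := T.finrank_range_add_finrank_ker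
  rw [hsur, finrank_top, Module.finrank_fintype_fun_eq_card, Fintype.card_fin] at h1
  have h2 : Module.finrank F U ≤ Module.finrank F (LinearMap.ker T) := by
    let L : U →ₗ[F] LinearMap.ker T :=
      { toFun := fun x => ⟨⟨x.1, fun y hy => hU y hy x x.2⟩, funext fun i => hv i x x.2⟩
        map_add' := fun x y => rfl
        map_smul' := fun c x => rfl }
    exact LinearMap.finrank_le_finrank_of_injective (f := L) fun x y h =>
      Subtype.ext (congrArg (fun z : LinearMap.ker T => z.1.1) h)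
  have h3 : Module.finrank F O = Fintype.card ι - Module.finrank F U := by
    rw [hO, LinearMap.BilinForm.finrank_orthogonal hN, Module.finrank_fintype_fun_eq_card]
  have h4 : Module.finrank F U ≤ Fintype.card ι := by
    rw [← Module.finrank_fintype_fun_eq_card F]; exact Submodule.finrank_le U
  omega

end gen

variable {ι : Type} [Fintype ι] [DecidableEq ι] {F : Type*} [Field F] {Q : QuadraticForm F (ι → F)}
  {K : Subgroup (GL ι F)}

theorem inE_line {u : ι → F} (hu : Q u = 0) (a : F) : InE Q K u (a • u) := by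
  have h := Orth.polar_self_of_sing Q hu
  refine ⟨hu, by rw [map_smul, h, smul_zero], ?_⟩
  convert K.one_mem using 1
  refine Units.ext (Matrix.ext_of_mulVec_single fun j => ?_)
  rw [Orth.eichGL_mulVec, Units.val_one, Matrix.one_mulVec, quad_smul, hu, map_smul, smul_eq_mul]
  module

theorem inE_left_zero (x : ι → F) : InE Q K 0 x := by
  refine ⟨map_zero Q, by rw [map_zero, LinearMap.zero_apply], ?_⟩
  convert K.one_mem using 1
  refine Units.ext (Matrix.ext_of_mulVec_single fun j => ?_)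
  rw [Orth.eichGL_mulVec, Units.val_one, Matrix.one_mulVec]
  simp

/-- The commutator rule of two long root elements. -/
theorem inE_comm {e f z z' : ι → F} {s t : F} (hef : polarBilin Q e f = 1) (hQe : Q e = 0) (hQz : Q z = 0)
    (hQz' : Q z' = 0) (hez' : polarBilin Q e z' = 0) (hzz' : polarBilin Q z z' = 0) (hfz : polarBilin Q f z = 0)
    (h1 : InE Q K e (s • z)) (h2 : InE Q K f (t • z')) : InE Q K z ((s * t) • z') := by
  rcases eq_or_ne s 0 with rfl | hs
  · rw [zero_mul]; exact inE_line hQz 0 |> fun h => by simpa using h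
  obtain ⟨hQf, hfz', hm⟩ := id h2
  have h3 := h1.conj hm (Orth.toGL_mem_isometry Q _)
  have e1 : (Orth.eichGL Q f (t • z') hQf hfz' : Matrix ι ι F) *ᵥ e = e + t • z' := by
    rw [Orth.eichGL_mulVec, hef, map_smul, hez', quad_smul, hQz', smul_eq_mul]; module
  have e2 : (Orth.eichGL Q f (t • z') hQf hfz' : Matrix ι ι F) *ᵥ (s • z) = s • z := by
    rw [Orth.eichGL_mulVec, map_smul, map_smul, LinearMap.smul_apply, LinearMap.smul_apply, quad_polar_comm Q z f,
      hfz, hzz']
    simp
  rw [e1, e2] at h3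
  have hQsz : Q (s • z) = 0 := by rw [quad_smul, hQz, mul_zero]
  have h4 := (inE_flip h1 hQsz).sub (inE_flip h3 hQsz)
  rw [show -e - -(e + t • z') = t • z' by abel] at h4
  have h5 := h4.scale hs
  rwa [smul_smul] at h5

/-- The embedding of the rational coordinate space. -/
def emb (F₀ : Subfield F) (P : GL ι F) (u : ι → F₀) : ι → F := (P : Matrix ι ι F) *ᵥ fun i => (u i : F)

variable {F₀ : Subfield F} {P : GL ι F}

theorem emb_add (u v : ι → F₀) : emb F₀ P (u + v) = emb F₀ P u + emb F₀ P v := by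
  rw [emb, emb, emb, ← Matrix.mulVec_add]; rfl

theorem emb_smul (c : F₀) (u : ι → F₀) : emb F₀ P (c • u) = (c : F) • emb F₀ P u := by
  rw [emb, emb, ← Matrix.mulVec_smul]; rfl

theorem emb_zero : emb F₀ P 0 = 0 := by
  have := emb_smul (F₀ := F₀) (P := P) 0 0
  simpa using this

theorem emb_neg (u : ι → F₀) : emb F₀ P (-u) = -emb F₀ P u := by
  rw [← neg_one_smul F₀ u, emb_smul]; simp

theorem emb_sub (u v : ι → F₀) : emb F₀ P (u - v) = emb F₀ P u - emb F₀ P v := by
  rw [sub_eq_add_neg, emb_add, emb_neg, sub_eq_add_neg]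

theorem emb_inj {u v : ι → F₀} (h : emb F₀ P u = emb F₀ P v) : u = v := by
  have h1 := congrArg (fun x => ((P⁻¹ : GL ι F) : Matrix ι ι F) *ᵥ x) h
  simp only [emb, Matrix.mulVec_mulVec, ← Units.val_mul, inv_mul_cancel, Units.val_one, Matrix.one_mulVec] at h1
  exact funext fun i => Subtype.ext (congrFun h1 i)

theorem emb_ne_zero {u : ι → F₀} (h : u ≠ 0) : emb F₀ P u ≠ 0 := fun e => h (emb_inj (e.trans emb_zero.symm))

theorem ratVec_emb (u : ι → F₀) : RatVec F₀ P (emb F₀ P u) := (ratVec_mulVec _).mpr fun i => (u i).2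

theorem exists_emb {x : ι → F} (hx : RatVec F₀ P x) : ∃ u, x = emb F₀ P u := by
  obtain ⟨u, hu, rfl⟩ := hx.eq_mulVec
  exact ⟨fun i => ⟨u i, hu i⟩, rfl⟩

theorem emb_expand (v : ι → F) :
    v = ∑ i, (((P⁻¹ : GL ι F) : Matrix ι ι F) *ᵥ v) i • emb F₀ P (Pi.single i 1) := by
  have h : ∀ i : ι, (fun j => ((Pi.single i (1 : F₀) : ι → F₀) j : F)) = Pi.single i 1 := fun i => funext fun j => by
    rcases eq_or_ne j i with rfl | hj <;> simp [*]
  simp only [emb, h, ← Matrix.mulVec_smul, ← Matrix.mulVec_sum]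
  rw [← pi_eq_sum_univ', Matrix.mulVec_mulVec, ← Units.val_mul, mul_inv_cancel, Units.val_one, Matrix.one_mulVec]

variable (Q F₀ P) in
/-- A rational structure for the form over a subfield of prime index. -/
structure Rs (r : ℕ) : Prop where
  hN : (polarBilin Q).Nondegenerate
  hn : 13 ≤ Fintype.card ι
  hr : r.Prime
  hcard : Nat.card F = Nat.card F₀ ^ r
  hq : ∀ u : ι → F₀, Q (emb F₀ P u) ∈ F₀

variable {r : ℕ} (R : Rs Q F₀ P r)
include R

theorem Rs.hp (u v : ι → F₀) : polarBilin Q (emb F₀ P u) (emb F₀ P v) ∈ F₀ := by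
  have h := quad_add Q (emb F₀ P u) (emb F₀ P v)
  rw [← emb_add] at h
  rw [show polarBilin Q (emb F₀ P u) (emb F₀ P v) = Q (emb F₀ P (u + v)) - Q (emb F₀ P u) - Q (emb F₀ P v) by
    linear_combination -h]
  exact F₀.sub_mem (F₀.sub_mem (R.hq _) (R.hq _)) (R.hq _)

/-- The form on the rational coordinate space. -/
noncomputable def Rs.Q₀ : QuadraticForm F₀ (ι → F₀) :=
  QuadraticMap.ofPolar (fun u => (⟨Q (emb F₀ P u), R.hq u⟩ : F₀))
    (fun a x => Subtype.ext (by
      show Q (emb F₀ P (a • x)) = ((a * a) • (⟨Q (emb F₀ P x), R.hq x⟩ : F₀) : F₀)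
      rw [emb_smul, quad_smul]; rfl))
    (fun x x' y => Subtype.ext (by
      simp only [QuadraticMap.polar, emb_add, quad_add, map_add, LinearMap.add_apply, AddSubgroupClass.coe_sub,
        Subfield.coe_add]
      ring))
    (fun a x y => Subtype.ext (by
      simp only [QuadraticMap.polar, emb_add, emb_smul, quad_add, quad_smul, map_smul, LinearMap.smul_apply,
        AddSubgroupClass.coe_sub, smul_eq_mul, Subfield.coe_mul]
      ring))

theorem Rs.coe_Q₀ (u : ι → F₀) : ((R.Q₀ u : F₀) : F) = Q (emb F₀ P u) := rfl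

theorem Rs.pol (u v : ι → F₀) :
    ((polarBilin R.Q₀ u v : F₀) : F) = polarBilin Q (emb F₀ P u) (emb F₀ P v) := by
  rw [polarBilin_apply_apply, polarBilin_apply_apply, QuadraticMap.polar, QuadraticMap.polar,
    AddSubgroupClass.coe_sub, AddSubgroupClass.coe_sub, R.coe_Q₀, R.coe_Q₀, R.coe_Q₀, emb_add]

theorem Rs.qz (u : ι → F₀) : R.Q₀ u = 0 ↔ Q (emb F₀ P u) = 0 := by
  rw [← R.coe_Q₀]; exact ⟨fun h => by rw [h]; rfl, fun h => Subtype.ext h⟩

theorem Rs.pz (u v : ι → F₀) : polarBilin R.Q₀ u v = 0 ↔ polarBilin Q (emb F₀ P u) (emb F₀ P v) = 0 := by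
  rw [← R.pol]; exact ⟨fun h => by rw [h]; rfl, fun h => Subtype.ext h⟩

theorem Rs.nondeg₀ : (polarBilin R.Q₀).Nondegenerate := by
  have key : ∀ u : ι → F₀, (∀ v, polarBilin R.Q₀ u v = 0) → u = 0 := fun u hu => by
    by_contra h0
    refine emb_ne_zero (P := P) h0 (R.hN.1 _ fun v => ?_)
    rw [emb_expand (F₀ := F₀) (P := P) v, map_sum]
    exact Finset.sum_eq_zero fun i _ => by rw [map_smul, (R.pz _ _).mp (hu _), smul_zero]
  exact ⟨key, fun u hu => key u fun v => by rw [quad_polar_comm]; exact hu v⟩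

variable [Finite F]

theorem Rs.exists_sing (s t : Finset (ι → F₀)) (h : s.card + t.card + 3 ≤ 13) :
    ∃ z, Q (emb F₀ P z) = 0 ∧ z ∉ Submodule.span F₀ (t : Set (ι → F₀)) ∧
      ∀ x ∈ s, polarBilin Q (emb F₀ P x) (emb F₀ P z) = 0 := by
  obtain ⟨z, h1, h2, h3⟩ := gen_exists_sing (Q := R.Q₀) s t (by have := R.hn; omega)
  exact ⟨z, (R.qz z).mp h1, h2, fun x hx => (R.pz x z).mp (h3 x hx)⟩

theorem Rs.exists_partner (s : Finset (ι → F₀)) {e : ι → F₀} (hQe : Q (emb F₀ P e) = 0)
    (hes : ∀ x ∈ s, polarBilin Q (emb F₀ P x) (emb F₀ P e) = 0) (he : e ∉ Submodule.span F₀ (s : Set (ι → F₀))) :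
    ∃ f, Q (emb F₀ P f) = 0 ∧ polarBilin Q (emb F₀ P e) (emb F₀ P f) = 1 ∧
      ∀ x ∈ s, polarBilin Q (emb F₀ P x) (emb F₀ P f) = 0 := by
  obtain ⟨f, h1, h2, h3⟩ := gen_partner R.nondeg₀ s ((R.qz e).mpr hQe) (fun x hx => (R.pz x e).mpr (hes x hx)) he
  exact ⟨f, (R.qz f).mp h1, by rw [← R.pol, h2]; rfl, fun x hx => (R.pz x f).mp (h3 x hx)⟩

/-- An additive, homogeneous property of the rational singular vectors orthogonal to `s` holds for all of them. -/
theorem Rs.induct_perp (s : Finset (ι → F₀)) (hs : 2 * s.card + 3 ≤ 13) {p : (ι → F₀) → Prop}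
    (hadd : ∀ x y, p x → p y → p (x + y)) (hsmul : ∀ (c : F₀) x, p x → p (c • x)) (h0 : p 0)
    (hp : ∀ z, Q (emb F₀ P z) = 0 → (∀ y ∈ s, polarBilin Q (emb F₀ P y) (emb F₀ P z) = 0) → p z)
    {x : ι → F₀} (hx : ∀ y ∈ s, polarBilin Q (emb F₀ P y) (emb F₀ P x) = 0) : p x := by
  have h := gen_span_sing R.nondeg₀ s (by have := R.hn; omega) (x := x) fun y hy => (R.pz y x).mpr (hx y hy)
  induction h using Submodule.span_induction with
  | mem z hz => exact hp z ((R.qz z).mp hz.1) fun y hy => (R.pz y z).mp (hz.2 y hy)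
  | zero => exact h0
  | add a b ha hb iha ihb =>
    refine hadd a b (iha fun y hy => (R.pz y a).mp ?_) (ihb fun y hy => (R.pz y b).mp ?_)
    · have : Submodule.span F₀ {z | R.Q₀ z = 0 ∧ ∀ y ∈ s, polarBilin R.Q₀ y z = 0} ≤
          LinearMap.ker (polarBilin R.Q₀ y) := Submodule.span_le.mpr fun z hz => hz.2 y hy
      exact this ha
    · have : Submodule.span F₀ {z | R.Q₀ z = 0 ∧ ∀ y ∈ s, polarBilin R.Q₀ y z = 0} ≤
          LinearMap.ker (polarBilin R.Q₀ y) := Submodule.span_le.mpr fun z hz => hz.2 y hy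
      exact this hb
  | smul c a ha ih =>
    refine hsmul c a (ih fun y hy => (R.pz y a).mp ?_)
    have : Submodule.span F₀ {z | R.Q₀ z = 0 ∧ ∀ y ∈ s, polarBilin R.Q₀ y z = 0} ≤
        LinearMap.ker (polarBilin R.Q₀ y) := Submodule.span_le.mpr fun z hz => hz.2 y hy
    exact this ha

/-- Orthogonality to a set of rational vectors descends to rational summands. -/
theorem Rs.decomp_perp (s : Finset (ι → F₀)) {z : ι → F}
    (hz : ∀ y ∈ s, polarBilin Q (emb F₀ P y) z = 0) :
    z ∈ Submodule.span F {x | ∃ u, x = emb F₀ P u ∧ ∀ y ∈ s, polarBilin Q (emb F₀ P y) (emb F₀ P u) = 0} := by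
  set b := Module.finBasis F₀ F
  set z' := ((P⁻¹ : GL ι F) : Matrix ι ι F) *ᵥ z with hz'
  let u : Fin (Module.finrank F₀ F) → ι → F₀ := fun j i => b.coord j (z' i)
  have hsum : z = ∑ j, b j • emb F₀ P (u j) := by
    simp only [emb, ← Matrix.mulVec_smul, ← Matrix.mulVec_sum]
    rw [show (∑ j, b j • fun i => (u j i : F)) = z' from funext fun i => by
      rw [Finset.sum_apply]
      conv_rhs => rw [← b.sum_repr (z' i)]
      exact Finset.sum_congr rfl fun j _ => mul_comm _ _,
      hz', Matrix.mulVec_mulVec, ← Units.val_mul, mul_inv_cancel, Units.val_one, Matrix.one_mulVec]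
  rw [hsum]
  refine Submodule.sum_mem _ fun j _ => Submodule.smul_mem _ _ (Submodule.subset_span ⟨u j, rfl, fun y hy => ?_⟩)
  set c : ι → F₀ := fun i => ⟨_, R.hp y (Pi.single i 1)⟩ with hc
  have h1 : ∑ i, c i • z' i = 0 := by
    rw [← hz y hy]
    conv_rhs => rw [emb_expand (F₀ := F₀) (P := P) z, map_sum]
    refine Finset.sum_congr rfl fun i _ => ?_
    rw [map_smul, smul_eq_mul, ← hz']
    exact mul_comm _ _
  have h2 := congrArg (b.coord j) h1
  rw [map_sum, map_zero] at h2
  simp only [map_smul, smul_eq_mul] at h2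
  have h3 : polarBilin Q (emb F₀ P y) (emb F₀ P (u j)) = ((∑ i, c i * b.coord j (z' i) : F₀) : F) := by
    rw [AddSubmonoidClass.coe_finsetSum]
    conv_lhs => rw [emb_expand (F₀ := F₀) (P := P) (emb F₀ P (u j)), map_sum]
    refine Finset.sum_congr rfl fun i _ => ?_
    rw [map_smul, smul_eq_mul, emb, Matrix.mulVec_mulVec, ← Units.val_mul, inv_mul_cancel, Units.val_one,
      Matrix.one_mulVec, Subfield.coe_mul]
    exact mul_comm _ _
  rw [h3, h2]
  rfl

/-- A vector killed by the rational singular vectors orthogonal to `s` is a combination of `s`. -/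
theorem Rs.mem_span_of_kills (s : Finset (ι → F₀)) (hs : 2 * s.card + 3 ≤ 13) {v : ι → F}
    (hv : ∀ z, Q (emb F₀ P z) = 0 → (∀ y ∈ s, polarBilin Q (emb F₀ P y) (emb F₀ P z) = 0) →
      polarBilin Q v (emb F₀ P z) = 0) :
    v ∈ Submodule.span F (emb F₀ P '' (s : Set (ι → F₀))) := by
  by_contra hc
  obtain ⟨z, hz, hzv⟩ := Orth.exists_dual R.hN _ hc
  have h1 := R.decomp_perp s (z := z) fun y hy => by
    rw [quad_polar_comm]; exact hz _ (Submodule.subset_span ⟨y, hy, rfl⟩)
  have hle : Submodule.span F {x | ∃ u, x = emb F₀ P u ∧ ∀ y ∈ s, polarBilin Q (emb F₀ P y) (emb F₀ P u) = 0} ≤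
      LinearMap.ker (polarBilin Q v) := Submodule.span_le.mpr (by
    rintro x ⟨u, rfl, hu⟩
    exact R.induct_perp s hs (p := fun u => polarBilin Q v (emb F₀ P u) = 0)
      (fun x y hx hy => by rw [emb_add, map_add, hx, hy, add_zero])
      (fun c x hx => by rw [emb_smul, map_smul, hx, smul_zero]) (by rw [emb_zero, map_zero]) hv hu)
  have h2 : polarBilin Q v z = 0 := hle h1
  rw [quad_polar_comm, h2] at hzv
  exact zero_ne_one hzv

omit [Finite F] in
/-- `K` contains the rational Eichler elements. -/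
theorem Rs.finiteSubfield [Finite F] (Rg : Subring F) : ∀ x ∈ Rg, x⁻¹ ∈ Rg := fun x hx => by
  haveI : Fintype F := Fintype.ofFinite F
  rcases eq_or_ne x 0 with rfl | hx0
  · rw [_root_.inv_zero]; exact Rg.zero_mem
  · have hq : 2 ≤ Fintype.card F := Fintype.one_lt_card
    rw [show x⁻¹ = x ^ (Fintype.card F - 2) from inv_eq_of_mul_eq_one_right (by
      rw [← pow_succ', show Fintype.card F - 2 + 1 = Fintype.card F - 1 by omega]
      exact FiniteField.pow_card_sub_one_eq_one x hx0)]
    exact Rg.pow_mem hx _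

omit R [Finite F] in
/-- The group contains the Eichler elements of the rational vectors. -/
def Base (Q : QuadraticForm F (ι → F)) (F₀ : Subfield F) (P : GL ι F) (K : Subgroup (GL ι F)) : Prop :=
  ∀ u x : ι → F₀, Q (emb F₀ P u) = 0 → polarBilin Q (emb F₀ P u) (emb F₀ P x) = 0 →
    InE Q K (emb F₀ P u) (emb F₀ P x)

/-- One irrational parameter on an independent rational pair gives all of `omegaGL`. -/
theorem Rs.omega_le_of_param (hK : Base Q F₀ P K) {a b : ι → F₀} (hQa : Q (emb F₀ P a) = 0)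
    (hQb : Q (emb F₀ P b) = 0) (hab : polarBilin Q (emb F₀ P a) (emb F₀ P b) = 0)
    (hba : a ∉ Submodule.span F₀ {b}) (hb0 : b ≠ 0) {c : F} (hc : c ∉ F₀) (h : InE Q K (emb F₀ P a) (c • emb F₀ P b)) :
    Cfsg.Geo.omegaGL ⇑Q ≤ K := by
  classical
  set E := emb F₀ P with hE
  have hcomm : ∀ {x y : ι → F₀}, polarBilin Q (E x) (E y) = 0 → polarBilin Q (E y) (E x) = 0 :=
    fun {x y} h => by rw [quad_polar_comm]; exact h
  have hspan2 : ∀ {x y w : ι → F₀}, x ∉ Submodule.span F₀ (({y, w} : Finset (ι → F₀)) : Set (ι → F₀)) →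
      x ∉ Submodule.span F₀ {y} ∧ x ∉ Submodule.span F₀ {w} := fun {x y w} h =>
    ⟨fun h' => h (Submodule.span_mono (by simp) h'), fun h' => h (Submodule.span_mono (by simp) h')⟩
  -- one step along two pairs sharing a vector
  have step : ∀ e z z' : ι → F₀, ∀ d : F, Q (E e) = 0 → Q (E z) = 0 → Q (E z') = 0 →
      polarBilin Q (E e) (E z) = 0 → polarBilin Q (E e) (E z') = 0 → polarBilin Q (E z) (E z') = 0 →
      e ∉ Submodule.span F₀ (({z, z'} : Finset (ι → F₀)) : Set (ι → F₀)) →
      InE Q K (E e) (d • E z) → InE Q K (E z) (d • E z') := by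
    intro e z z' d hQe hQz hQz' hez hez' hzz' he hd
    obtain ⟨f, hQf, hef, hfs⟩ := R.exists_partner {z, z'} hQe (by
      simp only [Finset.mem_insert, Finset.mem_singleton, forall_eq_or_imp, forall_eq]
      exact ⟨hcomm hez, hcomm hez'⟩) he
    have h2 : InE Q K (E f) ((1 : F) • E z') := by
      rw [one_smul]; exact hK f z' hQf (hcomm (hfs z' (by simp)))
    have := inE_comm hef hQe hQz hQz' hez' hzz' (hcomm (hfs z (by simp))) hd h2
    rwa [mul_one] at this
  -- all independent pairs
  have hspread : ∀ p q : ι → F₀, Q (E p) = 0 → Q (E q) = 0 → polarBilin Q (E p) (E q) = 0 →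
      InE Q K (E p) (c • E q) := by
    intro p q hQp hQq hpq
    by_cases hqp : q ∈ Submodule.span F₀ {p}
    · obtain ⟨d, rfl⟩ := Submodule.mem_span_singleton.mp hqp
      rw [hE, emb_smul, smul_smul]
      exact inE_line hQp _
    obtain ⟨h', hQh, hhs, hhp⟩ := R.exists_sing {a, b, p} {a, b, p} (by
      have : ({a, b, p} : Finset (ι → F₀)).card ≤ 3 := Finset.card_le_three
      omega)
    obtain ⟨k, hQk, hks, hkp⟩ := R.exists_sing {b, h', p, q} {b, h', p, q} (by
      have : ({b, h', p, q} : Finset (ι → F₀)).card ≤ 4 := Finset.card_le_four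
      omega)
    have hha : polarBilin Q (E a) (E h') = 0 := hhp a (by simp)
    have hhb : polarBilin Q (E b) (E h') = 0 := hhp b (by simp)
    have hph : polarBilin Q (E p) (E h') = 0 := hhp p (by simp)
    have hbk : polarBilin Q (E b) (E k) = 0 := hkp b (by simp)
    have hhk : polarBilin Q (E h') (E k) = 0 := hkp h' (by simp)
    have hpk : polarBilin Q (E p) (E k) = 0 := hkp p (by simp)
    have hqk : polarBilin Q (E q) (E k) = 0 := hkp q (by simp)
    have s1 : InE Q K (E b) (c • E h') := by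
      refine step a b h' c hQa hQb hQh hab hha hhb (fun hm => ?_) h
      rw [Finset.coe_pair, Set.pair_comm, Submodule.mem_span_insert] at hm
      obtain ⟨d, m, hm, hd⟩ := hm
      rcases eq_or_ne d 0 with rfl | hd0
      · rw [zero_smul, zero_add] at hd; exact hba (hd ▸ hm)
      · refine hhs ?_
        rw [show h' = d⁻¹ • (a - m) by rw [hd, add_sub_cancel_right, smul_smul, inv_mul_cancel₀ hd0, one_smul]]
        exact Submodule.smul_mem _ _ (Submodule.sub_mem _ (Submodule.subset_span (by simp))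
          (Submodule.span_mono (by simp) hm))
    have s2 : InE Q K (E h') (c • E k) := by
      refine step b h' k c hQb hQh hQk hhb hbk hhk (fun hm => ?_) s1
      rw [Finset.coe_pair, Set.pair_comm, Submodule.mem_span_insert] at hm
      obtain ⟨d, m, hm, hd⟩ := hm
      rcases eq_or_ne d 0 with rfl | hd0
      · rw [zero_smul, zero_add] at hd
        obtain ⟨s, hs⟩ := Submodule.mem_span_singleton.mp hm
        rcases eq_or_ne s 0 with rfl | hs0
        · exact hb0 (by rw [hd, ← hs, zero_smul])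
        · refine hhs ?_
          rw [show h' = s⁻¹ • b by rw [hd, ← hs, smul_smul, inv_mul_cancel₀ hs0, one_smul]]
          exact Submodule.smul_mem _ _ (Submodule.subset_span (by simp))
      · refine hks ?_
        rw [show k = d⁻¹ • (b - m) by rw [hd, add_sub_cancel_right, smul_smul, inv_mul_cancel₀ hd0, one_smul]]
        exact Submodule.smul_mem _ _ (Submodule.sub_mem _ (Submodule.subset_span (by simp))
          (Submodule.span_mono (by simp) hm))
    have s3 : InE Q K (E k) (c • E p) := by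
      refine step h' k p c hQh hQk hQp hhk (hcomm hph) (hcomm hpk) (fun hm => ?_) s2
      rw [Finset.coe_pair, Submodule.mem_span_insert] at hm
      obtain ⟨d, m, hm, hd⟩ := hm
      rcases eq_or_ne d 0 with rfl | hd0
      · rw [zero_smul, zero_add] at hd
        exact hhs (hd ▸ Submodule.span_mono (by simp) hm)
      · refine hks ?_
        rw [show k = d⁻¹ • (h' - m) by rw [hd, add_sub_cancel_right, smul_smul, inv_mul_cancel₀ hd0, one_smul]]
        exact Submodule.smul_mem _ _ (Submodule.sub_mem _ (Submodule.subset_span (by simp))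
          (Submodule.span_mono (by simp) hm))
    exact step k p q c hQk hQp hQq (hcomm hpk) (hcomm hqk) hpq
      (fun hm => hks (Submodule.span_mono (by simp [Set.insert_subset_iff]) hm)) s3
  -- the parameters
  let Rg : Subring F :=
    { carrier := {d | ∀ p q : ι → F₀, Q (E p) = 0 → Q (E q) = 0 → polarBilin Q (E p) (E q) = 0 →
        InE Q K (E p) (d • E q)}
      one_mem' := fun p q hp hq hpq => by rw [one_smul]; exact hK p q hp hpq
      zero_mem' := fun p q hp hq hpq => by rw [zero_smul]; exact inE_zero (hK p q hp hpq)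
      add_mem' := fun {s t} hs ht p q hp hq hpq => by rw [add_smul]; exact inE_add (hs p q hp hq hpq) (ht p q hp hq hpq)
      neg_mem' := fun {s} hs p q hp hq hpq => by rw [neg_smul]; exact inE_neg (hs p q hp hq hpq)
      mul_mem' := fun {s t} hs ht p q hp hq hpq => by
        by_cases hqp : q ∈ Submodule.span F₀ {p}
        · obtain ⟨d, rfl⟩ := Submodule.mem_span_singleton.mp hqp
          rw [hE, emb_smul, smul_smul]
          exact inE_line hp _
        obtain ⟨e, hQe, hes, hep⟩ := R.exists_sing {p, q} {p, q} (by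
          have : ({p, q} : Finset (ι → F₀)).card ≤ 2 := Finset.card_le_two
          omega)
        obtain ⟨f, hQf, hef, hfs⟩ := R.exists_partner {p, q} hQe hep hes
        exact inE_comm hef hQe hp hq (hcomm (hep q (by simp))) hpq (hcomm (hfs p (by simp)))
          (hs e p hQe hp (hcomm (hep p (by simp)))) (ht f q hQf hq (hcomm (hfs q (by simp)))) }
  let Kf : Subfield F := { Rg with inv_mem' := R.finiteSubfield Rg }
  have htop : Kf = ⊤ := LinSubfield.eq_top_of_lt (F₀ := F₀) R.hr R.hcard Kf (fun d hd p q hp hq hpq => by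
    have := hK p ((⟨d, hd⟩ : F₀) • q) hp (by rw [emb_smul, map_smul, hpq, smul_zero])
    rwa [emb_smul] at this) (c := c) hspread hc
  have hall : ∀ (d : F) (p q : ι → F₀), Q (E p) = 0 → Q (E q) = 0 → polarBilin Q (E p) (E q) = 0 →
      InE Q K (E p) (d • E q) := fun d => by
    have hd : d ∈ Kf := by rw [htop]; exact Subfield.mem_top d
    exact hd
  -- the roots
  have hroot : ∀ u : ι → F₀, Q (E u) = 0 → Orth.Root Q K (E u) := fun u hu => by
    refine ⟨hu, fun x hx => ?_⟩
    have h1 := R.decomp_perp {u} (z := x) (by simpa using hx)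
    suffices ∀ d : F, InE Q K (E u) (d • x) by
      obtain ⟨_, _, hm⟩ := this 1
      simpa using hm
    clear hx
    induction h1 using Submodule.span_induction with
    | mem y hy =>
      obtain ⟨v, rfl, hv⟩ := hy
      refine R.induct_perp {u} (by simp) (p := fun v => ∀ d : F, InE Q K (E u) (d • E v))
        (fun x y hx hy d => by rw [hE, emb_add, smul_add]; exact inE_add (hx d) (hy d))
        (fun e x hx d => by rw [hE, emb_smul, smul_smul]; exact hx _)
        (fun d => by rw [hE, emb_zero, smul_zero]; simpa using inE_line (K := K) hu 0) (fun z hQz hz d => ?_) hv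
      exact hall d u z hu hQz (hz u (Finset.mem_singleton_self u))
    | zero => intro d; rw [smul_zero]; simpa using inE_line (K := K) hu 0
    | add x y _ _ ihx ihy => intro d; rw [smul_add]; exact inE_add (ihx d) (ihy d)
    | smul e x _ ih => intro d; rw [smul_smul]; exact ih _
  obtain ⟨e, hQe, he, -⟩ := R.exists_sing ∅ ∅ (by simp)
  obtain ⟨f, hQf, hef, -⟩ := R.exists_partner ∅ hQe (by simp) he
  exact Orth.omega_le R.hN (by have := R.hn; omega) ((hroot e hQe).all R.hN (hroot f hQf) (by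
    rw [hE, hef]; exact one_ne_zero))

end Cfsg.Agent.Lib.ThreeTransp.SubOrth
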