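import Cfsg.Prelude.Def_Sporadic_a

/-!
# Self-dual binary codes of length 24 and minimum weight 8
-/

namespace Cfsg.Agent.Lib.ThreeTransp.AbstractGolay

open Cfsg Finset

abbrev V : Type := Fin 24 → ZMod 2

variable {C : Submodule (ZMod 2) V}

/-- The hypotheses on the code. -/
structure IsGolay (C : Submodule (ZMod 2) V) : Prop where
  dim : Module.finrank (ZMod 2) C = 12
  orth : ∀ v ∈ C, ∀ w ∈ C, ∑ i, v i * w i = 0
  minWt : ∀ w ∈ C, w ≠ 0 → 8 ≤ hammingNorm w

theorem zmod2 (a : ZMod 2) : a = 0 ∨ a = 1 := by decide +revert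

theorem wt_eq (w : V) : hammingNorm w = (support₂ w).card := rfl

theorem mem_supp {w : V} {i : Fin 24} : i ∈ support₂ w ↔ w i ≠ 0 := by simp [support₂]

theorem apply_of_mem {w : V} {i : Fin 24} (h : i ∈ support₂ w) : w i = 1 :=
  (zmod2 (w i)).resolve_left (mem_supp.mp h)

theorem apply_of_notMem {w : V} {i : Fin 24} (h : i ∉ support₂ w) : w i = 0 := by
  by_contra h'; exact h (mem_supp.mpr h')

theorem supp_inj {v w : V} (h : support₂ v = support₂ w) : v = w := by
  funext i
  by_cases hi : i ∈ support₂ v
  · have hi' : i ∈ support₂ w := h ▸ hi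
    rw [apply_of_mem hi, apply_of_mem hi']
  · have hi' : i ∉ support₂ w := h ▸ hi
    rw [apply_of_notMem hi, apply_of_notMem hi']

theorem supp_add (v w : V) :
    support₂ (v + w) = (support₂ v \ support₂ w) ∪ (support₂ w \ support₂ v) := by
  ext i
  simp only [mem_supp, mem_union, mem_sdiff, Pi.add_apply]
  rcases zmod2 (v i) with h | h <;> rcases zmod2 (w i) with h' | h' <;>
    simp [h, h', CharTwo.add_self_eq_zero]

theorem wt_add (v w : V) :
    hammingNorm (v + w) + 2 * (support₂ v ∩ support₂ w).card = hammingNorm v + hammingNorm w := by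
  rw [wt_eq, wt_eq, wt_eq, supp_add, card_union_of_disjoint (disjoint_sdiff_sdiff)]
  have h1 := card_sdiff_add_card_inter (support₂ v) (support₂ w)
  have h2 := card_sdiff_add_card_inter (support₂ w) (support₂ v)
  rw [inter_comm] at h2
  omega

theorem even_inter (hC : IsGolay C) {v w : V} (hv : v ∈ C) (hw : w ∈ C) :
    Even (support₂ v ∩ support₂ w).card := by
  have h := hC.orth v hv w hw
  have e : ∑ i, v i * w i = ((support₂ v ∩ support₂ w).card : ZMod 2) := by
    rw [← Finset.sum_subset (subset_univ (support₂ v ∩ support₂ w)) (f := fun i => v i * w i)]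
    · rw [Finset.sum_congr rfl (g := fun _ => (1 : ZMod 2)) fun i hi => ?_]
      · simp
      · rw [mem_inter] at hi; rw [apply_of_mem hi.1, apply_of_mem hi.2, one_mul]
    · intro i _ hi
      rw [mem_inter, not_and_or] at hi
      rcases hi with hi | hi <;> simp [apply_of_notMem hi]
  rw [e, ZMod.natCast_eq_zero_iff_even] at h
  exact h

theorem even_wt (hC : IsGolay C) {w : V} (hw : w ∈ C) : Even (hammingNorm w) := by
  simpa [wt_eq] using even_inter hC hw hw

theorem eq_zero_of_lt (hC : IsGolay C) {w : V} (hw : w ∈ C) (h : hammingNorm w < 8) : w = 0 := by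
  by_contra h0; have := hC.minWt w hw h0; omega

theorem wt_one : hammingNorm (1 : V) = 24 := by simp [wt_eq, support₂]

theorem one_mem (hC : IsGolay C) : (1 : V) ∈ C := by
  let D := C ⊔ Submodule.span (ZMod 2) {(1 : V)}
  have h1 : ∀ v ∈ C, ∑ i, v i * (1 : V) i = 0 := by
    intro v hv
    have h := hC.orth v hv v hv
    simpa [fun a : ZMod 2 => show a * a = a by rcases zmod2 a with e | e <;> simp [e]] using h
  have horth : ∀ v ∈ D, ∀ w ∈ D, ∑ i, v i * w i = 0 := by
    intro v hv w hw
    obtain ⟨c, hc, a, ha, rfl⟩ := Submodule.mem_sup.mp hv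
    obtain ⟨d, hd, b, hb, rfl⟩ := Submodule.mem_sup.mp hw
    obtain ⟨x, rfl⟩ := Submodule.mem_span_singleton.mp ha
    obtain ⟨y, rfl⟩ := Submodule.mem_span_singleton.mp hb
    have e1 : ∑ i, c i = 0 := by simpa using h1 c hc
    have e2 : ∑ i, d i = 0 := by simpa using h1 d hd
    have e3 : (24 : ZMod 2) = 0 := by decide
    simp only [Pi.add_apply, Pi.smul_apply, Pi.one_apply, smul_eq_mul, mul_one, add_mul, mul_add,
      Finset.sum_add_distrib, hC.orth c hc d hd]
    simp only [← Finset.sum_mul, ← Finset.mul_sum, e1, e2, zero_mul, mul_zero, add_zero, zero_add,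
      Finset.sum_const, Finset.card_univ, Fintype.card_fin, nsmul_eq_mul]
    simp [e3]
  let φ := dotProductEquiv (ZMod 2) (Fin 24)
  have hle : D.map φ.toLinearMap ≤ D.dualAnnihilator := by
    rintro _ ⟨v, hv, rfl⟩
    rw [Submodule.mem_dualAnnihilator]
    intro w hw
    exact horth v hv w hw
  have h2 := Submodule.finrank_mono hle
  rw [LinearEquiv.finrank_map_eq φ D] at h2
  have h3 := Subspace.finrank_add_finrank_dualAnnihilator_eq D
  rw [Module.finrank_fintype_fun_eq_card, Fintype.card_fin] at h3
  have hD2 : Module.finrank (ZMod 2) D + Module.finrank (ZMod 2) D ≤ 24 :=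
    le_of_le_of_eq (Nat.add_le_add_left h2 _) h3
  have hCD : C ≤ D := le_sup_left
  have hD : C = D := Submodule.eq_of_le_of_finrank_le hCD (by rw [hC.dim]; omega)
  rw [hD]
  exact Submodule.mem_sup_right (Submodule.subset_span rfl)

theorem card_code (hC : IsGolay C) : Nat.card C = 4096 := by
  rw [Module.natCard_eq_pow_finrank (K := ZMod 2) (V := C), hC.dim, Nat.card_zmod]
  norm_num

theorem wt_ne_ten (hC : IsGolay C) {w : V} (hw : w ∈ C) : hammingNorm w ≠ 10 := by
  classical
  intro h10
  have hS : (support₂ w).card = 10 := h10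
  let S' : Finset (Fin 24) := (support₂ w)ᶜ
  have hS' : S'.card = 14 := by
    rw [card_compl, hS, Fintype.card_fin]
  let f : C × Option ↥S' → (↥S' → ZMod 2) := fun x i =>
    (x.1 : V) i + (if x.2 = some i then 1 else 0)
  have hle := Finset.card_le_mul_card_image (f := f) Finset.univ 2 ?_
  · have h1 : (Finset.univ.image f).card ≤ 2 ^ 14 := by
      refine (Finset.card_le_univ _).trans (le_of_eq ?_)
      rw [Fintype.card_fun, ZMod.card, Fintype.card_coe, hS']
    rw [Finset.card_univ, ← Nat.card_eq_fintype_card, Nat.card_prod, card_code hC,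
      Nat.card_eq_fintype_card, Fintype.card_option, Fintype.card_coe, hS'] at hle
    omega
  · rintro y -
    by_contra hlt
    push Not at hlt
    obtain ⟨⟨a, oa⟩, ha, ⟨b, ob⟩, hb, ⟨c, oc⟩, hc, hab, hac, hbc⟩ := Finset.two_lt_card.mp hlt
    simp only [mem_filter, mem_univ, true_and] at ha hb hc
    have key : ∀ (p : C) (op : Option ↥S') (q : C) (oq : Option ↥S'), f (p, op) = y → f (q, oq) = y →
        ((q : V) = p ∨ (q : V) = p + w) ∧ op = oq := by
      intro p op q oq hp hq
      set d : V := (p : V) + q with hd
      have hdC : d ∈ C := add_mem p.2 q.2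
      have hout : ∀ i : ↥S', d i = (if op = some i then 1 else 0) + (if oq = some i then 1 else 0) := by
        intro i
        have e := congrFun (hp.trans hq.symm) i
        simp only [f] at e
        rw [hd, Pi.add_apply]
        rcases zmod2 ((p : V) i) with h | h <;> rcases zmod2 ((q : V) i) with h' | h' <;>
          rw [h, h'] at e ⊢ <;> split_ifs at e ⊢ <;> revert e <;> decide
      have hsmall : (support₂ d \ support₂ w).card ≤ 2 := by
        refine le_trans (card_le_card (t := ((op.toFinset ∪ oq.toFinset).image Subtype.val)) ?_) ?_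
        · intro i hi
          rw [mem_sdiff] at hi
          have hiS : i ∈ S' := mem_compl.mpr hi.2
          have h1 := hout ⟨i, hiS⟩
          rw [apply_of_mem hi.1] at h1
          refine mem_image.mpr ⟨⟨i, hiS⟩, ?_, rfl⟩
          simp only [mem_union, Option.mem_toFinset, Option.mem_def]
          by_contra hn
          rw [not_or] at hn
          rw [if_neg hn.1, if_neg hn.2, add_zero] at h1
          exact absurd h1 (by decide)
        · refine card_image_le.trans ((card_union_le _ _).trans ?_)
          have hopt : ∀ o : Option ↥S', o.toFinset.card ≤ 1 := fun o => by cases o <;> simp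
          have := hopt op; have := hopt oq; omega
      have hd0 : d = 0 ∨ d = w := by
        have hsplit := card_sdiff_add_card_inter (support₂ d) (support₂ w)
        by_cases hin : (support₂ d ∩ support₂ w).card ≤ 5
        · left
          exact eq_zero_of_lt hC hdC (by rw [wt_eq]; omega)
        · right
          have h := eq_zero_of_lt hC (add_mem hdC hw)
            (by have := wt_add d w; simp only [wt_eq] at this ⊢; omega)
          exact CharTwo.add_eq_zero.mp h
      refine ⟨?_, ?_⟩
      · rcases hd0 with h | h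
        · left; exact (CharTwo.add_eq_zero.mp h).symm
        · right; rw [← h, hd, ← add_assoc, CharTwo.add_self_eq_zero, zero_add]
      · have hz : ∀ i : ↥S', d i = 0 := by
          intro i
          rcases hd0 with h | h <;> rw [h]
          · rfl
          · exact apply_of_notMem (mem_compl.mp i.2)
        match op, oq with
        | none, none => rfl
        | none, some j => have := hout j; rw [hz] at this; simp at this
        | some i, none => have := hout i; rw [hz] at this; simp at this
        | some i, some j =>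
          by_contra hne
          have := hout i
          rw [hz, if_pos rfl, if_neg (fun e => hne e.symm), add_zero] at this
          exact zero_ne_one this
    obtain ⟨h1, e1⟩ := key a oa b ob ha hb
    obtain ⟨h2, e2⟩ := key a oa c oc ha hc
    have ne1 : (b : V) ≠ a := fun e => hab (by rw [Prod.mk.injEq]; exact ⟨(Subtype.ext e).symm, e1⟩)
    have ne2 : (c : V) ≠ a := fun e => hac (by rw [Prod.mk.injEq]; exact ⟨(Subtype.ext e).symm, e2⟩)
    exact hbc (by
      rw [Prod.mk.injEq]
      exact ⟨Subtype.ext ((h1.resolve_left ne1).trans (h2.resolve_left ne2).symm), e1.symm.trans e2⟩)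

theorem wt_compl (hC : IsGolay C) {w : V} (hw : w ∈ C) :
    w + 1 ∈ C ∧ hammingNorm (w + 1) + hammingNorm w = 24 := by
  refine ⟨add_mem hw (one_mem hC), ?_⟩
  have h := wt_add w 1
  have e : support₂ w ∩ support₂ (1 : V) = support₂ w := by
    ext i; simp [mem_supp]
  rw [e, ← wt_eq, wt_one] at h
  omega

theorem doubly_even (hC : IsGolay C) {w : V} (hw : w ∈ C) : 4 ∣ hammingNorm w := by
  obtain ⟨k, hk⟩ := even_wt hC hw
  obtain ⟨hw', hs⟩ := wt_compl hC hw
  have h8 : hammingNorm w = 0 ∨ 8 ≤ hammingNorm w := by
    by_cases h : w = 0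
    · left; simp [h]
    · right; exact hC.minWt w hw h
  have h8' : hammingNorm (w + 1) = 0 ∨ 8 ≤ hammingNorm (w + 1) := by
    by_cases h : w + 1 = 0
    · left; simp [h]
    · right; exact hC.minWt _ hw' h
  have n1 := wt_ne_ten hC hw
  have n2 := wt_ne_ten hC hw'
  omega

/-- The word with a given support. -/
def word (s : Finset (Fin 24)) : V := fun i => if i ∈ s then 1 else 0

theorem supp_word (s : Finset (Fin 24)) : support₂ (word s) = s := by
  ext i; simp [mem_supp, word]

theorem light_congr (hC : IsGolay C) {u u' : V} (h : u + u' ∈ C) (hu : hammingNorm u ≤ 4)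
    (hu' : hammingNorm u' ≤ 4) (hne : u ≠ u') :
    hammingNorm u = 4 ∧ hammingNorm u' = 4 ∧ Disjoint (support₂ u) (support₂ u') ∧
      hammingNorm (u + u') = 8 := by
  have h8 := hC.minWt _ h fun e => hne (CharTwo.add_eq_zero.mp e)
  have hadd := wt_add u u'
  refine ⟨by omega, by omega, ?_, by omega⟩
  rw [disjoint_iff_inter_eq_empty, ← card_eq_zero]
  omega

theorem card_weight (k : ℕ) :
    ((univ : Finset V).filter fun u => hammingNorm u = k).card = (24 : ℕ).choose k := by
  classical
  rw [show (24 : ℕ).choose k = ((univ : Finset (Fin 24)).powersetCard k).card by simp]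
  refine card_nbij' (fun u => support₂ u) word ?_ ?_ ?_ ?_
  · intro u hu
    simp only [coe_filter, Set.mem_ofPred_eq] at hu
    simpa [mem_powersetCard, ← wt_eq] using hu.2
  · intro s hs
    simp only [mem_coe, mem_powersetCard] at hs
    exact mem_coe.mpr (mem_filter.mpr ⟨mem_univ _, by rw [wt_eq, supp_word, hs.2]⟩)
  · intro u _; exact supp_inj (supp_word _)
  · intro s _; exact supp_word s

/-- The light words of a coset. -/
def lightSet (C : Submodule (ZMod 2) V) (w : V) : Set V :=
  {u : V | u - w ∈ C ∧ hammingNorm u ≤ 4}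

theorem add_of_mem_light {w u u' : V} (hu : u ∈ lightSet C w) (hu' : u' ∈ lightSet C w) :
    u + u' ∈ C := by
  have := sub_mem hu.1 hu'.1
  rwa [sub_sub_sub_cancel_right, CharTwo.sub_eq_add] at this

theorem coset_cases (hC : IsGolay C) (w : V) :
    (∃ u, lightSet C w = {u} ∧ hammingNorm u ≤ 3) ∨
      ((lightSet C w).ncard = 6 ∧ ∀ u ∈ lightSet C w, hammingNorm u = 4 ∧
        ∀ u' ∈ lightSet C w, u ≠ u' → Disjoint (support₂ u) (support₂ u')) := by
  classical
  let q : V → V ⧸ C := fun u => Submodule.Quotient.mk u
  have hq : ∀ u u', q u = q u' ↔ u + u' ∈ C := by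
    intro u u'
    simp only [q, Submodule.Quotient.eq, CharTwo.sub_eq_add]
  let W : ℕ → Finset V := fun k => univ.filter fun u => hammingNorm u = k
  let A : Finset V := W 0 ∪ W 1 ∪ W 2 ∪ W 3
  have hmemA : ∀ u, u ∈ A ↔ hammingNorm u ≤ 3 := by
    intro u; simp only [A, W, mem_union, mem_filter, mem_univ, true_and]; omega
  have hA : A.card = 2325 := by
    have hd : ∀ i j, i ≠ j → Disjoint (W i) (W j) := by
      intro i j hij
      rw [Finset.disjoint_left]
      intro u h1 h2
      simp only [W, mem_filter] at h1 h2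
      omega
    simp only [A]
    rw [card_union_of_disjoint, card_union_of_disjoint, card_union_of_disjoint,
      card_weight, card_weight, card_weight, card_weight]
    · decide
    all_goals try simp only [disjoint_union_left]
    all_goals first
      | exact hd _ _ (by decide)
      | exact ⟨hd _ _ (by decide), hd _ _ (by decide)⟩
      | exact ⟨⟨hd _ _ (by decide), hd _ _ (by decide)⟩, hd _ _ (by decide)⟩
  have hB : (W 4).card = 10626 := (card_weight 4).trans (by decide)
  have hIA : (A.image q).card = 2325 := by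
    rw [card_image_of_injOn, hA]
    intro u hu v hv h
    by_contra hne
    rw [mem_coe, hmemA] at hu hv
    have := light_congr hC ((hq u v).mp h) (by omega) (by omega) hne
    omega
  have hdis : Disjoint (A.image q) ((W 4).image q) := by
    rw [Finset.disjoint_left]
    intro y hy hy'
    obtain ⟨u, hu, rfl⟩ := mem_image.mp hy
    obtain ⟨v, hv, hvu⟩ := mem_image.mp hy'
    simp only [W, mem_filter, mem_univ, true_and] at hv
    rw [hmemA] at hu
    have hne : v ≠ u := fun e => by rw [e] at hv; omega
    have := light_congr hC ((hq v u).mp hvu) (by omega) (by omega) hne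
    omega
  have hfib : ∀ y ∈ (W 4).image q, ((W 4).filter fun u => q u = y).card ≤ 6 := by
    intro y _
    set F := (W 4).filter fun u => q u = y
    have hd : (F : Set V).PairwiseDisjoint (fun u => support₂ u) := by
      intro u hu v hv hne
      simp only [F, W, coe_filter, Set.mem_ofPred_eq, mem_filter, mem_univ, true_and] at hu hv
      exact (light_congr hC ((hq u v).mp (hu.2.trans hv.2.symm)) hu.1.le hv.1.le hne).2.2.1
    have hc := card_biUnion (fun u hu v hv hne => hd hu hv hne)
    have hle : (F.biUnion fun u => support₂ u).card ≤ 24 :=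
      (card_le_univ _).trans (le_of_eq (Fintype.card_fin 24))
    rw [hc, Finset.sum_congr rfl (g := fun _ => 4) fun u hu => ?_, sum_const, smul_eq_mul] at hle
    · omega
    · simp only [F, W, mem_filter, mem_univ, true_and] at hu; exact hu.1
  have hQ : Fintype.card (V ⧸ C) = 4096 := by
    rw [← Nat.card_eq_fintype_card, Module.natCard_eq_pow_finrank (K := ZMod 2), Nat.card_zmod]
    have h := Submodule.finrank_quotient_add_finrank C
    rw [hC.dim, Module.finrank_fintype_fun_eq_card, Fintype.card_fin] at h
    rw [show Module.finrank (ZMod 2) (V ⧸ C) = 12 by omega]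
    norm_num
  have hsum := card_eq_sum_card_image q (W 4)
  have hle6 : (W 4).card ≤ ((W 4).image q).card * 6 := by
    rw [hsum]; exact (sum_le_sum hfib).trans (by rw [sum_const, smul_eq_mul])
  have hU := card_le_univ (A.image q ∪ (W 4).image q)
  rw [card_union_of_disjoint hdis, hIA, hQ] at hU
  have hI : ((W 4).image q).card = 1771 := by omega
  have hall : A.image q ∪ (W 4).image q = univ :=
    eq_univ_of_card _ (by rw [card_union_of_disjoint hdis, hIA, hI, hQ])
  have hsix : ∀ y ∈ (W 4).image q, ((W 4).filter fun u => q u = y).card = 6 := by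
    refine (sum_eq_sum_iff_of_le hfib).mp ?_
    rw [← hsum, hB, sum_const, smul_eq_mul, hI]
  have hL : ∀ u, u ∈ lightSet C w ↔ q u = q w ∧ hammingNorm u ≤ 4 := by
    intro u
    simp only [lightSet, Set.mem_ofPred_eq, q, Submodule.Quotient.eq]
  have hmem : q w ∈ A.image q ∪ (W 4).image q := hall ▸ mem_univ _
  rcases mem_union.mp hmem with h | h
  · obtain ⟨u, hu, huw⟩ := mem_image.mp h
    rw [hmemA] at hu
    refine Or.inl ⟨u, Set.ext fun v => ⟨fun hv => ?_, fun hv => ?_⟩, hu⟩
    · by_contra hne
      rw [hL] at hv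
      have := light_congr hC ((hq v u).mp (hv.1.trans huw.symm)) hv.2 (by omega) hne
      omega
    · rw [Set.mem_singleton_iff] at hv; subst hv
      exact (hL _).mpr ⟨huw, by omega⟩
  · have h4 : ∀ u ∈ lightSet C w, hammingNorm u = 4 := by
      intro u hu
      rw [hL] at hu
      obtain ⟨v, hv, hvw⟩ := mem_image.mp h
      simp only [W, mem_filter, mem_univ, true_and] at hv
      by_cases hne : u = v
      · rw [hne]; exact hv
      · exact (light_congr hC ((hq u v).mp (hu.1.trans hvw.symm)) hu.2 hv.le hne).1
    refine Or.inr ⟨?_, fun u hu => ⟨h4 u hu, fun u' hu' hne => ?_⟩⟩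
    · have : lightSet C w = ↑((W 4).filter fun u => q u = q w) := by
        ext u
        simp only [coe_filter, Set.mem_ofPred_eq, W, mem_filter, mem_univ, true_and]
        exact ⟨fun hu => ⟨h4 u hu, ((hL u).mp hu).1⟩, fun hu => (hL u).mpr ⟨hu.2, hu.1.le⟩⟩
      rw [this, Set.ncard_coe_finset, hsix _ h]
    · exact (light_congr hC (add_of_mem_light hu hu') hu.2 hu'.2 hne).2.2.1

theorem exists_octad (hC : IsGolay C) {P : Finset (Fin 24)} (hP : P.card = 5) :
    ∃ o ∈ C, hammingNorm o = 8 ∧ P ⊆ support₂ o := by
  classical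
  obtain ⟨e, he⟩ : P.Nonempty := card_pos.mp (by omega)
  set u := word (P.erase e)
  have hu : hammingNorm u = 4 := by rw [wt_eq, supp_word, card_erase_of_mem he, hP]
  have huL : u ∈ lightSet C u := ⟨by simp, hu.le⟩
  rcases coset_cases hC u with ⟨v, hv, hv3⟩ | ⟨h6, hall⟩
  · rw [hv, Set.mem_singleton_iff] at huL; rw [huL] at hu; omega
  · have hfin : (lightSet C u).Finite := Set.toFinite _
    let F := hfin.toFinset
    have hF : F.card = 6 := by rw [← Set.ncard_eq_toFinset_card _ hfin]; exact h6
    have hU : F.biUnion (fun v => support₂ v) = univ := by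
      refine eq_univ_of_card _ ?_
      rw [card_biUnion, Finset.sum_congr rfl (g := fun _ => 4) fun v hv => ?_, sum_const, hF]
      · rfl
      · exact (hall v (hfin.mem_toFinset.mp hv)).1
      · intro v hv v' hv' hne
        exact (hall v (hfin.mem_toFinset.mp hv)).2 v' (hfin.mem_toFinset.mp hv') hne
    obtain ⟨v, hv, hev⟩ := mem_biUnion.mp (hU ▸ mem_univ e)
    have hvL := hfin.mem_toFinset.mp hv
    have hne : u ≠ v := by
      rintro rfl
      rw [supp_word] at hev
      exact notMem_erase e P hev
    have hsum := add_of_mem_light huL hvL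
    obtain ⟨-, -, hd, h8⟩ := light_congr hC hsum hu.le hvL.2 hne
    refine ⟨u + v, hsum, h8, fun i hi => ?_⟩
    rw [supp_add, sdiff_eq_self_of_disjoint hd, sdiff_eq_self_of_disjoint hd.symm, mem_union,
      supp_word]
    by_cases hie : i = e
    · right; rw [hie]; exact hev
    · left; exact mem_erase.mpr ⟨hie, hi⟩

theorem octad_unique (hC : IsGolay C) {o o' : V} (ho : o ∈ C) (ho' : o' ∈ C)
    (h : hammingNorm o = 8) (h' : hammingNorm o' = 8)
    (hint : 5 ≤ (support₂ o ∩ support₂ o').card) : o = o' := by
  refine CharTwo.add_eq_zero.mp (eq_zero_of_lt hC (add_mem ho ho') ?_)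
  have := wt_add o o'
  omega

theorem span_octads (hC : IsGolay C) :
    Submodule.span (ZMod 2) {w : V | w ∈ C ∧ hammingNorm w = 8} = C := by
  classical
  refine le_antisymm (Submodule.span_le.mpr fun w hw => hw.1) ?_
  suffices ∀ n, ∀ w ∈ C, hammingNorm w = n →
      w ∈ Submodule.span (ZMod 2) {w : V | w ∈ C ∧ hammingNorm w = 8} from
    fun w hw => this _ w hw rfl
  intro n
  induction n using Nat.strong_induction_on with
  | _ n ih =>
    intro w hw hn
    by_cases h0 : w = 0
    · rw [h0]; exact zero_mem _
    have h8 := hC.minWt w hw h0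
    by_cases h : hammingNorm w = 8
    · exact Submodule.subset_span ⟨hw, h⟩
    obtain ⟨P, hPs, hP⟩ := exists_subset_card_eq (s := support₂ w) (n := 5)
      (by rw [← wt_eq]; omega)
    obtain ⟨o, ho, ho8, hPo⟩ := exists_octad hC hP
    have h5 : 5 ≤ (support₂ w ∩ support₂ o).card :=
      hP ▸ card_le_card (subset_inter hPs hPo)
    have hadd := wt_add w o
    have hsum := add_mem hw ho
    have := ih (hammingNorm (w + o)) (by omega) (w + o) hsum rfl
    have e : w = (w + o) + o := by rw [add_assoc, CharTwo.add_self_eq_zero, add_zero]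
    rw [e]
    exact add_mem this (Submodule.subset_span ⟨ho, ho8⟩)

end Cfsg.Agent.Lib.ThreeTransp.AbstractGolay
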