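import Cfsg.Agent.Lib.ThreeTransp.Parabolic
import Cfsg.Agent.Lib.ThreeTransp.LargeBasic

/-!
The centralizer of a translation in the affine group over the field with two elements.
-/

set_option autoImplicit false
set_option linter.unusedVariables false
set_option linter.style.haveILetI false

namespace Cfsg.Agent.Lib.ThreeTransp

open Matrix

namespace Par

variable {n : ℕ}

/-- The linear part on the space of translations. -/
def linPart (p : Par n) :
    (ZMod 2 × (Fin n → ZMod 2)) →ₗ[ZMod 2] (ZMod 2 × (Fin n → ZMod 2)) where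
  toFun u := (u.1 + p.l ⬝ᵥ u.2, (p.g : Matrix (Fin n) (Fin n) (ZMod 2)) *ᵥ u.2)
  map_add' u v := by
    refine Prod.ext ?_ ?_
    · simp [dotProduct_add]; abel
    · simp [Matrix.mulVec_add]
  map_smul' a u := by
    refine Prod.ext ?_ ?_
    · simp [dotProduct_smul, mul_add]
    · simp [Matrix.mulVec_smul]

theorem linPart_apply (p : Par n) (u : ZMod 2 × (Fin n → ZMod 2)) :
    p.linPart u = (u.1 + p.l ⬝ᵥ u.2, (p.g : Matrix (Fin n) (Fin n) (ZMod 2)) *ᵥ u.2) := rfl

theorem linPart_one_apply (u : ZMod 2 × (Fin n → ZMod 2)) : (1 : Par n).linPart u = u := by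
  simp [linPart_apply]

theorem linPart_mul (p q : Par n) (u : ZMod 2 × (Fin n → ZMod 2)) :
    (p * q).linPart u = p.linPart (q.linPart u) := by
  refine Prod.ext ?_ ?_
  · simp [linPart_apply, add_dotProduct, Matrix.dotProduct_mulVec, add_assoc]
  · simp [linPart_apply, Units.val_mul, Matrix.mulVec_mulVec]

/-- The linear part as an automorphism. -/
def linEquiv (p : Par n) : (ZMod 2 × (Fin n → ZMod 2)) ≃+ (ZMod 2 × (Fin n → ZMod 2)) where
  toFun := p.linPart
  invFun := p⁻¹.linPart
  left_inv u := by rw [← linPart_mul, inv_mul_cancel, linPart_one_apply]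
  right_inv u := by rw [← linPart_mul, mul_inv_cancel, linPart_one_apply]
  map_add' := map_add p.linPart

/-- The translation part. -/
def transPart (p : Par n) : ZMod 2 × (Fin n → ZMod 2) := (p.c, p.w)

theorem transPart_mul (p q : Par n) :
    (p * q).transPart = p.transPart + p.linPart q.transPart := by
  refine Prod.ext ?_ ?_
  · simp [transPart, linPart_apply, add_assoc]
  · simp [transPart, linPart_apply]

/-- The affine group has the parabolic group as centralizer of a translation. -/
theorem affine_embed {G : Type*} [Group G] [Finite G] (hn : 1 ≤ n) (U M : Subgroup G) [U.Normal]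
    (hU : Cfsg.IsElementaryAbelian 2 U) (hUcard : Nat.card ↥U = 2 ^ (n + 1)) (hUM : U ⊓ M = ⊥)
    (hUM' : U ⊔ M = ⊤) (hfaith : ∀ m ∈ M, (∀ u ∈ U, m * u * m⁻¹ = u) → m = 1)
    (hfull : ∀ φ : ↥U ≃* ↥U, ∃ m ∈ M, ∀ u : ↥U, ((φ u : ↥U) : G) = m * u * m⁻¹)
    (z : G) (hzU : z ∈ U) (hz1 : z ≠ 1) :
    ∃ φ : Par n →* G, Function.Injective φ ∧ φ zP = z ∧
      φ.range = Subgroup.centralizer ({z} : Set G) ∧ Subgroup.centralizer (U : Set G) ≤ U ∧
      ∀ u ∈ U, ∃ p : Par n, p.g = 1 ∧ φ p = u := by
  haveI := hU.1
  letI : CommGroup U := { (inferInstance : Group U) with mul_comm := fun a b => mul_comm' a b }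
  letI : Module (ZMod 2) (Additive U) := AddCommGroup.zmodModule fun u =>
    Subtype.ext (hU.2 _ (Additive.toMul u).2)
  haveI : Module.Finite (ZMod 2) (Additive U) := Module.Finite.of_finite
  let zA : Additive U := Additive.ofMul ⟨z, hzU⟩
  have hzA : zA ≠ 0 := fun h => hz1 (congrArg Subtype.val (h : (⟨z, hzU⟩ : U) = 1))
  obtain ⟨f, hf⟩ : ∃ f : Module.Dual (ZMod 2) (Additive U), f zA = 1 := by
    by_contra hne
    push Not at hne
    exact hzA ((Module.forall_dual_apply_eq_zero_iff (ZMod 2) _).1 fun f =>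
      (zmod2_cases (f zA)).resolve_right (hne f))
  have hfr : Module.finrank (ZMod 2) (Additive U) = n + 1 := by
    have h : Nat.card (Additive U) = 2 ^ (n + 1) := (Nat.card_congr Additive.toMul).trans hUcard
    rw [Module.natCard_eq_pow_finrank (K := ZMod 2), Nat.card_zmod] at h
    exact Nat.pow_right_injective le_rfl h
  have hker : Module.finrank (ZMod 2) (LinearMap.ker f) = n := by
    have h := LinearMap.finrank_range_add_finrank_ker f
    rw [LinearMap.range_eq_top.2 (fun a => ⟨a • zA, by rw [map_smul, hf, smul_eq_mul, mul_one]⟩),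
      finrank_top, Module.finrank_self, hfr] at h
    omega
  obtain ⟨b⟩ : Nonempty (LinearMap.ker f ≃ₗ[ZMod 2] (Fin n → ZMod 2)) :=
    FiniteDimensional.nonempty_linearEquiv_of_finrank_eq (by rw [hker, Module.finrank_fin_fun])
  let co : (ZMod 2 × (Fin n → ZMod 2)) ≃+ Additive U :=
    { toFun := fun t => t.1 • zA + (b.symm t.2 : Additive U)
      invFun := fun u => (f u, b ⟨u - f u • zA, by simp [hf]⟩)
      left_inv := fun t => by
        have h1 : f (t.1 • zA + (b.symm t.2 : Additive U)) = t.1 := by
          rw [map_add, map_smul, hf, LinearMap.mem_ker.1 (b.symm t.2).2, add_zero, smul_eq_mul, mul_one]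
        refine Prod.ext h1 ?_
        show b ⟨_, _⟩ = t.2
        rw [← LinearEquiv.eq_symm_apply]
        refine Subtype.ext ?_
        show t.1 • zA + (b.symm t.2 : Additive U) - f (t.1 • zA + (b.symm t.2 : Additive U)) • zA = _
        rw [h1, add_sub_cancel_left]
      right_inv := fun u => by simp
      map_add' := fun s t => by
        simp only [Prod.fst_add, Prod.snd_add, map_add, Submodule.coe_add, add_smul]
        abel }
  have hcoz : co (1, 0) = zA := by
    show (1 : ZMod 2) • zA + (b.symm 0 : Additive U) = zA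
    simp
  let tr : (ZMod 2 × (Fin n → ZMod 2)) → G := fun t => ((Additive.toMul (co t) : U) : G)
  have htr : ∀ s t, tr (s + t) = tr s * tr t := fun s t => by simp [tr, map_add]
  have htrU : ∀ t, tr t ∈ U := fun t => (Additive.toMul (co t) : U).2
  have htrz : tr (1, 0) = z := by
    simp only [tr, hcoz]
    rfl
  have htrs : ∀ u ∈ U, ∃ t, tr t = u := fun u hu => ⟨co.symm (Additive.ofMul ⟨u, hu⟩), by simp [tr]⟩
  have htri : Function.Injective tr := fun s t h =>
    co.injective (Additive.toMul.injective (Subtype.ext h))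
  -- the complement realizes each linear map uniquely
  have hex : ∀ α : (ZMod 2 × (Fin n → ZMod 2)) ≃+ (ZMod 2 × (Fin n → ZMod 2)),
      ∃ m ∈ M, ∀ t, m * tr t * m⁻¹ = tr (α t) := by
    intro α
    let β : Additive U ≃+ Additive U := (co.symm.trans α).trans co
    obtain ⟨m, hm, hmu⟩ := hfull (AddEquiv.toMultiplicative β)
    refine ⟨m, hm, fun t => ?_⟩
    have h := hmu (Additive.toMul (co t))
    rw [show tr t = ((Additive.toMul (co t) : U) : G) from rfl, ← h]
    show ((Additive.toMul (β (co t)) : U) : G) = tr (α t)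
    simp [β, tr]
  have huniq : ∀ m ∈ M, ∀ m' ∈ M, (∀ t, m * tr t * m⁻¹ = m' * tr t * m'⁻¹) → m = m' := by
    intro m hm m' hm' h
    refine (inv_mul_eq_one.1 (hfaith _ (M.mul_mem (M.inv_mem hm') hm) fun u hu => ?_)).symm
    obtain ⟨t, rfl⟩ := htrs u hu
    calc m'⁻¹ * m * tr t * (m'⁻¹ * m)⁻¹ = m'⁻¹ * (m * tr t * m⁻¹) * m' := by group
      _ = m'⁻¹ * (m' * tr t * m'⁻¹) * m' := by rw [h]
      _ = tr t := by group
  choose σ hσM hσ using hex
  let φf : Par n → G := fun p => tr p.transPart * σ p.linEquiv
  have hσmul : ∀ p q : Par n, σ (p * q).linEquiv = σ p.linEquiv * σ q.linEquiv := fun p q =>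
    huniq _ (hσM _) _ (M.mul_mem (hσM _) (hσM _)) fun t => by
      rw [hσ]
      calc tr ((p * q).linPart t) = tr (p.linPart (q.linPart t)) := by rw [linPart_mul]
        _ = σ p.linEquiv * tr (q.linPart t) * (σ p.linEquiv)⁻¹ := (hσ p.linEquiv _).symm
        _ = σ p.linEquiv * (σ q.linEquiv * tr t * (σ q.linEquiv)⁻¹) * (σ p.linEquiv)⁻¹ := by
            rw [hσ q.linEquiv t]; rfl
        _ = _ := by group
  let φ : Par n →* G := MonoidHom.mk' φf fun p q => by
    show tr (p * q).transPart * σ (p * q).linEquiv =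
      tr p.transPart * σ p.linEquiv * (tr q.transPart * σ q.linEquiv)
    rw [hσmul, transPart_mul, htr, show tr (p.linPart q.transPart) =
      σ p.linEquiv * tr q.transPart * (σ p.linEquiv)⁻¹ from (hσ p.linEquiv _).symm]
    group
  have hσ1 : ∀ p : Par n, p.l = 0 → p.g = 1 → σ p.linEquiv = 1 := fun p h1 h2 =>
    huniq _ (hσM _) _ (one_mem _) fun t => by
      rw [hσ, one_mul, inv_one, mul_one]
      show tr (p.linPart t) = tr t
      simp [linPart_apply, h1, h2]
  refine ⟨φ, ?_, ?_, ?_, ?_, fun u hu => ?_⟩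
  · rw [injective_iff_map_eq_one]
    intro p hp
    have hp' : tr p.transPart * σ p.linEquiv = 1 := hp
    have h1 : σ p.linEquiv ∈ U ⊓ M :=
      ⟨eq_inv_of_mul_eq_one_right hp' ▸ U.inv_mem (htrU _), hσM _⟩
    rw [hUM, Subgroup.mem_bot] at h1
    rw [h1, mul_one] at hp'
    have h0 : p.transPart = 0 := htri (by
      rw [hp']
      have h := htr 0 0
      rw [add_zero] at h
      exact (left_eq_mul.1 h).symm)
    have hlin : ∀ t, p.linPart t = t := fun t => htri (by
      have h := hσ p.linEquiv t
      rw [h1, one_mul, inv_one, mul_one] at h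
      exact h.symm)
    refine Par.ext (congrArg Prod.fst h0) (funext fun i => ?_) (congrArg Prod.snd h0)
      (Units.ext (Matrix.ext_of_mulVec_single fun i => ?_))
    · simpa [linPart_apply] using congrArg Prod.fst (hlin (0, Pi.single i 1))
    · rw [show ((1 : Par n).g : Matrix (Fin n) (Fin n) (ZMod 2)) = 1 from rfl, Matrix.one_mulVec]
      exact congrArg Prod.snd (hlin (0, Pi.single i 1))
  · show tr (transPart zP) * σ (linEquiv zP) = z
    rw [hσ1 zP rfl rfl, mul_one]
    exact htrz
  · refine le_antisymm ?_ ?_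
    · rintro _ ⟨p, rfl⟩
      rw [Subgroup.mem_centralizer_singleton_iff]
      show tr p.transPart * σ p.linEquiv * z = z * (tr p.transPart * σ p.linEquiv)
      have h := hσ p.linEquiv (1, 0)
      rw [show p.linEquiv (1, 0) = (1, 0) from by
        show p.linPart (1, 0) = (1, 0); simp [linPart_apply], htrz] at h
      rw [← mul_assoc, ← htrz, ← htr, add_comm, htr, htrz, mul_assoc, mul_assoc]
      congr 1
      exact mul_inv_eq_iff_eq_mul.1 h
    · intro x hx
      rw [Subgroup.mem_centralizer_singleton_iff] at hx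
      obtain ⟨u, hu, m, hm, rfl⟩ : ∃ u ∈ U, ∃ m ∈ M, u * m = x := by
        have h : x ∈ (↑(U ⊔ M) : Set G) := by rw [hUM']; trivial
        rw [Subgroup.normal_mul] at h
        exact h
      have hmz : m * z * m⁻¹ = z := by
        have hc : u * z = z * u := congrArg Subtype.val (mul_comm (⟨u, hu⟩ : U) ⟨z, hzU⟩)
        rw [mul_inv_eq_iff_eq_mul]
        apply mul_left_cancel (a := u)
        rw [← mul_assoc, hx, ← mul_assoc, ← hc, mul_assoc]
      have hmU : ∀ t, m * tr t * m⁻¹ ∈ U := fun t => ‹U.Normal›.conj_mem _ (htrU t) m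
      choose α hα using fun t => htrs _ (hmU t)
      have hαadd : ∀ s t, α (s + t) = α s + α t := fun s t => htri (by
        rw [hα, htr, htr, hα, hα]; group)
      have hαinj : Function.Injective α := fun s t h => htri (by
        have h' := congrArg tr h
        rw [hα, hα] at h'
        exact mul_left_cancel (mul_right_cancel h'))
      have hα10 : α (1, 0) = (1, 0) := htri (by rw [hα, htrz, hmz])
      let L : (Fin n → ZMod 2) →ₗ[ZMod 2] ZMod 2 × (Fin n → ZMod 2) :=
        AddMonoidHom.toZModLinearMap 2 (AddMonoidHom.mk' (fun y => α (0, y)) fun a c => by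
          rw [← hαadd, Prod.mk_add_mk, add_zero])
      have hdec : ∀ t : ZMod 2 × (Fin n → ZMod 2), α t = (t.1, 0) + L t.2 := fun t => by
        rcases zmod2_cases t.1 with h | h
        · have ht : t = (0, t.2) := Prod.ext h rfl
          rw [h, show ((0 : ZMod 2), (0 : Fin n → ZMod 2)) = 0 from rfl, zero_add]
          conv_lhs => rw [ht]
          rfl
        · rw [h, ← hα10]
          show α t = α (1, 0) + α (0, t.2)
          rw [← hαadd, Prod.mk_add_mk, zero_add, add_zero, ← h]
      let gl : (Fin n → ZMod 2) →ₗ[ZMod 2] (Fin n → ZMod 2) :=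
        (LinearMap.snd (ZMod 2) (ZMod 2) (Fin n → ZMod 2)).comp L
      have hgl : Function.Injective gl := by
        rw [← LinearMap.ker_eq_bot, LinearMap.ker_eq_bot']
        intro y hy
        have hy' : (L y).2 = 0 := hy
        have h := hdec ((L y).1, y)
        have h' : α ((L y).1, y) = α 0 := by
          rw [h]
          have h00 : α 0 = 0 := by
            have := hαadd 0 0
            rw [add_zero] at this
            simpa using this
          rw [h00]
          refine Prod.ext ?_ ?_
          · show (L y).1 + (L y).1 = 0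
            exact CharTwo.add_self_eq_zero _
          · show 0 + (L y).2 = 0
            rw [hy', add_zero]
        exact congrArg Prod.snd (hαinj h')
      have hunit : IsUnit (LinearMap.toMatrix' gl) := by
        rw [← Matrix.mulVec_injective_iff_isUnit]
        intro a c h
        simp only [LinearMap.toMatrix'_mulVec] at h
        exact hgl h
      obtain ⟨t, ht⟩ := htrs u hu
      let p : Par n := ⟨t.1, fun i => (L (Pi.single i 1)).1, t.2, hunit.unit⟩
      refine ⟨p, ?_⟩
      show tr p.transPart * σ p.linEquiv = u * m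
      rw [show p.transPart = t from rfl, ht]
      congr 1
      refine huniq _ (hσM _) _ hm fun s => ?_
      rw [hσ, ← hα s]
      refine congrArg tr ?_
      show p.linPart s = α s
      rw [hdec, linPart_apply]
      refine Prod.ext ?_ ?_
      · show s.1 + p.l ⬝ᵥ s.2 = s.1 + (L s.2).1
        congr 1
        conv_rhs => rw [pi_eq_sum_univ' s.2]
        simp [p, dotProduct, map_sum, Prod.fst_sum, map_smul, mul_comm]
      · show (hunit.unit : Matrix (Fin n) (Fin n) (ZMod 2)) *ᵥ s.2 = 0 + (L s.2).2
        rw [IsUnit.unit_spec, LinearMap.toMatrix'_mulVec, zero_add]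
        rfl
  · intro x hx
    obtain ⟨u, hu, m, hm, rfl⟩ : ∃ u ∈ U, ∃ m ∈ M, u * m = x := by
      have h : x ∈ (↑(U ⊔ M) : Set G) := by rw [hUM']; trivial
      rw [Subgroup.normal_mul] at h
      exact h
    have h1 : m = 1 := hfaith m hm fun v hv => by
      have h := hx v hv
      have hc : u * v = v * u := congrArg Subtype.val (mul_comm (⟨u, hu⟩ : U) ⟨v, hv⟩)
      rw [mul_inv_eq_iff_eq_mul]
      apply mul_left_cancel (a := u)
      rw [← mul_assoc, ← h, ← mul_assoc, ← hc, mul_assoc]
    rw [h1, mul_one]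
    exact hu
  · obtain ⟨t, ht⟩ := htrs u hu
    refine ⟨⟨t.1, 0, t.2, 1⟩, rfl, ?_⟩
    show tr _ * σ _ = u
    rw [hσ1 _ rfl rfl, mul_one]
    exact ht

end Par

end Cfsg.Agent.Lib.ThreeTransp
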