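/-
The symmetric group of degree four as a Coxeter group: three involutions `a, b, c` with `a, c`
commuting and satisfying both braid relations give a homomorphism from `Equiv.Perm (Fin 4)`.
-/
import Mathlib

set_option autoImplicit false

namespace Cfsg.Agent.Lib.ThreeTransp

/-- Evaluation of the normal form `w₁ w₂ w₃` with `w₁ ∈ {1, a}`, `w₂ ∈ {1, b, ba}`,
`w₃ ∈ {1, c, cb, cba}`. -/
def s4Word {M : Type*} [Monoid M] (a b c : M) : Fin 2 × Fin 3 × Fin 4 → M := fun w =>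
  ![(1 : M), a] w.1 * (![1, b, b * a] w.2.1 * ![1, c, c * b, c * (b * a)] w.2.2)

/-- The Coxeter generators of the symmetric group of degree four. -/
def s4Gen : Fin 3 → Equiv.Perm (Fin 4) := ![Equiv.swap 0 1, Equiv.swap 1 2, Equiv.swap 2 3]

theorem s4Word_gen_surjective :
    ∀ σ : Equiv.Perm (Fin 4), ∃ w, s4Word (s4Gen 0) (s4Gen 1) (s4Gen 2) w = σ := by
  decide +kernel

theorem s4Word_gen_injective :
    ∀ w w' : Fin 2 × Fin 3 × Fin 4, s4Word (s4Gen 0) (s4Gen 1) (s4Gen 2) w =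
      s4Word (s4Gen 0) (s4Gen 1) (s4Gen 2) w' → w = w' := by
  decide +kernel

/-- The normal form of a permutation. -/
noncomputable def s4Form (σ : Equiv.Perm (Fin 4)) : Fin 2 × Fin 3 × Fin 4 :=
  (s4Word_gen_surjective σ).choose

theorem s4Word_s4Form (σ : Equiv.Perm (Fin 4)) :
    s4Word (s4Gen 0) (s4Gen 1) (s4Gen 2) (s4Form σ) = σ :=
  (s4Word_gen_surjective σ).choose_spec

theorem s4Form_s4Word (w : Fin 2 × Fin 3 × Fin 4) :
    s4Form (s4Word (s4Gen 0) (s4Gen 1) (s4Gen 2) w) = w :=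
  s4Word_gen_injective _ _ (s4Word_s4Form _)

variable {G : Type*} [Group G] {a b c : G}

/-- The homomorphism from `Equiv.Perm (Fin 4)` given by a Coxeter triple. -/
theorem s4Hom_exists (ha : a * a = 1) (hb : b * b = 1) (hc : c * c = 1) (hac : c * a = a * c)
    (hab : b * (a * b) = a * (b * a)) (hbc : c * (b * c) = b * (c * b)) :
    ∃ φ : Equiv.Perm (Fin 4) →* G, φ (Equiv.swap 0 1) = a ∧ φ (Equiv.swap 1 2) = b ∧
      φ (Equiv.swap 2 3) = c := by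
  have haX : ∀ x, a * (a * x) = x := fun x => by rw [← mul_assoc, ha, one_mul]
  have hbX : ∀ x, b * (b * x) = x := fun x => by rw [← mul_assoc, hb, one_mul]
  have hcX : ∀ x, c * (c * x) = x := fun x => by rw [← mul_assoc, hc, one_mul]
  have hacX : ∀ x, c * (a * x) = a * (c * x) := fun x => by
    rw [← mul_assoc, hac, mul_assoc]
  have habX : ∀ x, b * (a * (b * x)) = a * (b * (a * x)) := fun x => by
    rw [← mul_assoc a b x, ← mul_assoc b (a * b) x, hab]; simp only [mul_assoc]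
  have hbcX : ∀ x, c * (b * (c * x)) = b * (c * (b * x)) := fun x => by
    rw [← mul_assoc b c x, ← mul_assoc c (b * c) x, hbc]; simp only [mul_assoc]
  have h7 : c * (b * (a * c)) = b * (c * (b * a)) := by
    rw [← hac, hbcX]
  have h7X : ∀ x, c * (b * (a * (c * x))) = b * (c * (b * (a * x))) := fun x => by
    rw [← hacX, hbcX]
  let f : Equiv.Perm (Fin 4) → G := fun σ => s4Word a b c (s4Form σ)
  have hf : ∀ w, f (s4Word (s4Gen 0) (s4Gen 1) (s4Gen 2) w) = s4Word a b c w := fun w => by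
    show s4Word a b c (s4Form _) = _
    rw [s4Form_s4Word]
  -- left multiplication tables
  have hstep : ∀ (i : Fin 3) (σ : Equiv.Perm (Fin 4)), f (s4Gen i * σ) = ![a, b, c] i * f σ := by
    intro i σ
    obtain ⟨w, rfl⟩ := s4Word_gen_surjective σ
    obtain ⟨v, hv⟩ : ∃ v, s4Word (s4Gen 0) (s4Gen 1) (s4Gen 2) v =
        s4Gen i * s4Word (s4Gen 0) (s4Gen 1) (s4Gen 2) w := s4Word_gen_surjective _
    rw [← hv, hf, hf]
    revert hv
    revert v w
    revert i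
    have key : ∀ (i : Fin 3) (w v : Fin 2 × Fin 3 × Fin 4),
        s4Word (s4Gen 0) (s4Gen 1) (s4Gen 2) v =
          s4Gen i * s4Word (s4Gen 0) (s4Gen 1) (s4Gen 2) w →
        v = (![![(1,0,0),(1,0,1),(1,0,2),(1,0,3),(1,1,0),(1,1,1),(1,1,2),(1,1,3),(1,2,0),(1,2,1),(1,2,2),(1,2,3),(0,0,0),(0,0,1),(0,0,2),(0,0,3),(0,1,0),(0,1,1),(0,1,2),(0,1,3),(0,2,0),(0,2,1),(0,2,2),(0,2,3)],
          ![(0,1,0),(0,1,1),(0,1,2),(0,1,3),(0,0,0),(0,0,1),(0,0,2),(0,0,3),(1,0,0),(1,0,1),(1,0,2),(1,0,3),(0,2,0),(0,2,1),(0,2,2),(0,2,3),(1,2,0),(1,2,1),(1,2,2),(1,2,3),(1,1,0),(1,1,1),(1,1,2),(1,1,3)],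
          ![(0,0,1),(0,0,0),(0,1,0),(0,2,0),(0,0,2),(0,1,2),(0,1,1),(0,2,1),(0,0,3),(0,1,3),(0,2,3),(0,2,2),(1,0,1),(1,0,0),(1,1,0),(1,2,0),(1,0,2),(1,1,2),(1,1,1),(1,2,1),(1,0,3),(1,1,3),(1,2,3),(1,2,2)]] i ⟨12 * (w.1 : ℕ) + 4 * (w.2.1 : ℕ) + (w.2.2 : ℕ), by omega⟩
          : Fin 2 × Fin 3 × Fin 4) := by
      decide +kernel
    intro i w v hv
    rw [key i w v hv]
    obtain ⟨w1, w2, w3⟩ := w
    fin_cases i <;> fin_cases w1 <;> fin_cases w2 <;> fin_cases w3 <;>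
      simp [s4Word, mul_assoc, ha, hb, hc, hac, hab, hbc, h7, haX, hbX, hcX, hacX, habX, hbcX, h7X]
  have hone : f 1 = 1 := by
    have h : s4Word (s4Gen 0) (s4Gen 1) (s4Gen 2) (0, 0, 0) = 1 := by simp [s4Word]
    have h' := hf (0, 0, 0)
    rw [h] at h'
    rw [h']
    simp [s4Word]
  let L : Submonoid (Equiv.Perm (Fin 4)) :=
    { carrier := {σ | ∀ τ, f (σ * τ) = f σ * f τ}
      one_mem' := fun τ => by rw [one_mul, hone, one_mul]
      mul_mem' := fun {σ τ} hσ hτ υ => by rw [mul_assoc, hσ, hτ, hσ, mul_assoc] }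
  have hgen : ∀ i, f (s4Gen i) = ![a, b, c] i := fun i => by
    have := hstep i 1; rwa [mul_one, hone, mul_one] at this
  have hL : ∀ i, s4Gen i ∈ L := fun i τ => by rw [hstep, hgen]
  have hall : ∀ σ, σ ∈ L := fun σ => by
    obtain ⟨⟨w1, w2, w3⟩, rfl⟩ := s4Word_gen_surjective σ
    refine L.mul_mem ?_ (L.mul_mem ?_ ?_)
    · fin_cases w1 <;> simp [hL, L.one_mem]
    · fin_cases w2 <;> simp [hL, L.one_mem, L.mul_mem]
    · fin_cases w3 <;> simp [hL, L.one_mem, L.mul_mem]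
  exact ⟨MonoidHom.mk' f fun σ τ => hall σ τ, hgen 0, hgen 1, hgen 2⟩

/-- A homomorphism from `Equiv.Perm (Fin 4)` not killing `(0 1)(2 3)` is injective. -/
theorem s4Hom_injective (φ : Equiv.Perm (Fin 4) →* G)
    (h : φ (Equiv.swap 0 1 * Equiv.swap 2 3) ≠ 1) : Function.Injective φ := by
  rw [injective_iff_map_eq_one]
  intro σ hσ
  by_contra hne
  have key : ∀ σ : Equiv.Perm (Fin 4), σ ≠ 1 → ∃ τ υ : Equiv.Perm (Fin 4),
      (σ * τ * σ⁻¹ * τ⁻¹) * υ * (σ * τ * σ⁻¹ * τ⁻¹)⁻¹ * υ⁻¹ =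
        Equiv.swap 0 1 * Equiv.swap 2 3 := by
    decide +kernel
  obtain ⟨τ, υ, e⟩ := key σ hne
  apply h
  rw [← e]
  simp [hσ]

end Cfsg.Agent.Lib.ThreeTransp
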