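import Cfsg.Agent.Lib.ThreeTransp.WidthOne
import Cfsg.Agent.Lib.ThreeTransp.SymFour
import Cfsg.Agent.Lib.ThreeTransp.Invol
import Cfsg.Agent.Lib.Involutions.BaerSuzuki

/-!
The two equivalence relations on a set of 3-transpositions and the 2- and 3-cores.
-/

set_option autoImplicit false

namespace Cfsg.Agent.Lib.ThreeTransp

open Cfsg

variable {G : Type*} [Group G] {D : Set G}

/-- The other members commuting with a given one. -/
def nbr (D : Set G) (d : G) : Set G := {y : G | y ∈ D ∧ y ≠ d ∧ Commute d y}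

/-- The same commuting members. -/
def SameComm (D : Set G) (v d : G) : Prop := ∀ e ∈ D, Commute v e ↔ Commute d e

theorem tt_comm_or_braid (hD : IsThreeTranspositionSet D) {a b : G} (ha : a ∈ D) (hb : b ∈ D)
    (h : ¬ Commute a b) : a * b * a = b * a * b ∧ (a * b) ^ 3 = 1 := by
  rcases hD.2 a ha b hb with h2 | h3
  · exact absurd (commute_of_sq (hD.1 a ha) (hD.1 b hb) h2) h
  · refine ⟨?_, h3⟩
    have e : (a * b * a) * (b * a * b) = 1 := by
      rw [← h3, pow_succ, pow_two]; simp only [mul_assoc]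
    rw [eq_inv_of_mul_eq_one_left e, mul_inv_rev, mul_inv_rev, inv_inv_self (hD.1 a ha),
      inv_inv_self (hD.1 b hb), mul_assoc]

theorem tt_conj_self (hD : IsThreeTranspositionSet D) {a : G} (ha : a ∈ D) (b : G) :
    a * b * a⁻¹ = a * b * a := by
  rw [inv_inv_self (hD.1 a ha)]

theorem conj_mem_self (hD : IsThreeTranspositionSet D) (hc : ∀ g : G, ∀ d ∈ D, g * d * g⁻¹ ∈ D)
    {a b : G} (ha : a ∈ D) (hb : b ∈ D) : a * b * a ∈ D := by
  rw [← tt_conj_self hD ha]; exact hc a b hb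

theorem commute_conj {a x y : G} : Commute (a * x * a⁻¹) (a * y * a⁻¹) ↔ Commute x y :=
  Commute.conj_iff a

theorem nbr_conj (hc : ∀ g : G, ∀ d ∈ D, g * d * g⁻¹ ∈ D) (g d y : G) :
    y ∈ nbr D (g * d * g⁻¹) ↔ g⁻¹ * y * g ∈ nbr D d := by
  have e : y = g * (g⁻¹ * y * g) * g⁻¹ := by group
  constructor
  · rintro ⟨h1, h2, h3⟩
    refine ⟨by simpa using hc g⁻¹ y h1, fun h => h2 (e.trans (by rw [h])), ?_⟩
    rw [e] at h3
    exact commute_conj.1 h3
  · rintro ⟨h1, h2, h3⟩
    refine ⟨by rw [e]; exact hc g _ h1, fun h => h2 (by rw [h]; group), ?_⟩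
    rw [e]; exact commute_conj.2 h3

theorem nbr_congr_conj (hc : ∀ g : G, ∀ d ∈ D, g * d * g⁻¹ ∈ D) (g : G) {d w : G}
    (h : nbr D d = nbr D w) : nbr D (g * d * g⁻¹) = nbr D (g * w * g⁻¹) := by
  ext y; rw [nbr_conj hc, nbr_conj hc, h]

theorem sameComm_conj (hc : ∀ g : G, ∀ d ∈ D, g * d * g⁻¹ ∈ D) (g : G) {d v : G}
    (h : SameComm D v d) : SameComm D (g * v * g⁻¹) (g * d * g⁻¹) := by
  intro e he
  rw [show e = g * (g⁻¹ * e * g) * g⁻¹ by group, commute_conj, commute_conj]
  exact h _ (by simpa using hc g⁻¹ e he)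

/-- Members of two linked classes do not commute. -/
theorem eq_or_not_commute {d a x y : G} (hd : d ∈ D) (hx : x ∈ D) (hy : y ∈ D)
    (hl : nbr D a = nbr D d ∨ ¬ Commute d a) (hxd : nbr D x = nbr D d) (hya : nbr D y = nbr D a)
    (hxy : Commute x y) : x = y := by
  by_contra hne
  have h1 : y ∈ nbr D x := ⟨hy, fun e => hne e.symm, hxy⟩
  rcases hl with hl | hl
  · rw [hxd, ← hl, ← hya] at h1
    exact h1.2.1 rfl
  · rw [hxd] at h1
    have h2 : d ∈ nbr D y := ⟨hd, fun e => h1.2.1 e.symm, h1.2.2.symm⟩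
    rw [hya] at h2
    exact hl h2.2.2.symm

/-- Conjugation between linked classes. -/
theorem nbr_conj_linked (hD : IsThreeTranspositionSet D) (hc : ∀ g : G, ∀ d ∈ D, g * d * g⁻¹ ∈ D)
    {d a x y : G} (hd : d ∈ D) (ha : a ∈ D) (hx : x ∈ D) (hl : nbr D a = nbr D d ∨ ¬ Commute d a)
    (hxd : nbr D x = nbr D d) (hya : nbr D y = nbr D a) :
    nbr D (x * y * x) = nbr D (d * a * d) := by
  have key : ∀ {g u v : G}, g ∈ D → nbr D u = nbr D v → nbr D (g * u * g) = nbr D (g * v * g) := by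
    intro g u v hg h
    have := nbr_congr_conj hc g h
    rwa [tt_conj_self hD hg, tt_conj_self hD hg] at this
  have self : ∀ {g : G}, g ∈ D → g * g * g = g := fun hg => by
    rw [inv_sq (hD.1 _ hg), one_mul]
  by_cases hs : nbr D a = nbr D d
  · rw [key hx (hya.trans (hs.trans hxd.symm)), self hx, key hd hs, self hd, hxd]
  · have hl' := hl.resolve_left hs
    have hxa : ¬ Commute x a := fun h => hs (by
      rw [← eq_or_not_commute hd hx ha hl hxd rfl h, hxd])
    rw [key hx hya, (tt_comm_or_braid hD hx ha hxa).1, key ha hxd,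
      (tt_comm_or_braid hD ha hd (fun h => hl' h.symm)).1]

/-- A set of pairwise non-commuting members has width one. -/
theorem width_eq_one_of_unique [Finite G] {E : Set G} {d : G} (hd : d ∈ E)
    (hone : ∀ a ∈ E, ∀ b ∈ E, Commute a b → a = b) : commutingWidth E = 1 := by
  unfold commutingWidth
  refine le_antisymm (csSup_le ⟨0, ∅, by simp, by simp, by simp, by simp⟩ ?_) (le_csSup ⟨1, ?_⟩ ?_)
  · rintro n ⟨F, hF, hf, hc, rfl⟩
    exact (Set.ncard_le_one hf).2 fun a ha b hb => hone a (hF ha) b (hF hb) (hc a ha b hb)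
  · rintro n ⟨F, hF, hf, hc, rfl⟩
    exact (Set.ncard_le_one hf).2 fun a ha b hb => hone a (hF ha) b (hF hb) (hc a ha b hb)
  · exact ⟨{d}, by simpa using hd, Set.toFinite _, by simp, Set.ncard_singleton d⟩

/-- In a width-one group the product of two members lies in the 3-core. -/
theorem mul_mem_pCore_of_width_one [Finite G] (hD : IsThreeTranspositionGroup D)
    (hw : commutingWidth D = 1) {x y : G} (hx : x ∈ D) (hy : y ∈ D) : x * y ∈ pCore 3 G := by
  have htop := zpowers_sup_pCore_of_width_one hD hw hx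
  obtain ⟨hS, -, -⟩ := hD
  set P := pCore 3 G
  haveI : P.Normal := inferInstance
  have hmem : y ∈ ((Subgroup.zpowers x ⊔ P : Subgroup G)) := htop ▸ Subgroup.mem_top y
  rw [Subgroup.mem_sup_of_normal_right] at hmem
  obtain ⟨u, ⟨k, rfl⟩, q, hq, hyq⟩ := hmem
  simp only at hyq
  rcases Int.even_or_odd k with ⟨m, rfl⟩ | ⟨m, rfl⟩
  · exfalso
    rw [← two_mul, zpow_mul, zpow_two, inv_sq (hS.1 x hx), one_zpow, one_mul] at hyq
    rw [hyq] at hq
    obtain ⟨j, hj⟩ := IsPGroup.iff_orderOf.1 (Lib.Cores.pCore_isPGroup 3 G) ⟨y, hq⟩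
    rw [Subgroup.orderOf_mk, hS.1 y hy] at hj
    have : Odd (3 ^ j) := (by decide : Odd 3).pow
    rw [← hj] at this
    exact absurd this (by decide)
  · rw [zpow_add, zpow_mul, zpow_two, inv_sq (hS.1 x hx), one_zpow, one_mul, zpow_one] at hyq
    rw [← hyq, ← mul_assoc, inv_sq (hS.1 x hx), one_mul]
    exact hq

/-- Products inside a linked triple of classes generate a 3-group. -/
theorem exists_threeGroup_linked [Finite G] (hD : IsThreeTranspositionSet D)
    (hc : ∀ g : G, ∀ d ∈ D, g * d * g⁻¹ ∈ D) {d w a b : G} (hd : d ∈ D) (hw : w ∈ D) (ha : a ∈ D)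
    (hb : b ∈ D) (hl : nbr D a = nbr D d ∨ ¬ Commute d a) (hwd : nbr D w = nbr D d)
    (hba : nbr D b = nbr D a) :
    ∃ P : Subgroup G, IsPGroup 3 ↥P ∧ d * w ∈ P ∧ a * b ∈ P := by
  obtain ⟨c, hcdef⟩ : ∃ c, c = d * a * d := ⟨_, rfl⟩
  have hcD : c ∈ D := hcdef ▸ conj_mem_self hD hc hd ha
  have self : ∀ {g : G}, g ∈ D → g * g * g = g := fun hg => by
    rw [inv_sq (hD.1 _ hg), one_mul]
  have hsame : nbr D a = nbr D d → nbr D c = nbr D d := fun hs => by
    rw [hcdef]
    have := nbr_congr_conj hc d hs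
    rwa [tt_conj_self hD hd, tt_conj_self hD hd, self hd] at this
  have hl1 : nbr D c = nbr D d ∨ ¬ Commute d c := by
    rcases hl with h | h
    · exact Or.inl (hsame h)
    · refine Or.inr fun hh => h ?_
      have hd2 := inv_sq (hD.1 d hd)
      have h2 := (commute_conj (a := d)).2 hh
      rw [tt_conj_self hD hd, tt_conj_self hD hd, self hd, hcdef] at h2
      rwa [show d * (d * a * d) * d = (d * d) * a * (d * d) by group, hd2, one_mul, mul_one] at h2
  have hl2 : nbr D c = nbr D a ∨ ¬ Commute a c := by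
    rcases hl with h | h
    · exact Or.inl ((hsame h).trans h.symm)
    · refine Or.inr fun hh => h ?_
      have ha2 := inv_sq (hD.1 a ha)
      have h2 := (commute_conj (a := a)).2 hh
      rw [tt_conj_self hD ha, tt_conj_self hD ha, self ha, hcdef,
        (tt_comm_or_braid hD hd ha h).1] at h2
      rw [show a * (a * d * a) * a = (a * a) * d * (a * a) by group, ha2, one_mul, mul_one] at h2
      exact h2.symm
  have hd' : ∀ {p q : G}, (nbr D p = nbr D q ∨ ¬ Commute q p) →
      (nbr D q = nbr D p ∨ ¬ Commute p q) := fun h => h.imp Eq.symm (fun h' h'' => h' h''.symm)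
  have third : ∀ {p q : G}, p ∈ D → q ∈ D → (nbr D q = nbr D p ∨ ¬ Commute p q) →
      nbr D (q * p * q) = nbr D (p * q * p) := by
    intro p q hp hq h
    rcases h with h | h
    · have h1 := nbr_congr_conj hc q h.symm
      have h2 := nbr_congr_conj hc p h
      rw [tt_conj_self hD hq, tt_conj_self hD hq, self hq] at h1
      rw [tt_conj_self hD hp, tt_conj_self hD hp, self hp] at h2
      rw [h1, h2, h]
    · rw [(tt_comm_or_braid hD hp hq h).1]
  -- the three classes
  let E : Set G := {y | y ∈ D ∧ (nbr D y = nbr D d ∨ nbr D y = nbr D a ∨ nbr D y = nbr D c)}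
  have hone : ∀ x ∈ E, ∀ y ∈ E, Commute x y → x = y := by
    rintro x ⟨hx, h1⟩ y ⟨hy, h2⟩ hxy
    rcases h1 with h1 | h1 | h1 <;> rcases h2 with h2 | h2 | h2
    exacts [eq_or_not_commute hd hx hy (Or.inl rfl) h1 h2 hxy,
      eq_or_not_commute hd hx hy hl h1 h2 hxy, eq_or_not_commute hd hx hy hl1 h1 h2 hxy,
      eq_or_not_commute ha hx hy (hd' hl) h1 h2 hxy, eq_or_not_commute ha hx hy (Or.inl rfl) h1 h2 hxy,
      eq_or_not_commute ha hx hy hl2 h1 h2 hxy, eq_or_not_commute hcD hx hy (hd' hl1) h1 h2 hxy,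
      eq_or_not_commute hcD hx hy (hd' hl2) h1 h2 hxy,
      eq_or_not_commute hcD hx hy (Or.inl rfl) h1 h2 hxy]
  have hdc : nbr D (d * c * d) = nbr D a := by
    rw [hcdef, show d * (d * a * d) * d = (d * d) * a * (d * d) by group, inv_sq (hD.1 d hd),
      one_mul, mul_one]
  have hac : nbr D (a * c * a) = nbr D d := by
    rcases hl with h | h
    · have h1 := nbr_congr_conj hc a ((hsame h).trans h.symm)
      rw [tt_conj_self hD ha, tt_conj_self hD ha, self ha] at h1
      rw [h1, h]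
    · rw [hcdef, (tt_comm_or_braid hD hd ha h).1,
        show a * (a * d * a) * a = (a * a) * d * (a * a) by group, inv_sq (hD.1 a ha), one_mul,
        mul_one]
  have hclosed : ∀ x ∈ E, ∀ y ∈ E, x * y * x⁻¹ ∈ E := by
    rintro x ⟨hx, h1⟩ y ⟨hy, h2⟩
    rw [tt_conj_self hD hx]
    refine ⟨conj_mem_self hD hc hx hy, ?_⟩
    rcases h1 with h1 | h1 | h1 <;> rcases h2 with h2 | h2 | h2
    · left; rw [nbr_conj_linked hD hc hd hd hx (Or.inl rfl) h1 h2, self hd]
    · right; right; rw [nbr_conj_linked hD hc hd ha hx hl h1 h2, hcdef]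
    · right; left; rw [nbr_conj_linked hD hc hd hcD hx hl1 h1 h2, hdc]
    · right; right; rw [nbr_conj_linked hD hc ha hd hx (hd' hl) h1 h2, third hd ha hl, hcdef]
    · right; left; rw [nbr_conj_linked hD hc ha ha hx (Or.inl rfl) h1 h2, self ha]
    · left; rw [nbr_conj_linked hD hc ha hcD hx hl2 h1 h2, hac]
    · right; left; rw [nbr_conj_linked hD hc hcD hd hx (hd' hl1) h1 h2, third hd hcD hl1, hdc]
    · left; rw [nbr_conj_linked hD hc hcD ha hx (hd' hl2) h1 h2, third ha hcD hl2, hac]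
    · right; right; rw [nbr_conj_linked hD hc hcD hcD hx (Or.inl rfl) h1 h2, self hcD]
  have hdE : d ∈ E := ⟨hd, Or.inl rfl⟩
  have hwE : w ∈ E := ⟨hw, Or.inl hwd⟩
  have haE : a ∈ E := ⟨ha, Or.inr (Or.inl rfl)⟩
  have hbE : b ∈ E := ⟨hb, Or.inr (Or.inl hba)⟩
  set H := Subgroup.closure E with hH
  have hinH : ∀ {y : G}, y ∈ E → y ∈ H := fun hy => Subgroup.subset_closure hy
  have hinv : ∀ h ∈ H, ∀ y ∈ E, h * y * h⁻¹ ∈ E ∧ h⁻¹ * y * h ∈ E := by
    intro h hh
    induction hh using Subgroup.closure_induction with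
    | mem u hu =>
      intro y hy
      refine ⟨hclosed u hu y hy, ?_⟩
      have := hclosed u hu y hy
      rwa [inv_inv_self (hD.1 u hu.1)] at this ⊢
    | one => intro y hy; simp [hy]
    | mul u v _ _ h1 h2 =>
      intro y hy
      constructor
      · have := (h1 _ (h2 y hy).1).1
        convert this using 1; group
      · have := (h2 _ (h1 y hy).2).2
        convert this using 1; group
    | inv u _ h1 =>
      intro y hy
      refine ⟨by simpa using (h1 y hy).2, by simpa using (h1 y hy).1⟩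
  have hH3 : IsThreeTranspositionGroup {h : ↥H | (h : G) ∈ E} := by
    refine ⟨⟨fun h hh => ?_, fun p hp q hq => ?_⟩, fun g h hh => (hinv g g.2 _ hh).1,
      Subgroup.closure_closure_coe_preimage⟩
    · rw [← Subgroup.orderOf_coe]; exact hD.1 _ hh.1
    · rcases hD.2 _ hp.1 _ hq.1 with e | e
      · exact Or.inl (Subtype.ext e)
      · exact Or.inr (Subtype.ext e)
  have hw1 : commutingWidth {h : ↥H | (h : G) ∈ E} = 1 :=
    width_eq_one_of_unique (d := (⟨d, hinH hdE⟩ : ↥H)) hdE fun p hp q hq hpq =>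
      Subtype.ext (hone _ hp _ hq (congrArg Subtype.val hpq.eq))
  refine ⟨(pCore 3 ↥H).map H.subtype, (Lib.Cores.pCore_isPGroup 3 ↥H).map _, ?_, ?_⟩
  · exact ⟨_, mul_mem_pCore_of_width_one hH3 hw1 (x := (⟨d, hinH hdE⟩ : ↥H))
      (y := ⟨w, hinH hwE⟩) hdE hwE, rfl⟩
  · exact ⟨_, mul_mem_pCore_of_width_one hH3 hw1 (x := (⟨a, hinH haE⟩ : ↥H))
      (y := ⟨b, hinH hbE⟩) haE hbE, rfl⟩

theorem isPGroup_zpowers_of_pow {p : ℕ} {t : G} (ht : t ^ p = 1) :
    IsPGroup p ↥(Subgroup.zpowers t) := by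
  rintro ⟨_, k, rfl⟩
  refine ⟨1, Subtype.ext ?_⟩
  show (t ^ k) ^ p ^ 1 = 1
  rw [pow_one, ← zpow_natCast, ← zpow_mul, mul_comm, zpow_mul, zpow_natCast, ht, one_zpow]

theorem zpowers_le_normalizer_of_conj {t u : G} (h : t * u * t⁻¹ ∈ Subgroup.zpowers u)
    [Finite G] : Subgroup.zpowers t ≤ Subgroup.normalizer (Subgroup.zpowers u : Set G) := by
  refine Subgroup.zpowers_le.2 ?_
  have hle : ∀ r ∈ Subgroup.zpowers u, t * r * t⁻¹ ∈ Subgroup.zpowers u := by
    rintro _ ⟨k, rfl⟩
    rw [show t * u ^ k * t⁻¹ = (t * u * t⁻¹) ^ k from conj_zpow.symm]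
    exact Subgroup.zpow_mem _ h k
  rw [Subgroup.mem_normalizer_iff]
  refine fun r => ⟨hle r, fun hr => ?_⟩
  have hmap : (Subgroup.zpowers u).map (MulAut.conj t).toMonoidHom ≤ Subgroup.zpowers u := by
    rintro _ ⟨s, hs, rfl⟩; exact hle s hs
  have heq := Subgroup.eq_of_le_of_card_ge hmap (le_of_eq (Nat.card_congr
    ((Subgroup.zpowers u).equivMapOfInjective _ (MulAut.conj t).injective).toEquiv))
  rw [← heq] at hr
  obtain ⟨s, hs, hse⟩ := hr
  exact mul_left_cancel (mul_right_cancel hse) ▸ hs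

theorem map_conj_zpowers (g t : G) :
    (Subgroup.zpowers t).map (MulAut.conj g).toMonoidHom = Subgroup.zpowers (g * t * g⁻¹) := by
  rw [MonoidHom.map_zpowers]; rfl

/-- Equal neighbourhoods: the product lies in the 3-core. -/
theorem mul_mem_pCore_three [Finite G] (hD : IsThreeTranspositionSet D)
    (hc : ∀ g : G, ∀ d ∈ D, g * d * g⁻¹ ∈ D) {d w : G} (hd : d ∈ D) (hw : w ∈ D)
    (hwd : nbr D w = nbr D d) : d * w ∈ pCore 3 G := by
  haveI : Fact (Nat.Prime 3) := ⟨Nat.prime_three⟩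
  have h3 : (d * w) ^ 3 = 1 := by
    by_cases h : Commute d w
    · rw [← eq_or_not_commute hd hd hw (Or.inl rfl) rfl hwd h, inv_sq (hD.1 d hd), one_pow]
    · exact (tt_comm_or_braid hD hd hw h).2
  obtain ⟨N, hN, hNp, hle⟩ := Lib.Involutions.baer_suzuki (p := 3) (Subgroup.zpowers (d * w))
    (isPGroup_zpowers_of_pow h3) fun g => by
    rw [map_conj_zpowers]
    obtain ⟨a, hadef⟩ : ∃ a, a = g * d * g⁻¹ := ⟨_, rfl⟩
    obtain ⟨b, hbdef⟩ : ∃ b, b = g * w * g⁻¹ := ⟨_, rfl⟩
    have hu : g * (d * w) * g⁻¹ = a * b := by rw [hadef, hbdef]; group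
    rw [hu]
    have ha : a ∈ D := hadef ▸ hc g d hd
    have hb : b ∈ D := hbdef ▸ hc g w hw
    have hba : nbr D b = nbr D a := by rw [hadef, hbdef]; exact nbr_congr_conj hc g hwd
    by_cases hl : nbr D a = nbr D d ∨ ¬ Commute d a
    · obtain ⟨P, hP, h1, h2⟩ := exists_threeGroup_linked hD hc hd hw ha hb hl hwd hba
      exact hP.to_le (sup_le (Subgroup.zpowers_le.2 h1) (Subgroup.zpowers_le.2 h2))
    · push Not at hl
      obtain ⟨hne, hda⟩ := hl
      have c1 : Commute d a := hda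
      have c2 : Commute w a := by
        have : a ∈ nbr D d := ⟨ha, fun e => hne (by rw [e]), hda⟩
        rw [← hwd] at this; exact this.2.2
      have c3 : Commute d b := by
        have : d ∈ nbr D a := ⟨hd, fun e => hne (by rw [e]), hda.symm⟩
        rw [← hba] at this; exact this.2.2.symm
      have c4 : Commute w b := by
        have : b ∈ nbr D d := ⟨hb, fun e => hne (by rw [← hba, e]), c3⟩
        rw [← hwd] at this; exact this.2.2
      have hcomm : Commute (d * w) (a * b) := (c1.mul_right c3).mul_left (c2.mul_right c4)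
      have hu3 : (a * b) ^ 3 = 1 := by rw [← hu, conj_pow, h3]; group
      refine IsPGroup.to_sup_of_normal_right' (isPGroup_zpowers_of_pow h3)
        (isPGroup_zpowers_of_pow hu3) (zpowers_le_normalizer_of_conj ?_)
      rw [hcomm.eq, mul_inv_cancel_right]; exact Subgroup.mem_zpowers _
  exact Lib.Cores.le_pCore hN hNp (hle (Subgroup.mem_zpowers _))

/-- The same commuting members: the product lies in the 2-core. -/
theorem mul_mem_pCore_two [Finite G] (hD : IsThreeTranspositionSet D)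
    (hc : ∀ g : G, ∀ d ∈ D, g * d * g⁻¹ ∈ D) {d v : G} (hd : d ∈ D) (hv : v ∈ D)
    (hvd : SameComm D v d) : d * v ∈ pCore 2 G := by
  haveI : Fact (Nat.Prime 2) := ⟨Nat.prime_two⟩
  have hdv : Commute d v := ((hvd d hd).2 (Commute.refl d)).symm
  have h2 : (d * v) ^ 2 = 1 := sq_of_commute (hD.1 d hd) (hD.1 v hv) hdv
  obtain ⟨N, hN, hNp, hle⟩ := Lib.Involutions.baer_suzuki (p := 2) (Subgroup.zpowers (d * v))
    (isPGroup_zpowers_of_pow h2) fun g => by
    rw [map_conj_zpowers]
    obtain ⟨a, hadef⟩ : ∃ a, a = g * d * g⁻¹ := ⟨_, rfl⟩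
    obtain ⟨b, hbdef⟩ : ∃ b, b = g * v * g⁻¹ := ⟨_, rfl⟩
    have hu : g * (d * v) * g⁻¹ = a * b := by rw [hadef, hbdef]; group
    rw [hu]
    have ha : a ∈ D := hadef ▸ hc g d hd
    have hb : b ∈ D := hbdef ▸ hc g v hv
    have hba : SameComm D b a := by rw [hadef, hbdef]; exact sameComm_conj hc g hvd
    have hab : Commute a b := ((hba a ha).2 (Commute.refl a)).symm
    obtain ⟨t, htdef⟩ : ∃ t, t = d * v := ⟨_, rfl⟩
    obtain ⟨u, hudef⟩ : ∃ u, u = a * b := ⟨_, rfl⟩
    rw [← htdef] at h2 ⊢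
    rw [← hudef]
    have hu2 : u ^ 2 = 1 := hudef ▸ sq_of_commute (hD.1 a ha) (hD.1 b hb) hab
    have hti : t⁻¹ = t := inv_eq_of_mul_eq_one_right (by rw [← pow_two]; exact h2)
    have hui : u⁻¹ = u := inv_eq_of_mul_eq_one_right (by rw [← pow_two]; exact hu2)
    have h4 : (t * u) ^ 4 = 1 := by
      by_cases hda : Commute d a
      · have c2 : Commute v a := (hvd a ha).2 hda
        have c3 : Commute d b := ((hba d hd).2 hda.symm).symm
        have c4 : Commute v b := ((hba v hv).2 c2.symm).symm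
        have hcomm : Commute t u := by
          rw [htdef, hudef]; exact (hda.mul_right c3).mul_left (c2.mul_right c4)
        rw [hcomm.mul_pow, show (4 : ℕ) = 2 * 2 from rfl, pow_mul, h2, pow_mul, hu2]
        simp
      · have hva : ¬ Commute v a := fun h => hda ((hvd a ha).1 h)
        by_cases hdv' : d = v
        · have ht1 : t = 1 := by rw [htdef, hdv', inv_sq (hD.1 v hv)]
          rw [ht1, one_mul, show (4 : ℕ) = 2 * 2 from rfl, pow_mul, hu2, one_pow]
        obtain ⟨φ, h01, h12, h23⟩ := s4Hom_exists (inv_sq (hD.1 d hd)) (inv_sq (hD.1 a ha))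
          (inv_sq (hD.1 v hv)) hdv.symm.eq
          (by have := (tt_comm_or_braid hD hd ha hda).1; simp only [mul_assoc] at this ⊢; exact this.symm)
          (by have := (tt_comm_or_braid hD hv ha hva).1; simp only [mul_assoc] at this ⊢; exact this)
        have hperm : Commute (Equiv.swap (1 : Fin 4) 2)
            (Equiv.swap 0 1 * Equiv.swap 2 3 * Equiv.swap 1 2 *
              (Equiv.swap 0 1 * Equiv.swap 2 3)⁻¹) := by
          show _ * _ = _ * _
          decide
        have hat := hperm.map φ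
        rw [map_mul, map_mul, map_inv, map_mul, h01, h12, h23, ← htdef] at hat
        obtain ⟨a', ha'⟩ : ∃ a', a' = t * a * t⁻¹ := ⟨_, rfl⟩
        obtain ⟨b', hb'⟩ : ∃ b', b' = t * b * t⁻¹ := ⟨_, rfl⟩
        rw [← ha'] at hat
        have ha'D : a' ∈ D := ha' ▸ hc t a ha
        have hb'D : b' ∈ D := hb' ▸ hc t b hb
        have hb'a' : SameComm D b' a' := by rw [ha', hb']; exact sameComm_conj hc t hba
        have k1 : Commute b a' := (hba a' ha'D).2 hat
        have k2 : Commute b' a := (hb'a' a ha).2 hat.symm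
        have k3 : Commute b' b := (hb'a' b hb).2 k1.symm
        have k4 : Commute a' b' := ((hb'a' a' ha'D).2 (Commute.refl a')).symm
        have hsq : (t * u) ^ 2 = (a' * b') * (a * b) := by
          rw [pow_two, ha', hb', hudef, hti]
          rw [show t * a * t * (t * b * t) = t * a * (t * t) * b * t by group,
            show t * t = 1 by rw [← pow_two]; exact h2, mul_one]
          simp only [mul_assoc]
        have hcc : Commute (a' * b') (a * b) :=
          (hat.symm.mul_right k1.symm).mul_left (k2.mul_right k3)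
        rw [show (4 : ℕ) = 2 * 2 from rfl, pow_mul, hsq, hcc.mul_pow,
          sq_of_commute (hD.1 a' ha'D) (hD.1 b' hb'D) k4, ← hudef, hu2, one_mul]
    have hp4 : IsPGroup 2 ↥(Subgroup.zpowers (t * u)) := by
      rintro ⟨_, k, rfl⟩
      refine ⟨2, Subtype.ext ?_⟩
      show ((t * u) ^ k) ^ 4 = 1
      rw [← zpow_natCast, ← zpow_mul, mul_comm, zpow_mul, zpow_natCast, h4, one_zpow]
    refine (IsPGroup.to_sup_of_normal_right' (isPGroup_zpowers_of_pow h2) hp4
      (zpowers_le_normalizer_of_conj ?_)).to_le (sup_le le_sup_left (Subgroup.zpowers_le.2 ?_))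
    · have htu : t * (t * u) * t⁻¹ = (t * u)⁻¹ := by
        rw [← mul_assoc, ← pow_two, h2, one_mul, mul_inv_rev, hui]
      rw [htu]
      exact Subgroup.inv_mem _ (Subgroup.mem_zpowers _)
    · have := Subgroup.mul_mem_sup (Subgroup.mem_zpowers t) (Subgroup.mem_zpowers (t * u))
      rwa [← mul_assoc, ← pow_two, h2, one_mul] at this
  exact Lib.Cores.le_pCore hN hNp (hle (Subgroup.mem_zpowers _))

end Cfsg.Agent.Lib.ThreeTransp
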