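import Cfsg.Agent.Lib.ThreeTransp.CoreClasses

/-!
Three-transposition groups in which commuting members have the same commuting members.
-/

set_option autoImplicit false

namespace Cfsg.Agent.Lib.ThreeTransp

open Cfsg

universe u

/-- Commuting members have the same commuting members. -/
def CommSame {G : Type*} [Group G] (D : Set G) : Prop :=
  ∀ a ∈ D, ∀ b ∈ D, Commute a b → SameComm D b a

variable {G : Type u} [Group G] [Finite G] {D : Set G}

theorem commute_all_of_gen (hgen : Subgroup.closure D = ⊤) (h : ∀ a ∈ D, ∀ b ∈ D, Commute a b)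
    (x y : G) : x * y = y * x := by
  have h1 : ∀ a ∈ D, a ∈ Subgroup.center G := fun a ha => by
    rw [Subgroup.mem_center_iff]
    intro z
    have : Subgroup.closure D ≤ Subgroup.centralizer ({a} : Set G) :=
      (Subgroup.closure_le _).2 fun b hb => Subgroup.mem_centralizer_singleton_iff.2 (h b hb a ha)
    exact Subgroup.mem_centralizer_singleton_iff.1 (this (hgen ▸ Subgroup.mem_top z))
  have hx : x ∈ Subgroup.center G := (Subgroup.closure_le _).2 h1 (hgen ▸ Subgroup.mem_top x)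
  exact (Subgroup.mem_center_iff.1 hx y).symm

/-- The image of a generating set of members in a quotient by a subgroup avoiding them. -/
theorem threeTranspositionGroup_quotient (hD : IsThreeTranspositionGroup D) (N : Subgroup G)
    [N.Normal] (hN : ∀ a ∈ D, a ∉ N) :
    IsThreeTranspositionGroup ((QuotientGroup.mk' N) '' D) := by
  obtain ⟨⟨h2, h3⟩, hc, hgen⟩ := hD
  refine ⟨⟨?_, ?_⟩, ?_, ?_⟩
  · rintro _ ⟨a, ha, rfl⟩
    exact orderOf_eq_prime (by rw [← map_pow, ← h2 a ha, pow_orderOf_eq_one, map_one])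
      (fun e => hN a ha ((QuotientGroup.eq_one_iff a).1 e))
  · rintro _ ⟨a, ha, rfl⟩ _ ⟨b, hb, rfl⟩
    rcases h3 a ha b hb with e | e
    · left; rw [← map_mul, ← map_pow, e, map_one]
    · right; rw [← map_mul, ← map_pow, e, map_one]
  · rintro g _ ⟨a, ha, rfl⟩
    obtain ⟨g, rfl⟩ := QuotientGroup.mk'_surjective N g
    exact ⟨_, hc g a ha, by simp⟩
  · rw [← MonoidHom.map_closure, hgen, ← MonoidHom.range_eq_map]
    exact MonoidHom.range_eq_top.2 (QuotientGroup.mk'_surjective N)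

theorem commSame_quotient (hS : IsThreeTranspositionSet D) (hcc : CommSame D) (N : Subgroup G)
    [N.Normal] : CommSame ((QuotientGroup.mk' N) '' D) := by
  set π := QuotientGroup.mk' N
  have heq : ∀ {a b : G}, a ∈ D → a * b ∈ N → π b = π a := by
    intro a b ha h
    have : π (a * b) = 1 := (QuotientGroup.eq_one_iff _).2 h
    rw [map_mul] at this
    rw [eq_inv_of_mul_eq_one_right this, ← map_inv, inv_inv_self (hS.1 a ha)]
  rintro _ ⟨a, ha, rfl⟩ _ ⟨b, hb, rfl⟩ hab
  rintro _ ⟨e, he, rfl⟩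
  by_cases h : Commute a b
  · have key : ∀ {p q : G}, p ∈ D → q ∈ D → Commute p q → Commute (π p) (π q) →
        Commute (π p) (π e) → Commute (π q) (π e) := by
      intro p q hp hq hpq hpq' hpe
      by_cases h' : Commute p e
      · exact ((hcc p hp q hq hpq e he).2 h').map π
      · rw [heq hp (mul_mem_of_commute_mod hS hp he h' hpe)]; exact hpq'.symm
    exact ⟨key hb ha h.symm hab.symm, key ha hb h hab⟩
  · rw [heq ha (mul_mem_of_commute_mod hS ha hb h hab)]

/-- Modulo the 2-core the members are involutions, pairwise non-commuting. -/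
theorem quotient_two_data (hD : IsThreeTranspositionGroup D) (hcc : CommSame D)
    (hna : ¬ ∀ a ∈ D, ∀ b ∈ D, Commute a b) :
    (∀ a ∈ D, a ∉ pCore 2 G) ∧
      (∀ a ∈ D, ∀ b ∈ D, Commute (QuotientGroup.mk' (pCore 2 G) a) (QuotientGroup.mk' (pCore 2 G) b) →
        QuotientGroup.mk' (pCore 2 G) a = QuotientGroup.mk' (pCore 2 G) b) ∧
      ∀ a ∈ D, ∀ b ∈ D, QuotientGroup.mk' (pCore 2 G) a = QuotientGroup.mk' (pCore 2 G) b →
        Commute a b := by
  haveI : Fact (Nat.Prime 2) := ⟨Nat.prime_two⟩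
  obtain ⟨hS, hc, hgen⟩ := hD
  have hK := Lib.Cores.pCore_isPGroup 2 G
  have hnc : ∀ a ∈ D, ∀ b ∈ D, a * b ∈ pCore 2 G → Commute a b := by
    intro a ha b hb h
    by_contra hab
    exact hab (by rw [eq_of_mul_mem_pGroup hK (by norm_num : Nat.Coprime 2 3) (hS.1 b hb) h
      (tt_comm_or_braid hS ha hb hab).2])
  refine ⟨fun a ha haK => hna ?_, fun a ha b hb hab => ?_, fun a ha b hb hab => ?_⟩
  · have hall : ∀ b ∈ D, Commute a b := by
      intro b hb
      by_contra hab
      have h1 : QuotientGroup.mk' (pCore 2 G) a = 1 := (QuotientGroup.eq_one_iff a).2 haK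
      exact hab (hnc a ha b hb (mul_mem_of_commute_mod hS ha hb hab (by rw [h1]; exact Commute.one_left _)))
    intro b hb b' hb'
    exact (hcc a ha b hb (hall b hb) b' hb').2 (hall b' hb')
  · by_cases h : Commute a b
    · have := mul_mem_pCore_two hS hc ha hb (hcc a ha b hb h)
      have h1 : QuotientGroup.mk' (pCore 2 G) (a * b) = 1 := (QuotientGroup.eq_one_iff _).2 this
      rw [map_mul] at h1
      rw [eq_inv_of_mul_eq_one_left h1, ← map_inv, inv_inv_self (hS.1 b hb)]
    · exact absurd (hnc a ha b hb (mul_mem_of_commute_mod hS ha hb h hab)) h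
  · refine hnc a ha b hb ((QuotientGroup.eq_one_iff _).1 ?_)
    show QuotientGroup.mk' (pCore 2 G) (a * b) = 1
    rw [map_mul, hab, ← map_mul, inv_sq (hS.1 b hb), map_one]

theorem quotient_two_width (hD : IsThreeTranspositionGroup D) (hcc : CommSame D)
    (hna : ¬ ∀ a ∈ D, ∀ b ∈ D, Commute a b) {d : G} (hd : d ∈ D) :
    Subgroup.zpowers (QuotientGroup.mk' (pCore 2 G) d) ⊔ pCore 3 (G ⧸ pCore 2 G) = ⊤ := by
  obtain ⟨h1, h2, -⟩ := quotient_two_data hD hcc hna
  refine zpowers_sup_pCore_of_width_one (threeTranspositionGroup_quotient hD _ h1)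
    (width_eq_one_of_unique ⟨d, hd, rfl⟩ ?_) ⟨d, hd, rfl⟩
  rintro _ ⟨a, ha, rfl⟩ _ ⟨b, hb, rfl⟩ h
  exact h2 a ha b hb h

theorem mem_normalizer_of_conj_mem {R : Subgroup G} {u : G} (h : ∀ r ∈ R, u * r * u⁻¹ ∈ R) :
    u ∈ Subgroup.normalizer (R : Set G) := by
  have hle : R.map (MulAut.conj u).toMonoidHom ≤ R := by
    rintro _ ⟨r, hr, rfl⟩; exact h r hr
  have heq := Subgroup.eq_of_le_of_card_ge hle (le_of_eq
    (Nat.card_congr (R.equivMapOfInjective _ (MulAut.conj u).injective).toEquiv))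
  rw [Subgroup.mem_normalizer_iff]
  refine fun r => ⟨h r, fun hr => ?_⟩
  rw [← heq] at hr
  obtain ⟨s, hs, hse⟩ := hr
  exact mul_left_cancel (mul_right_cancel hse) ▸ hs

/-- A subgroup of order three, normal modulo the 2-core and invariant under `d`. -/
theorem exists_invariant_three (hD : IsThreeTranspositionGroup D) (hcc : CommSame D)
    (hna : ¬ ∀ a ∈ D, ∀ b ∈ D, Commute a b) {d : G} (hd : d ∈ D) :
    ∃ x : G, x ∉ pCore 2 G ∧ x ^ 3 = 1 ∧ d ∈ Subgroup.normalizer (Subgroup.zpowers x : Set G) ∧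
      (Subgroup.zpowers (QuotientGroup.mk' (pCore 2 G) x)).Normal := by
  classical
  haveI : Fact (Nat.Prime 3) := ⟨Nat.prime_three⟩
  haveI : Fact (Nat.Prime 2) := ⟨Nat.prime_two⟩
  obtain ⟨h1, h2, h3⟩ := quotient_two_data hD hcc hna
  have htop := quotient_two_width hD hcc hna hd
  obtain ⟨hS, hc, hgen⟩ := hD
  set π := QuotientGroup.mk' (pCore 2 G)
  set P := pCore 3 (G ⧸ pCore 2 G) with hP
  have hPn : P.Normal := inferInstance
  set δ := π d with hδ
  have hδ2 : δ * δ = 1 := by rw [hδ, ← map_mul, inv_sq (hS.1 d hd), map_one]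
  have hδi : δ⁻¹ = δ := inv_eq_of_mul_eq_one_right hδ2
  -- the core is nontrivial
  have hPne : P ≠ ⊥ := by
    intro hb
    rw [hb, sup_bot_eq] at htop
    push Not at hna
    obtain ⟨a, ha, b, hb', hab⟩ := hna
    apply hab
    refine h3 a ha b hb' (h2 a ha b hb' ?_)
    obtain ⟨i, hi⟩ := (htop ▸ Subgroup.mem_top (π a) : π a ∈ Subgroup.zpowers δ)
    obtain ⟨j, hj⟩ := (htop ▸ Subgroup.mem_top (π b) : π b ∈ Subgroup.zpowers δ)
    rw [← hi, ← hj]
    exact Commute.zpow_zpow (Commute.refl δ) i j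
  haveI : Nontrivial P := (Subgroup.nontrivial_iff_ne_bot P).2 hPne
  have hPp := Lib.Cores.pCore_isPGroup 3 (G ⧸ pCore 2 G)
  have := hPp.center_nontrivial
  obtain ⟨z0, hz0⟩ := exists_prime_orderOf_dvd_card' (p := 3) (G := Subgroup.center P) (by
    obtain ⟨n, hn, he⟩ := (hPp.to_subgroup (Subgroup.center P)).nontrivial_iff_card.1 this
    rw [he]; exact dvd_pow_self 3 hn.ne')
  rw [← Subgroup.orderOf_coe, ← Subgroup.orderOf_coe] at hz0
  set z : G ⧸ pCore 2 G := ((z0 : P) : G ⧸ pCore 2 G) with hz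
  have hzP : z ∈ P := (z0 : P).2
  have hz3 : z ^ 3 = 1 := by rw [← hz0, pow_orderOf_eq_one]
  have hz1 : z ≠ 1 := fun e => by rw [e, orderOf_one] at hz0; omega
  have hzc : ∀ p ∈ P, p * z = z * p := fun p hp =>
    congrArg Subtype.val (Subgroup.mem_center_iff.1 z0.2 ⟨p, hp⟩)
  have hzδP : δ * z * δ ∈ P := by have := hPn.conj_mem z hzP δ; rwa [hδi] at this
  have hzδc : ∀ p ∈ P, p * (δ * z * δ) = (δ * z * δ) * p := by
    intro p hp
    have hp' : δ * p * δ ∈ P := by have := hPn.conj_mem p hp δ; rwa [hδi] at this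
    have e := hzc _ hp'
    calc p * (δ * z * δ) = (δ * δ) * p * (δ * z * δ) := by rw [hδ2, one_mul]
      _ = δ * ((δ * p * δ) * z) * δ := by simp only [mul_assoc]
      _ = δ * (z * (δ * p * δ)) * δ := by rw [e]
      _ = (δ * z * δ) * p * (δ * δ) := by simp only [mul_assoc]
      _ = _ := by rw [hδ2, mul_one]
  obtain ⟨w, hwP, hwc, hw1, hw3, hwδ⟩ : ∃ w ∈ P, (∀ p ∈ P, p * w = w * p) ∧ w ≠ 1 ∧ w ^ 3 = 1 ∧
      (δ * w * δ = w ∨ δ * w * δ = w⁻¹) := by
    by_cases h : δ * z * δ = z
    · exact ⟨z, hzP, hzc, hz1, hz3, Or.inl h⟩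
    · refine ⟨z * (δ * z * δ)⁻¹, P.mul_mem hzP (P.inv_mem hzδP), fun p hp => ?_,
        fun e => h (mul_inv_eq_one.1 e).symm, ?_, Or.inr ?_⟩
      · exact (Commute.mul_right (hzc p hp) (Commute.inv_right (hzδc p hp))).eq
      · rw [(Commute.inv_right (hzc _ hzδP : Commute (δ * z * δ) z).symm).mul_pow, hz3, inv_pow]
        have : (δ * z * δ) ^ 3 = 1 := by
          rw [show δ * z * δ = δ * z * δ⁻¹ by rw [hδi], conj_pow, hz3, mul_one, mul_inv_cancel]
        rw [this, inv_one, one_mul]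
      · rw [mul_inv_rev z, inv_inv, mul_inv_rev, mul_inv_rev, hδi]
        simp only [mul_assoc]
        rw [hδ2, mul_one]
  have hnormal : ∀ x, π x ∈ Subgroup.zpowers w → π x ≠ 1 → (Subgroup.zpowers (π x)).Normal := by
    intro x hx hx1
    have hxw : Subgroup.zpowers (π x) = Subgroup.zpowers w := by
      refine Subgroup.eq_of_le_of_card_ge (Subgroup.zpowers_le.2 hx) (le_of_eq ?_)
      have hw : orderOf w = 3 := orderOf_eq_prime hw3 hw1
      have h3' : orderOf (π x) = 3 := by
        obtain ⟨k, hk⟩ := hx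
        refine orderOf_eq_prime ?_ hx1
        rw [← hk, ← zpow_natCast, ← zpow_mul, mul_comm, zpow_mul, zpow_natCast, hw3, one_zpow]
      rw [Nat.card_zpowers, Nat.card_zpowers, hw, h3']
    rw [hxw, ← Subgroup.normalizer_eq_top_iff, eq_top_iff, ← htop]
    refine sup_le (Subgroup.zpowers_le.2 ?_) fun p hp => ?_
    · refine mem_normalizer_of_conj_mem ?_
      rintro _ ⟨k, rfl⟩
      show δ * w ^ k * δ⁻¹ ∈ _
      rw [← conj_zpow, hδi]
      rcases hwδ with e | e <;> rw [e]
      · exact Subgroup.zpow_mem _ (Subgroup.mem_zpowers _) k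
      · exact Subgroup.zpow_mem _ (Subgroup.inv_mem _ (Subgroup.mem_zpowers _)) k
    · refine mem_normalizer_of_conj_mem ?_
      rintro _ ⟨k, rfl⟩
      show p * w ^ k * p⁻¹ ∈ _
      rw [(Commute.zpow_right (hwc p hp) k).eq, mul_inv_cancel_right]
      exact Subgroup.zpow_mem _ (Subgroup.mem_zpowers _) k
  have hnot : ∀ x, π x ≠ 1 → x ∉ pCore 2 G := fun x hx h => hx ((QuotientGroup.eq_one_iff x).2 h)
  have hfin : ∀ x, x ^ 3 = 1 → π x ∈ Subgroup.zpowers w → π x ≠ 1 →
      (d * x * d⁻¹ ∈ Subgroup.zpowers x) → ∃ x : G, x ∉ pCore 2 G ∧ x ^ 3 = 1 ∧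
      d ∈ Subgroup.normalizer (Subgroup.zpowers x : Set G) ∧ (Subgroup.zpowers (π x)).Normal :=
    fun x hx3 hxw hx1 hxd => ⟨x, hnot x hx1, hx3,
      Subgroup.zpowers_le.1 (zpowers_le_normalizer_of_conj hxd), hnormal x hxw hx1⟩
  rcases hwδ with hcen | hinv
  · obtain ⟨g, hg⟩ := QuotientGroup.mk'_surjective (pCore 2 G) w
    have hgd : π (g * d * g⁻¹) = δ := by
      rw [map_mul, map_mul, map_inv, hg, ← hδ]
      have : w * δ = δ * w := by
        calc w * δ = (δ * w * δ) * δ := by rw [hcen]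
          _ = δ * w := by rw [mul_assoc, hδ2, mul_one]
      rw [this, mul_inv_cancel_right]
    have hcd : Commute d (g * d * g⁻¹) := h3 d hd _ (hc g d hd) hgd.symm
    obtain ⟨k, hk, hke⟩ := exists_conj_pCore_two ⟨hS, hc, hgen⟩ hd (hc g d hd)
      (hcc d hd _ (hc g d hd) hcd) ⟨g, rfl⟩
    have hh : π (k⁻¹ * g) = w := by
      rw [map_mul, map_inv, hg, show π k = 1 from (QuotientGroup.eq_one_iff k).2 hk, inv_one, one_mul]
    have hhd : Commute d (k⁻¹ * g) := by
      show d * (k⁻¹ * g) = k⁻¹ * g * d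
      calc d * (k⁻¹ * g) = k⁻¹ * (k * d * k⁻¹) * g := by group
        _ = _ := by rw [← hke]; group
    obtain ⟨j, hj⟩ := Lib.Cores.pCore_isPGroup 2 G ⟨(k⁻¹ * g) ^ 3, (QuotientGroup.eq_one_iff _).1
      (show π ((k⁻¹ * g) ^ 3) = 1 by rw [map_pow, hh, hw3])⟩
    have hj' : ((k⁻¹ * g) ^ 3) ^ 2 ^ j = 1 := congrArg Subtype.val hj
    refine hfin ((k⁻¹ * g) ^ 2 ^ j) (by rw [← pow_mul, mul_comm, pow_mul, hj']) ?_ ?_ ?_
    · rw [map_pow, hh]; exact Subgroup.pow_mem _ (Subgroup.mem_zpowers _) _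
    · rw [map_pow, hh]
      intro e
      have := orderOf_dvd_of_pow_eq_one e
      rw [orderOf_eq_prime hw3 hw1] at this
      exact absurd (Nat.prime_three.dvd_of_dvd_pow this) (by norm_num)
    · rw [(hhd.pow_right _).eq, mul_inv_cancel_right]; exact Subgroup.mem_zpowers _
  · obtain ⟨g, hg⟩ := QuotientGroup.mk'_surjective (pCore 2 G) (w ^ 2)
    have hdw : δ * w = w⁻¹ * δ := by
      calc δ * w = (δ * w * δ) * δ := by rw [mul_assoc _ δ δ, hδ2, mul_one]
        _ = w⁻¹ * δ := by rw [hinv]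
    have ha : π (g⁻¹ * d * g⁻¹⁻¹) = δ * w := by
      rw [inv_inv, map_mul, map_mul, map_inv, hg, ← hδ,
        show (w ^ 2)⁻¹ = w from inv_eq_of_mul_eq_one_left (by rw [← pow_succ']; exact hw3),
        pow_two, mul_assoc, ← mul_assoc δ, hdw, ← mul_assoc, ← mul_assoc, mul_inv_cancel, one_mul]
      exact hdw
    have hncd : ¬ Commute d (g⁻¹ * d * g⁻¹⁻¹) := by
      intro hcd
      apply hw1
      have := h2 d hd _ (hc _ d hd) (hcd.map π)
      rw [ha] at this
      exact mul_eq_left.1 this.symm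
    refine hfin (d * (g⁻¹ * d * g⁻¹⁻¹)) (tt_comm_or_braid hS hd (hc _ d hd) hncd).2 ?_ ?_ ?_
    · rw [map_mul, ha, ← hδ, ← mul_assoc, hδ2, one_mul]; exact Subgroup.mem_zpowers _
    · rw [map_mul, ha, ← hδ, ← mul_assoc, hδ2, one_mul]; exact hw1
    · generalize haD : g⁻¹ * d * g⁻¹⁻¹ = a
      have haD' : a ∈ D := haD ▸ hc _ d hd
      rw [show d * (d * a) * d⁻¹ = (d * a)⁻¹ by
        rw [← mul_assoc, inv_sq (hS.1 d hd), one_mul, mul_inv_rev, inv_inv_self (hS.1 a haD')]]
      exact Subgroup.inv_mem _ (Subgroup.mem_zpowers _)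

omit [Finite G] in
/-- Some Sylow 3-subgroup is normalized by a given member. -/
theorem exists_invariant_sylow [Finite G] (hD : IsThreeTranspositionGroup D) (hcc : CommSame D) {d : G}
    (hd : d ∈ D) : ∃ P : Sylow 3 G, d ∈ Subgroup.normalizer ((P : Subgroup G) : Set G) := by
  classical
  haveI : Fact (Nat.Prime 3) := ⟨Nat.prime_three⟩
  haveI : Fact (Nat.Prime 2) := ⟨Nat.prime_two⟩
  induction hn : Nat.card G using Nat.strong_induction_on generalizing G with
  | _ n ih =>
  subst hn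
  by_cases hna : ∀ a ∈ D, ∀ b ∈ D, Commute a b
  · obtain ⟨P⟩ := (inferInstance : Nonempty (Sylow 3 G))
    refine ⟨P, mem_normalizer_of_conj_mem fun r hr => ?_⟩
    rw [commute_all_of_gen hD.2.2 hna d r, mul_inv_cancel_right]; exact hr
  by_cases hO : pCore 3 G = ⊥
  swap
  · set N := pCore 3 G with hNdef
    have hN : ∀ a ∈ D, a ∉ N := by
      intro a ha h
      have := eq_of_mul_mem_pGroup (Lib.Cores.pCore_isPGroup 3 G) (by norm_num : Nat.Coprime 3 2)
        (a := a) (b := 1) (hD.1.1 a ha) (by rw [one_mul]; exact h)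
        (by rw [one_mul, ← hD.1.1 a ha, pow_orderOf_eq_one])
      exact inv_ne_one (hD.1.1 a ha) this.symm
    have hlt : Nat.card (G ⧸ N) < Nat.card G := by
      rw [← N.card_mul_index, ← N.index_eq_card]
      exact lt_mul_of_one_lt_left (Nat.pos_of_ne_zero Subgroup.index_ne_zero_of_finite)
        (by rwa [Subgroup.one_lt_card_iff_ne_bot])
    obtain ⟨P, hP⟩ := ih _ hlt (threeTranspositionGroup_quotient hD N hN)
      (commSame_quotient hD.1 hcc N) ⟨d, hd, rfl⟩ rfl
    set M := (P : Subgroup (G ⧸ N)).comap (QuotientGroup.mk' N) with hM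
    have hMp : IsPGroup 3 M := P.2.comap_of_ker_isPGroup _ (by
      rw [QuotientGroup.ker_mk']; exact Lib.Cores.pCore_isPGroup 3 G)
    have hidx : ¬ 3 ∣ M.index := by
      rw [hM, Subgroup.index_comap_of_surjective _ (QuotientGroup.mk'_surjective N)]
      exact P.not_dvd_index
    refine ⟨hMp.toSylow hidx, ?_⟩
    show d ∈ Subgroup.normalizer (M : Set G)
    rw [Subgroup.mem_normalizer_iff]
    intro r
    simp only [hM, Subgroup.mem_comap, map_mul, map_inv]
    exact Subgroup.mem_normalizer_iff.1 hP _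
  · obtain ⟨x, hxK, hx3, hdx, hxn⟩ := exists_invariant_three hD hcc hna hd
    have hwid := quotient_two_data hD hcc hna
    obtain ⟨hS, hc, hgen⟩ := hD
    set K := pCore 2 G with hK
    set π := QuotientGroup.mk' K
    set Z := Subgroup.zpowers x
    set X := Subgroup.normalizer (Z : Set G) with hX
    have hxo : orderOf x = 3 := orderOf_eq_prime hx3 (fun e => hxK (e ▸ K.one_mem))
    have hZp : IsPGroup 3 Z := isPGroup_zpowers_of_pow hx3
    have hπX : X.map π = ⊤ := by
      set M := (Subgroup.zpowers (π x)).comap π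
      haveI : M.Normal := hxn.comap π
      have hZM : Z ≤ M := Subgroup.zpowers_le.2 (Subgroup.mem_zpowers (π x))
      have hMi : ¬ 3 ∣ (Z.subgroupOf M).index := by
        have hcard : Nat.card M = Nat.card (Subgroup.zpowers (π x)) * Nat.card K := by
          have e1 := M.card_mul_index
          rw [Subgroup.index_comap_of_surjective _ (QuotientGroup.mk'_surjective K),
            ← K.card_mul_index, K.index_eq_card, ← (Subgroup.zpowers (π x)).card_mul_index,
            ← mul_assoc] at e1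
          rw [Nat.eq_of_mul_eq_mul_right (Nat.pos_of_ne_zero Subgroup.index_ne_zero_of_finite) e1,
            mul_comm]
        have e := (Z.subgroupOf M).card_mul_index
        rw [Nat.card_congr (Subgroup.subgroupOfEquivOfLe hZM).toEquiv, hcard, Nat.card_zpowers,
          Nat.card_zpowers, hxo, orderOf_eq_prime (x := π x) (by rw [← map_pow, hx3, map_one])
          (fun e => hxK ((QuotientGroup.eq_one_iff x).1 e))] at e
        rw [Nat.eq_of_mul_eq_mul_left (by norm_num : 0 < 3) e]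
        obtain ⟨m, hm⟩ := IsPGroup.iff_card.1 (Lib.Cores.pCore_isPGroup 2 G)
        rw [hK, hm]
        intro h
        exact absurd (Nat.prime_three.dvd_of_dvd_pow h) (by norm_num)
      let S : Sylow 3 M := (hZp.comap_subtype (K := M)).toSylow hMi
      have hF : X ⊔ M = ⊤ := by
        have := Sylow.normalizer_sup_eq_top S
        rwa [show ((S : Subgroup M).map M.subtype) = Z from
          Subgroup.map_subgroupOf_eq_of_le hZM] at this
      rw [eq_top_iff, ← Subgroup.map_top_of_surjective π (QuotientGroup.mk'_surjective K), ← hF,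
        Subgroup.map_sup]
      refine sup_le le_rfl ?_
      rw [Subgroup.map_comap_eq_self_of_surjective (QuotientGroup.mk'_surjective K),
        Subgroup.zpowers_le]
      exact ⟨x, Subgroup.le_normalizer (Subgroup.mem_zpowers x), rfl⟩
    set S' : Set G := {e | e ∈ D ∧ e ∈ X}
    set H := Subgroup.closure S' with hH
    have hHX : H ≤ X := (Subgroup.closure_le _).2 fun e he => he.2
    have hdH : d ∈ H := Subgroup.subset_closure ⟨hd, hdx⟩
    have hπH : H.map π = ⊤ := by
      rw [eq_top_iff, ← Subgroup.map_top_of_surjective π (QuotientGroup.mk'_surjective K), ← hgen,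
        MonoidHom.map_closure, Subgroup.closure_le]
      rintro _ ⟨e, he, rfl⟩
      by_cases hde : Commute (π d) (π e)
      · exact ⟨d, hdH, hwid.2.1 d hd e he hde⟩
      · obtain ⟨y, hy, hye⟩ := (hπX ▸ Subgroup.mem_top (π (d * e)) : π (d * e) ∈ X.map π)
        refine ⟨y * d * y⁻¹, Subgroup.subset_closure ⟨hc y d hd,
          X.mul_mem (X.mul_mem hy hdx) (X.inv_mem hy)⟩, ?_⟩
        rw [map_mul, map_mul, map_inv, hye, ← map_inv, ← map_mul, ← map_mul,
          ← conj_of_not_commute hS hd he (fun h => hde (h.map π))]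
    have hXtop : X ≠ ⊤ := by
      intro h
      have hn : Z.Normal := Subgroup.normalizer_eq_top_iff.1 h
      have := Lib.Cores.le_pCore hn hZp (Subgroup.mem_zpowers x)
      rw [hO, Subgroup.mem_bot] at this
      exact hxK (this ▸ K.one_mem)
    have hlt : Nat.card H < Nat.card G := by
      refine lt_of_le_of_ne H.card_le_card_group fun h => hXtop (eq_top_iff.2 ?_)
      rw [← Subgroup.eq_top_of_card_eq H h]; exact hHX
    have hset : {h : H | (h : G) ∈ S'} = {h : H | (h : G) ∈ D} :=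
      Set.ext fun h => ⟨fun hh => hh.1, fun hh => ⟨hh, hHX h.2⟩⟩
    have hDH : IsThreeTranspositionGroup {h : H | (h : G) ∈ D} := by
      refine ⟨⟨fun h hh => ?_, fun p hp q hq => ?_⟩, fun g h hh => hc g _ hh, ?_⟩
      · rw [← Subgroup.orderOf_coe]; exact hS.1 _ hh
      · rcases hS.2 _ hp _ hq with e | e
        · exact Or.inl (Subtype.ext e)
        · exact Or.inr (Subtype.ext e)
      · rw [← hset]; exact Subgroup.closure_closure_coe_preimage
    have hccH : CommSame {h : H | (h : G) ∈ D} := by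
      intro a ha b hb hab e he
      have h' := hcc a ha b hb (hab.map H.subtype) e he
      exact ⟨fun h1 => Subtype.ext (h'.1 (h1.map H.subtype)).eq,
        fun h1 => Subtype.ext (h'.2 (h1.map H.subtype)).eq⟩
    obtain ⟨P, hP⟩ := ih _ hlt hDH hccH (d := ⟨d, hdH⟩) hd rfl
    have hidx : ¬ 3 ∣ ((P : Subgroup H).map H.subtype).index := by
      rw [Subgroup.index_map_subtype, Nat.prime_three.dvd_mul, not_or]
      refine ⟨P.not_dvd_index, fun h => ?_⟩
      have hsup : H ⊔ K = ⊤ := by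
        have := congrArg (Subgroup.comap π) hπH
        rwa [Subgroup.comap_map_eq, QuotientGroup.ker_mk', Subgroup.comap_top] at this
      have hc' := Lib.Cores.card_sup_mul_card_inf H K
      rw [hsup, Subgroup.card_top, ← H.card_mul_index, mul_assoc] at hc'
      have hd' : H.index ∣ Nat.card K := ⟨_, (Nat.eq_of_mul_eq_mul_left Nat.card_pos hc').symm⟩
      obtain ⟨m, hm⟩ := IsPGroup.iff_card.1 (Lib.Cores.pCore_isPGroup 2 G)
      rw [hK, hm] at hd'
      exact absurd (Nat.prime_three.dvd_of_dvd_pow (h.trans hd')) (by norm_num)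
    refine ⟨(P.2.map H.subtype).toSylow hidx, ?_⟩
    show d ∈ Subgroup.normalizer (((P : Subgroup H).map H.subtype) : Set G)
    refine mem_normalizer_of_conj_mem ?_
    rintro _ ⟨r, hr, rfl⟩
    exact ⟨_, (Subgroup.mem_normalizer_iff.1 hP r).1 hr, rfl⟩

theorem commSame_of_class (hD : IsThreeTranspositionClass D) {d : G} (hd : d ∈ D)
    (hV : {y : G | y ∈ D ∧ Commute d y} = {v : G | v ∈ D ∧ ∀ e ∈ D, Commute v e ↔ Commute d e}) :
    CommSame D := by
  obtain ⟨⟨hS, hc, -⟩, hconj⟩ := class_data hD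
  intro a ha b hb hab
  obtain ⟨g, rfl⟩ := hconj d hd a ha
  have hb' : g⁻¹ * b * g ∈ {y : G | y ∈ D ∧ Commute d y} := by
    refine ⟨by simpa using hc g⁻¹ b hb, ?_⟩
    have := (commute_conj (a := g⁻¹)).2 hab
    convert this using 1 <;> group
  rw [hV] at hb'
  have := sameComm_conj hc g hb'.2
  convert this using 1
  group

theorem class_not_commutative (hD : IsThreeTranspositionClass D) (hD2 : ∃ a ∈ D, ∃ b ∈ D, a ≠ b) :
    ¬ ∀ a ∈ D, ∀ b ∈ D, Commute a b := by
  intro h
  obtain ⟨⟨hS, hc, hgen⟩, hconj⟩ := class_data hD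
  obtain ⟨a, ha, b, hb, hab⟩ := hD2
  obtain ⟨g, hg⟩ := hconj a ha b hb
  exact hab (by rw [hg, commute_all_of_gen hgen h g a, mul_inv_cancel_right])

theorem commuting_class_structure (hD : IsThreeTranspositionClass D)
    (hD2 : ∃ a ∈ D, ∃ b ∈ D, a ≠ b) {d : G} (hd : d ∈ D)
    (hV : {y : G | y ∈ D ∧ Commute d y} = {v : G | v ∈ D ∧ ∀ e ∈ D, Commute v e ↔ Commute d e}) :
    ∃ P : Sylow 3 G, d ∈ Subgroup.normalizer (P : Set G) ∧
      Subgroup.zpowers d ⊔ (P : Subgroup G) ⊔ pCore 2 G = ⊤ := by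
  haveI : Fact (Nat.Prime 3) := ⟨Nat.prime_three⟩
  have hG := (class_data hD).1
  have hcc := commSame_of_class hD hd hV
  have hna := class_not_commutative hD hD2
  obtain ⟨P, hP⟩ := exists_invariant_sylow hG hcc hd
  refine ⟨P, hP, ?_⟩
  set π := QuotientGroup.mk' (pCore 2 G)
  have hsurj : Function.Surjective π := QuotientGroup.mk'_surjective _
  have h1 : (Subgroup.zpowers d ⊔ (P : Subgroup G)).map π = ⊤ := by
    rw [eq_top_iff, ← quotient_two_width hG hcc hna hd, Subgroup.map_sup, MonoidHom.map_zpowers]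
    exact sup_le_sup le_rfl (Lib.Cores.pCore_le_sylow (P.mapSurjective hsurj))
  have h2 := congrArg (Subgroup.comap π) h1
  rwa [Subgroup.comap_map_eq, QuotientGroup.ker_mk', Subgroup.comap_top] at h2

end Cfsg.Agent.Lib.ThreeTransp
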