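import Cfsg.Agent.Lib.ThreeTransp.PrimitiveClasses
import Cfsg.Agent.Lib.ThreeTransp.CommutingClasses

/-!
Primitive classes of 3-transpositions.
-/

set_option autoImplicit false

namespace Cfsg.Agent.Lib.ThreeTransp

open Cfsg
open scoped commutatorElement

variable {G : Type*} [Group G] [Finite G] {D : Set G}

/-- Commuting members. -/
def CommStep (D : Set G) (p q : G) : Prop := p ∈ D ∧ q ∈ D ∧ Commute p q

theorem connected_iff_chain :
    (Cfsg.commutingGraph D).Connected ↔
      D.Nonempty ∧ ∀ a ∈ D, ∀ b ∈ D, Relation.ReflTransGen (CommStep D) a b := by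
  constructor
  · intro h
    refine ⟨⟨_, h.nonempty.some.2⟩, fun a ha b hb => ?_⟩
    have h' := (SimpleGraph.reachable_iff_reflTransGen _ _).1 (h.preconnected ⟨a, ha⟩ ⟨b, hb⟩)
    exact Relation.ReflTransGen.lift Subtype.val (fun p q hpq => by
      simp only [commutingGraph, SimpleGraph.fromRel_adj] at hpq
      exact ⟨p.2, q.2, hpq.2.elim id (fun h => h.symm)⟩) _ _ h'
  · rintro ⟨⟨d, hd⟩, h⟩
    haveI : Nonempty D := ⟨⟨d, hd⟩⟩
    refine ⟨fun a b => ?_⟩
    obtain ⟨a, ha⟩ := a
    obtain ⟨b, hb⟩ := b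
    have h' := h a ha b hb
    revert hb
    induction h' with
    | refl => intro _; exact SimpleGraph.Reachable.refl _
    | @tail p q hap hpq ih =>
      intro hq
      refine (ih hpq.1).trans ?_
      by_cases hne : p = q
      · subst hne; exact SimpleGraph.Reachable.refl _
      · refine SimpleGraph.Adj.reachable ?_
        simp only [commutingGraph, SimpleGraph.fromRel_adj]
        exact ⟨fun e => hne (congrArg Subtype.val e), Or.inl hpq.2.2⟩

theorem invariant_rel_of_primitive (hprim : IsPrimitiveUnderConj D)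
    (hc : ∀ g : G, ∀ d ∈ D, g * d * g⁻¹ ∈ D) (r : G → G → Prop) (hrefl : ∀ a ∈ D, r a a)
    (hsymm : ∀ a b, r a b → r b a) (htrans : ∀ a b c, r a b → r b c → r a c)
    (hinv : ∀ g a b, a ∈ D → b ∈ D → r a b → r (g * a * g⁻¹) (g * b * g⁻¹)) :
    (∀ a ∈ D, ∀ b ∈ D, r a b → a = b) ∨ ∀ a ∈ D, ∀ b ∈ D, r a b := by
  obtain ⟨htr, -, hblocks⟩ := hprim
  by_contra hne
  push Not at hne
  obtain ⟨⟨a, ha, b, hb, hab, hne'⟩, ⟨p, hp, q, hq, hpq⟩⟩ := hne
  have hB := hblocks {y | y ∈ D ∧ r a y} (fun y hy => hy.1) fun g => by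
    by_cases h : Disjoint ((fun x => g * x * g⁻¹) '' {y | y ∈ D ∧ r a y}) {y | y ∈ D ∧ r a y}
    · exact Or.inr h
    left
    obtain ⟨_, ⟨u, hu, rfl⟩, hu'⟩ := Set.not_disjoint_iff.1 h
    have hga : r a (g * a * g⁻¹) := htrans _ _ _ hu'.2 (hinv g u a hu.1 ha (hsymm _ _ hu.2))
    ext y
    constructor
    · rintro ⟨v, hv, rfl⟩
      exact ⟨hc g v hv.1, htrans _ _ _ hga (hinv g a v ha hv.1 hv.2)⟩
    · rintro ⟨hy, hay⟩
      refine ⟨g⁻¹ * y * g, ⟨by simpa using hc g⁻¹ y hy, ?_⟩, by group⟩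
      have := hinv g⁻¹ (g * a * g⁻¹) y (hc g a ha) hy (htrans _ _ _ (hsymm _ _ hga) hay)
      convert this using 1 <;> group
  rcases hB with h | h
  · exact hne' (h ⟨ha, hrefl a ha⟩ ⟨hb, hab⟩)
  · have h1 : p ∈ {y | y ∈ D ∧ r a y} := h.symm ▸ hp
    have h2 : q ∈ {y | y ∈ D ∧ r a y} := h.symm ▸ hq
    exact hpq (htrans _ _ _ (hsymm _ _ h1.2) h2.2)

theorem isClass_of_primitive (hD : IsThreeTranspositionGroup D) (hprim : IsPrimitiveUnderConj D) :
    IsThreeTranspositionClass D := by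
  obtain ⟨htr, ⟨a, ha, -⟩, -⟩ := hprim
  refine ⟨hD.1, ⟨a, ha, Set.ext fun y => ⟨fun hy => ?_, fun hy => ?_⟩⟩, hD.2.2⟩
  · exact isConj_iff.2 (htr a ha y hy)
  · obtain ⟨g, rfl⟩ := isConj_iff.1 (hy : IsConj a y)
    exact hD.2.1 g a ha

theorem cores_central_of_primitive (hD : IsThreeTranspositionGroup D) (hprim : IsPrimitiveUnderConj D)
    (hw : ∃ a ∈ D, ∃ b ∈ D, a ≠ b ∧ Commute a b) :
    pCore 2 G ≤ Subgroup.center G ∧ pCore 3 G ≤ Subgroup.center G := by
  have hcl := isClass_of_primitive hD hprim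
  obtain ⟨hS, hc, hgen⟩ := hD
  constructor
  · by_contra h
    obtain ⟨d, hd, g, hg, hne⟩ := exists_moved hgen h
    rcases invariant_rel_of_primitive hprim hc (fun a b => SameComm D b a) (fun a _ e _ => Iff.rfl)
      (fun a b h e he => (h e he).symm) (fun a b c h1 h2 e he => (h2 e he).trans (h1 e he))
      (fun g a b _ _ h => sameComm_conj hc g h) with h1 | h1
    · have h2 : g * d * g⁻¹ ∈ {v : G | v ∈ D ∧ ∀ e ∈ D, Commute v e ↔ Commute d e} := by
        rw [(class_core_two hcl hd).2]; exact ⟨g, hg, rfl⟩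
      exact hne (h1 d hd _ h2.1 h2.2).symm
    · have hall : ∀ a ∈ D, ∀ b ∈ D, Commute a b := fun a ha b hb =>
        (h1 b hb a ha b hb).2 (Commute.refl b)
      exact class_not_commutative hcl hprim.2.1 hall
  · by_contra h
    obtain ⟨d, hd, g, hg, hne⟩ := exists_moved hgen h
    rcases invariant_rel_of_primitive hprim hc (fun a b => nbr D a = nbr D b) (fun a _ => rfl)
      (fun a b h => h.symm) (fun a b c h1 h2 => h1.trans h2)
      (fun g a b _ _ h => nbr_congr_conj hc g h) with h1 | h1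
    · have h2 : g * d * g⁻¹ ∈ {w : G | w ∈ D ∧ nbr D d = nbr D w} := by
        rw [(class_core_three hcl hd).2]; exact ⟨g, hg, rfl⟩
      exact hne (h1 d hd _ h2.1 h2.2).symm
    · obtain ⟨a, ha, b, hb, hab, hab'⟩ := hw
      exact hab (eq_or_not_commute ha ha hb (Or.inl rfl) rfl (h1 b hb a ha) hab')

theorem connected_of_primitive (hD : IsThreeTranspositionGroup D) (hprim : IsPrimitiveUnderConj D)
    (hw : ∃ a ∈ D, ∃ b ∈ D, a ≠ b ∧ Commute a b) : (Cfsg.commutingGraph D).Connected := by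
  obtain ⟨hS, hc, hgen⟩ := hD
  rw [connected_iff_chain]
  obtain ⟨a, ha, b, hb, hab, hab'⟩ := hw
  refine ⟨⟨a, ha⟩, ?_⟩
  rcases invariant_rel_of_primitive hprim hc (Relation.ReflTransGen (CommStep D))
    (fun a _ => Relation.ReflTransGen.refl)
    (fun a b h => by
      induction h with
      | refl => exact Relation.ReflTransGen.refl
      | tail _ hst ih => exact Relation.ReflTransGen.head ⟨hst.2.1, hst.1, hst.2.2.symm⟩ ih)
    (fun a b c h1 h2 => h1.trans h2)
    (fun g a b _ _ h => Relation.ReflTransGen.lift (fun x => g * x * g⁻¹)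
      (fun p q hpq => ⟨hc g p hpq.1, hc g q hpq.2.1, commute_conj.2 hpq.2.2⟩) _ _ h) with h | h
  · exact absurd (h a ha b hb (Relation.ReflTransGen.single ⟨ha, hb, hab'⟩)) hab
  · exact h

theorem index_le_two_of_connected (hD : IsThreeTranspositionClass D) (hD2 : ∃ a ∈ D, ∃ b ∈ D, a ≠ b)
    (h2 : pCore 2 G ≤ Subgroup.center G) (h3 : pCore 3 G ≤ Subgroup.center G)
    (hconn : (Cfsg.commutingGraph D).Connected) : (layer G).index ≤ 2 := by
  obtain ⟨⟨hS, hc, hgen⟩, hconj⟩ := class_data hD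
  obtain ⟨⟨d, hd⟩, hchain⟩ := connected_iff_chain.1 hconn
  refine index_two_of_congr hgen hS hd fun e he => ?_
  have h := hchain d hd e he
  clear he
  induction h with
  | refl => rw [inv_sq (hS.1 d hd)]; exact Subgroup.one_mem _
  | @tail p q _ hpq ih =>
    have hm : p * q ∈ layer G := mul_mem_layer_of_commutator hD hD2 h2 h3 hpq.1 hpq.2.1 (by
      rw [hpq.2.2.eq, mul_inv_cancel_right, mul_inv_cancel]; exact Subgroup.one_mem _)
    have := Subgroup.mul_mem _ ih hm
    rwa [mul_assoc, ← mul_assoc p p q, inv_sq (hS.1 p hpq.1), one_mul] at this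

theorem primitive_and_index (hD : IsThreeTranspositionClass D) (hD2 : ∃ a ∈ D, ∃ b ∈ D, a ≠ b)
    (h2 : pCore 2 G ≤ Subgroup.center G) (h3 : pCore 3 G ≤ Subgroup.center G) (L : Subgroup G)
    [L.Normal] (hL : IsQuasisimple L) :
    (L.index ≤ 2 → IsPrimitiveUnderConj D) ∧ ((Cfsg.commutingGraph D).Connected → L.index ≤ 2) := by
  have hLc : IsComponent L := ⟨Subgroup.Normal.isSubnormal inferInstance, hL⟩
  rw [component_eq_layer hD hLc]
  exact ⟨primitive_of_index hD hD2 h2 h3, index_le_two_of_connected hD hD2 h2 h3⟩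

/-- The component of `x` in the non-commuting graph on the neighbours of `y`. -/
def ncComp (D : Set G) (y x : G) : Set G :=
  {u | Relation.ReflTransGen (fun p q => p ∈ nbr D y ∧ q ∈ nbr D y ∧ ¬ Commute p q) x u}

/-- The largest such components. -/
def maxComps (D : Set G) (y : G) : Set (Set G) :=
  {K | ∃ x ∈ nbr D y, K = ncComp D y x ∧ ∀ x' ∈ nbr D y, (ncComp D y x').ncard ≤ K.ncard}

omit [Finite G] in
theorem ncComp_conj (hc : ∀ g : G, ∀ d ∈ D, g * d * g⁻¹ ∈ D) (g y x : G) :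
    ncComp D (g * y * g⁻¹) (g * x * g⁻¹) = (fun v => g * v * g⁻¹) '' ncComp D y x := by
  have key : ∀ g y x u, u ∈ ncComp D y x → g * u * g⁻¹ ∈ ncComp D (g * y * g⁻¹) (g * x * g⁻¹) := by
    intro g y x u h
    refine Relation.ReflTransGen.lift (fun v => g * v * g⁻¹) (fun p q hpq => ?_) _ _ h
    refine ⟨(nbr_conj hc g y _).2 ?_, (nbr_conj hc g y _).2 ?_, fun h' => hpq.2.2 (commute_conj.1 h')⟩
    · convert hpq.1 using 1; group
    · convert hpq.2.1 using 1; group
  refine Set.Subset.antisymm (fun u hu => ⟨g⁻¹ * u * g, ?_, by group⟩) ?_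
  · have := key g⁻¹ _ _ _ hu
    convert this using 1 <;> group
  · rintro _ ⟨u, hu, rfl⟩
    exact key g y x u hu

theorem maxComps_conj (hc : ∀ g : G, ∀ d ∈ D, g * d * g⁻¹ ∈ D) (g y : G) :
    maxComps D (g * y * g⁻¹) = (Set.image fun v => g * v * g⁻¹) '' maxComps D y := by
  have hcard : ∀ g (s : Set G), ((fun v => g * v * g⁻¹) '' s).ncard = s.ncard := fun g s =>
    Set.ncard_image_of_injective s (MulAut.conj g).injective
  have key : ∀ g y K, K ∈ maxComps D y → (fun v => g * v * g⁻¹) '' K ∈ maxComps D (g * y * g⁻¹) := by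
    rintro g y K ⟨x, hx, rfl, hmax⟩
    refine ⟨g * x * g⁻¹, (nbr_conj hc g y _).2 (by convert hx using 1; group), (ncComp_conj hc g y x).symm,
      fun x' hx' => ?_⟩
    have h' := hmax _ ((nbr_conj hc g y x').1 hx')
    rw [show x' = g * (g⁻¹ * x' * g) * g⁻¹ by group, ncComp_conj hc, hcard, hcard]
    exact h'
  refine Set.Subset.antisymm (fun K hK => ⟨(fun v => g⁻¹ * v * g⁻¹⁻¹) '' K, ?_, ?_⟩) ?_
  · have := key g⁻¹ _ K hK
    convert this using 1; group
  · rw [Set.image_image]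
    convert Set.image_id K using 1
    congr 1; funext v; simp; group
  · rintro _ ⟨K, hK, rfl⟩
    exact key g y K hK

theorem maximal_D_subgroup (hD : IsThreeTranspositionGroup D) (hprim : IsPrimitiveUnderConj D)
    (hw : ∃ a ∈ D, ∃ b ∈ D, a ≠ b ∧ Commute a b) {d : G} (hd : d ∈ D) :
    Subgroup.closure {y : G | y ∈ D ∧ Commute d y} ≠ ⊤ ∧ ∀ H : Subgroup G, IsDSubgroup D H →
      Subgroup.closure {y : G | y ∈ D ∧ Commute d y} ≤ H →
      H = Subgroup.closure {y : G | y ∈ D ∧ Commute d y} ∨ H = ⊤ := by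
  have hconn := (connected_iff_chain.1 (connected_of_primitive hD hprim hw)).2
  obtain ⟨hS, hc, hgen⟩ := hD
  obtain ⟨htr, hD2, hblocks⟩ := hprim
  set M := Subgroup.closure {y : G | y ∈ D ∧ Commute d y}
  constructor
  · intro hM
    have hcen : d ∈ Subgroup.center G := by
      rw [Subgroup.mem_center_iff]
      intro z
      have : M ≤ Subgroup.centralizer ({d} : Set G) :=
        (Subgroup.closure_le _).2 fun y hy => Subgroup.mem_centralizer_singleton_iff.2 hy.2.eq.symm
      exact Subgroup.mem_centralizer_singleton_iff.1 (this (hM ▸ Subgroup.mem_top z))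
    obtain ⟨a, ha, b, hb, hab⟩ := hD2
    obtain ⟨u, rfl⟩ := htr d hd a ha
    obtain ⟨v, rfl⟩ := htr d hd b hb
    exact hab (by rw [Subgroup.mem_center_iff.1 hcen u, Subgroup.mem_center_iff.1 hcen v,
      mul_inv_cancel_right, mul_inv_cancel_right])
  intro H hH hMH
  by_cases hHM : H ≤ M
  · exact Or.inl (le_antisymm hHM hMH)
  right
  set E : Set G := {y | y ∈ D ∧ y ∈ H}
  have hdE : d ∈ E := ⟨hd, hMH (Subgroup.subset_closure ⟨hd, Commute.refl d⟩)⟩
  obtain ⟨e, heE, hde⟩ : ∃ e ∈ E, ¬ Commute d e := by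
    by_contra h
    push Not at h
    apply hHM
    rw [← (hH : Subgroup.closure {y : G | y ∈ D ∧ y ∈ H} = H), Subgroup.closure_le]
    exact fun y hy => Subgroup.subset_closure ⟨hy.1, h y hy⟩
  by_contra hHtop
  -- the non-commuting component of `d` inside `H`
  set C : Set G := {y | Relation.ReflTransGen (fun p q => p ∈ E ∧ q ∈ E ∧ ¬ Commute p q) d y}
  have hCE : C ⊆ E := by
    intro y hy
    rcases Relation.ReflTransGen.cases_tail hy with rfl | ⟨_, -, h⟩
    exacts [hdE, h.2.1]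
  have hCstep : ∀ {p q}, p ∈ C → q ∈ E → ¬ Commute p q → q ∈ C := fun {p q} hp hq h =>
    Relation.ReflTransGen.tail hp ⟨hCE hp, hq, h⟩
  have hDc : ∀ c ∈ C, ∀ y ∈ D, Commute c y → y ∈ H := by
    intro c hc'
    induction hc' with
    | refl => exact fun y hy hcy => hMH (Subgroup.subset_closure ⟨hy, hcy⟩)
    | @tail p q _ hpq ih =>
      intro y hy hqy
      obtain ⟨hp, hq, hnc⟩ := hpq
      have hconjq := conj_of_not_commute hS hp.1 hq.1 hnc
      set u := p * q
      have hu : u ∈ H := H.mul_mem hp.2 hq.2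
      have h1 : Commute p (u⁻¹ * y * u) := by
        refine (commute_conj (a := u)).1 ?_
        rw [← hconjq, show u * (u⁻¹ * y * u) * u⁻¹ = y by group]
        exact hqy
      have h2 := H.mul_mem (H.mul_mem hu (ih _ (by simpa using hc u⁻¹ y hy) h1)) (H.inv_mem hu)
      convert h2 using 1; group
  have hAC : ∀ x ∈ E, x ∉ C → ∀ c ∈ C, Commute c x := fun x hx hxC c hc' => by
    by_contra h; exact hxC (hCstep hc' hx h)
  -- an edge leaving `E`
  obtain ⟨x, hxE, z, hzD, hzE, hxz⟩ : ∃ x ∈ E, ∃ z ∈ D, z ∉ E ∧ Commute x z := by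
    by_contra h
    push Not at h
    apply hHtop
    rw [eq_top_iff, ← hgen, Subgroup.closure_le]
    intro y hy
    have hchain := hconn d hd y hy
    clear hy
    induction hchain with
    | refl => exact hdE.2
    | @tail p q _ hpq ih =>
      by_contra hq
      exact h p ⟨hpq.1, ih⟩ q hpq.2.1 (fun hq' => hq hq'.2) hpq.2.2
  have hxC : x ∉ C := fun h => hzE ⟨hzD, hDc x h z hzD hxz⟩
  have hznc : ∀ c ∈ C, ¬ Commute z c := fun c hc' h => hzE ⟨hzD, hDc c hc' z hzD h.symm⟩
  have hnx : ∀ c ∈ C, c ∈ nbr D x := fun c hc' =>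
    ⟨(hCE hc').1, fun e => hxC (e ▸ hc'), (hAC x hxE hxC c hc').symm⟩
  have hzx : z ∈ nbr D x := ⟨hzD, fun e => hzE (e ▸ hxE), hxz⟩
  have hzC : z ∉ C := fun h => hzE (hCE h)
  -- that gives a component larger than `C`
  obtain ⟨g, hg⟩ := htr x hxE.1 d hd
  have hbig : C.ncard < (ncComp D d (g * z * g⁻¹)).ncard := by
    rw [← hg, ncComp_conj hc]
    refine lt_of_lt_of_eq ?_ (Set.ncard_image_of_injective (ncComp D x z) (MulAut.conj g).injective).symm
    refine Set.ncard_lt_ncard ⟨fun c hc' => Relation.ReflTransGen.single ⟨hzx, hnx c hc', hznc c hc'⟩,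
      fun h => hzC (h Relation.ReflTransGen.refl)⟩ (Set.toFinite _)
  have hgz : g * z * g⁻¹ ∈ nbr D d := by
    rw [← hg]; exact (nbr_conj hc g x _).2 (by convert hzx using 1; group)
  -- components of neighbours in `C` stay in `C`, the others are shared
  have hinC : ∀ c ∈ C, ∀ y ∈ C, ncComp D c y ⊆ C := by
    intro c hc' y hy u hu
    induction hu with
    | refl => exact hy
    | @tail p q _ hpq ih =>
      exact hCstep ih ⟨hpq.2.1.1, hDc c hc' q hpq.2.1.1 hpq.2.1.2.2⟩ hpq.2.2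
  have hshare : ∀ c ∈ C, ∀ c' ∈ C, ∀ y ∈ nbr D c, y ∉ C →
      y ∈ nbr D c' ∧ ncComp D c y ⊆ ncComp D c' y := by
    intro c hc1 c' hc2 y hy hyC
    have hmem : ∀ p ∈ nbr D c, p ∉ C → p ∈ nbr D c' := fun p hp hpC =>
      ⟨hp.1, fun e => hpC (e ▸ hc2), hAC p ⟨hp.1, hDc c hc1 p hp.1 hp.2.2⟩ hpC c' hc2⟩
    refine ⟨hmem y hy hyC, fun u hu => ?_⟩
    suffices u ∉ C ∧ u ∈ ncComp D c' y from this.2
    induction hu with
    | refl => exact ⟨hyC, Relation.ReflTransGen.refl⟩
    | @tail p q _ hpq ih =>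
      have hqC : q ∉ C := fun h => hpq.2.2
        (hAC p ⟨hpq.1.1, hDc c hc1 p hpq.1.1 hpq.1.2.2⟩ ih.1 q h).symm
      exact ⟨hqC, ih.2.tail ⟨hmem p hpq.1 ih.1, hmem q hpq.2.1 hqC, hpq.2.2⟩⟩
  have hbigc : ∀ c ∈ C, ∃ y ∈ nbr D c, C.ncard < (ncComp D c y).ncard := by
    intro c hc'
    obtain ⟨h, hh⟩ := htr d hd c (hCE hc').1
    refine ⟨h * (g * z * g⁻¹) * h⁻¹, ?_, ?_⟩
    · rw [← hh]; exact (nbr_conj hc h d _).2 (by convert hgz using 1; group)
    · rw [← hh, ncComp_conj hc]
      exact lt_of_lt_of_eq hbig (Set.ncard_image_of_injective _ (MulAut.conj h).injective).symm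
  have hsame : ∀ c ∈ C, ∀ c' ∈ C, maxComps D c ⊆ maxComps D c' := by
    rintro c hc1 c' hc2 K ⟨y, hy, rfl, hmax⟩
    have hyC : y ∉ C := by
      intro h
      obtain ⟨y', hy', hlt⟩ := hbigc c hc1
      have h1 := hmax y' hy'
      have h2 := Set.ncard_le_ncard (hinC c hc1 y h) (Set.toFinite _)
      omega
    obtain ⟨hy2, hsub⟩ := hshare c hc1 c' hc2 y hy hyC
    have heq := Set.Subset.antisymm hsub (hshare c' hc2 c hc1 y hy2 hyC).2
    refine ⟨y, hy2, heq, fun y' hy' => ?_⟩
    by_cases hy'C : y' ∈ C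
    · obtain ⟨y'', hy'', hlt⟩ := hbigc c hc1
      have h1 := hmax y'' hy''
      have h2 := Set.ncard_le_ncard (hinC c' hc2 y' hy'C) (Set.toFinite _)
      omega
    · obtain ⟨hy3, hsub'⟩ := hshare c' hc2 c hc1 y' hy' hy'C
      exact (Set.ncard_le_ncard hsub' (Set.toFinite _)).trans (hmax y' hy3)
  have heC : e ∈ C := hCstep Relation.ReflTransGen.refl heE hde
  rcases invariant_rel_of_primitive ⟨htr, hD2, hblocks⟩ hc (fun a b => maxComps D a = maxComps D b)
    (fun a _ => rfl) (fun a b h => h.symm) (fun a b c h1 h2 => h1.trans h2)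
    (fun u a b _ _ h => by rw [maxComps_conj hc, maxComps_conj hc, h]) with h | h
  · exact hde (h d hd e heE.1 (Set.Subset.antisymm
      (hsame d Relation.ReflTransGen.refl e heC) (hsame e heC d Relation.ReflTransGen.refl)) ▸
      Commute.refl d)
  · obtain ⟨y, hy, hmax⟩ := Set.exists_max_image (nbr D d) (fun y => (ncComp D d y).ncard)
      (Set.toFinite _) ⟨_, hgz⟩
    have hK : ncComp D d y ∈ maxComps D y := h d hd y hy.1 ▸ ⟨y, hy, rfl, hmax⟩
    obtain ⟨y', hy', hKe, -⟩ := hK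
    have hyK : y ∈ ncComp D y y' := hKe ▸ Relation.ReflTransGen.refl
    rcases Relation.ReflTransGen.cases_tail hyK with e1 | ⟨_, -, e1⟩
    · exact hy'.2.1 e1.symm
    · exact e1.2.1.2.1 rfl

theorem primitive_structure (hD : IsThreeTranspositionGroup D) (hprim : IsPrimitiveUnderConj D)
    (hw : ∃ a ∈ D, ∃ b ∈ D, a ≠ b ∧ Commute a b) :
    (∃ L : Subgroup G, L.Normal ∧ IsQuasisimple L ∧ L.index ≤ 2 ∧
      generalizedFittingSubgroup G = L ⊔ Subgroup.center G) ∧
    (Cfsg.commutingGraph D).Connected ∧ ∀ d ∈ D,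
      Subgroup.closure {y : G | y ∈ D ∧ Commute d y} ≠ ⊤ ∧ ∀ H : Subgroup G, IsDSubgroup D H →
        Subgroup.closure {y : G | y ∈ D ∧ Commute d y} ≤ H →
        H = Subgroup.closure {y : G | y ∈ D ∧ Commute d y} ∨ H = ⊤ := by
  have hcl := isClass_of_primitive hD hprim
  obtain ⟨h2, h3⟩ := cores_central_of_primitive hD hprim hw
  have hconn := connected_of_primitive hD hprim hw
  exact ⟨⟨layer G, inferInstance, (layer_component hcl hprim.2.1 h2 h3).2,
    index_le_two_of_connected hcl hprim.2.1 h2 h3 hconn, genFitting_eq hcl h2 h3⟩, hconn,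
    fun d hd => maximal_D_subgroup hD hprim hw hd⟩

theorem simple_derived_iff_primitive (hD : IsThreeTranspositionClass D) (hZ : Subgroup.center G = ⊥)
    (hw : ∃ a ∈ D, ∃ b ∈ D, a ≠ b ∧ Commute a b) :
    (IsSimpleGroup (commutator G) ↔ IsPrimitiveUnderConj D) ∧
      (IsPrimitiveUnderConj D ↔
        (pCore 2 G = ⊥ ∧ pCore 3 G = ⊥ ∧ (Cfsg.commutingGraph D).Connected)) := by
  obtain ⟨hG, hconj⟩ := class_data hD
  have hD2 : ∃ a ∈ D, ∃ b ∈ D, a ≠ b :=
    hw.imp fun a h => ⟨h.1, h.2.imp fun b h => ⟨h.1, h.2.1⟩⟩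
  have hbot : ∀ {H : Subgroup G}, H ≤ Subgroup.center G → H = ⊥ := fun h => eq_bot_iff.2 (hZ ▸ h)
  have hprim : pCore 2 G = ⊥ → pCore 3 G = ⊥ → (layer G).index ≤ 2 → IsPrimitiveUnderConj D :=
    fun e2 e3 hi => primitive_of_index hD hD2 (e2 ▸ bot_le) (e3 ▸ bot_le) hi
  refine ⟨⟨fun hsimp => ?_, fun hp => ?_⟩, fun hp => ?_, fun h => ?_⟩
  · set N := commutator G
    haveI := hsimp
    have hab : ∀ a ∈ D, ∀ b ∈ D, a * b ∈ N := by
      intro a ha b hb
      obtain ⟨g, rfl⟩ := hconj a ha b hb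
      have := Subgroup.commutator_mem_commutator (Subgroup.mem_top a) (Subgroup.mem_top g)
      rw [commutatorElement_def, inv_inv_self (hG.1.1 a ha)] at this
      rw [show N = ⁅(⊤ : Subgroup G), ⊤⁆ from commutator_def G]
      convert this using 1; simp only [mul_assoc]
    have hNab : ¬ IsMulCommutative N := by
      intro hcomm
      obtain ⟨a, ha, b, hb, hab', habc⟩ := hw
      set t : N := ⟨a * b, hab a ha b hb⟩
      have ht : orderOf t = 2 := by
        rw [← Subgroup.orderOf_coe]; exact orderOf_mul_eq_two (hG.1.1 a ha) (hG.1.1 b hb) hab' habc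
      haveI := hcomm
      have htop : Subgroup.zpowers t = ⊤ := by
        refine ((Subgroup.Normal.eq_bot_or_eq_top (H := Subgroup.zpowers t) inferInstance).resolve_left ?_)
        rw [Subgroup.zpowers_eq_bot]
        intro e; rw [e, orderOf_one] at ht; omega
      have hcard : Nat.card N = 2 := by
        rw [← Subgroup.card_top, ← htop, Nat.card_zpowers, ht]
      obtain ⟨v, hv, huniq⟩ := (Nat.card_eq_two_iff' (1 : N)).1 hcard
      have hvc : (v : G) ∈ Subgroup.center G := Subgroup.mem_center_iff.2 fun g => by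
        have hn : g * v * g⁻¹ ∈ N := (inferInstance : N.Normal).conj_mem _ v.2 g
        have := huniq ⟨_, hn⟩ (fun e => hv (Subtype.ext (conj_eq_one_iff.1 (congrArg Subtype.val e))))
        exact mul_inv_eq_iff_eq_mul.1 (congrArg Subtype.val this)
      rw [hZ, Subgroup.mem_bot] at hvc
      exact hv (Subtype.ext hvc)
    have hcore : ∀ p : ℕ, p.Prime → pCore p G = ⊥ := by
      intro p hp
      haveI := Fact.mk hp
      refine hbot fun u hu => Subgroup.mem_center_iff.2 fun g => ?_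
      have hh : ((pCore p G).subgroupOf N) = ⊥ := by
        refine ((inferInstance : ((pCore p G).subgroupOf N).Normal).eq_bot_or_eq_top).resolve_right ?_
        intro htop
        have hNp : IsPGroup p N := (Lib.Cores.pCore_isPGroup p G).to_le (Subgroup.subgroupOf_eq_top.1 htop)
        haveI := hNp.isNilpotent
        exact hNab ⟨⟨IsSimpleGroup.comm_iff_isSolvable.2 inferInstance⟩⟩
      have h1 : ⁅g, u⁆ ∈ N := Subgroup.commutator_mem_commutator (Subgroup.mem_top g) (Subgroup.mem_top u)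
      have h2 : ⁅g, u⁆ ∈ pCore p G := by
        rw [commutatorElement_def]
        exact Subgroup.mul_mem _ ((inferInstance : (pCore p G).Normal).conj_mem u hu g)
          (Subgroup.inv_mem _ hu)
      have h3 : (⟨⁅g, u⁆, h1⟩ : N) ∈ (pCore p G).subgroupOf N := h2
      rw [hh, Subgroup.mem_bot] at h3
      exact commutatorElement_eq_one_iff_mul_comm.1 (congrArg Subtype.val h3)
    have hNc : IsComponent N := ⟨Subgroup.Normal.isSubnormal inferInstance,
      Lib.Components.isQuasisimple_of_simple hNab⟩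
    refine hprim (hcore 2 Nat.prime_two) (hcore 3 Nat.prime_three) ?_
    rw [← component_eq_layer hD hNc]
    obtain ⟨a, ha, -⟩ := hw
    exact index_two_of_congr hG.2.2 hG.1 ha fun e he => hab a ha e he
  · obtain ⟨h2, h3⟩ := cores_central_of_primitive hG hp hw
    have hconn := connected_of_primitive hG hp hw
    have hi := index_le_two_of_connected hD hD2 h2 h3 hconn
    have hK := layer_component hD hD2 h2 h3
    have hN : commutator G = layer G := by
      refine le_antisymm ?_ ?_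
      · refine Subgroup.Normal.quotient_commutative_iff_commutator_le.1 ?_
        have hq : Nat.card (G ⧸ layer G) ≤ 2 := by rw [← Subgroup.index_eq_card]; exact hi
        refine ⟨⟨fun a b => ?_⟩⟩
        have h0 := Nat.card_pos (α := G ⧸ layer G)
        by_cases h1 : a = 1
        · rw [h1, one_mul, mul_one]
        by_cases h2' : b = 1
        · rw [h2', one_mul, mul_one]
        have heq : Nat.card (G ⧸ layer G) = 2 := by
          by_contra hne
          have : Subsingleton (G ⧸ layer G) := (Nat.card_eq_one_iff_unique.1 (by omega)).1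
          exact h1 (Subsingleton.elim _ _)
        rw [((Nat.card_eq_two_iff' (1 : G ⧸ layer G)).1 heq).unique h1 h2']
      · conv_lhs => rw [← Lib.Components.layer_commutator_self G]
        rw [commutator_def]
        exact Subgroup.commutator_mono le_top le_top
    rw [hN]
    have hzb : Subgroup.center (layer G) = ⊥ := by
      rw [eq_bot_iff]
      intro x hx
      have hn : ((Subgroup.center (layer G)).map (layer G).subtype) ≤ fittingSubgroup G := by
        refine le_sSup ⟨inferInstance, ?_⟩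
        exact Lib.Components.isNilpotent_of_isMulCommutative
          (Subgroup.map_isMulCommutative _ _)
      have := (fitting_le_center hD h2 h3) (hn ⟨x, hx, rfl⟩)
      rw [hZ, Subgroup.mem_bot] at this
      exact Subgroup.mem_bot.2 (Subtype.ext this)
    haveI := hK.2.2
    let q := (QuotientGroup.quotientMulEquivOfEq hzb).trans QuotientGroup.quotientBot
    haveI : Nontrivial ↥(layer G) := q.symm.toEquiv.nontrivial
    exact IsSimpleGroup.isSimpleGroup_of_surjective q.toMonoidHom q.surjective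
  · obtain ⟨h2, h3⟩ := cores_central_of_primitive hG hp hw
    exact ⟨hbot h2, hbot h3, connected_of_primitive hG hp hw⟩
  · obtain ⟨e2, e3, hconn⟩ := h
    exact hprim e2 e3 (index_le_two_of_connected hD hD2 (e2 ▸ bot_le) (e3 ▸ bot_le) hconn)

end Cfsg.Agent.Lib.ThreeTransp
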