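import Cfsg.Agent.Lib.ThreeTransp.ReflectionsThree
import Cfsg.Agent.Lib.ThreeTransp.PrimitiveMain
import Cfsg.Agent.Lib.Geometry.OrthQuotient
import Cfsg.Agent.Lib.Geometry.OrthBridge
import Cfsg.Agent.Lib.Geometry.GroupAux

/-!
Structure of the groups generated by reflections of one norm over the field with three elements.
-/

set_option autoImplicit false

namespace Cfsg.Agent.Lib.ThreeTransp

open Matrix Cfsg.Agent.Lib.Geometry
open QuadraticMap (polarBilin)

variable {n : ℕ} (Q : QuadraticForm (ZMod 3) (Fin n → ZMod 3))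

theorem perp_part {u v : Fin n → ZMod 3} (hu : Q u ≠ 0) :
    polarBilin Q u (v - ((2 * Q u)⁻¹ * polarBilin Q u v) • u) = 0 := by
  have h2 : (2 : ZMod 3) * Q u ≠ 0 := mul_ne_zero (by decide) hu
  rw [map_sub, map_smul, smul_eq_mul, quad_polar_self, mul_right_comm, inv_mul_cancel₀ h2, one_mul,
    sub_self]

theorem aniso_pair (hQ : (polarBilin Q).Nondegenerate) {u z : Fin n → ZMod 3} (hu : Q u ≠ 0)
    (hzu : polarBilin Q u z = 0) (hz : z ≠ 0) :
    ∃ f, polarBilin Q u f = 0 ∧ Q f ≠ 0 ∧ polarBilin Q z f ≠ 0 := by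
  by_cases hQz : Q z = 0
  swap
  · exact ⟨z, hzu, hQz, by rw [quad_polar_self]; exact mul_ne_zero (by decide) hQz⟩
  obtain ⟨x, hx⟩ : ∃ x, polarBilin Q z x ≠ 0 := by
    by_contra h
    push Not at h
    exact hz (hQ.1 z h)
  set x' := x - ((2 * Q u)⁻¹ * polarBilin Q u x) • u with hx'
  have h1 : polarBilin Q u x' = 0 := perp_part Q hu
  have h2 : polarBilin Q z x' = polarBilin Q z x := by
    rw [hx', map_sub, map_smul, polar_comm' Q z u, hzu, smul_zero, sub_zero]
  by_cases h : Q x' = 0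
  · refine ⟨x' + z, by rw [map_add, h1, hzu, add_zero], ?_, ?_⟩
    · rw [quad_add, h, hQz, zero_add, zero_add, polar_comm' Q, h2]; exact hx
    · rw [map_add, h2, quad_polar_self, hQz, mul_zero, add_zero]; exact hx
  · exact ⟨x', h1, h, h2 ▸ hx⟩

theorem separate (hn : 5 ≤ n) (hQ : (polarBilin Q).Nondegenerate) {u v : Fin n → ZMod 3} {c : ZMod 3}
    (hc : c ≠ 0) (hu : Q u = c) (hv : Q v = c) (h1 : v ≠ u) (h2 : v ≠ -u) :
    ∃ w, Q w = c ∧ polarBilin Q u w = 0 ∧ polarBilin Q v w ≠ 0 := by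
  have hu0 : Q u ≠ 0 := hu ▸ hc
  obtain ⟨t, ht⟩ : ∃ t, t = (2 * Q u)⁻¹ * polarBilin Q u v := ⟨_, rfl⟩
  set v' := v - t • u with hv'
  have hperp : polarBilin Q u v' = 0 := by rw [hv', ht]; exact perp_part Q hu0
  have hv'0 : v' ≠ 0 := by
    intro e
    rw [hv', sub_eq_zero] at e
    have hq : t * t * c = c := by rw [← hu, ← quad_smul, ← e, hv, hu]
    rcases zmod3_cases t with rfl | rfl | rfl
    · exact hc (by rw [← hq]; ring)
    · exact h1 (by rw [e, one_smul])
    · exact h2 (by rw [e, neg_one_smul])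
  have hpair : ∀ w, polarBilin Q u w = 0 → polarBilin Q v w = polarBilin Q v' w := fun w hw => by
    rw [hv', map_sub, map_smul, LinearMap.sub_apply, LinearMap.smul_apply, hw, smul_zero, sub_zero]
  obtain ⟨f, hfu, hf0, hfv⟩ := aniso_pair Q hQ hu0 hperp hv'0
  have hcases : Q f = c ∨ Q f = -c :=
    (show ∀ c a : ZMod 3, c ≠ 0 → a ≠ 0 → a = c ∨ a = -c by decide +kernel) c _ hc hf0
  rcases hcases with hf | hf
  · exact ⟨f, hf, hfu, by rw [hpair f hfu]; exact hfv⟩
  obtain ⟨x, hx, hQx⟩ := exists_norm Q hQ ![u, f]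
    (fun i => by fin_cases i <;> simp [hu, hf, hc])
    (fun i j hij => by
      fin_cases i <;> fin_cases j <;> simp_all [polar_comm' Q f u]) (by omega) hc
  have hxu : polarBilin Q u x = 0 := by simpa using hx 0
  have hxf : polarBilin Q f x = 0 := by simpa using hx 1
  obtain ⟨y, hy, hQy⟩ := exists_norm Q hQ ![u, f, x]
    (fun i => by fin_cases i <;> simp [hu, hf, hQx, hc])
    (fun i j hij => by
      fin_cases i <;> fin_cases j <;>
        simp_all [polar_comm' Q f u, polar_comm' Q x u, polar_comm' Q x f]) (by omega) hc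
  have hyu : polarBilin Q u y = 0 := by simpa using hy 0
  have hyf : polarBilin Q f y = 0 := by simpa using hy 1
  have hyx : polarBilin Q x y = 0 := by simpa using hy 2
  by_cases hvx : polarBilin Q v x = 0
  swap
  · exact ⟨x, hQx, hxu, hvx⟩
  by_cases hvy : polarBilin Q v y = 0
  swap
  · exact ⟨y, hQy, hyu, hvy⟩
  refine ⟨f + x + y, ?_, ?_, ?_⟩
  · rw [quad_add, quad_add, map_add, LinearMap.add_apply, hf, hQx, hQy, hxf, hyf, hyx]
    abel
  · rw [map_add, map_add, hfu, hxu, hyu, add_zero, add_zero]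
  · rw [map_add, map_add, hvx, hvy, add_zero, add_zero, hpair f hfu]; exact hfv

theorem exists_common (hn : 5 ≤ n) (hQ : (polarBilin Q).Nondegenerate) {u : Fin n → ZMod 3}
    (v : Fin n → ZMod 3) {c : ZMod 3} (hc : c ≠ 0) (hu : Q u = c) :
    ∃ w, Q w = c ∧ polarBilin Q u w = 0 ∧ polarBilin Q v w = 0 := by
  have hu0 : Q u ≠ 0 := hu ▸ hc
  obtain ⟨t, ht⟩ : ∃ t, t = (2 * Q u)⁻¹ * polarBilin Q u v := ⟨_, rfl⟩
  set z := v - t • u with hz
  have hzu : polarBilin Q u z = 0 := by rw [hz, ht]; exact perp_part Q hu0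
  have hv : v = t • u + z := by rw [hz]; abel
  have fin : ∀ w, polarBilin Q u w = 0 → polarBilin Q z w = 0 → polarBilin Q v w = 0 := fun w h h' => by
    rw [hv, map_add, map_smul, LinearMap.add_apply, LinearMap.smul_apply, h, h', smul_zero, add_zero]
  by_cases hz0 : z = 0
  · obtain ⟨w, hw, hQw⟩ := exists_norm Q hQ ![u] (fun i => by fin_cases i; exact hu0)
      (fun i j hij => absurd (Subsingleton.elim i j) hij) (by omega) hc
    have h := hw 0
    simp only [Matrix.cons_val_zero] at h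
    exact ⟨w, hQw, h, fin w h (by rw [hz0]; simp)⟩
  by_cases hQz : Q z = 0
  swap
  · obtain ⟨w, hw, hQw⟩ := exists_norm Q hQ ![u, z]
      (fun i => by fin_cases i <;> simp [hu, hQz, hc])
      (fun i j hij => by fin_cases i <;> fin_cases j <;> first | exact absurd rfl hij | simpa using hzu | simpa [polar_comm' Q z u] using hzu) (by omega) hc
    have h : polarBilin Q u w = 0 := by simpa using hw 0
    exact ⟨w, hQw, h, fin w h (by simpa using hw 1)⟩
  obtain ⟨f, hfu, hf0, hfz⟩ := aniso_pair Q hQ hu0 hzu hz0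
  obtain ⟨s, hs⟩ : ∃ s, s = (2 * Q f)⁻¹ * polarBilin Q f z := ⟨_, rfl⟩
  set y := z - s • f with hy
  have hfy : polarBilin Q f y = 0 := by rw [hy, hs]; exact perp_part Q hf0
  have hyu : polarBilin Q u y = 0 := by rw [hy, map_sub, map_smul, hzu, hfu, smul_zero, sub_zero]
  have hQy : Q y ≠ 0 := by
    intro h
    have e : z = s • f + y := by rw [hy]; abel
    have hb : polarBilin Q f z = s * (2 * Q f) := by
      rw [e, map_add, map_smul, hfy, quad_polar_self, smul_eq_mul, add_zero]
    rw [e, quad_add, quad_smul, h, map_smul, LinearMap.smul_apply, hfy, smul_zero, add_zero,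
      add_zero] at hQz
    rcases mul_eq_zero.1 hQz with h' | h'
    · exact hfz (by rw [polar_comm' Q, hb, mul_self_eq_zero.1 h', zero_mul])
    · exact hf0 h'
  obtain ⟨w, hw, hQw⟩ := exists_norm Q hQ ![u, f, y]
    (fun i => by fin_cases i <;> simp [hu, hf0, hQy, hc])
    (fun i j hij => by
      fin_cases i <;> fin_cases j <;> first
        | exact absurd rfl hij
        | simpa using hfu
        | simpa using hyu
        | simpa using hfy
        | simpa [polar_comm' Q f u] using hfu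
        | simpa [polar_comm' Q y u] using hyu
        | simpa [polar_comm' Q y f] using hfy) (by omega) hc
  have h : polarBilin Q u w = 0 := by simpa using hw 0
  have hf' : polarBilin Q f w = 0 := by simpa using hw 1
  have hy' : polarBilin Q y w = 0 := by simpa using hw 2
  refine ⟨w, hQw, h, fin w h ?_⟩
  rw [show z = s • f + y by rw [hy]; abel, map_add, map_smul, LinearMap.add_apply,
    LinearMap.smul_apply, hf', hy', smul_zero, add_zero]

theorem separate' (hn : 5 ≤ n) (hQ : (polarBilin Q).Nondegenerate) {u v : Fin n → ZMod 3} {c : ZMod 3}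
    (hc : c ≠ 0) (hu : Q u = c) (hv : Q v = c) (h1 : v ≠ u) (h2 : v ≠ -u) :
    ∃ w, Q w = c ∧ polarBilin Q u w = 0 ∧ polarBilin Q v w ≠ 0 ∧ w ≠ v ∧ w ≠ -v := by
  by_cases huv : polarBilin Q u v = 0
  · obtain ⟨x, hx, hQx⟩ := exists_norm Q hQ ![u, v]
      (fun i => by fin_cases i <;> simp [hu, hv, hc])
      (fun i j hij => by
        fin_cases i <;> fin_cases j <;> first
          | exact absurd rfl hij
          | simpa using huv
          | simpa [polar_comm' Q v u] using huv) (by omega) hc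
    have hxu : polarBilin Q u x = 0 := by simpa using hx 0
    have hxv : polarBilin Q v x = 0 := by simpa using hx 1
    obtain ⟨y, hy, hQy⟩ := exists_norm Q hQ ![u, v, x]
      (fun i => by fin_cases i <;> simp [hu, hv, hQx, hc])
      (fun i j hij => by
        fin_cases i <;> fin_cases j <;> first
          | exact absurd rfl hij
          | simpa using huv
          | simpa using hxu
          | simpa using hxv
          | simpa [polar_comm' Q v u] using huv
          | simpa [polar_comm' Q x u] using hxu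
          | simpa [polar_comm' Q x v] using hxv) (by omega) (neg_ne_zero.2 hc)
    have hyu : polarBilin Q u y = 0 := by simpa using hy 0
    have hyv : polarBilin Q v y = 0 := by simpa using hy 1
    have hyx : polarBilin Q x y = 0 := by simpa using hy 2
    have hxx : polarBilin Q x (v + x + y) = 2 * c := by
      rw [map_add, map_add, quad_polar_self, hQx, polar_comm' Q x v, hxv, hyx, zero_add, add_zero]
    have h2c : (2 : ZMod 3) * c ≠ 0 := mul_ne_zero (by decide) hc
    refine ⟨v + x + y, ?_, ?_, ?_, fun e => ?_, fun e => ?_⟩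
    · rw [quad_add, quad_add, map_add, LinearMap.add_apply, hv, hQx, hQy, hxv, hyv, hyx]
      abel
    · rw [map_add, map_add, huv, hxu, hyu, add_zero, add_zero]
    · rw [map_add, map_add, quad_polar_self, hv, hxv, hyv, add_zero, add_zero]
      exact h2c
    · rw [e, polar_comm' Q x v, hxv] at hxx; exact h2c hxx.symm
    · rw [e, map_neg, polar_comm' Q x v, hxv, neg_zero] at hxx; exact h2c hxx.symm
  · obtain ⟨w, hw, huw, hvw⟩ := separate Q hn hQ hc hu hv h1 h2
    refine ⟨w, hw, huw, hvw, fun e => huv (e ▸ huw), fun e => huv ?_⟩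
    rw [e, map_neg, neg_eq_zero] at huw
    exact huw

theorem zmod3_facts : (-1 : ZMod 3) ≠ 0 ∧ (-1 : ZMod 3) ≠ 1 ∧ (2 : ZMod 3) ≠ 0 ∧
    (∀ c a : ZMod 3, c ≠ 0 → a ≠ 0 → a = c ∨ a = -c) ∧ ¬ IsSquare (-1 : ZMod 3) :=
  ⟨by decide, by decide, by decide, by decide +kernel, by unfold IsSquare; decide +kernel⟩

theorem neg_center_reflection (u : Fin n → ZMod 3) :
    Cfsg.reflectionMatrix (⇑Q) (-u) = Cfsg.reflectionMatrix (⇑Q) u := by
  refine Matrix.toLin'.injective (LinearMap.ext fun x => ?_)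
  simp [Matrix.toLin'_apply, reflectionMatrix_mulVec]

theorem eq_or_eq_neg_of_reflection_eq {v w : Fin n → ZMod 3} (hv : Q v ≠ 0) (hw : Q w ≠ 0)
    (h : Cfsg.reflectionMatrix (⇑Q) v = Cfsg.reflectionMatrix (⇑Q) w) : w = v ∨ w = -v := by
  have e := congrArg (fun M => M *ᵥ v) h
  simp only [reflectionMatrix_mulVec, quad_polar_self, polar_comm' Q v w] at e
  generalize polarBilin Q w v = t at e
  generalize hq : Q v = q at e
  generalize hr : Q w = r at e
  rw [hq] at hv
  rw [hr] at hw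
  rcases zmod3_cases q with rfl | rfl | rfl
  · exact absurd rfl hv
  all_goals
    rcases zmod3_cases r with rfl | rfl | rfl
    · exact absurd rfl hw
    all_goals
      rcases zmod3_cases t with rfl | rfl | rfl
      all_goals
        first
          | (left; funext i; have := congrFun e i
             simp only [Pi.sub_apply, Pi.smul_apply, smul_eq_mul] at this
             generalize v i = x at this ⊢; generalize w i = y at this ⊢
             revert this; revert x y; decide +kernel)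
          | (right; funext i; have := congrFun e i
             simp only [Pi.sub_apply, Pi.smul_apply, Pi.neg_apply, smul_eq_mul] at this ⊢
             generalize v i = x at this ⊢; generalize w i = y at this ⊢
             revert this; revert x y; decide +kernel)
          | (exfalso
             have hz : v = 0 := funext fun i => by
               have := congrFun e i
               simp only [Pi.sub_apply, Pi.smul_apply, smul_eq_mul] at this
               rw [Pi.zero_apply]
               generalize v i = x at this ⊢; generalize w i = y at this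
               revert this; revert x y; decide +kernel
             rw [hz, QuadraticMap.map_zero] at hq
             exact hv hq.symm)

theorem ne_of_iso_ne {a b : Cfsg.isometryGroup (ZMod 3) (⇑Q)} (hab : a ≠ b) {u v : Fin n → ZMod 3}
    (hma : ((a : GL (Fin n) (ZMod 3)) : Matrix (Fin n) (Fin n) (ZMod 3)) = Cfsg.reflectionMatrix (⇑Q) u)
    (hmb : ((b : GL (Fin n) (ZMod 3)) : Matrix (Fin n) (Fin n) (ZMod 3)) = Cfsg.reflectionMatrix (⇑Q) v) :
    v ≠ u ∧ v ≠ -u := by
  refine ⟨fun e => hab ?_, fun e => hab ?_⟩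
  · exact Subtype.ext (Units.ext (by rw [hma, hmb, e]))
  · exact Subtype.ext (Units.ext (by rw [hma, hmb, e, neg_center_reflection]))

theorem iso_commute_iff {c : ZMod 3} (hc : c ≠ 0) {a b : Cfsg.isometryGroup (ZMod 3) (⇑Q)}
    {u v : Fin n → ZMod 3} (hu : Q u = c) (hv : Q v = c)
    (hma : ((a : GL (Fin n) (ZMod 3)) : Matrix (Fin n) (Fin n) (ZMod 3)) = Cfsg.reflectionMatrix (⇑Q) u)
    (hmb : ((b : GL (Fin n) (ZMod 3)) : Matrix (Fin n) (Fin n) (ZMod 3)) = Cfsg.reflectionMatrix (⇑Q) v)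
    (hab : a ≠ b) : Commute a b ↔ polarBilin Q u v = 0 := by
  obtain ⟨h1, h2⟩ := ne_of_iso_ne Q hab hma hmb
  rw [← reflection_commute_iff Q (hu ▸ hc) (hu.trans hv.symm) h1 h2]
  constructor
  · intro h
    have h' := congrArg (fun g : Cfsg.isometryGroup (ZMod 3) (⇑Q) =>
      ((g : GL (Fin n) (ZMod 3)) : Matrix (Fin n) (Fin n) (ZMod 3))) h.eq
    simp only [Subgroup.coe_mul, Units.val_mul, hma, hmb] at h'
    exact h'
  · intro h
    apply Subtype.ext; apply Units.ext
    simp only [Subgroup.coe_mul, Units.val_mul, hma, hmb]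
    exact h.eq

theorem coe_reflectionIso' (w : Fin n → ZMod 3) (hw : Q w ≠ 0) :
    (((reflectionIso Q w hw : Cfsg.isometryGroup (ZMod 3) (⇑Q)) : GL (Fin n) (ZMod 3)) :
      Matrix (Fin n) (Fin n) (ZMod 3)) = Cfsg.reflectionMatrix (⇑Q) w := rfl

theorem orth_pair {u v : Fin n → ZMod 3} (hu : Q u ≠ 0) (hv : Q v = Q u)
    (h : polarBilin Q u v = 0) :
    Q (u + v) = -Q u ∧ Q (u - v) = -Q u ∧
      Cfsg.reflectionMatrix (⇑Q) u * Cfsg.reflectionMatrix (⇑Q) v =
        Cfsg.reflectionMatrix (⇑Q) (u + v) * Cfsg.reflectionMatrix (⇑Q) (u - v) := by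
  have key : ∀ q : ZMod 3, q + q = -q := by decide
  have h1 : Q (u + v) = -Q u := by rw [quad_add, hv, h, add_zero, key]
  have h2 : Q (u - v) = -Q u := by rw [quad_sub, hv, h, sub_zero, key]
  refine ⟨h1, h2, Matrix.toLin'.injective (LinearMap.ext fun x => ?_)⟩
  simp only [Matrix.toLin'_apply, ← Matrix.mulVec_mulVec, reflectionMatrix_mulVec, map_sub, map_add,
    map_smul, LinearMap.add_apply, LinearMap.sub_apply, smul_eq_mul, quad_polar_self,
    polar_comm' Q v u, h, hv, h1, h2, mul_zero, sub_zero, zero_sub, add_zero]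
  generalize polarBilin Q u x = p
  generalize polarBilin Q v x = r
  funext i
  simp only [Pi.sub_apply, Pi.smul_apply, Pi.add_apply, smul_eq_mul]
  generalize Q u = q at hu ⊢
  generalize u i = a
  generalize v i = b
  generalize x i = y
  clear * - hu
  rcases zmod3_cases q with rfl | rfl | rfl
  · exact absurd rfl hu
  all_goals
    revert p r a b y
    decide +kernel

theorem reflection_structure (hn : 5 ≤ n) (hQ : (polarBilin Q).Nondegenerate) (c : ZMod 3) (hc : c ≠ 0) :
    Cfsg.IsQuasisimple (commutator ↥(Cfsg.reflectionSubgroup (⇑Q) c)) ∧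
    (commutator ↥(Cfsg.reflectionSubgroup (⇑Q) c)).index ≤ 2 ∧
    Cfsg.generalizedFittingSubgroup ↥(Cfsg.reflectionSubgroup (⇑Q) c) =
      Subgroup.center ↥(Cfsg.reflectionSubgroup (⇑Q) c) ⊔ commutator ↥(Cfsg.reflectionSubgroup (⇑Q) c) ∧
    Cfsg.IsPrimitiveUnderConj {g : ↥(Cfsg.reflectionSubgroup (⇑Q) c) |
      (g : ↥(Cfsg.isometryGroup (ZMod 3) (⇑Q))) ∈ Cfsg.reflectionsOfNorm (⇑Q) c} := by
  set S : Subgroup ↥(Cfsg.isometryGroup (ZMod 3) (⇑Q)) := Cfsg.reflectionSubgroup (⇑Q) c
  set D : Set ↥S := {g : ↥S | (g : ↥(Cfsg.isometryGroup (ZMod 3) (⇑Q))) ∈ Cfsg.reflectionsOfNorm (⇑Q) c}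
  have hD : Cfsg.IsThreeTranspositionClass D := reflection_class Q hn hQ c hc
  have hG : Cfsg.IsThreeTranspositionGroup D := (class_data hD).1
  have mk : ∀ w, Q w = c → ∃ r ∈ D,
      (((r : ↥S) : ↥(Cfsg.isometryGroup (ZMod 3) (⇑Q))) : GL (Fin n) (ZMod 3)).1 =
        Cfsg.reflectionMatrix (⇑Q) w := fun w hw =>
    ⟨⟨reflectionIso Q w (hw ▸ hc), Subgroup.subset_closure ⟨w, hw, rfl⟩⟩, ⟨w, hw, rfl⟩, rfl⟩
  have comm : ∀ {a b : ↥S} {u v}, Q u = c → Q v = c →
      (((a : ↥(Cfsg.isometryGroup (ZMod 3) (⇑Q))) : GL (Fin n) (ZMod 3)) :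
        Matrix (Fin n) (Fin n) (ZMod 3)) = Cfsg.reflectionMatrix (⇑Q) u →
      (((b : ↥(Cfsg.isometryGroup (ZMod 3) (⇑Q))) : GL (Fin n) (ZMod 3)) :
        Matrix (Fin n) (Fin n) (ZMod 3)) = Cfsg.reflectionMatrix (⇑Q) v →
      a ≠ b → (Commute a b ↔ polarBilin Q u v = 0) := fun {a b u v} hu hv hma hmb hab => by
    rw [← iso_commute_iff Q hc hu hv hma hmb (fun e => hab (Subtype.ext e))]
    exact ⟨fun h => h.map S.subtype, fun h => Subtype.ext h.eq⟩
  -- distinct members are separated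
  have hsep : ∀ a ∈ D, ∀ b ∈ D, a ≠ b → ∃ e ∈ D, e ≠ a ∧ Commute a e ∧ ¬ Commute b e := by
    rintro a ⟨u, hu, hma⟩ b ⟨v, hv, hmb⟩ hab
    obtain ⟨h1, h2⟩ := ne_of_iso_ne Q (fun e => hab (Subtype.ext e)) hma hmb
    obtain ⟨w, hw, huw, hvw, hwv, hwv'⟩ := separate' Q hn hQ hc hu hv h1 h2
    obtain ⟨e, heD, hme⟩ := mk w hw
    have hea : e ≠ a := by
      rintro rfl
      have := congrArg (fun M => M *ᵥ u) (hma.symm.trans hme)
      simp only [reflectionMatrix_mulVec, reflectionMatrix_apply_self Q (hu ▸ hc), polar_comm' Q w u, huw,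
        mul_zero, zero_smul, sub_zero] at this
      refine hc ?_
      have h0 : u = 0 := funext fun i => by
        have h3 := congrFun this i
        simp only [Pi.neg_apply] at h3
        simp only [Pi.zero_apply]
        generalize u i = x at h3 ⊢
        revert x; decide +kernel
      rw [← hu, h0, QuadraticMap.map_zero]
    refine ⟨e, heD, hea, (comm hu hw hma hme (Ne.symm hea)).2 huw, fun h => hvw ?_⟩
    have hbe : b ≠ e := by
      rintro rfl
      rcases eq_or_eq_neg_of_reflection_eq Q (hv ▸ hc) (hw ▸ hc) (hmb.symm.trans hme) with h' | h'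
      · exact hwv h'
      · exact hwv' h'
    exact (comm hv hw hmb hme hbe).1 h
  have hconn : (Cfsg.commutingGraph D).Connected := by
    rw [connected_iff_chain]
    obtain ⟨d, hd⟩ := hD.2.1.imp fun d hd => hd.1
    refine ⟨⟨d, hd⟩, fun a ha b hb => ?_⟩
    obtain ⟨u, hu, hma⟩ := id ha
    obtain ⟨v, hv, hmb⟩ := id hb
    obtain ⟨w, hw, huw, hvw⟩ := exists_common Q hn hQ v hc hu
    obtain ⟨e, heD, hme⟩ := mk w hw
    have h1 : Commute a e := by
      by_cases h : a = e
      · rw [h]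
      · exact (comm hu hw hma hme h).2 huw
    have h2 : Commute e b := by
      by_cases h : b = e
      · rw [h]
      · exact ((comm hv hw hmb hme h).2 hvw).symm
    exact (Relation.ReflTransGen.single ⟨ha, heD, h1⟩).tail ⟨heD, hb, h2⟩
  have hD2 : ∃ a ∈ D, ∃ b ∈ D, a ≠ b := by
    obtain ⟨x, -, hx⟩ := exists_norm Q hQ (k := 0) ![] (fun i => i.elim0) (fun i => i.elim0) (by omega) hc
    obtain ⟨y, hy, hQy⟩ := exists_norm Q hQ ![x] (fun i => by fin_cases i; simpa [hx] using hc)
      (fun i j hij => absurd (Subsingleton.elim i j) hij) (by omega) hc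
    have hxy : polarBilin Q x y = 0 := by simpa using hy 0
    obtain ⟨a, ha, hma⟩ := mk x hx
    obtain ⟨b, hb, hmb⟩ := mk y hQy
    refine ⟨a, ha, b, hb, ?_⟩
    rintro rfl
    have := congrArg (fun M => M *ᵥ x) (hma.symm.trans hmb)
    simp only [reflectionMatrix_mulVec, reflectionMatrix_apply_self Q (hx ▸ hc), polar_comm' Q y x, hxy,
      mul_zero, zero_smul, sub_zero] at this
    refine hc ?_
    have h0 : x = 0 := funext fun i => by
      have h3 := congrFun this i
      simp only [Pi.neg_apply] at h3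
      simp only [Pi.zero_apply]
      generalize x i = t at h3 ⊢
      revert t; decide +kernel
    rw [← hx, h0, QuadraticMap.map_zero]
  have h2 : Cfsg.pCore 2 ↥S ≤ Subgroup.center ↥S := by
    by_contra h
    obtain ⟨d, hd, g, hg, hne⟩ := exists_moved hG.2.2 h
    have h' : g * d * g⁻¹ ∈ {v | v ∈ D ∧ ∀ e ∈ D, Commute v e ↔ Commute d e} := by
      rw [(class_core_two hD hd).2]; exact ⟨g, hg, rfl⟩
    obtain ⟨e, he, -, hde, hne'⟩ := hsep d hd _ h'.1 (Ne.symm hne)
    exact hne' ((h'.2 e he).2 hde)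
  have h3 : Cfsg.pCore 3 ↥S ≤ Subgroup.center ↥S := by
    by_contra h
    obtain ⟨d, hd, g, hg, hne⟩ := exists_moved hG.2.2 h
    have h' : g * d * g⁻¹ ∈ {w | w ∈ D ∧ nbr D d = nbr D w} := by
      rw [(class_core_three hD hd).2]; exact ⟨g, hg, rfl⟩
    obtain ⟨e, he, hed, hde, hne'⟩ := hsep d hd _ h'.1 (Ne.symm hne)
    have : e ∈ nbr D d := ⟨he, hed, hde⟩
    rw [h'.2] at this
    exact hne' this.2.2
  have hi := index_le_two_of_connected hD hD2 h2 h3 hconn
  have hK := layer_component hD hD2 h2 h3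
  have hN : commutator ↥S = Cfsg.layer ↥S := by
    refine le_antisymm ?_ ?_
    · refine Subgroup.Normal.quotient_commutative_iff_commutator_le.1 ⟨⟨fun a b => ?_⟩⟩
      have hq : Nat.card (↥S ⧸ Cfsg.layer ↥S) ≤ 2 := by rw [← Subgroup.index_eq_card]; exact hi
      have h0 := Nat.card_pos (α := ↥S ⧸ Cfsg.layer ↥S)
      rcases (show Nat.card (↥S ⧸ Cfsg.layer ↥S) = 1 ∨ Nat.card (↥S ⧸ Cfsg.layer ↥S) = 2 by omega) with h | h
      · haveI := (Nat.card_eq_one_iff_unique.1 h).1
        exact Subsingleton.elim _ _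
      · haveI : Fact (Nat.Prime 2) := ⟨Nat.prime_two⟩
        haveI := isCyclic_of_prime_card h
        exact IsCyclic.isMulCommutative.is_comm.comm a b
    · conv_lhs => rw [← Lib.Components.layer_commutator_self ↥S]
      rw [_root_.commutator_def]
      exact Subgroup.commutator_mono le_top le_top
  refine ⟨hN ▸ hK.2, hN ▸ hi, ?_, primitive_of_index hD hD2 h2 h3 hi⟩
  rw [genFitting_eq hD h2 h3, hN, sup_comm]

theorem reflection_index_two (hn : 5 ≤ n) (hQ : (polarBilin Q).Nondegenerate) (c : ZMod 3) (hc : c ≠ 0) :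
    (Cfsg.reflectionSubgroup (⇑Q) c).index = 2 := by
  haveI : Fact (Nat.Prime 3) := ⟨Nat.prime_three⟩
  set R := Cfsg.reflectionSubgroup (⇑Q) c with hR
  have hcm : -c ≠ 0 := neg_ne_zero.2 hc
  haveI hRn : R.Normal := closure_normal_of_conj_mem (by
    rintro g ⟨v, hv, hm⟩ x
    obtain ⟨h1, h2⟩ := conj_reflection Q hv (g := x) hm
    exact ⟨_, h1, h2⟩)
  obtain ⟨v0, -, hv0⟩ := exists_norm Q hQ (k := 0) ![] (fun i => i.elim0) (fun i => i.elim0) (by omega) hcm
  obtain ⟨s, hsdef⟩ : ∃ s, s = reflectionIso Q v0 (hv0 ▸ hcm) := ⟨_, rfl⟩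
  have hms : ((s : GL (Fin n) (ZMod 3)) : Matrix (Fin n) (Fin n) (ZMod 3)) = Cfsg.reflectionMatrix (⇑Q) v0 := by
    rw [hsdef]; rfl
  have hss : s * s = 1 := by
    apply Subtype.ext; apply Units.ext
    simp only [Subgroup.coe_mul, Units.val_mul, hms, Subgroup.coe_one, Units.val_one]
    exact reflectionMatrix_mul_self Q (hv0 ▸ hcm)
  -- products of two reflections of the other norm
  have horth : ∀ (a b : Cfsg.isometryGroup (ZMod 3) (⇑Q)) (u v : Fin n → ZMod 3), Q u = -c → Q v = -c →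
      ((a : GL (Fin n) (ZMod 3)) : Matrix (Fin n) (Fin n) (ZMod 3)) = Cfsg.reflectionMatrix (⇑Q) u →
      ((b : GL (Fin n) (ZMod 3)) : Matrix (Fin n) (Fin n) (ZMod 3)) = Cfsg.reflectionMatrix (⇑Q) v →
      polarBilin Q u v = 0 → a * b ∈ R := by
    intro a b u v hu hv hma hmb huv
    obtain ⟨e1, e2, e3⟩ := orth_pair Q (hu ▸ hcm) (hv.trans hu.symm) huv
    rw [hu, neg_neg] at e1 e2
    have h : a * b = reflectionIso Q (u + v) (e1 ▸ hc) * reflectionIso Q (u - v) (e2 ▸ hc) := by
      apply Subtype.ext; apply Units.ext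
      simp only [Subgroup.coe_mul, Units.val_mul, hma, hmb, coe_reflectionIso']
      exact e3
    rw [h]
    exact R.mul_mem (Subgroup.subset_closure ⟨_, e1, rfl⟩) (Subgroup.subset_closure ⟨_, e2, rfl⟩)
  have hother : ∀ (a : Cfsg.isometryGroup (ZMod 3) (⇑Q)) (u : Fin n → ZMod 3), Q u = -c →
      ((a : GL (Fin n) (ZMod 3)) : Matrix (Fin n) (Fin n) (ZMod 3)) = Cfsg.reflectionMatrix (⇑Q) u →
      a * s ∈ R := by
    intro a u hu hma
    obtain ⟨w, hw, huw, hvw⟩ := exists_common Q hn hQ v0 hcm hu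
    obtain ⟨r, hr⟩ : ∃ r, r = reflectionIso Q w (hw ▸ hcm) := ⟨_, rfl⟩
    have hmr : ((r : GL (Fin n) (ZMod 3)) : Matrix (Fin n) (Fin n) (ZMod 3)) = Cfsg.reflectionMatrix (⇑Q) w := by
      rw [hr]; rfl
    have hrr : r * r = 1 := by
      apply Subtype.ext; apply Units.ext
      simp only [Subgroup.coe_mul, Units.val_mul, hmr, Subgroup.coe_one, Units.val_one]
      exact reflectionMatrix_mul_self Q (hw ▸ hcm)
    rw [show a * s = (a * r) * (r * s) by rw [mul_assoc, ← mul_assoc r, hrr, one_mul]]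
    exact R.mul_mem (horth a r u w hu hw hma hmr huw)
      (horth r s w v0 hw hv0 hmr hms (by rw [polar_comm' Q]; exact hvw))
  have hcov : ∀ b, b * s ∈ R ∨ b ∈ R := by
    intro b
    have htop := closure_reflectionMatrix_eq_top Q hQ (Or.inl ⟨-1, zmod3_facts.1, zmod3_facts.2.1⟩)
    have hb : b ∈ (⊤ : Subgroup ↥(Cfsg.isometryGroup (ZMod 3) (⇑Q))) := Subgroup.mem_top b
    rw [← htop] at hb
    have hcs : ∀ x ∈ R, s * x * s ∈ R := fun x hx => by
      have := hRn.conj_mem x hx s
      rwa [inv_eq_of_mul_eq_one_right hss] at this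
    induction hb using Subgroup.closure_induction with
    | mem g hg =>
      obtain ⟨v, hv0', hm⟩ := hg
      rcases zmod3_facts.2.2.2.1 c _ hc hv0' with h | h
      · exact Or.inr (Subgroup.subset_closure ⟨v, h, hm⟩)
      · exact Or.inl (hother g v h hm)
    | one => exact Or.inr R.one_mem
    | mul x y _ _ ihx ihy =>
      rcases ihx with hx | hx <;> rcases ihy with hy | hy
      · refine Or.inr ?_
        have := R.mul_mem hx (hcs _ hy)
        rwa [show x * s * (s * (y * s) * s) = x * (s * s) * y * (s * s) by simp only [mul_assoc],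
          hss, mul_one, mul_one] at this
      · refine Or.inl ?_
        have := R.mul_mem hx (hcs _ hy)
        rwa [show x * s * (s * y * s) = x * (s * s) * y * s by simp only [mul_assoc], hss, mul_one] at this
      · refine Or.inl ?_
        rw [mul_assoc]; exact R.mul_mem hx hy
      · exact Or.inr (R.mul_mem hx hy)
    | inv x _ ih =>
      rcases ih with hx | hx
      · refine Or.inl ?_
        have := hcs _ (R.inv_mem hx)
        rwa [_root_.mul_inv_rev, inv_eq_of_mul_eq_one_right hss, ← mul_assoc s s, hss, one_mul] at this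
      · exact Or.inr (R.inv_mem hx)
  refine Subgroup.index_eq_two_iff_exists_notMem_and.2 ⟨s, fun hs => ?_, hcov⟩
  -- a character separating the two norms
  have h2 : (2 : ZMod 3) ≠ 0 := zmod3_facts.2.2.1
  have hfr : Module.finrank (ZMod 3) (Fin n → ZMod 3) = n := Module.finrank_fin_fun _
  obtain ⟨ψ, hψc, hψm⟩ : ∃ ψ : Cfsg.isometryGroup (ZMod 3) (⇑Q) →* ℤˣ,
      (∀ (g : Cfsg.isometryGroup (ZMod 3) (⇑Q)) (v : Fin n → ZMod 3), Q v = c → ((g : GL (Fin n) (ZMod 3)) : Matrix (Fin n) (Fin n) (ZMod 3)) =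
        Cfsg.reflectionMatrix (⇑Q) v → ψ g = 1) ∧ ψ s = -1 := by
    let dh := (dickSpinHom Q hQ h2).comp (isometryEquiv Q).toMonoidHom
    have hval : ∀ (g : Cfsg.isometryGroup (ZMod 3) (⇑Q)) (v : Fin n → ZMod 3), Q v ≠ 0 → ((g : GL (Fin n) (ZMod 3)) : Matrix (Fin n) (Fin n) (ZMod 3)) =
        Cfsg.reflectionMatrix (⇑Q) v → dh g = (-1, sqClass (Q v)) := fun g v hv hm => by
      show dickSpinHom Q hQ h2 (isometryEquiv Q g) = _
      rw [(isometryEquiv_eq_refl_iff Q g v).2 hm, dickSpinHom_refl Q hQ h2 hv]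
    have hneg : sqClass (-c) = -sqClass c := by
      rw [← neg_one_mul c, sqClass_mul zmod3_facts.1 hc,
        sqClass_eq_neg_one_iff.2 zmod3_facts.2.2.2.2, neg_one_mul]
    rcases Int.units_eq_one_or (sqClass c) with h | h
    · refine ⟨(MonoidHom.snd _ _).comp dh, fun g v hv hm => ?_, ?_⟩
      · show (dh g).2 = 1
        rw [hval g v (hv ▸ hc) hm, hv, h]
      · show (dh s).2 = -1
        rw [hval s v0 (hv0 ▸ hcm) hms, hv0, hneg, h]
    · refine ⟨(MonoidHom.fst ℤˣ ℤˣ * MonoidHom.snd ℤˣ ℤˣ).comp dh, fun g v hv hm => ?_, ?_⟩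
      · show (dh g).1 * (dh g).2 = 1
        rw [hval g v (hv ▸ hc) hm, hv, h]; rfl
      · show (dh s).1 * (dh s).2 = -1
        rw [hval s v0 (hv0 ▸ hcm) hms, hv0, hneg, h]; rfl
  have hle : R ≤ ψ.ker := (Subgroup.closure_le _).2 fun g ⟨v, hv, hm⟩ => hψc g v hv hm
  have h1 := MonoidHom.mem_ker.1 (hle hs)
  rw [hψm] at h1
  exact absurd h1 (by decide)

end Cfsg.Agent.Lib.ThreeTransp
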