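import Cfsg.Agent.Lib.ThreeTransp.CommutingProducts
import Cfsg.Agent.Lib.ThreeTransp.ReflectionsThreeMore
import Cfsg.Agent.Lib.Classical.UnitarySimple
import Cfsg.Agent.Lib.Geometry.OrthBasic

/-!
Separation properties for groups of type M(22) and M(23).
-/

set_option autoImplicit false

universe u

namespace Cfsg.Agent.Lib.ThreeTransp.Products

open Cfsg Cfsg.Agent.Lib.ThreeTransp Cfsg.Agent.Lib.Geometry

section General

variable {G : Type*} [Group G] {D : Set G}

theorem mem_center_of_cen (hgen : Subgroup.closure D = ⊤) {x : G} (h : Cen D x) :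
    x ∈ Subgroup.center G := by
  rw [Subgroup.mem_center_iff]
  intro z
  have : Subgroup.closure D ≤ Subgroup.centralizer ({x} : Set G) :=
    (Subgroup.closure_le _).2 fun y hy => Subgroup.mem_centralizer_singleton_iff.2 (h y hy).symm.eq
  exact Subgroup.mem_centralizer_singleton_iff.1 (this (hgen ▸ Subgroup.mem_top z))

theorem not_cen_of_center_bot (hD : IsThreeTranspositionGroup D) (hZ : Subgroup.center G = ⊥) {x : G}
    (hx : x ∈ D) : ¬ Cen D x := fun h => by
  have := mem_center_of_cen hD.2.2 h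
  rw [hZ, Subgroup.mem_bot] at this
  have h2 := hD.1.1 x hx
  rw [this, orderOf_one] at h2
  omega

theorem conn_of_conj [Finite G] (hD : IsThreeTranspositionGroup D)
    (hconj : ∀ a ∈ D, ∀ b ∈ D, ∃ g : G, b = g * a * g⁻¹) : Conn D := by
  intro A hA hAB
  by_contra h
  push Not at h
  obtain ⟨⟨x, hx, -⟩, y, hy, hyA, -⟩ := h
  have hinv : ∀ g : G, ∀ u ∈ A, g * u * g⁻¹ ∈ A := by
    intro g
    have hg : g ∈ Subgroup.closure D := hD.2.2 ▸ Subgroup.mem_top g
    have hgen : ∀ z ∈ D, ∀ u ∈ A, z * u * z⁻¹ ∈ A := by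
      intro z hz u hu
      by_cases hzu : Commute z u
      · rw [hzu.eq, mul_inv_cancel_right]; exact hu
      by_contra hmem
      by_cases hzA : z ∈ A
      · have h1 := hAB z hzA _ (hD.2.1 z u (hA hu)) hmem
        have h2 := (commute_conj (a := z) (x := z) (y := u)).1 (by rwa [mul_inv_cancel_right])
        exact hzu h2
      · exact hzu (hAB u hu z hz hzA).symm
    induction hg using Subgroup.closure_induction_left with
    | one => intro u hu; simpa using hu
    | mul_left z hz v _ ih =>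
      intro u hu
      have := hgen z hz _ (ih u hu)
      convert this using 1; group
    | inv_mul_cancel z hz v _ ih =>
      intro u hu
      have := hgen z hz _ (ih u hu)
      rw [inv_inv_self (hD.1.1 z hz)] at this ⊢
      convert this using 1
      rw [mul_inv_rev, inv_inv_self (hD.1.1 z hz)]
      simp only [mul_assoc]
  obtain ⟨g, rfl⟩ := hconj x (hA hx) y hy
  exact hyA (hinv g x hx)

/-- The data carried from a quotient to the neighbourhood of a member. -/
structure Level (D : Set G) : Prop where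
  conj : ∀ a ∈ D, ∀ b ∈ D, ∃ g : G, b = g * a * g⁻¹
  nc : NC D
  conn : Conn D
  sep : Sep D
  sepNbr : ∀ b ∈ D, Sep (nbr D b)

theorem sub_group (hD : IsThreeTranspositionGroup D) (d : G) :
    IsThreeTranspositionGroup {x : ↥(Subgroup.closure (nbr D d)) | (x : G) ∈ nbr D d} := by
  obtain ⟨⟨h2, h3⟩, hc, -⟩ := hD
  refine ⟨⟨fun x hx => ?_, fun x hx y hy => ?_⟩, fun g x hx => ?_, Subgroup.closure_closure_coe_preimage⟩
  · rw [← Subgroup.orderOf_coe]; exact h2 _ hx.1
  · rcases h3 _ hx.1 _ hy.1 with e | e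
    · exact Or.inl (Subtype.ext (by simpa using e))
    · exact Or.inr (Subtype.ext (by simpa using e))
  · have hg : Commute (g : G) d := by
      have : Subgroup.closure (nbr D d) ≤ Subgroup.centralizer ({d} : Set G) :=
        (Subgroup.closure_le _).2 fun y hy => Subgroup.mem_centralizer_singleton_iff.2 hy.2.2.symm.eq
      exact Subgroup.mem_centralizer_singleton_iff.1 (this g.2)
    show (g : G) * x * (g : G)⁻¹ ∈ nbr D d
    have hd : (g : G) * d * (g : G)⁻¹ = d := by rw [hg.eq, mul_inv_cancel_right]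
    have h' := (nbr_conj hc (g : G) d ((g : G) * x * (g : G)⁻¹)).2 (by
      rw [show (g : G)⁻¹ * ((g : G) * x * (g : G)⁻¹) * g = x by group]; exact hx)
    exact (Set.ext_iff.1 (congrArg (nbr D) hd) _).1 h'

theorem commute_of_map {H Q : Type*} [Group H] [Group Q] (φ : H →* Q) (hker : φ.ker ≤ Subgroup.center H)
    {K : Set H} (hS : IsThreeTranspositionSet K) {x y : H} (hx : x ∈ K) (hy : y ∈ K)
    (h : Commute (φ x) (φ y)) : Commute x y := by
  by_contra hn
  have h3 := (tt_comm_or_braid hS hx hy hn).2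
  have h2' : (φ x * φ y) ^ 2 = 1 := by
    rw [h.mul_pow, ← map_pow, ← map_pow, pow_two, pow_two, inv_sq (hS.1 x hx), inv_sq (hS.1 y hy),
      map_one, one_mul]
  have h3' : (φ x * φ y) ^ 3 = 1 := by rw [← map_mul, ← map_pow, h3, map_one]
  rw [pow_succ, h2', one_mul, ← map_mul] at h3'
  have hz := Subgroup.mem_center_iff.1 (hker h3') x
  apply hn
  show x * y = y * x
  have : x * (x * y) = (x * y) * x := hz
  rw [← mul_assoc, inv_sq (hS.1 x hx), one_mul] at this
  calc x * y = x * (x * y * x) := by rw [← this]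
    _ = y * x := by simp only [← mul_assoc, inv_sq (hS.1 x hx), one_mul]

theorem image_group {H Q : Type*} [Group H] [Group Q] (φ : H →* Q) (hφ : Function.Surjective φ)
    {K : Set H} (hK : IsThreeTranspositionGroup K) :
    IsThreeTranspositionGroup ((φ '' K) \ {1}) := by
  obtain ⟨⟨h2, h3⟩, hc, hgen⟩ := hK
  refine ⟨⟨?_, ?_⟩, ?_, ?_⟩
  · rintro _ ⟨⟨a, ha, rfl⟩, h1⟩
    exact orderOf_eq_prime (by rw [← map_pow, ← h2 a ha, pow_orderOf_eq_one, map_one]) h1
  · rintro _ ⟨⟨a, ha, rfl⟩, -⟩ _ ⟨⟨b, hb, rfl⟩, -⟩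
    rcases h3 a ha b hb with e | e
    · left; rw [← map_mul, ← map_pow, e, map_one]
    · right; rw [← map_mul, ← map_pow, e, map_one]
  · rintro g _ ⟨⟨a, ha, rfl⟩, h1⟩
    obtain ⟨g, rfl⟩ := hφ g
    refine ⟨⟨_, hc g a ha, by simp⟩, fun e => h1 ?_⟩
    exact conj_eq_one_iff.1 e
  · rw [Subgroup.closure_diff_one, ← MonoidHom.map_closure, hgen, ← MonoidHom.range_eq_map]
    exact MonoidHom.range_eq_top.2 hφ

section Lift

variable {H Q : Type*} [Group H] [Group Q] (φ : H →* Q) (hker : φ.ker ≤ Subgroup.center H)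
  {K : Set H} (hK : IsThreeTranspositionGroup K)

include hker hK

theorem cen_of_map_one {x : H} (h : φ x = 1) : Cen K x := fun y _ =>
  ((Subgroup.mem_center_iff.1 (hker h)) y).symm

theorem inj_noncentral {x y : H} (hx : x ∈ K) (hy : y ∈ K) (hnx : ¬ Cen K x) (h : φ x = φ y) : x = y := by
  by_contra hne
  have hz : x * y ∈ Subgroup.center H := hker (by
    rw [MonoidHom.mem_ker, map_mul, ← h, ← map_mul, inv_sq (hK.1.1 x hx), map_one])
  have hxy : Commute x y := commute_of_map φ hker hK.1 hx hy (by rw [h])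
  exact hnx fun w hw => (pair_commute hK.1 hx hy hw hne hxy
    (Subgroup.mem_center_iff.1 hz w)).1.symm

theorem map_mem {x : H} (hx : x ∈ K) (hnx : ¬ Cen K x) : φ x ∈ (φ '' K) \ {1} :=
  ⟨⟨x, hx, rfl⟩, fun e => hnx (cen_of_map_one φ hker hK e)⟩

theorem cen_of_map_cen {x : H} (hx : x ∈ K) (h : Cen ((φ '' K) \ {1}) (φ x)) : Cen K x := by
  intro y hy
  by_cases hy1 : φ y = 1
  · exact (cen_of_map_one φ hker hK hy1 x hx).symm
  · exact commute_of_map φ hker hK.1 hx hy (h _ ⟨⟨y, hy, rfl⟩, hy1⟩)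

theorem lift_conn (h : Conn ((φ '' K) \ {1})) : Conn K := by
  intro A hA hAB
  rcases h ((φ '' A) \ {1}) (Set.diff_subset_diff_left (Set.image_mono hA)) (by
    rintro _ ⟨⟨x, hx, rfl⟩, -⟩ _ ⟨⟨y, hy, rfl⟩, hy1⟩ hyA
    exact (hAB x hx y hy fun h => hyA ⟨⟨y, h, rfl⟩, hy1⟩).map φ) with h' | h'
  · refine Or.inl fun x hx => ?_
    by_cases hx1 : φ x = 1
    · exact cen_of_map_one φ hker hK hx1
    · exact cen_of_map_cen φ hker hK (hA hx) (h' _ ⟨⟨x, hx, rfl⟩, hx1⟩)
  · refine Or.inr fun y hy hyA => ?_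
    by_contra hcy
    refine hcy (cen_of_map_cen φ hker hK hy (h' _ (map_mem φ hker hK hy hcy) ?_))
    rintro ⟨⟨x, hx, hxy⟩, -⟩
    exact hyA ((inj_noncentral φ hker hK hy (hA hx) hcy hxy.symm) ▸ hx)

theorem lift_nc (h : NC ((φ '' K) \ {1})) : NC K := by
  obtain ⟨_, ⟨⟨x, hx, rfl⟩, -⟩, _, ⟨⟨y, hy, rfl⟩, -⟩, hn⟩ := h
  exact ⟨x, hx, y, hy, fun h => hn (h.map φ)⟩

theorem lift_coreSep (h : Sep ((φ '' K) \ {1})) : CoreSep K := by
  intro c hc d hd hnc hnd hincl
  refine inj_noncentral φ hker hK hc hd hnc (h _ (map_mem φ hker hK hc hnc) _ (map_mem φ hker hK hd hnd) ?_)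
  rintro _ ⟨⟨y, hy, rfl⟩, -⟩ hcy
  exact (hincl y hy (commute_of_map φ hker hK.1 hc hy hcy)).map φ

theorem lift_sepNbr (hs : Sep K) (hnc : NC K)
    (h : ∀ e ∈ (φ '' K) \ {1}, Sep (nbr ((φ '' K) \ {1}) e)) : ∀ b ∈ K, Sep (nbr K b) := by
  intro b hb c hc d hd hincl
  have hcn : ∀ {x}, x ∈ K → ¬ Cen K x := fun hx => hs.not_cen hnc hx
  have key : ∀ {x}, x ∈ nbr K b → φ x ∈ nbr ((φ '' K) \ {1}) (φ b) := fun {x} hx =>
    ⟨map_mem φ hker hK hx.1 (hcn hx.1), fun e => hx.2.1 (inj_noncentral φ hker hK hx.1 hb (hcn hx.1) e),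
      hx.2.2.map φ⟩
  refine inj_noncentral φ hker hK hc.1 hd.1 (hcn hc.1)
    (h _ (map_mem φ hker hK hb (hcn hb)) _ (key hc) _ (key hd) ?_)
  rintro _ ⟨⟨⟨y, hy, rfl⟩, -⟩, hne, hby⟩ hcy
  exact (hincl y ⟨hy, fun e => hne (e ▸ rfl), commute_of_map φ hker hK.1 hb hy hby⟩
    (commute_of_map φ hker hK.1 hc.1 hy hcy)).map φ

end Lift

/-! ### Passing to the ambient group -/

section Sub

variable {H : Subgroup G} {K : Set G} (hKH : ∀ x ∈ K, x ∈ H)

include hKH

theorem cen_sub {x : H} : Cen {y : H | (y : G) ∈ K} x ↔ Cen K (x : G) :=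
  ⟨fun h y hy => (h ⟨y, hKH y hy⟩ hy).map H.subtype,
    fun h y hy => Subtype.ext (h _ hy).eq⟩

theorem sub_conn (h : Conn {y : H | (y : G) ∈ K}) : Conn K := by
  intro A hA hAB
  rcases h {y : H | (y : G) ∈ A} (fun y hy => hA hy)
    (fun x hx y hy hyA => Subtype.ext (hAB _ hx _ hy hyA).eq) with h' | h'
  · exact Or.inl fun x hx => (cen_sub hKH).1 (h' ⟨x, hKH x (hA hx)⟩ hx)
  · exact Or.inr fun x hx hxA => (cen_sub hKH).1 (h' ⟨x, hKH x hx⟩ hx hxA)

theorem sub_nc (h : NC {y : H | (y : G) ∈ K}) : NC K := by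
  obtain ⟨x, hx, y, hy, hn⟩ := h
  exact ⟨x, hx, y, hy, fun h' => hn (Subtype.ext h'.eq)⟩

theorem sub_coreSep (h : CoreSep {y : H | (y : G) ∈ K}) : CoreSep K := by
  intro c hc d hd hnc hnd hincl
  exact congrArg Subtype.val (h ⟨c, hKH c hc⟩ hc ⟨d, hKH d hd⟩ hd
    (fun h => hnc ((cen_sub hKH).1 h)) (fun h => hnd ((cen_sub hKH).1 h))
    fun y hy hcy => Subtype.ext (hincl _ hy (hcy.map H.subtype)).eq)

theorem sub_sep (h : Sep {y : H | (y : G) ∈ K}) : Sep K := by
  intro c hc d hd hincl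
  exact congrArg Subtype.val (h ⟨c, hKH c hc⟩ hc ⟨d, hKH d hd⟩ hd
    fun y hy hcy => Subtype.ext (hincl _ hy (hcy.map H.subtype)).eq)

theorem to_sub_sep (h : Sep K) : Sep {y : H | (y : G) ∈ K} := by
  intro c hc d hd hincl
  exact Subtype.ext (h _ hc _ hd fun y hy hcy =>
    ((hincl ⟨y, hKH y hy⟩ hy (Subtype.ext hcy.eq)).map H.subtype))

theorem to_sub_nc (h : NC K) : NC {y : H | (y : G) ∈ K} := by
  obtain ⟨x, hx, y, hy, hn⟩ := h
  exact ⟨⟨x, hKH x hx⟩, hx, ⟨y, hKH y hy⟩, hy, fun h' => hn (h'.map H.subtype)⟩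

end Sub

/-! ### The simple bottom -/

theorem center_eq_bot_of_simple [IsSimpleGroup G] (hna : ¬ IsMulCommutative G) : Subgroup.center G = ⊥ :=
  (Subgroup.Normal.eq_bot_or_eq_top inferInstance).resolve_right fun h => hna
    ⟨⟨fun a b => (Subgroup.mem_center_iff.1 (h ▸ Subgroup.mem_top b) a)⟩⟩

theorem simple_level [Finite G] [IsSimpleGroup G] (hna : ¬ IsMulCommutative G)
    (hD : IsThreeTranspositionGroup D) : Conn D ∧ Sep D ∧ NC D := by
  have hZ := center_eq_bot_of_simple hna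
  have hnc : ∀ x ∈ D, ¬ Cen D x := fun x hx => not_cen_of_center_bot hD hZ hx
  have hne : D.Nonempty := by
    by_contra h
    rw [Set.not_nonempty_iff_eq_empty] at h
    have := hD.2.2
    rw [h, Subgroup.closure_empty] at this
    exact bot_ne_top this
  have hconj : ∀ a ∈ D, ∀ b ∈ D, ∃ g : G, b = g * a * g⁻¹ := by
    intro a ha b hb
    by_contra hb'
    set A : Set G := {x | ∃ g : G, x = g * a * g⁻¹}
    have hn : (Subgroup.closure A).Normal := closure_normal_of_conj_mem (by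
      rintro x ⟨k, rfl⟩ g
      exact ⟨g * k, by group⟩)
    have htop : Subgroup.closure A = ⊤ := hn.eq_bot_or_eq_top.resolve_left fun h => by
      have : a = 1 := Subgroup.closure_eq_bot_iff.1 h ⟨1, by group⟩
      have h2 := hD.1.1 a ha
      rw [this, orderOf_one] at h2
      omega
    refine hnc b hb fun y hy => ?_
    have hle : Subgroup.closure A ≤ Subgroup.centralizer ({b} : Set G) := by
      refine (Subgroup.closure_le _).2 ?_
      rintro _ ⟨k, rfl⟩
      rw [SetLike.mem_coe, Subgroup.mem_centralizer_singleton_iff]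
      by_contra h
      obtain ⟨g, hg⟩ := nc_conjugate hD.1 (hD.2.1 k a ha) hb (fun h' => h h'.eq)
      exact hb' ⟨g * k, by rw [hg]; group⟩
    exact (Subgroup.mem_centralizer_singleton_iff.1 (hle (htop ▸ Subgroup.mem_top y)) : _).symm
  have h2 : pCore 2 G = ⊥ := by
    refine (Subgroup.Normal.eq_bot_or_eq_top (H := pCore 2 G) inferInstance).resolve_right fun h => ?_
    haveI : Fact (Nat.Prime 2) := ⟨Nat.prime_two⟩
    have hp : IsPGroup 2 (⊤ : Subgroup G) := h ▸ Lib.Cores.pCore_isPGroup 2 G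
    haveI := (hp.of_equiv Subgroup.topEquiv).isNilpotent
    exact hna ⟨⟨IsSimpleGroup.comm_iff_isSolvable.2 inferInstance⟩⟩
  refine ⟨conn_of_conj hD hconj, sep_of_class hD hconj h2, ?_⟩
  obtain ⟨a, ha⟩ := hne
  by_contra h
  exact hnc a ha fun y hy => by
    by_contra h'
    exact h ⟨a, ha, y, hy, h'⟩

theorem nbr_data_of_simple [Finite G] (hD : IsThreeTranspositionGroup D) (d : G)
    (hsimp : IsSimpleGroup (↥(Subgroup.closure (nbr D d)) ⧸ Subgroup.center ↥(Subgroup.closure (nbr D d))))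
    (hna : ¬ IsMulCommutative (↥(Subgroup.closure (nbr D d)) ⧸ Subgroup.center ↥(Subgroup.closure (nbr D d)))) :
    Conn (nbr D d) ∧ CoreSep (nbr D d) ∧ NC (nbr D d) := by
  have hK := sub_group hD d
  have hsur := QuotientGroup.mk'_surjective (Subgroup.center ↥(Subgroup.closure (nbr D d)))
  have hker := (QuotientGroup.ker_mk' (Subgroup.center ↥(Subgroup.closure (nbr D d)))).le
  haveI := hsimp
  obtain ⟨h1, h2, h3⟩ := simple_level hna (image_group _ hsur hK)
  have hKH : ∀ x ∈ nbr D d, x ∈ Subgroup.closure (nbr D d) := fun x hx => Subgroup.subset_closure hx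
  exact ⟨sub_conn hKH (lift_conn _ hker hK h1), sub_coreSep hKH (lift_coreSep _ hker hK h2),
    sub_nc hKH (lift_nc _ hker hK h3)⟩

/-- The neighbourhood of `a` from a level of its central quotient. -/
theorem nbr_data_of_level [Finite G] (hD : IsThreeTranspositionGroup D) {a : G}
    (h : Level (((QuotientGroup.mk' (Subgroup.center ↥(Subgroup.closure (nbr D a)))) ''
      {x : ↥(Subgroup.closure (nbr D a)) | (x : G) ∈ nbr D a}) \ {1})) :
    Conn (nbr D a) ∧ CoreSep (nbr D a) ∧ NC (nbr D a) ∧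
      (Sep (nbr D a) → ∀ b ∈ nbr D a, Sep (nbr D a ∩ nbr D b)) := by
  have hK := sub_group hD a
  have hker := (QuotientGroup.ker_mk' (Subgroup.center ↥(Subgroup.closure (nbr D a)))).le
  have hKH : ∀ x ∈ nbr D a, x ∈ Subgroup.closure (nbr D a) := fun x hx => Subgroup.subset_closure hx
  refine ⟨sub_conn hKH (lift_conn _ hker hK h.conn), sub_coreSep hKH (lift_coreSep _ hker hK h.sep),
    sub_nc hKH (lift_nc _ hker hK h.nc), fun hs b hb => ?_⟩
  have := lift_sepNbr _ hker hK (to_sub_sep hKH hs) (lift_nc _ hker hK h.nc) h.sepNbr ⟨b, hKH b hb⟩ hb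
  intro c hc d hd hincl
  exact congrArg Subtype.val (this ⟨c, hKH c hc.1⟩
    ⟨hc.1, fun e => hc.2.2.1 (congrArg Subtype.val e), Subtype.ext hc.2.2.2.eq⟩ ⟨d, hKH d hd.1⟩
    ⟨hd.1, fun e => hd.2.2.1 (congrArg Subtype.val e), Subtype.ext hd.2.2.2.eq⟩
    fun y hy hcy => Subtype.ext (hincl _ ⟨hy.1, hy.1.1, fun e => hy.2.1 (Subtype.ext e),
      hy.2.2.map (Subgroup.closure (nbr D a)).subtype⟩ (hcy.map (Subgroup.closure (nbr D a)).subtype)).eq)

theorem closure_inter_erase (s t : Set G) :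
    Subgroup.closure ((s \ {1}) ∩ (t \ {1})) = Subgroup.closure (s ∩ t) := by
  rw [show (s \ {1}) ∩ (t \ {1}) = (s ∩ t) \ {1} by ext; simp; tauto, Subgroup.closure_diff_one]

end General

/-! ### The reflection group is not simple modulo its centre -/

section Refl

open Matrix
open QuadraticMap (polarBilin)

theorem sign_split : ∀ q f : ZMod 3, f ≠ 0 → q + f = 0 → q - f = 0 → False := by decide

theorem half_diff : ∀ a b : ZMod 3, b = -1 * (a + b - (a - b)) := by decide

set_option maxRecDepth 8000 in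
theorem no_simple_reflection_six {X : Type*} [Group X] {μ c : ZMod 3} (hc : c ≠ 0)
    (h : IsProjReflectionGroupModThree X 6 μ c) : ¬ (IsSimpleGroup X ∧ ¬ IsMulCommutative X) := by
  haveI : Fact (Nat.Prime 3) := ⟨Nat.prime_three⟩
  rintro ⟨hs, hna⟩
  obtain ⟨Q, hQ, -, ⟨e⟩⟩ := h
  set R := Cfsg.reflectionSubgroup (⇑Q) c with hR
  have hcl := reflection_class Q (by norm_num : 5 ≤ 6) hQ c hc
  obtain ⟨hgrp, hconj⟩ := class_data hcl
  -- the determinant
  let dt : R →* ZMod 3 :=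
    { toFun := fun g => ((g.1.1 : GL (Fin 6) (ZMod 3)) : Matrix (Fin 6) (Fin 6) (ZMod 3)).det
      map_one' := Matrix.det_one
      map_mul' := fun g h => by
        show Matrix.det (((g.1.1 * h.1.1 : GL (Fin 6) (ZMod 3))) : Matrix (Fin 6) (Fin 6) (ZMod 3)) = _
        rw [Units.val_mul, Matrix.det_mul] }
  have hr : ∃ r : R, dt r = -1 := by
    obtain ⟨v, -, hv⟩ := exists_norm Q hQ (k := 0) ![] (fun i => i.elim0) (fun i => i.elim0) (by omega) hc
    exact ⟨⟨reflectionIso Q v (hv ▸ hc), Subgroup.subset_closure ⟨v, hv, rfl⟩⟩,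
      by
        show Matrix.det (((reflectionIso Q v (hv ▸ hc) : Cfsg.isometryGroup (ZMod 3) (⇑Q)) :
          GL (Fin 6) (ZMod 3)) : Matrix (Fin 6) (Fin 6) (ZMod 3)) = -1
        rw [coe_reflectionIso', Cfsg.Agent.Lib.Geometry.det_reflectionMatrix Q (by rw [hv]; exact hc)]⟩
  have hz : ∀ z ∈ Subgroup.center R, dt z = 1 := by
    intro z hz
    set M : Matrix (Fin 6) (Fin 6) (ZMod 3) := (z.1.1 : GL (Fin 6) (ZMod 3)).1 with hM
    have hpm : ∀ v, Q v = c → M *ᵥ v = v ∨ M *ᵥ v = -v := by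
      intro v hv
      set r : R := ⟨reflectionIso Q v (hv ▸ hc), Subgroup.subset_closure ⟨v, hv, rfl⟩⟩
      obtain ⟨h1, h2⟩ := conj_reflection Q hv (g := z.1)
        (h := reflectionIso Q v (hv ▸ hc)) rfl
      have hfix : z.1 * reflectionIso Q v (hv ▸ hc) * z.1⁻¹ = reflectionIso Q v (hv ▸ hc) := by
        have := congrArg Subtype.val (Subgroup.mem_center_iff.1 hz r)
        simp only [Subgroup.coe_mul] at this
        rw [← this, mul_inv_cancel_right]
      rw [hfix] at h2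
      exact eq_or_eq_neg_of_reflection_eq Q (hv ▸ hc) (h1 ▸ hc) h2
    -- the sign does not depend on the reflection
    have hsame : ∀ v w, Q v = c → Q w = c → M *ᵥ v = v → M *ᵥ w = w := by
      intro v w hv hw hMv
      obtain ⟨g, hg⟩ := hconj ⟨reflectionIso Q v (hv ▸ hc), Subgroup.subset_closure ⟨v, hv, rfl⟩⟩
        ⟨v, hv, rfl⟩ ⟨reflectionIso Q w (hw ▸ hc), Subgroup.subset_closure ⟨w, hw, rfl⟩⟩ ⟨w, hw, rfl⟩
      obtain ⟨h1, h2⟩ := conj_reflection Q hv (g := g.1) (h := reflectionIso Q v (hv ▸ hc)) rfl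
      have hgw : g.1 * reflectionIso Q v (hv ▸ hc) * g.1⁻¹ = reflectionIso Q w (hw ▸ hc) :=
        (congrArg Subtype.val hg).symm
      rw [hgw] at h2
      set N : Matrix (Fin 6) (Fin 6) (ZMod 3) := (g.1.1 : GL (Fin 6) (ZMod 3)).1
      have hcomm : M * N = N * M := by
        have := congrArg (fun t : R => ((t.1.1 : GL (Fin 6) (ZMod 3)) : Matrix (Fin 6) (Fin 6) (ZMod 3)))
          (Subgroup.mem_center_iff.1 hz g)
        exact this.symm
      have hN : M *ᵥ (N *ᵥ v) = N *ᵥ v := by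
        rw [Matrix.mulVec_mulVec, hcomm, ← Matrix.mulVec_mulVec, hMv]
      rcases eq_or_eq_neg_of_reflection_eq Q (hw ▸ hc) (h1 ▸ hc) h2 with e' | e'
      · rw [← e']; exact hN
      · rw [show w = -(N *ᵥ v) by rw [e', neg_neg], Matrix.mulVec_neg, hN]
    obtain ⟨ε, hε⟩ : ∃ ε : ZMod 3, (ε = 1 ∨ ε = -1) ∧ ∀ v, Q v = c → M *ᵥ v = ε • v := by
      by_cases hp : ∃ v, Q v = c ∧ M *ᵥ v = v
      · obtain ⟨v, hv, hMv⟩ := hp
        exact ⟨1, Or.inl rfl, fun w hw => by rw [one_smul]; exact hsame v w hv hw hMv⟩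
      · push Not at hp
        exact ⟨-1, Or.inr rfl, fun w hw => by rw [neg_one_smul]; exact (hpm w hw).resolve_left (hp w hw)⟩
    -- norm `c` vectors span
    let W : Submodule (ZMod 3) (Fin 6 → ZMod 3) :=
      LinearMap.ker (Matrix.toLin' M - ε • LinearMap.id)
    have hW : ∀ x, x ∈ W ↔ M *ᵥ x = ε • x := fun x => by simp [W, sub_eq_zero]
    have hWc : ∀ v, Q v = c → v ∈ W := fun v hv => (hW v).2 (hε.2 v hv)
    have haniso : ∀ u, Q u ≠ 0 → u ∈ W := by
      intro u hu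
      rcases (zmod3_facts.2.2.2.1) c (Q u) hc hu with hu' | hu'
      · exact hWc u hu'
      obtain ⟨w₁, h₁, hw₁⟩ := exists_norm Q hQ ![u] (fun i => by fin_cases i; simpa using hu)
        (fun i j hij => absurd (Subsingleton.elim i j) hij) (by omega) hc
      have hu1 : polarBilin Q u w₁ = 0 := by simpa using h₁ 0
      obtain ⟨w₂, h₂, hw₂⟩ := exists_norm Q hQ ![u, w₁] (fun i => by fin_cases i <;> simp [hu, hw₁, hc])
        (fun i j hij => by
          fin_cases i <;> fin_cases j <;> first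
            | exact absurd rfl hij
            | simpa using hu1
            | simpa [polar_comm' Q w₁ u] using hu1) (by omega) hc
      have hu2 : polarBilin Q u w₂ = 0 := by simpa using h₂ 0
      have h12 : polarBilin Q w₁ w₂ = 0 := by simpa using h₂ 1
      have hsum : Q (u + w₁ + w₂) = c := by
        rw [quad_add, quad_add, map_add, LinearMap.add_apply, hu', hw₁, hw₂, hu1, hu2, h12]
        abel
      have := W.sub_mem (W.sub_mem (hWc _ hsum) (hWc _ hw₂)) (hWc _ hw₁)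
      simpa [add_sub_cancel_right] using this
    have hall : ∀ u, u ∈ W := by
      intro u
      by_cases hu0 : u = 0
      · rw [hu0]; exact W.zero_mem
      by_cases hu : Q u ≠ 0
      · exact haniso u hu
      push Not at hu
      obtain ⟨y, hy⟩ : ∃ y, polarBilin Q u y ≠ 0 := by
        by_contra! hall
        exact hu0 (hQ.1 u hall)
      have key := sign_split
      have hadd : Q (y + u) = Q y + polarBilin Q u y := by
        rw [quad_add, hu, add_zero, polar_comm' Q y u]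
      have hsub : Q (y - u) = Q y - polarBilin Q u y := by
        rw [quad_sub, hu, add_zero, polar_comm' Q y u]
      by_cases hQy : Q y = 0
      · have h1 : y + u ∈ W := haniso _ (by rw [hadd, hQy, zero_add]; exact hy)
        have h2 : y - u ∈ W := haniso _ (by rw [hsub, hQy, zero_sub]; exact neg_ne_zero.2 hy)
        have := W.smul_mem (-1 : ZMod 3) (W.sub_mem h1 h2)
        convert this using 1
        funext i
        simp only [Pi.smul_apply, Pi.sub_apply, Pi.add_apply, smul_eq_mul]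
        exact half_diff _ _
      · by_cases h1 : Q (y + u) = 0
        · have h2 : y - u ∈ W := haniso _ fun h2 => key _ _ hy (hadd ▸ h1) (hsub ▸ h2)
          simpa using W.sub_mem (haniso y hQy) h2
        · simpa using W.sub_mem (haniso _ h1) (haniso y hQy)
    have hMeq : M = ε • 1 := by
      refine Matrix.toLin'.injective (LinearMap.ext fun x => ?_)
      rw [Matrix.toLin'_apply, Matrix.toLin'_apply, (hW x).1 (hall x), Matrix.smul_mulVec, Matrix.one_mulVec]
    show M.det = 1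
    rw [hMeq, Matrix.det_smul, Matrix.det_one, mul_one, Fintype.card_fin]
    rcases hε.1 with rfl | rfl <;> norm_num
  -- descend to the quotient
  haveI := hs
  let dt' : X →* (ZMod 3)ˣ := (QuotientGroup.lift (Subgroup.center R) dt.toHomUnits fun z hzz => by
    rw [MonoidHom.mem_ker]; exact Units.ext (hz z hzz)).comp e.toMonoidHom
  obtain ⟨r, hr⟩ := hr
  have hne : dt' (e.symm (QuotientGroup.mk r)) ≠ 1 := by
    intro h1
    have := congrArg Units.val h1
    simp only [dt', MonoidHom.comp_apply, MulEquiv.coe_toMonoidHom, MulEquiv.apply_symm_apply] at this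
    rw [QuotientGroup.lift_mk] at this
    have h2 : (-1 : ZMod 3) = 1 := hr ▸ this
    exact zmod3_facts.2.1 h2
  rcases dt'.normal_ker.eq_bot_or_eq_top with hk | hk
  · exact hna ⟨⟨fun a b => (MonoidHom.ker_eq_bot_iff dt').1 hk (by rw [map_mul, map_mul, mul_comm])⟩⟩
  · exact hne (MonoidHom.mem_ker.1 (hk ▸ Subgroup.mem_top _))

end Refl

/-! ### The levels -/

section Levels

variable {X : Type*} [Group X] [Finite X] {E₀ : Set X}

theorem psu_six_simple {F : Type} [Field F] [Fintype F] (hF : Fintype.card F = 4) :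
    IsSimpleGroup (PSU 6 F 2) ∧ ¬ IsMulCommutative (PSU 6 F 2) := by
  have hF' : Fintype.card F = 2 ^ 2 := hF
  have hs := Cfsg.Agent.Lib.Classical.isSimpleGroup_PSU hF' (n := 6) (by norm_num) (by norm_num)
  refine ⟨hs, fun hc => ?_⟩
  haveI := hc
  haveI := hs
  letI : CommGroup (PSU 6 F 2) := { mul_comm := fun a b => IsMulCommutative.is_comm.comm a b }
  have hp : (Nat.card (PSU 6 F 2)).Prime := IsSimpleGroup.prime_card
  have hcard := Cfsg.Agent.Lib.Classical.card_center_mul_card_PSU hF' (n := 6) (by norm_num)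
  rw [Cfsg.Agent.Lib.Classical.card_GU hF'] at hcard
  simp [Finset.prod_range_succ, Nat.even_iff] at hcard
  rcases hp.eq_two_or_odd with h | h <;> omega

theorem simple_of_equiv {Y S : Type*} [Group Y] [Group S] (e : Y ≃* S)
    (h : IsSimpleGroup S ∧ ¬ IsMulCommutative S) : IsSimpleGroup Y ∧ ¬ IsMulCommutative Y := by
  haveI := h.1
  haveI : Nontrivial Y := e.toEquiv.nontrivial
  refine ⟨IsSimpleGroup.isSimpleGroup_of_surjective e.symm.toMonoidHom e.symm.surjective, fun hc => h.2 ⟨⟨fun a b => ?_⟩⟩⟩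
  have := hc.is_comm.comm (e.symm a) (e.symm b)
  simpa using congrArg e this

/-- A subgroup covering the quotient by the centre has the same central quotient. -/
theorem central_quotient_equiv {Y : Type*} [Group Y] {L H : Subgroup Y} (hLH : L ≤ H)
    (hcov : ∀ h : H, ∃ l : L, (h : Y) * (l : Y)⁻¹ ∈ (Subgroup.center H).map H.subtype) :
    Nonempty ((↥L ⧸ Subgroup.center ↥L) ≃* (↥H ⧸ Subgroup.center ↥H)) := by
  set ψ : L →* ↥H ⧸ Subgroup.center ↥H := (QuotientGroup.mk' _).comp (Subgroup.inclusion hLH) with hψ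
  have hsur : Function.Surjective ψ := by
    intro q
    obtain ⟨h, rfl⟩ := QuotientGroup.mk'_surjective _ q
    obtain ⟨l, z, hz, hzl⟩ := hcov h
    refine ⟨l, ?_⟩
    have heq : h = z * Subgroup.inclusion hLH l := Subtype.ext (by
      simp only [Subgroup.coe_mul, Subgroup.coe_inclusion]
      simp only [Subgroup.coe_subtype] at hzl
      rw [hzl, inv_mul_cancel_right])
    rw [heq, map_mul, (QuotientGroup.eq_one_iff z).2 hz |> fun (e : QuotientGroup.mk' (Subgroup.center H) z = 1) => e,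
      one_mul]
    rfl
  have hk : ψ.ker = Subgroup.center L := by
    ext l
    rw [MonoidHom.mem_ker, hψ, MonoidHom.comp_apply, QuotientGroup.mk'_apply, QuotientGroup.eq_one_iff]
    constructor
    · intro h
      rw [Subgroup.mem_center_iff] at h ⊢
      exact fun g => Subtype.ext (congrArg (Subtype.val (p := (· ∈ H))) (h (Subgroup.inclusion hLH g)))
    · intro h
      rw [Subgroup.mem_center_iff] at h ⊢
      intro g
      obtain ⟨m, z, hz, hzm⟩ := hcov g
      have heq : g = z * Subgroup.inclusion hLH m := Subtype.ext (by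
        simp only [Subgroup.coe_mul, Subgroup.coe_inclusion]
        simp only [Subgroup.coe_subtype] at hzm
        rw [hzm, inv_mul_cancel_right])
      rw [heq]
      have h1 : Commute (Subgroup.inclusion hLH m) (Subgroup.inclusion hLH l) :=
        (show Commute m l from h m).map _
      have h2 : Commute z (Subgroup.inclusion hLH l) := (Subgroup.mem_center_iff.1 hz _).symm
      exact (h2.mul_left h1).eq
  exact ⟨(QuotientGroup.quotientMulEquivOfEq hk.symm).trans (QuotientGroup.quotientKerEquivOfSurjective ψ hsur)⟩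

/-- Equal subgroups have isomorphic central quotients. -/
theorem quotCenter_congr {H K : Subgroup X} (h : H = K) :
    Nonempty ((↥H ⧸ Subgroup.center ↥H) ≃* (↥K ⧸ Subgroup.center ↥K)) := by
  subst h; exact ⟨MulEquiv.refl _⟩

theorem type22_erase (h : IsOfTypeM22 X E₀) : IsOfTypeM22 X (E₀ \ {1}) := by
  obtain ⟨hZ, d, hd, c, hc, hdc, h1, c₃, hc₃, h2⟩ := h
  have hd1 : d ≠ 1 := fun e => hdc (e ▸ Commute.one_left c)
  have hc1 : c ≠ 1 := fun e => hdc (e ▸ Commute.one_right d)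
  have he : ∀ z : X, {y : X | y ∈ E₀ \ {1} ∧ y ≠ z ∧ Commute z y} =
      {y : X | y ∈ E₀ ∧ y ≠ z ∧ Commute z y} \ {1} := fun z => by
    ext y
    exact ⟨fun h => ⟨⟨h.1.1, h.2⟩, h.1.2⟩, fun h => ⟨⟨h.1.1, h.2⟩, h.1.2⟩⟩
  refine ⟨hZ, d, ⟨hd, hd1⟩, c, ⟨hc, hc1⟩, hdc, ?_, c₃, hc₃, ?_⟩
  · obtain ⟨F, iF, iF', hF, ⟨φ⟩⟩ := h1
    obtain ⟨ε⟩ := quotCenter_congr (X := X) (H := Subgroup.closure {y : X | y ∈ E₀ \ {1} ∧ y ≠ d ∧ Commute d y})
      (K := Subgroup.closure {y : X | y ∈ E₀ ∧ y ≠ d ∧ Commute d y}) (by rw [he, Subgroup.closure_diff_one])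
    exact ⟨F, iF, iF', hF, ⟨ε.trans φ⟩⟩
  · obtain ⟨Q, hQ, hμ, ⟨φ⟩⟩ := h2
    obtain ⟨ε⟩ := quotCenter_congr (X := X)
      (H := Subgroup.closure ({y : X | y ∈ E₀ \ {1} ∧ y ≠ d ∧ Commute d y} ∩ {y : X | y ∈ E₀ \ {1} ∧ y ≠ c ∧ Commute c y}))
      (K := Subgroup.closure ({y : X | y ∈ E₀ ∧ y ≠ d ∧ Commute d y} ∩ {y : X | y ∈ E₀ ∧ y ≠ c ∧ Commute c y}))
      (by rw [he, he, closure_inter_erase])
    exact ⟨Q, hQ, hμ, ⟨ε.trans φ⟩⟩

theorem level22 (hD : IsThreeTranspositionGroup E₀) (ht : IsOfTypeM22 X E₀) : Level E₀ := by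
  obtain ⟨hZ, e, he, c, hc, hec, ⟨F, _, _, hF, ⟨φ⟩⟩, c₃, hc₃, hrefl⟩ := ht
  have hnc : ∀ x ∈ E₀, ¬ Cen E₀ x := fun x hx => not_cen_of_center_bot hD hZ hx
  obtain ⟨hsimp, hna⟩ := simple_of_equiv φ (psu_six_simple hF)
  obtain ⟨hconn, hcore, hKnc⟩ := nbr_data_of_simple hD e hsimp hna
  have hconj : ∀ a ∈ E₀, ∀ b ∈ E₀, ∃ g : X, b = g * a * g⁻¹ := by
    suffices h : ∀ b ∈ E₀, ∃ g : X, b = g * e * g⁻¹ by
      intro a ha b hb
      obtain ⟨g, rfl⟩ := h a ha
      obtain ⟨k, rfl⟩ := h b hb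
      exact ⟨k * g⁻¹, by group⟩
    intro b hb
    by_contra hb'
    set B : Set X := {x | x ∈ E₀ ∧ ¬ ∃ g : X, x = g * e * g⁻¹}
    have hBA : ∀ x ∈ B, ∀ g : X, Commute x (g * e * g⁻¹) := by
      intro x hx g
      by_contra h
      obtain ⟨k, hk⟩ := nc_conjugate hD.1 (hD.2.1 g e he) hx.1 (fun h' => h h'.symm)
      exact hx.2 ⟨k * g, by rw [hk]; group⟩
    have hBK : B ⊆ nbr E₀ e := fun x hx => ⟨hx.1, fun h => hx.2 ⟨1, by simp [h]⟩, by
      simpa using (hBA x hx 1).symm⟩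
    rcases hconn B hBK (fun x hx y hy hyB => by
      have : ∃ g : X, y = g * e * g⁻¹ := by
        by_contra h; exact hyB ⟨hy.1, h⟩
      obtain ⟨g, rfl⟩ := this
      exact hBA x hx g) with h | h
    · refine hnc b hb fun y hy => ?_
      by_cases hyA : ∃ g : X, y = g * e * g⁻¹
      · obtain ⟨g, rfl⟩ := hyA; exact hBA b ⟨hb, hb'⟩ g
      · exact h b ⟨hb, hb'⟩ y (hBK ⟨hy, hyA⟩)
    · set L := Subgroup.closure ({y : X | y ∈ E₀ ∧ y ≠ e ∧ Commute e y} ∩ {y : X | y ∈ E₀ ∧ y ≠ c ∧ Commute c y})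
      set H := Subgroup.closure {y : X | y ∈ E₀ ∧ y ≠ e ∧ Commute e y}
      obtain ⟨gc, hgc⟩ := nc_conjugate hD.1 he hc hec
      have hLH : L ≤ H := Subgroup.closure_mono Set.inter_subset_left
      have hBL : ∀ x ∈ B, x ∈ L := fun x hx => Subgroup.subset_closure ⟨hBK hx, hx.1,
        fun e' => hx.2 ⟨gc, e'.trans hgc⟩, by rw [hgc]; exact (hBA x hx gc).symm⟩
      have hcen : ∀ x ∈ nbr E₀ e, x ∉ B → ∀ h' : H, Commute x (h' : X) := by
        intro x hx hxB h'
        have : H ≤ Subgroup.centralizer ({x} : Set X) :=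
          (Subgroup.closure_le _).2 fun y hy =>
            Subgroup.mem_centralizer_singleton_iff.2 (h x hx hxB y hy).symm.eq
        exact (Subgroup.mem_centralizer_singleton_iff.1 (this h'.2)).symm
      let T : Subgroup X := L ⊔ (Subgroup.center H).map H.subtype
      have hHT : H ≤ T := by
        refine (Subgroup.closure_le _).2 fun y hy => ?_
        by_cases hyB : y ∈ B
        · exact Subgroup.mem_sup_left (hBL y hyB)
        · refine Subgroup.mem_sup_right ⟨⟨y, Subgroup.subset_closure hy⟩, ?_, rfl⟩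
          exact Subgroup.mem_center_iff.2 fun g => Subtype.ext (hcen y hy hyB g).eq.symm
      obtain ⟨ε⟩ := central_quotient_equiv (L := L) (H := H) hLH fun h' => by
        have hcomm : ∀ z ∈ (Subgroup.center H).map H.subtype, ∀ x ∈ H, Commute z x := by
          rintro _ ⟨z, hz, rfl⟩ x hx
          exact (congrArg Subtype.val (Subgroup.mem_center_iff.1 hz ⟨x, hx⟩)).symm
        have hle : L ≤ Subgroup.normalizer (((Subgroup.center H).map H.subtype : Subgroup X) : Set X) := by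
          intro l hl
          rw [Subgroup.mem_normalizer_iff]
          intro z
          constructor
          · intro hz
            rwa [← (hcomm z hz l (hLH hl)).eq, mul_inv_cancel_right]
          · intro hz
            have h1 := hcomm _ hz l (hLH hl)
            have : l * z * l⁻¹ = z := by
              calc l * z * l⁻¹ = l⁻¹ * ((l * z * l⁻¹) * l) := by rw [h1.eq, inv_mul_cancel_left]
                _ = z := by group
            rwa [this] at hz
        have hmem : (h' : X) ∈ ((T : Subgroup X) : Set X) := hHT h'.2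
        rw [Subgroup.coe_mul_of_left_le_normalizer_right _ _ hle] at hmem
        obtain ⟨l, hl, z, hz, hlz⟩ := Set.mem_mul.1 hmem
        refine ⟨⟨l, hl⟩, ?_⟩
        rw [← hlz, ← (hcomm z hz l (hLH hl)).eq, mul_inv_cancel_right]
        exact hz
      exact no_simple_reflection_six hc₃ hrefl (simple_of_equiv ε (by exact ⟨hsimp, hna⟩))
  have hsep := climb hD hconj he hcore hKnc
  refine ⟨hconj, ⟨e, he, c, hc, hec⟩, conn_of_conj hD hconj, hsep, sep_nbr hD hconj hsep he hcore⟩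

/-- The 2- and 3-core modulo a central subgroup. -/
theorem pCore_quotient_center_eq_bot {Y : Type*} [Group Y] [Finite Y] (p : ℕ) [hp : Fact p.Prime]
    (h : pCore p Y ≤ Subgroup.center Y) : pCore p (Y ⧸ Subgroup.center Y) = ⊥ := by
  set π := QuotientGroup.mk' (Subgroup.center Y) with hπ
  have hsur := QuotientGroup.mk'_surjective (Subgroup.center Y)
  set P := (pCore p (Y ⧸ Subgroup.center Y)).comap π with hP
  haveI : P.Normal := inferInstance
  obtain ⟨T⟩ : Nonempty (Sylow p P) := inferInstance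
  have hZP : Subgroup.center Y ≤ P := fun z hz => by
    rw [hP, Subgroup.mem_comap, hπ, QuotientGroup.mk'_apply, (QuotientGroup.eq_one_iff z).2 hz]
    exact one_mem _
  set ρ : P →* pCore p (Y ⧸ Subgroup.center Y) :=
    (π.comp P.subtype).codRestrict _ fun x => x.2 with hρ
  have hρs : Function.Surjective ρ := by
    rintro ⟨q, hq⟩
    obtain ⟨y, rfl⟩ := hsur q
    exact ⟨⟨y, hq⟩, rfl⟩
  have hTtop : (T : Subgroup P).map ρ = ⊤ := by
    have hpg := Lib.Cores.pCore_isPGroup p (Y ⧸ Subgroup.center Y)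
    exact ((T.mapSurjective hρs).is_maximal' (hpg.to_subgroup ⊤) le_top).symm
  have hdec : ∀ x : P, ∃ t ∈ (T : Subgroup P), (x : Y) * (t : Y)⁻¹ ∈ Subgroup.center Y := by
    intro x
    obtain ⟨t, ht, htx⟩ : ρ x ∈ (T : Subgroup P).map ρ := hTtop ▸ Subgroup.mem_top _
    refine ⟨t, ht, (QuotientGroup.eq_one_iff _).1 ?_⟩
    have h1 : π (x : Y) = π (t : Y) := (congrArg Subtype.val htx).symm
    show π ((x : Y) * (t : Y)⁻¹) = 1
    rw [map_mul, map_inv, h1, mul_inv_cancel]
  have hTn : (T : Subgroup P).Normal := ⟨fun u hu x => by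
    obtain ⟨t, ht, hz⟩ := hdec x
    have : x * u * x⁻¹ = t * u * t⁻¹ := Subtype.ext (by
      simp only [Subgroup.coe_mul, Subgroup.coe_inv]
      calc (x : Y) * u * (x : Y)⁻¹ = ((x : Y) * (t : Y)⁻¹) * ((t : Y) * u * (t : Y)⁻¹) *
            ((x : Y) * (t : Y)⁻¹)⁻¹ := by group
        _ = _ := by rw [(Subgroup.mem_center_iff.1 hz _).symm, mul_inv_cancel_right])
    rw [this]
    exact mul_mem (mul_mem ht hu) (inv_mem ht)⟩
  haveI := T.characteristic_of_normal hTn
  have hTY : ((T : Subgroup P).map P.subtype) ≤ pCore p Y :=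
    le_sSup ⟨inferInstance, T.2.map _⟩
  rw [eq_bot_iff]
  intro q hq
  obtain ⟨y, rfl⟩ := hsur q
  obtain ⟨t, ht, hz⟩ := hdec ⟨y, hq⟩
  have ht' : (t : Y) ∈ Subgroup.center Y := h (hTY ⟨t, ht, rfl⟩)
  have := mul_mem hz ht'
  rw [inv_mul_cancel_right] at this
  exact Subgroup.mem_bot.2 ((QuotientGroup.eq_one_iff y).2 this)

theorem type23_erase (h : IsOfTypeM23 X E₀) : ∃ b ∈ E₀ \ {1}, Subgroup.center X = ⊥ ∧
    IsOfTypeM22 (↥(Subgroup.closure (nbr (E₀ \ {1}) b)) ⧸ Subgroup.center ↥(Subgroup.closure (nbr (E₀ \ {1}) b)))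
      (((QuotientGroup.mk' (Subgroup.center ↥(Subgroup.closure (nbr (E₀ \ {1}) b)))) ''
        {x : ↥(Subgroup.closure (nbr (E₀ \ {1}) b)) | (x : X) ∈ nbr (E₀ \ {1}) b}) \ {1}) := by
  obtain ⟨hZ, d, hd, c, hc, hdc, h1, -⟩ := h
  have hd1 : d ≠ 1 := fun e => hdc (e ▸ Commute.one_left c)
  refine ⟨d, ⟨hd, hd1⟩, hZ, ?_⟩
  have he : nbr (E₀ \ {1}) d = {y : X | y ∈ E₀ ∧ y ≠ d ∧ Commute d y} \ {1} := by
    ext y
    exact ⟨fun h => ⟨⟨h.1.1, h.2⟩, h.1.2⟩, fun h => ⟨⟨h.1.1, h.2⟩, h.1.2⟩⟩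
  have hH : Subgroup.closure (nbr (E₀ \ {1}) d) = Subgroup.closure {y : X | y ∈ E₀ ∧ y ≠ d ∧ Commute d y} := by
    rw [he, Subgroup.closure_diff_one]
  have h1' := type22_erase h1
  have key : ∀ (H : Subgroup X) (_ : H = Subgroup.closure {y : X | y ∈ E₀ ∧ y ≠ d ∧ Commute d y}),
      IsOfTypeM22 (↥H ⧸ Subgroup.center ↥H)
        (((QuotientGroup.mk' (Subgroup.center ↥H)) '' {x : ↥H | (x : X) ∈ nbr (E₀ \ {1}) d}) \ {1}) := by
    rintro _ rfl
    convert h1' using 1
    ext q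
    constructor
    · rintro ⟨⟨x, hx, rfl⟩, hq⟩
      have hx' : (x : X) ∈ {y : X | y ∈ E₀ ∧ y ≠ d ∧ Commute d y} \ {1} := by rw [← he]; exact hx
      exact ⟨⟨x, hx'.1, rfl⟩, hq⟩
    · rintro ⟨⟨x, hx, rfl⟩, hq⟩
      refine ⟨⟨x, ⟨⟨hx.1, fun e => hq ?_⟩, hx.2⟩, rfl⟩, hq⟩
      rw [show x = 1 from Subtype.ext e]
      rfl
  exact key _ hH

theorem level23 (hD : IsThreeTranspositionGroup (E₀ \ {1})) (ht : IsOfTypeM23 X E₀)
    (h2 : pCore 2 X = ⊥) (h3 : pCore 3 X = ⊥) : Level (E₀ \ {1}) := by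
  obtain ⟨b, hb, hZ, h22⟩ := type23_erase ht
  set D := E₀ \ {1}
  obtain ⟨hconn, hcore, hKnc, hnest⟩ := nbr_data_of_level hD
    (level22 (image_group _ (QuotientGroup.mk'_surjective _) (sub_group hD b)) h22)
  have hnc : ∀ x ∈ D, ¬ Cen D x := fun x hx => not_cen_of_center_bot hD hZ hx
  have hconj : ∀ a ∈ D, ∀ a' ∈ D, ∃ g : X, a' = g * a * g⁻¹ := by
    suffices h : ∀ x ∈ D, ∃ g : X, x = g * b * g⁻¹ by
      intro a ha a' ha'
      obtain ⟨g, rfl⟩ := h a ha
      obtain ⟨k, rfl⟩ := h a' ha'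
      exact ⟨k * g⁻¹, by group⟩
    intro x hx
    by_contra hx'
    set B : Set X := {u | u ∈ D ∧ ¬ ∃ g : X, u = g * b * g⁻¹}
    have hBA : ∀ u ∈ B, ∀ g : X, Commute u (g * b * g⁻¹) := by
      intro u hu g
      by_contra h
      obtain ⟨k, hk⟩ := nc_conjugate hD.1 (hD.2.1 g b hb) hu.1 (fun h' => h h'.symm)
      exact hu.2 ⟨k * g, by rw [hk]; group⟩
    have hBK : B ⊆ nbr D b := fun u hu => ⟨hu.1, fun h => hu.2 ⟨1, by simp [h]⟩, by
      simpa using (hBA u hu 1).symm⟩
    rcases hconn B hBK (fun u hu y hy hyB => by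
      have : ∃ g : X, y = g * b * g⁻¹ := by
        by_contra h; exact hyB ⟨hy.1, h⟩
      obtain ⟨g, rfl⟩ := this
      exact hBA u hu g) with h | h
    · refine hnc x hx fun y hy => ?_
      by_cases hyA : ∃ g : X, y = g * b * g⁻¹
      · obtain ⟨g, rfl⟩ := hyA; exact hBA x ⟨hx, hx'⟩ g
      · exact h x ⟨hx, hx'⟩ y (hBK ⟨hy, hyA⟩)
    -- no conjugate of `b` is a neighbour of `b`
    have hempty : ∀ f ∈ nbr D b, f ∈ B := by
      intro f hf
      by_contra hfB
      obtain ⟨g, hg⟩ : ∃ g : X, f = g * b * g⁻¹ := by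
        by_contra h'; exact hfB ⟨hf.1, h'⟩
      have hsame := sameComm_of_incl hD.2.1 hg fun y hy hby => by
        by_cases hyb : y = b
        · rw [hyb]; exact hf.2.2.symm
        · exact h f hf hfB y ⟨hy, hyb, hby⟩
      have := mul_mem_pCore_two hD.1 hD.2.1 hb hf.1 hsame
      rw [h2, Subgroup.mem_bot] at this
      exact hf.2.1 (by rw [eq_inv_of_mul_eq_one_left this, inv_inv_self (hD.1.1 f hf.1)])
    obtain ⟨a, ha, hba⟩ : ∃ a ∈ D, ¬ Commute b a := by
      by_contra! h'; exact hnc b hb h'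
    obtain ⟨g, hg⟩ := nc_conjugate hD.1 hb ha hba
    have hnbr : nbr D a = nbr D b := by
      ext y
      constructor
      · intro hy
        rw [hg, nbr_conj hD.2.1] at hy
        have hyB := hempty _ hy
        have hyB' : y ∈ B := ⟨by
          have h' := hD.2.1 g _ hy.1
          rwa [show g * (g⁻¹ * y * g) * g⁻¹ = y by group] at h', fun ⟨k, hk⟩ => hyB.2 ⟨g⁻¹ * k, by rw [hk]; group⟩⟩
        exact hBK hyB'
      · intro hy
        have hyB := hempty y hy
        exact ⟨hy.1, fun e => hyB.2 ⟨g, e.trans hg⟩, hg ▸ (hBA y hyB g).symm⟩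
    have := mul_mem_pCore_three hD.1 hD.2.1 hb ha hnbr
    rw [h3, Subgroup.mem_bot] at this
    exact hba (by rw [eq_inv_of_mul_eq_one_left this, inv_inv_self (hD.1.1 a ha)])
  have hsep := climb hD hconj hb hcore hKnc
  obtain ⟨y, hy, z, hz, hyz⟩ := hKnc
  exact ⟨hconj, ⟨y, hy.1, z, hz.1, hyz⟩, conn_of_conj hD hconj, hsep, sep_nbr hD hconj hsep hb hcore⟩

end Levels

/-! ### The theorem -/

section Top

variable {G : Type*} [Group G] [Finite G] {D : Set G}

theorem pCore_map_center {Y Z : Type*} [Group Y] [Group Z] [Finite Y] (e : Y ≃* Z) (p : ℕ)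
    (h : pCore p Y ≤ Subgroup.center Y) : pCore p Z ≤ Subgroup.center Z := by
  rw [← Lib.Cores.map_pCore_equiv e]
  rintro _ ⟨y, hy, rfl⟩
  rw [Subgroup.mem_center_iff]
  intro z
  have := congrArg e (Subgroup.mem_center_iff.1 (h hy) (e.symm z))
  simpa using this

theorem core_nbr_conj (hD : IsThreeTranspositionGroup D) (g d : G) (p : ℕ)
    (h : pCore p ↥(Subgroup.closure (nbr D d)) ≤ Subgroup.center ↥(Subgroup.closure (nbr D d))) :
    pCore p ↥(Subgroup.closure (nbr D (g * d * g⁻¹))) ≤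
      Subgroup.center ↥(Subgroup.closure (nbr D (g * d * g⁻¹))) := by
  have he : (Subgroup.closure (nbr D d)).map (MulAut.conj g).toMonoidHom =
      Subgroup.closure (nbr D (g * d * g⁻¹)) := by
    rw [MonoidHom.map_closure]
    congr 1
    ext y
    rw [nbr_conj hD.2.1]
    constructor
    · rintro ⟨v, hv, rfl⟩
      convert hv using 1
      simp only [MulEquiv.coe_toMonoidHom, MulAut.conj_apply]
      group
    · intro hy
      exact ⟨_, hy, by simp only [MulEquiv.coe_toMonoidHom, MulAut.conj_apply]; group⟩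
  exact pCore_map_center (((Subgroup.closure (nbr D d)).equivMapOfInjective _ (MulAut.conj g).injective).trans
    (MulEquiv.subgroupCongr he)) p h

theorem sep_pairs (hD : IsThreeTranspositionGroup D) (hprim : IsPrimitiveUnderConj D)
    {d₀ : G} (hd₀ : d₀ ∈ D)
    (h3 : pCore 3 ↥(Subgroup.closure (nbr D d₀)) ≤ Subgroup.center ↥(Subgroup.closure (nbr D d₀)))
    (h2 : pCore 2 ↥(Subgroup.closure (nbr D d₀)) ≤ Subgroup.center ↥(Subgroup.closure (nbr D d₀)))
    (h : IsOfTypeM23 G D ∨ IsOfTypeM24 G D) :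
    Sep D ∧ ∀ a ∈ D, ∀ b ∈ D, a ≠ b → Commute a b → Sep (nbr D a ∩ nbr D b) := by
  have hconj : ∀ a ∈ D, ∀ b ∈ D, ∃ g : G, b = g * a * g⁻¹ := fun a ha b hb =>
    (hprim.1 a ha b hb).imp fun g h => h.symm
  obtain ⟨a₀, ha₀, hlev⟩ : ∃ a ∈ D, Level (((QuotientGroup.mk' (Subgroup.center ↥(Subgroup.closure (nbr D a)))) ''
      {x : ↥(Subgroup.closure (nbr D a)) | (x : G) ∈ nbr D a}) \ {1}) := by
    rcases h with ⟨-, d, hd, -, -, -, h1, -⟩ | ⟨-, d, hd, -, -, -, h1, -⟩
    · exact ⟨d, hd, level22 (image_group _ (QuotientGroup.mk'_surjective _) (sub_group hD d))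
        (type22_erase h1)⟩
    · obtain ⟨g, rfl⟩ := hconj d₀ hd₀ d hd
      haveI : Fact (Nat.Prime 2) := ⟨Nat.prime_two⟩
      haveI : Fact (Nat.Prime 3) := ⟨Nat.prime_three⟩
      exact ⟨_, hd, level23 (image_group _ (QuotientGroup.mk'_surjective _) (sub_group hD _)) h1
        (pCore_quotient_center_eq_bot 2 (core_nbr_conj hD g d₀ 2 h2))
        (pCore_quotient_center_eq_bot 3 (core_nbr_conj hD g d₀ 3 h3))⟩
  obtain ⟨-, hcore, hnc, hnest⟩ := nbr_data_of_level hD hlev
  have hsep := climb hD hconj ha₀ hcore hnc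
  have hsepn := sep_nbr hD hconj hsep ha₀ hcore
  have hspecial := hnest (hsepn a₀ ha₀)
  refine ⟨hsep, fun a ha b hb hab hcomm => ?_⟩
  obtain ⟨g, hg⟩ := hconj a₀ ha₀ a ha
  have hb' : g⁻¹ * b * g ∈ nbr D a₀ := by
    rw [← nbr_conj hD.2.1, ← hg]; exact ⟨hb, hab.symm, hcomm⟩
  have hs := hspecial _ hb'
  have hmove : ∀ y, y ∈ nbr D a ∩ nbr D b ↔ g⁻¹ * y * g ∈ nbr D a₀ ∩ nbr D (g⁻¹ * b * g) := fun y => by
    rw [Set.mem_inter_iff, Set.mem_inter_iff, hg, nbr_conj hD.2.1,
      ← nbr_conj hD.2.1 g (g⁻¹ * b * g) y, show g * (g⁻¹ * b * g) * g⁻¹ = b by group]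
  intro c hc d hd hincl
  have := hs _ ((hmove c).1 hc) _ ((hmove d).1 hd) fun y hy hcy => by
    have hy' : g * y * g⁻¹ ∈ nbr D a ∩ nbr D b := (hmove _).2 (by convert hy using 1; group)
    have h1 := hincl _ hy' (by
      have := (commute_conj (a := g)).2 hcy
      convert this using 1; group)
    have := (commute_conj (a := g⁻¹)).2 h1
    convert this using 1 <;> group
  simpa using this

end Top

end Cfsg.Agent.Lib.ThreeTransp.Products
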