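import Cfsg.Agent.Lib.ThreeTransp.CommutingClasses

/-!
Three-transposition classes with commuting classes of size two.
-/

set_option autoImplicit false

namespace Cfsg.Agent.Lib.ThreeTransp

open Cfsg

variable {G : Type*} [Group G] [Finite G] {D : Set G}

omit [Finite G] in
theorem exists_string_hom (hS : IsThreeTranspositionSet D) {d v e : G} (hd : d ∈ D) (hv : v ∈ D)
    (he : e ∈ D) (hne : d ≠ v) (hdv : Commute d v) (h1 : ¬ Commute d e) (h2 : ¬ Commute v e) :
    ∃ φ : Equiv.Perm (Fin 4) →* G, Function.Injective φ ∧ φ (Equiv.swap 0 1) = d ∧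
      φ (Equiv.swap 1 2) = e ∧ φ (Equiv.swap 2 3) = v := by
  obtain ⟨φ, h01, h12, h23⟩ := s4Hom_exists (inv_sq (hS.1 d hd)) (inv_sq (hS.1 e he))
    (inv_sq (hS.1 v hv)) hdv.symm.eq
    (by have := (tt_comm_or_braid hS hd he h1).1; simp only [mul_assoc] at this ⊢; exact this.symm)
    (by have := (tt_comm_or_braid hS hv he h2).1; simp only [mul_assoc] at this ⊢; exact this)
  refine ⟨φ, s4Hom_injective φ ?_, h01, h12, h23⟩
  rw [map_mul, h01, h23, Ne, mul_eq_one_iff_eq_inv, inv_inv_self (hS.1 v hv)]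
  exact hne

omit [Finite G] in
theorem string_facts (hS : IsThreeTranspositionSet D) {d v e : G} (hd : d ∈ D) (hv : v ∈ D)
    (he : e ∈ D) (hne : d ≠ v) (hdv : Commute d v) (h1 : ¬ Commute d e) (h2 : ¬ Commute v e) :
    Commute e ((d * v) * e * (d * v)) ∧ (d * v) * e * (d * v) ≠ e ∧
      e * (d * v) * e = (d * v) * (e * ((d * v) * e * (d * v))) ∧
      Commute (d * v) (e * ((d * v) * e * (d * v))) := by
  obtain ⟨φ, hinj, h01, h12, h23⟩ := exists_string_hom hS hd hv he hne hdv h1 h2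
  rw [← h01, ← h12, ← h23]
  simp only [← map_mul]
  refine ⟨?_, fun h => ?_, ?_, ?_⟩
  · refine Commute.map ?_ φ; show _ * _ = _ * _; decide
  · exact absurd (hinj h) (by decide)
  · exact congrArg φ (by decide)
  · refine Commute.map ?_ φ; show _ * _ = _ * _; decide

theorem commuting_pairs_iso (hD : IsThreeTranspositionClass D)
    (hD2 : ∃ a ∈ D, ∃ b ∈ D, a ≠ b) {d : G} (hd : d ∈ D)
    (hV : {y : G | y ∈ D ∧ Commute d y} = {v : G | v ∈ D ∧ ∀ e ∈ D, Commute v e ↔ Commute d e})
    (hm : {y : G | y ∈ D ∧ Commute d y}.ncard = 2) : Nonempty (G ≃* Equiv.Perm (Fin 4)) := by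
  classical
  obtain ⟨⟨hS, hc, hgen⟩, hconj⟩ := class_data hD
  have hcc := commSame_of_class hD hd hV
  have hna := class_not_commutative hD hD2
  -- commuting classes all have two members
  have hsize : ∀ e ∈ D, {y : G | y ∈ D ∧ Commute e y}.ncard = 2 := by
    intro e he
    obtain ⟨g, rfl⟩ := hconj d hd e he
    rw [← hm, ← Set.ncard_image_of_injective {y : G | y ∈ D ∧ Commute d y} (MulAut.conj g).injective]
    congr 1
    ext y
    constructor
    · rintro ⟨hy, hyc⟩
      refine ⟨g⁻¹ * y * g, ⟨by simpa using hc g⁻¹ y hy, ?_⟩, by simp [mul_assoc]⟩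
      have := (commute_conj (a := g⁻¹)).2 hyc
      convert this using 1 <;> group
    · rintro ⟨y, ⟨hy, hyc⟩, rfl⟩
      exact ⟨hc g y hy, commute_conj.2 hyc⟩
  have huniq : ∀ e ∈ D, ∀ p ∈ D, ∀ q ∈ D, Commute e p → Commute e q → p ≠ e → q ≠ e → p = q := by
    intro e he p hp q hq hep heq hpe hqe
    by_contra hpq
    have hle : ({e, p, q} : Set G).ncard ≤ {y : G | y ∈ D ∧ Commute e y}.ncard :=
      Set.ncard_le_ncard (by
        rintro _ (rfl | rfl | rfl)
        exacts [⟨he, Commute.refl _⟩, ⟨hp, hep⟩, ⟨hq, heq⟩]) (Set.toFinite _)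
    rw [hsize e he, Set.ncard_insert_of_notMem (by simp [hpe.symm, hqe.symm]), Set.ncard_pair hpq]
      at hle
    omega
  obtain ⟨v, ⟨hv, hdv⟩, hvd⟩ := Set.exists_ne_of_one_lt_ncard
    (s := {y : G | y ∈ D ∧ Commute d y}) (by omega) d
  have hnon : ∀ {p q e : G}, p ∈ D → q ∈ D → e ∈ D → Commute p q → ¬ Commute p e → ¬ Commute q e :=
    fun hp hq he hpq h h' => h ((hcc _ hp _ hq hpq _ he).1 h')
  obtain ⟨a, ha, hda⟩ : ∃ a ∈ D, ¬ Commute d a := by
    by_contra h
    push Not at h
    exact hna fun x hx y hy => (hcc d hd x hx (h x hx) y hy).2 (h y hy)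
  have hva := hnon hd hv ha hdv hda
  obtain ⟨φ, hinj, h01, h12, h23⟩ := exists_string_hom hS hd hv ha hvd.symm hdv hda hva
  have hφ : ∀ {s t : Equiv.Perm (Fin 4)}, s = t → φ s = φ t := fun h => congrArg φ h
  -- the six transpositions
  set b := (d * v) * a * (d * v) with hb
  set c := d * a * d with hcdef
  have hmemD : ∀ {p q : G}, p ∈ D → q ∈ D → q * p * q ∈ D := fun hp hq => conj_mem_self hS hc hq hp
  have hbD : b ∈ D := by
    have h := hmemD (hmemD ha hv) hd
    rw [hb]
    convert h using 1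
    conv_lhs => arg 2; rw [hdv.eq]
    group
  have hcD : c ∈ D := hmemD ha hd
  set c' := (d * v) * c * (d * v) with hc'
  have hc'D : c' ∈ D := by
    have h := hmemD (hmemD hcD hv) hd
    rw [hc']
    convert h using 1
    conv_lhs => arg 2; rw [hdv.eq]
    group
  have eb : φ (Equiv.swap 0 3) = b := by
    rw [hb, ← h01, ← h12, ← h23]; simp only [← map_mul]; exact hφ (by decide)
  have ec : φ (Equiv.swap 0 2) = c := by
    rw [hcdef, ← h01, ← h12]; simp only [← map_mul]; exact hφ (by decide)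
  have ec' : φ (Equiv.swap 1 3) = c' := by
    rw [hc', ← ec, ← h01, ← h23]; simp only [← map_mul]; exact hφ (by decide)
  have hab : Commute a b := by
    rw [← h12, ← eb]; refine Commute.map ?_ φ; show _ * _ = _ * _; decide
  have hba : b ≠ a := by rw [← h12, ← eb]; exact fun h => absurd (hinj h) (by decide)
  have hcc' : Commute c c' := by
    rw [← ec, ← ec']; refine Commute.map ?_ φ; show _ * _ = _ * _; decide
  have hc'c : c' ≠ c := by rw [← ec, ← ec']; exact fun h => absurd (hinj h) (by decide)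
  have htu : c * c' = (d * v) * (a * b) := by
    rw [← ec, ← ec', ← h01, ← h23, ← h12, ← eb]; simp only [← map_mul]; exact hφ (by decide)
  have hall : ∀ e ∈ D, Commute d e ∨ Commute a e ∨ Commute c e := by
    intro e he
    by_contra hn
    push Not at hn
    obtain ⟨n1, n2, n3⟩ := hn
    obtain ⟨f1, g1, i1, -⟩ := string_facts hS hd hv he hvd.symm hdv n1 (hnon hd hv he hdv n1)
    obtain ⟨f2, g2, i2, j2⟩ := string_facts hS ha hbD he hba.symm hab n2 (hnon ha hbD he hab n2)
    obtain ⟨f3, g3, i3, -⟩ := string_facts hS hcD hc'D he hc'c.symm hcc' n3 (hnon hcD hc'D he hcc' n3)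
    have hpD : ∀ {p q : G}, p ∈ D → q ∈ D → Commute p q → (p * q) * e * (p * q) ∈ D := by
      intro p q hp hq hpq
      have h := hmemD (hmemD he hq) hp
      convert h using 1
      conv_lhs => arg 2; rw [hpq.eq]
      group
    have e12 := huniq e he _ (hpD hd hv hdv) _ (hpD ha hbD hab) f1 f2 g1 g2
    have e13 := huniq e he _ (hpD hd hv hdv) _ (hpD hcD hc'D hcc') f1 f3 g1 g3
    obtain ⟨P, hP⟩ : ∃ P, P = (d * v) * e * (d * v) := ⟨_, rfl⟩
    rw [← hP] at e12 e13 i1 g1 f1
    rw [← e12] at i2 j2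
    rw [← e13] at i3
    have hE2 : (e * P) * (e * P) = 1 := by
      rw [← pow_two, f1.mul_pow, pow_two, pow_two, inv_sq (hS.1 e he), one_mul, hP]
      exact inv_sq (hS.1 _ (hpD hd hv hdv))
    have h1 : e * (c * c') * e = (d * v) * (a * b) := by
      calc e * (c * c') * e = e * ((d * v) * (a * b)) * e := by rw [htu]
        _ = (e * (d * v) * e) * (e * (a * b) * e) := by
          simp only [mul_assoc]; rw [← mul_assoc e e, inv_sq (hS.1 e he), one_mul]
        _ = (d * v) * ((e * P) * ((a * b) * (e * P))) := by rw [i1, i2]; simp only [mul_assoc]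
        _ = (d * v) * ((e * P) * ((e * P) * (a * b))) := by rw [j2.eq]
        _ = _ := by rw [← mul_assoc (e * P), hE2, one_mul]
    rw [h1, htu] at i3
    have hEP : e * P = 1 := mul_eq_left.1 i3.symm
    exact g1 (by rw [eq_inv_of_mul_eq_one_right hEP, inv_inv_self (hS.1 e he)])
  have hsurj : Function.Surjective φ := by
    rw [← MonoidHom.range_eq_top, eq_top_iff, ← hgen, Subgroup.closure_le]
    intro e he
    have key : ∀ p ∈ D, ∀ q ∈ D, Commute p q → q ≠ p → (∃ s, φ s = p) → (∃ s, φ s = q) →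
        Commute p e → e ∈ φ.range := by
      intro p hp q hq hpq hqp hsp hsq hpe
      by_cases hep : e = p
      · exact hep ▸ hsp
      · exact (huniq p hp e he q hq hpe hpq hep hqp) ▸ hsq
    rcases hall e he with h | h | h
    exacts [key d hd v hv hdv hvd ⟨_, h01⟩ ⟨_, h23⟩ h, key a ha b hbD hab hba ⟨_, h12⟩ ⟨_, eb⟩ h,
      key c hcD c' hc'D hcc' hc'c ⟨_, ec⟩ ⟨_, ec'⟩ h]
  exact ⟨(MulEquiv.ofBijective φ ⟨hinj, hsurj⟩).symm⟩

end Cfsg.Agent.Lib.ThreeTransp
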