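import Cfsg.Agent.Lib.ThreeTransp.PrimitiveMain

/-!
Products of commuting members: separation properties of the commuting graph.
-/

set_option autoImplicit false

namespace Cfsg.Agent.Lib.ThreeTransp.Products

open Cfsg Cfsg.Agent.Lib.ThreeTransp

variable {G : Type*} [Group G] {D : Set G}

/-- A member of `D` commuting with a product of two commuting members commutes with both. -/
theorem pair_commute (hS : IsThreeTranspositionSet D) {a b x : G} (ha : a ∈ D) (hb : b ∈ D)
    (hx : x ∈ D) (hne : a ≠ b) (hab : Commute a b) (h : Commute x (a * b)) :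
    Commute x a ∧ Commute x b := by
  have hai := inv_sq (hS.1 a ha)
  have hbi := inv_sq (hS.1 b hb)
  have hxi := inv_sq (hS.1 x hx)
  have h' : Commute x (b * a) := hab.eq ▸ h
  by_cases hxa : Commute x a
  · refine ⟨hxa, ?_⟩
    have := hxa.mul_right h
    rwa [← mul_assoc, hai, one_mul] at this
  exfalso
  have hxb : ¬ Commute x b := fun hxb => hxa (by
    have := hxb.mul_right h'
    rwa [← mul_assoc, hbi, one_mul] at this)
  have e1 := (tt_comm_or_braid hS hx ha hxa).1
  have e2 := (tt_comm_or_braid hS hx hb hxb).1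
  have key : (x * a * x) * (x * b * x) = a * b := by
    calc (x * a * x) * (x * b * x) = x * (a * ((x * x) * b)) * x := by simp only [mul_assoc]
      _ = x * (a * b) * x := by rw [hxi, one_mul]
      _ = a * b := by rw [h.eq, mul_assoc, hxi, mul_one]
  rw [e1, e2] at key
  have k2 : x * a * b * x = 1 := by
    calc x * a * b * x = a * ((a * x * a) * (b * x * b)) * b := by
          simp only [← mul_assoc, hai, one_mul]
          simp only [mul_assoc, hbi, mul_one]
      _ = a * (a * b) * b := by rw [key]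
      _ = 1 := by rw [← mul_assoc, hai, one_mul, hbi]
  refine hne ?_
  have k3 : a * b = 1 := by
    calc a * b = x * (x * a * b * x) * x := by
          simp only [← mul_assoc, hxi, one_mul]
          simp only [mul_assoc, hxi, mul_one]
      _ = 1 := by rw [k2, mul_one, hxi]
  rw [eq_inv_of_mul_eq_one_left k3, inv_inv_self (hS.1 b hb)]

/-- A member of `D` commuting with a product of three commuting members commutes with each. -/
theorem triple_commute (hS : IsThreeTranspositionSet D) {a b c x : G} (ha : a ∈ D) (hb : b ∈ D)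
    (hc : c ∈ D) (hx : x ∈ D) (nab : a ≠ b) (nac : a ≠ c) (nbc : b ≠ c)
    (hab : Commute a b) (hac : Commute a c) (hbc : Commute b c) (h : Commute x (a * b * c)) :
    Commute x a ∧ Commute x b ∧ Commute x c := by
  have hai := inv_sq (hS.1 a ha)
  have hbi := inv_sq (hS.1 b hb)
  have hci := inv_sq (hS.1 c hc)
  have hxi := inv_sq (hS.1 x hx)
  by_cases hxc : Commute x c
  · have hp : Commute x (a * b) := by
      have := h.mul_right hxc
      rwa [mul_assoc, hci, mul_one] at this
    obtain ⟨h1, h2⟩ := pair_commute hS ha hb hx nab hab hp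
    exact ⟨h1, h2, hxc⟩
  by_cases hxa : Commute x a
  · have hp : Commute x (b * c) := by
      have := hxa.mul_right h
      rwa [← mul_assoc, ← mul_assoc, hai, one_mul] at this
    obtain ⟨h1, h2⟩ := pair_commute hS hb hc hx nbc hbc hp
    exact ⟨hxa, h1, h2⟩
  exfalso
  have hxb : ¬ Commute x b := by
    intro hxb
    have hp : Commute x (a * c) := by
      have := hxb.mul_right h
      rwa [← mul_assoc, ← mul_assoc, hab.symm.eq, mul_assoc a b b, hbi, mul_one] at this
    exact hxa (pair_commute hS ha hc hx nac hac hp).1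
  have e1 := (tt_comm_or_braid hS hx ha hxa).1
  have e2 := (tt_comm_or_braid hS hx hb hxb).1
  have e3 := (tt_comm_or_braid hS hx hc hxc).1
  have a1 : ∀ r, a * (a * r) = r := fun r => by rw [← mul_assoc, hai, one_mul]
  have x1 : ∀ r, x * (x * r) = r := fun r => by rw [← mul_assoc, hxi, one_mul]
  -- `x * a * b * x * b * c * x * c = b * c`
  have key : a * x * a * (b * x * b) * (c * x * c) = a * b * c := by
    rw [← e1, ← e2, ← e3]
    calc x * a * x * (x * b * x) * (x * c * x) = x * (a * b * c) * x := by simp only [mul_assoc, x1]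
      _ = a * b * c := by rw [h.eq, mul_assoc, hxi, mul_one]
  have k2 : x * a * b * x * b * c * x * b = 1 := by
    have h2 : x * (a * (b * (x * (b * (c * (x * c)))))) = b * c := by
      have := congrArg (fun r => a * r) key
      simpa only [mul_assoc, a1] using this
    have h3 : x * (a * (b * (x * (b * (c * x))))) = b := by
      have := congrArg (fun r => r * c) h2
      simpa only [mul_assoc, hci, mul_one] using this
    have := congrArg (fun r => r * b) h3
    simpa only [mul_assoc, hbi] using this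
  have k4 : c = a * (b * x * b) * a := by
    have h4 : b * (a * (x * (b * c))) = b * x * b := by
      have := congrArg (fun r => x * r * (b * x)) k2
      simp only [mul_one] at this
      calc b * (a * (x * (b * c))) = x * (x * a * b * x * b * c * x * b) * (b * x) := by
            rw [show b * (a * (x * (b * c))) = a * (b * (x * (b * c))) by
              rw [← mul_assoc, ← hab.eq, mul_assoc]]
            simp only [mul_assoc, x1]
            rw [← mul_assoc b b, hbi, one_mul, hxi, mul_one]
        _ = x * (b * x) := this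
        _ = b * x * b := by rw [← mul_assoc, e2]
    have h5 : a * (x * (b * c)) = x * b := by
      have := congrArg (fun r => b * r) h4
      simpa only [← mul_assoc, hbi, one_mul] using this
    have h6 : c = b * (x * (a * (x * b))) := by
      rw [← h5, a1, x1, ← mul_assoc, hbi, one_mul]
    rw [h6]
    calc b * (x * (a * (x * b))) = b * (x * a * x) * b := by simp only [mul_assoc]
      _ = b * (a * x * a) * b := by rw [e1]
      _ = (b * a) * x * (a * b) := by simp only [mul_assoc]
      _ = (a * b) * x * (b * a) := by rw [hab.eq]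
      _ = a * (b * x * b) * a := by simp only [mul_assoc]
  have k5 : c = b * x * b := by
    calc c = a * c * a := by rw [hac.eq, mul_assoc, hai, mul_one]
      _ = a * (a * (b * x * b) * a) * a := by rw [← k4]
      _ = b * x * b := by simp only [mul_assoc, a1, hai, mul_one]
  refine hxa ?_
  have : c = x := by
    calc c = b * c * b := by rw [hbc.eq, mul_assoc, hbi, mul_one]
      _ = b * (b * x * b) * b := by rw [← k5]
      _ = x := by simp only [← mul_assoc, hbi, one_mul]; rw [mul_assoc, hbi, mul_one]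
  exact this ▸ hac.symm

/-! ### Graph properties of a set -/

/-- Commutes with the whole set. -/
def Cen (K : Set G) (x : G) : Prop := ∀ y ∈ K, Commute x y

/-- Some member is not central. -/
def NC (K : Set G) : Prop := ∃ y ∈ K, ∃ z ∈ K, ¬ Commute y z

/-- No commuting decomposition with non-central parts. -/
def Conn (K : Set G) : Prop :=
  ∀ A ⊆ K, (∀ x ∈ A, ∀ y ∈ K, y ∉ A → Commute x y) →
    (∀ x ∈ A, Cen K x) ∨ ∀ x ∈ K, x ∉ A → Cen K x

/-- Different members have incomparable sets of commuting members. -/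
def Sep (K : Set G) : Prop :=
  ∀ c ∈ K, ∀ d ∈ K, (∀ y ∈ K, Commute c y → Commute d y) → c = d

/-- Different noncentral members have incomparable sets of commuting members. -/
def CoreSep (K : Set G) : Prop :=
  ∀ c ∈ K, ∀ d ∈ K, ¬ Cen K c → ¬ Cen K d → (∀ y ∈ K, Commute c y → Commute d y) → c = d

theorem Sep.not_cen {K : Set G} (h : Sep K) (h2 : NC K) {x : G} (hx : x ∈ K) : ¬ Cen K x := by
  intro hc
  have hall : ∀ y ∈ K, y = x := fun y hy => h y hy x hx fun z hz _ => hc z hz
  obtain ⟨y, hy, z, hz, hyz⟩ := h2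
  exact hyz (by rw [hall y hy, hall z hz])

theorem sep_conj (g : G) (hc : ∀ g : G, ∀ d ∈ D, g * d * g⁻¹ ∈ D) {b : G}
    (h : Sep (nbr D b)) : Sep (nbr D (g * b * g⁻¹)) := by
  intro c hc' d hd hincl
  rw [nbr_conj hc] at hc' hd
  have := h _ hc' _ hd fun y hy hcy => by
    have hy' : g * y * g⁻¹ ∈ nbr D (g * b * g⁻¹) := by
      rw [nbr_conj hc]; convert hy using 1; group
    have h1 := hincl _ hy' (by
      have := (commute_conj (a := g)).2 hcy
      convert this using 1; group)
    have := (commute_conj (a := g⁻¹)).2 h1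
    convert this using 1 <;> group
  simpa using this

theorem nc_conjugate [Finite G] (hS : IsThreeTranspositionSet D) {x y : G} (hx : x ∈ D) (hy : y ∈ D)
    (h : ¬ Commute x y) : ∃ g, y = g * x * g⁻¹ :=
  ⟨x * y, conj_of_not_commute hS hx hy h⟩

/-- A connected generating set without central members is one class. -/
theorem conj_of_conn [Finite G] (hD : IsThreeTranspositionGroup D) (hconn : Conn D) (hnc : ∀ x ∈ D, ¬ Cen D x) :
    ∀ a ∈ D, ∀ b ∈ D, ∃ g : G, b = g * a * g⁻¹ := by
  intro a ha b hb
  by_contra hba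
  have hsub : {x | x ∈ D ∧ ∃ g : G, x = g * a * g⁻¹} ⊆ D := fun x h => h.1
  rcases hconn _ hsub (fun x hx y hy hyA => by
    by_contra h
    obtain ⟨g, hg⟩ := nc_conjugate hD.1 hx.1 hy h
    obtain ⟨-, k, hk⟩ := hx
    exact hyA ⟨hy, g * k, by rw [hg, hk]; group⟩) with h | h
  · exact hnc a ha (h a ⟨ha, 1, by group⟩)
  · exact hnc b hb (h b hb fun h => hba h.2)

theorem ncard_comm_conj [Finite G] (hc : ∀ g : G, ∀ d ∈ D, g * d * g⁻¹ ∈ D) (g a : G) :
    {y | y ∈ D ∧ Commute (g * a * g⁻¹) y}.ncard = {y | y ∈ D ∧ Commute a y}.ncard := by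
  have : {y | y ∈ D ∧ Commute (g * a * g⁻¹) y} = (fun v => g * v * g⁻¹) '' {y | y ∈ D ∧ Commute a y} := by
    ext y
    constructor
    · rintro ⟨hy, h⟩
      refine ⟨g⁻¹ * y * g, ⟨by simpa using hc g⁻¹ y hy, ?_⟩, by group⟩
      have := (commute_conj (a := g⁻¹)).2 h
      convert this using 1 <;> group
    · rintro ⟨v, ⟨hv, h⟩, rfl⟩
      exact ⟨hc g v hv, commute_conj.2 h⟩
  rw [this]
  exact Set.ncard_image_of_injective _ (MulAut.conj g).injective

theorem sameComm_of_incl [Finite G] (hc : ∀ g : G, ∀ d ∈ D, g * d * g⁻¹ ∈ D) {a a' g : G}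
    (hg : a' = g * a * g⁻¹) (h : ∀ y ∈ D, Commute a y → Commute a' y) : SameComm D a' a := by
  have he : {y | y ∈ D ∧ Commute a y} = {y | y ∈ D ∧ Commute a' y} :=
    Set.eq_of_subset_of_ncard_le (fun y hy => ⟨hy.1, h y hy.1 hy.2⟩)
      (by rw [hg, ncard_comm_conj hc]) (Set.toFinite _)
  intro e hee
  refine ⟨fun h' => ?_, h e hee⟩
  have : e ∈ {y | y ∈ D ∧ Commute a' y} := ⟨hee, h'⟩
  rw [← he] at this
  exact this.2

/-- A class with trivial 2-core is separated. -/
theorem sep_of_class [Finite G] (hD : IsThreeTranspositionGroup D)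
    (hconj : ∀ a ∈ D, ∀ b ∈ D, ∃ g : G, b = g * a * g⁻¹) (h2 : pCore 2 G = ⊥) : Sep D := by
  intro c hc d hd hincl
  obtain ⟨g, hg⟩ := hconj c hc d hd
  have h := mul_mem_pCore_two hD.1 hD.2.1 hc hd (sameComm_of_incl hD.2.1 hg hincl)
  rw [h2, Subgroup.mem_bot] at h
  rw [eq_inv_of_mul_eq_one_left h, inv_inv_self (hD.1.1 d hd)]

/-- Separation climbs from the neighbours of one member to the class. -/
theorem climb [Finite G] (hD : IsThreeTranspositionGroup D)
    (hconj : ∀ a ∈ D, ∀ b ∈ D, ∃ g : G, b = g * a * g⁻¹) {b : G} (hb : b ∈ D)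
    (hsep : CoreSep (nbr D b)) (hnc : NC (nbr D b)) : Sep D := by
  intro a ha a' ha' hincl
  obtain ⟨g₁, hg₁⟩ := hconj a ha a' ha'
  have hsame := sameComm_of_incl hD.2.1 hg₁ hincl
  obtain ⟨y, hy, z, hz, hyz⟩ := hnc
  obtain ⟨g, hg⟩ := hconj a ha y hy.1
  have hs := sameComm_conj hD.2.1 g hsame
  rw [← hg] at hs
  set y' := g * a' * g⁻¹ with hy'
  have hyb : Commute y' b := (hs b hb).2 hy.2.2.symm
  have hy'z : ¬ Commute y' z := fun h => hyz ((hs z hz.1).1 h)
  have hy'mem : y' ∈ nbr D b := ⟨hD.2.1 g a' ha', fun e => hy'z (e ▸ hz.2.2), hyb.symm⟩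
  have := hsep y hy y' hy'mem (fun h => hyz (h z hz)) (fun h => hy'z (h z hz))
    fun w hw h => (hs w hw.1).2 h
  rw [hg, hy'] at this
  simpa using this

theorem nbr_not_cen (hsep : Sep D) {b : G} (hb : b ∈ D) {d : G}
    (hd : d ∈ nbr D b) : ¬ Cen (nbr D b) d := by
  intro h
  refine hd.2.1 (hsep b hb d hd.1 fun y hy hby => ?_).symm
  by_cases hyb : y = b
  · rw [hyb]; exact hd.2.2.symm
  · exact h y ⟨hy, hyb, hby⟩

theorem sep_nbr [Finite G] (hD : IsThreeTranspositionGroup D)
    (hconj : ∀ a ∈ D, ∀ b ∈ D, ∃ g : G, b = g * a * g⁻¹) (hsep : Sep D) {b : G} (hb : b ∈ D)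
    (hcore : CoreSep (nbr D b)) : ∀ b' ∈ D, Sep (nbr D b') := by
  have h : Sep (nbr D b) := fun c hc d hd hincl =>
    hcore c hc d hd (nbr_not_cen hsep hb hc) (nbr_not_cen hsep hb hd) hincl
  intro b' hb'
  obtain ⟨g, rfl⟩ := hconj b hb b' hb'
  exact sep_conj g hD.2.1 h

/-! ### Uniqueness of products -/

theorem pair_unique (hS : IsThreeTranspositionSet D) (hsep : Sep D)
    {a b c d : G} (ha : a ∈ D) (hb : b ∈ D) (hc : c ∈ D) (hd : d ∈ D) (nab : a ≠ b) (ncd : c ≠ d)
    (hab : Commute a b) (hcd : Commute c d) (h : a * b = c * d) : c = a ∨ c = b := by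
  by_contra hne
  push Not at hne
  have hai := inv_sq (hS.1 a ha)
  have hbi := inv_sq (hS.1 b hb)
  have hdi := inv_sq (hS.1 d hd)
  have hci := inv_sq (hS.1 c hc)
  have h1 : Commute c (a * b) := by rw [h]; exact (Commute.refl c).mul_right hcd
  obtain ⟨hca, hcb⟩ := pair_commute hS ha hb hc nab hab h1
  have h2 : Commute d (a * b) := by rw [h]; exact hcd.symm.mul_right (Commute.refl d)
  obtain ⟨hda, hdb⟩ := pair_commute hS ha hb hd nab hab h2
  have hdeq : d = c * a * b := by rw [mul_assoc, h, ← mul_assoc, hci, one_mul]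
  have hda' : d ≠ a := fun e => by
    apply hne.2
    have : a * b = a * c := by rw [h, e, hca.eq]
    exact (mul_left_cancel this).symm
  have hdb' : d ≠ b := fun e => by
    apply hne.1
    have : a * b = c * b := by rw [h, e]
    exact (mul_right_cancel this).symm
  have haeq : a = c * d * b := by rw [← h, mul_assoc, hbi, mul_one]
  refine nab (hsep a ha b hb fun y hy hay => ?_)
  have : Commute y (c * d * b) := haeq ▸ hay.symm
  exact (triple_commute hS hc hd hb hy ncd hne.2 hdb' hcd hcb hdb this).2.2.symm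

theorem triple_unique (hS : IsThreeTranspositionSet D)
    (hsep : ∀ a ∈ D, ∀ b ∈ D, a ≠ b → Commute a b → Sep (nbr D a ∩ nbr D b))
    {a b c d e f : G} (ha : a ∈ D) (hb : b ∈ D) (hc : c ∈ D) (hd : d ∈ D) (he : e ∈ D) (hf : f ∈ D)
    (nab : a ≠ b) (nac : a ≠ c) (nbc : b ≠ c) (nde : d ≠ e) (ndf : d ≠ f) (nef : e ≠ f)
    (hab : Commute a b) (hac : Commute a c) (hbc : Commute b c) (hde : Commute d e) (hdf : Commute d f)
    (hef : Commute e f) (h : a * b * c = d * e * f) : d = a ∨ d = b ∨ d = c := by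
  by_contra hne
  push Not at hne
  have hj : Commute d (a * b * c) := by
    rw [h]; exact ((Commute.refl d).mul_right hde).mul_right hdf
  obtain ⟨hda, hdb, hdc⟩ := triple_commute hS ha hb hc hd nab nac nbc hab hac hbc hj
  refine hne.2.2 (hsep a ha b hb nab hab c ⟨⟨hc, nac.symm, hac⟩, hc, nbc.symm, hbc⟩ d
    ⟨⟨hd, hne.1, hda.symm⟩, hd, hne.2.1, hdb.symm⟩ fun y hy hcy => ?_).symm
  have hy1 : Commute y (d * e * f) := by
    rw [← h]; exact (hy.1.2.2.symm.mul_right hy.2.2.2.symm).mul_right hcy.symm
  exact (triple_commute hS hd he hf hy.1.1 nde ndf nef hde hdf hef hy1).1.symm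

end Cfsg.Agent.Lib.ThreeTransp.Products
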