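import Cfsg.Agent.Lib.ThreeTransp.ClassEquiv

/-!
The classes of the two equivalence relations as cosets and orbits of the 2- and 3-cores.
-/

set_option autoImplicit false

namespace Cfsg.Agent.Lib.ThreeTransp

open Cfsg

variable {G : Type*} [Group G] {D : Set G}

theorem eq_of_mul_mem_pGroup {p : ℕ} [Fact p.Prime] {P : Subgroup G} (hP : IsPGroup p ↥P) {n : ℕ}
    (hn : p.Coprime n) {a b : G} (ha : orderOf a = 2) (h : b * a ∈ P) (hp : (b * a) ^ n = 1) :
    b = a := by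
  obtain ⟨k, hk⟩ := IsPGroup.iff_orderOf.1 hP ⟨b * a, h⟩
  rw [Subgroup.orderOf_mk] at hk
  have h1 : orderOf (b * a) = 1 :=
    Nat.eq_one_of_dvd_coprimes (Nat.Coprime.pow_left k hn) hk.dvd (orderOf_dvd_of_pow_eq_one hp)
  rw [orderOf_eq_one_iff] at h1
  rw [eq_inv_of_mul_eq_one_left h1, inv_inv_self ha]

/-- Noncommuting members whose images commute are congruent. -/
theorem mul_mem_of_commute_mod (hD : IsThreeTranspositionSet D) {N : Subgroup G} [N.Normal] {a b : G}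
    (ha : a ∈ D) (hb : b ∈ D) (h : ¬ Commute a b)
    (hq : Commute (QuotientGroup.mk' N a) (QuotientGroup.mk' N b)) : a * b ∈ N := by
  have h3 := (tt_comm_or_braid hD ha hb h).2
  rw [← QuotientGroup.eq_one_iff]
  have e2 : (QuotientGroup.mk' N (a * b)) ^ 2 = 1 := by
    rw [map_mul, hq.mul_pow, ← map_pow, ← map_pow, pow_two, pow_two, inv_sq (hD.1 a ha),
      inv_sq (hD.1 b hb), map_one, one_mul]
  have e3 : (QuotientGroup.mk' N (a * b)) ^ 3 = 1 := by rw [← map_pow, h3, map_one]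
  rw [pow_succ, e2, one_mul] at e3
  exact e3

/-- A member congruent to `d`: whatever commutes with one and not the other is congruent too. -/
theorem mul_mem_of_congr (hD : IsThreeTranspositionSet D) {N : Subgroup G} [N.Normal] {d v e : G}
    (hd : d ∈ D) (hv : v ∈ D) (he : e ∈ D) (hdv : d * v ∈ N) (h1 : Commute e d)
    (h2 : ¬ Commute e v) : e * v ∈ N ∧ e * d ∈ N := by
  have hmk : (QuotientGroup.mk' N v) = QuotientGroup.mk' N d := by
    have : QuotientGroup.mk' N (d * v) = 1 := (QuotientGroup.eq_one_iff _).2 hdv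
    rw [map_mul] at this
    rw [eq_inv_of_mul_eq_one_right this, ← map_inv, inv_inv_self (hD.1 d hd)]
  have hev := mul_mem_of_commute_mod hD he hv h2 (N := N) (by rw [hmk]; exact h1.map _)
  refine ⟨hev, ?_⟩
  have := N.mul_mem hev (N.inv_mem hdv)
  rw [mul_inv_rev, inv_inv_self (hD.1 d hd), inv_inv_self (hD.1 v hv)] at this
  rwa [show e * v * (v * d) = e * (v * v) * d by group, inv_sq (hD.1 v hv), mul_one] at this

theorem sameComm_of_mem_pCore [Finite G] (hD : IsThreeTranspositionSet D) {d v : G} (hd : d ∈ D)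
    (hv : v ∈ D) (h : d * v ∈ pCore 2 G) : SameComm D v d := by
  haveI : Fact (Nat.Prime 2) := ⟨Nat.prime_two⟩
  have key : ∀ {d v : G}, d ∈ D → v ∈ D → d * v ∈ pCore 2 G → ∀ e ∈ D, Commute e d → Commute e v := by
    intro d v hd hv h e he hed
    by_contra hev
    obtain ⟨h1, -⟩ := mul_mem_of_congr hD hd hv he h hed hev
    have h3 := (tt_comm_or_braid hD he hv hev).2
    exact hev (by rw [eq_of_mul_mem_pGroup (Lib.Cores.pCore_isPGroup 2 G) (by norm_num : Nat.Coprime 2 3)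
      (hD.1 v hv) h1 h3])
  intro e he
  have h' : v * d ∈ pCore 2 G := by
    have := Subgroup.inv_mem _ h
    rwa [mul_inv_rev, inv_inv_self (hD.1 d hd), inv_inv_self (hD.1 v hv)] at this
  exact ⟨fun hc => (key hv hd h' e he hc.symm).symm, fun hc => (key hd hv h e he hc.symm).symm⟩

theorem nbr_of_mem_pCore [Finite G] (hD : IsThreeTranspositionSet D) {d w : G} (hd : d ∈ D)
    (hw : w ∈ D) (h : d * w ∈ pCore 3 G) : nbr D d = nbr D w := by
  haveI : Fact (Nat.Prime 3) := ⟨Nat.prime_three⟩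
  have key : ∀ {d w : G}, d ∈ D → w ∈ D → d * w ∈ pCore 3 G → nbr D d ⊆ nbr D w := by
    rintro d w hd hw h y ⟨hy, hne, hyd⟩
    refine ⟨hy, fun e => hne ?_, ?_⟩
    · subst e
      exact (eq_of_mul_mem_pGroup (Lib.Cores.pCore_isPGroup 3 G) (by norm_num : Nat.Coprime 3 2)
        (hD.1 y hy) h (sq_of_commute (hD.1 d hd) (hD.1 y hy) hyd)).symm
    · by_contra hyw
      obtain ⟨-, h1⟩ := mul_mem_of_congr hD hd hw hy h hyd.symm (fun h' => hyw h'.symm)
      exact hne (eq_of_mul_mem_pGroup (Lib.Cores.pCore_isPGroup 3 G) (by norm_num : Nat.Coprime 3 2)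
        (hD.1 d hd) h1 (sq_of_commute (hD.1 y hy) (hD.1 d hd) hyd.symm))
  refine Set.Subset.antisymm (key hd hw h) (key hw hd ?_)
  have := Subgroup.inv_mem _ h
  rwa [mul_inv_rev, inv_inv_self (hD.1 d hd), inv_inv_self (hD.1 w hw)] at this

/-- Members with the same commuting members are conjugate under the 2-core. -/
theorem exists_conj_pCore_two [Finite G] (hD : IsThreeTranspositionGroup D) {d v : G} (hd : d ∈ D)
    (hv : v ∈ D) (h : SameComm D v d) (hvd : ∃ g, v = g * d * g⁻¹) :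
    ∃ g ∈ pCore 2 G, v = g * d * g⁻¹ := by
  obtain ⟨hS, hc, hgen⟩ := hD
  by_cases hne : d = v
  · exact ⟨1, one_mem _, by simp [hne]⟩
  by_cases hcen : ∀ a ∈ D, Commute d a
  · exfalso
    apply hne
    obtain ⟨g, rfl⟩ := hvd
    have hg : g ∈ Subgroup.centralizer ({d} : Set G) := by
      have : Subgroup.closure D ≤ Subgroup.centralizer ({d} : Set G) :=
        (Subgroup.closure_le _).2 fun a ha => Subgroup.mem_centralizer_singleton_iff.2 (hcen a ha).symm
      exact this (hgen ▸ Subgroup.mem_top g)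
    rw [Subgroup.mem_centralizer_singleton_iff.1 hg, mul_inv_cancel_right]
  push Not at hcen
  obtain ⟨a, ha, hda⟩ := hcen
  have hva : ¬ Commute v a := fun h' => hda ((h a ha).1 h')
  have hdv : Commute d v := ((h d hd).2 (Commute.refl d)).symm
  obtain ⟨φ, h01, h12, h23⟩ := s4Hom_exists (inv_sq (hS.1 d hd)) (inv_sq (hS.1 a ha))
    (inv_sq (hS.1 v hv)) hdv.symm.eq
    (by have := (tt_comm_or_braid hS hd ha hda).1; simp only [mul_assoc] at this ⊢; exact this.symm)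
    (by have := (tt_comm_or_braid hS hv ha hva).1; simp only [mul_assoc] at this ⊢; exact this)
  have hperm : Equiv.swap (1 : Fin 4) 2 * (Equiv.swap 0 1 * Equiv.swap 2 3) * (Equiv.swap 1 2)⁻¹ *
      Equiv.swap 0 1 * (Equiv.swap 1 2 * (Equiv.swap 0 1 * Equiv.swap 2 3) * (Equiv.swap 1 2)⁻¹)⁻¹ =
      Equiv.swap 2 3 := by decide
  have := congrArg φ hperm
  simp only [map_mul, map_inv, h01, h12, h23] at this
  refine ⟨a * (d * v) * a⁻¹, ?_, this.symm⟩
  exact (inferInstance : (pCore 2 G).Normal).conj_mem _ (mul_mem_pCore_two hS hc hd hv h) a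

theorem class_data (hD : IsThreeTranspositionClass D) :
    IsThreeTranspositionGroup D ∧ ∀ a ∈ D, ∀ b ∈ D, ∃ g : G, b = g * a * g⁻¹ := by
  obtain ⟨hS, ⟨d0, -, hD0⟩, hgen⟩ := hD
  have hmem : ∀ x, x ∈ D ↔ IsConj d0 x := fun x => by
    conv_lhs => rw [hD0]
    exact Iff.rfl
  exact ⟨⟨hS, fun g d hd => (hmem _).2 (((hmem d).1 hd).trans (isConj_conj g d)), hgen⟩,
    fun a ha b hb => by
      obtain ⟨g, hg⟩ := isConj_iff.1 (((hmem a).1 ha).symm.trans ((hmem b).1 hb))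
      exact ⟨g, hg.symm⟩⟩

theorem class_core_two [Finite G] (hD : IsThreeTranspositionClass D) {d : G} (hd : d ∈ D) :
    {v : G | v ∈ D ∧ ∀ e ∈ D, Commute v e ↔ Commute d e} =
        {v : G | v ∈ D ∧ d⁻¹ * v ∈ pCore 2 G} ∧
      {v : G | v ∈ D ∧ ∀ e ∈ D, Commute v e ↔ Commute d e} =
        {v : G | ∃ g ∈ pCore 2 G, v = g * d * g⁻¹} := by
  obtain ⟨hG, hconj⟩ := class_data hD
  have hn : (pCore 2 G).Normal := inferInstance
  refine ⟨Set.ext fun v => ⟨fun ⟨hv, h⟩ => ⟨hv, ?_⟩, fun ⟨hv, h⟩ => ⟨hv, ?_⟩⟩,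
    Set.ext fun v => ⟨fun ⟨hv, h⟩ => exists_conj_pCore_two hG hd hv h (hconj d hd v hv), ?_⟩⟩
  · rw [inv_inv_self (hG.1.1 d hd)]; exact mul_mem_pCore_two hG.1 hG.2.1 hd hv h
  · rw [inv_inv_self (hG.1.1 d hd)] at h; exact sameComm_of_mem_pCore hG.1 hd hv h
  · rintro ⟨g, hg, rfl⟩
    refine ⟨hG.2.1 g d hd, sameComm_of_mem_pCore hG.1 hd (hG.2.1 g d hd) ?_⟩
    have := Subgroup.mul_mem _ (hn.conj_mem _ hg d) (Subgroup.inv_mem _ hg)
    rw [inv_inv_self (hG.1.1 d hd)] at this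
    simpa [mul_assoc] using this

theorem class_core_three [Finite G] (hD : IsThreeTranspositionClass D) {d : G} (hd : d ∈ D) :
    {w : G | w ∈ D ∧ nbr D d = nbr D w} = {w : G | w ∈ D ∧ d⁻¹ * w ∈ pCore 3 G} ∧
      {w : G | w ∈ D ∧ nbr D d = nbr D w} = {w : G | ∃ g ∈ pCore 3 G, w = g * d * g⁻¹} := by
  obtain ⟨hG, hconj⟩ := class_data hD
  have hn : (pCore 3 G).Normal := inferInstance
  refine ⟨Set.ext fun w => ⟨fun ⟨hw, h⟩ => ⟨hw, ?_⟩, fun ⟨hw, h⟩ => ⟨hw, ?_⟩⟩,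
    Set.ext fun w => ⟨fun ⟨hw, h⟩ => ?_, ?_⟩⟩
  · rw [inv_inv_self (hG.1.1 d hd)]; exact mul_mem_pCore_three hG.1 hG.2.1 hd hw h.symm
  · rw [inv_inv_self (hG.1.1 d hd)] at h; exact nbr_of_mem_pCore hG.1 hd hw h
  · by_cases hdw : Commute d w
    · exact ⟨1, one_mem _, by simp [eq_or_not_commute hd hd hw (Or.inl rfl) rfl h.symm hdw]⟩
    · exact ⟨d * w, mul_mem_pCore_three hG.1 hG.2.1 hd hw h.symm, conj_of_not_commute hG.1 hd hw hdw⟩
  · rintro ⟨g, hg, rfl⟩
    refine ⟨hG.2.1 g d hd, nbr_of_mem_pCore hG.1 hd (hG.2.1 g d hd) ?_⟩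
    have := Subgroup.mul_mem _ (hn.conj_mem _ hg d) (Subgroup.inv_mem _ hg)
    rw [inv_inv_self (hG.1.1 d hd)] at this
    simpa [mul_assoc] using this

end Cfsg.Agent.Lib.ThreeTransp
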