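import Cfsg.Agent.Lib.ThreeTransp.SymFour

/-!
The symmetric group of degree five as a Coxeter group.
-/

set_option autoImplicit false

namespace Cfsg.Agent.Lib.ThreeTransp

open Equiv

/-- The Coxeter relations of the symmetric group of degree five. -/
structure CoxFive {M : Type*} [Group M] (s : Fin 4 → M) : Prop where
  sq : ∀ i, s i * s i = 1
  b01 : s 1 * (s 0 * s 1) = s 0 * (s 1 * s 0)
  b12 : s 2 * (s 1 * s 2) = s 1 * (s 2 * s 1)
  b23 : s 3 * (s 2 * s 3) = s 2 * (s 3 * s 2)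
  c02 : s 2 * s 0 = s 0 * s 2
  c03 : s 3 * s 0 = s 0 * s 3
  c13 : s 3 * s 1 = s 1 * s 3

theorem CoxFive.bound {M : Type*} [Group M] {s : Fin 4 → M} (h : CoxFive s)
    (hgen : Subgroup.closure (Set.range s) = ⊤) : Finite M ∧ Nat.card M ≤ 120 := by
  classical
  obtain ⟨φ, h0, h1, h2⟩ := s4Hom_exists (h.sq 0) (h.sq 1) (h.sq 2) h.c02 h.b01 h.b12
  let r : Fin 5 → M := ![1, s 3, s 3 * s 2, s 3 * (s 2 * s 1), s 3 * (s 2 * (s 1 * s 0))]
  let F : Perm (Fin 4) × Fin 5 → M := fun w => φ w.1 * r w.2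
  have sX : ∀ i x, s i * (s i * x) = x := fun i x => by rw [← mul_assoc, h.sq, one_mul]
  have c02X : ∀ x, s 2 * (s 0 * x) = s 0 * (s 2 * x) := fun x => by rw [← mul_assoc, h.c02, mul_assoc]
  have c03X : ∀ x, s 3 * (s 0 * x) = s 0 * (s 3 * x) := fun x => by rw [← mul_assoc, h.c03, mul_assoc]
  have c13X : ∀ x, s 3 * (s 1 * x) = s 1 * (s 3 * x) := fun x => by rw [← mul_assoc, h.c13, mul_assoc]
  have b01X : ∀ x, s 1 * (s 0 * (s 1 * x)) = s 0 * (s 1 * (s 0 * x)) := fun x => by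
    rw [← mul_assoc (s 0) (s 1) x, ← mul_assoc (s 1), h.b01, mul_assoc, mul_assoc]
  have b12X : ∀ x, s 2 * (s 1 * (s 2 * x)) = s 1 * (s 2 * (s 1 * x)) := fun x => by
    rw [← mul_assoc (s 1) (s 2) x, ← mul_assoc (s 2), h.b12, mul_assoc, mul_assoc]
  have b23X : ∀ x, s 3 * (s 2 * (s 3 * x)) = s 2 * (s 3 * (s 2 * x)) := fun x => by
    rw [← mul_assoc (s 2) (s 3) x, ← mul_assoc (s 3), h.b23, mul_assoc, mul_assoc]
  let g : Fin 3 → Perm (Fin 4) := ![swap 0 1, swap 1 2, swap 2 3]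
  have hg : ∀ i : Fin 3, φ (g i) = ![s 0, s 1, s 2] i := fun i => by fin_cases i <;> assumption
  -- the multiplication table
  have htab : ∀ (j : Fin 5) (i : Fin 4), ∃ σ k, r j * s i = φ σ * r k := by
    intro j i
    fin_cases j <;> fin_cases i
    · exact ⟨g 0, 0, by simp [r, hg]⟩
    · exact ⟨g 1, 0, by simp [r, hg]⟩
    · exact ⟨g 2, 0, by simp [r, hg]⟩
    · exact ⟨1, 1, by simp [r]⟩
    · exact ⟨g 0, 1, by simp [r, hg, h.c03]⟩
    · exact ⟨g 1, 1, by simp [r, hg, h.c13]⟩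
    · exact ⟨1, 2, by simp [r]⟩
    · exact ⟨1, 0, by simp [r, h.sq]⟩
    · exact ⟨g 0, 2, by simp [r, hg, mul_assoc, h.c02, c03X]⟩
    · exact ⟨1, 3, by simp [r, mul_assoc]⟩
    · exact ⟨1, 1, by simp [r, mul_assoc, h.sq]⟩
    · exact ⟨g 2, 2, by simp [r, hg, mul_assoc, h.b23]⟩
    · exact ⟨1, 4, by simp [r, mul_assoc]⟩
    · exact ⟨1, 2, by simp [r, mul_assoc, h.sq]⟩
    · exact ⟨g 1, 3, by simp [r, hg, mul_assoc, h.b12, c13X]⟩
    · exact ⟨g 2, 3, by simp [r, hg, mul_assoc, ← h.c13, b23X]⟩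
    · exact ⟨1, 3, by simp [r, mul_assoc, h.sq]⟩
    · refine ⟨g 0, 4, ?_⟩
      simp [r, hg, mul_assoc]
      rw [h.b01, c02X, c03X]
    · exact ⟨g 1, 4, by simp [r, hg, mul_assoc, ← h.c02, b12X, c13X]⟩
    · exact ⟨g 2, 4, by simp [r, hg, mul_assoc, ← h.c03, ← c13X, b23X]⟩
  have hclosed : ∀ m ∈ Set.range F, ∀ i, m * s i ∈ Set.range F := by
    rintro _ ⟨⟨σ, j⟩, rfl⟩ i
    obtain ⟨τ, k, e⟩ := htab j i
    exact ⟨⟨σ * τ, k⟩, by simp only [F, map_mul, mul_assoc]; rw [e]⟩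
  have hsurj : Function.Surjective F := by
    intro m
    have hm : m ∈ Subgroup.closure (Set.range s) := by rw [hgen]; trivial
    induction hm using Subgroup.closure_induction_right with
    | one => exact ⟨⟨1, 0⟩, by simp [F, r]⟩
    | mul_right x hx y hy ih =>
      obtain ⟨i, rfl⟩ := hy
      exact hclosed x ih i
    | mul_inv_cancel x hx y hy ih =>
      obtain ⟨i, rfl⟩ := hy
      rw [inv_eq_of_mul_eq_one_right (h.sq i)]
      exact hclosed x ih i
  refine ⟨Finite.of_surjective F hsurj, (Nat.card_le_card_of_surjective F hsurj).trans (le_of_eq ?_)⟩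
  rw [Nat.card_prod, Nat.card_perm, Nat.card_fin, Nat.card_fin]
  rfl

/-- Relators. -/
def coxFiveRels : Set (FreeGroup (Fin 4)) :=
  {g | ∃ i, g = FreeGroup.of i * FreeGroup.of i} ∪
  {g | g = (FreeGroup.of 1 * (FreeGroup.of 0 * FreeGroup.of 1)) * (FreeGroup.of 0 * (FreeGroup.of 1 * FreeGroup.of 0))⁻¹} ∪
  {g | g = (FreeGroup.of 2 * (FreeGroup.of 1 * FreeGroup.of 2)) * (FreeGroup.of 1 * (FreeGroup.of 2 * FreeGroup.of 1))⁻¹} ∪
  {g | g = (FreeGroup.of 3 * (FreeGroup.of 2 * FreeGroup.of 3)) * (FreeGroup.of 2 * (FreeGroup.of 3 * FreeGroup.of 2))⁻¹} ∪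
  {g | g = (FreeGroup.of 2 * FreeGroup.of 0) * (FreeGroup.of 0 * FreeGroup.of 2)⁻¹} ∪
  {g | g = (FreeGroup.of 3 * FreeGroup.of 0) * (FreeGroup.of 0 * FreeGroup.of 3)⁻¹} ∪
  {g | g = (FreeGroup.of 3 * FreeGroup.of 1) * (FreeGroup.of 1 * FreeGroup.of 3)⁻¹}

/-- The adjacent transpositions. -/
def s5Gen : Fin 4 → Perm (Fin 5) := ![swap 0 1, swap 1 2, swap 2 3, swap 3 4]

theorem s5Gen_cox : CoxFive s5Gen := by
  constructor <;> decide

theorem closure_s5Gen : Subgroup.closure (Set.range s5Gen) = ⊤ := by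
  rw [eq_top_iff, ← Equiv.Perm.closure_isSwap, Subgroup.closure_le]
  rintro σ ⟨x, y, hxy, rfl⟩
  have key : ∀ x y : Fin 5, x ≠ y → swap x y ∈ ([swap 0 1, swap 1 2, swap 2 3, swap 3 4,
      swap 1 2 * swap 0 1 * swap 1 2, swap 2 3 * swap 1 2 * swap 2 3, swap 3 4 * swap 2 3 * swap 3 4,
      swap 2 3 * (swap 1 2 * swap 0 1 * swap 1 2) * swap 2 3,
      swap 3 4 * (swap 2 3 * swap 1 2 * swap 2 3) * swap 3 4,
      swap 3 4 * (swap 2 3 * (swap 1 2 * swap 0 1 * swap 1 2) * swap 2 3) * swap 3 4] : List (Perm (Fin 5))) := by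
    decide
  set K := Subgroup.closure (Set.range s5Gen)
  have h : ∀ i, s5Gen i ∈ K := fun i => Subgroup.subset_closure ⟨i, rfl⟩
  have h0 : swap (0 : Fin 5) 1 ∈ K := h 0
  have h1 : swap (1 : Fin 5) 2 ∈ K := h 1
  have h2 : swap (2 : Fin 5) 3 ∈ K := h 2
  have h3 : swap (3 : Fin 5) 4 ∈ K := h 3
  have hk := key x y hxy
  simp only [List.mem_cons, List.not_mem_nil, or_false] at hk
  rcases hk with e | e | e | e | e | e | e | e | e | e <;> rw [e] <;>
    first | exact h0 | exact h1 | exact h2 | exact h3 | ((repeat' apply K.mul_mem) <;> assumption)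

/-- The homomorphism given by Coxeter generators. -/
theorem s5Hom_exists {G : Type*} [Group G] {s : Fin 4 → G} (h : CoxFive s) :
    ∃ φ : Perm (Fin 5) →* G, ∀ i, φ (s5Gen i) = s i := by
  classical
  let P := PresentedGroup coxFiveRels
  let x : Fin 4 → P := PresentedGroup.of
  have hone : ∀ g ∈ coxFiveRels, PresentedGroup.mk coxFiveRels g = 1 := fun g hg =>
    (QuotientGroup.eq_one_iff _).2 (Subgroup.subset_normalClosure hg)
  have hP : CoxFive x := by
    constructor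
    · intro i
      have := hone _ (Or.inl (Or.inl (Or.inl (Or.inl (Or.inl (Or.inl ⟨i, rfl⟩))))))
      rwa [map_mul] at this
    · have := hone _ (Or.inl (Or.inl (Or.inl (Or.inl (Or.inl (Or.inr rfl))))))
      rw [map_mul, map_inv, mul_inv_eq_one] at this; simp only [map_mul] at this; exact this
    · have := hone _ (Or.inl (Or.inl (Or.inl (Or.inl (Or.inr rfl)))))
      rw [map_mul, map_inv, mul_inv_eq_one] at this; simp only [map_mul] at this; exact this
    · have := hone _ (Or.inl (Or.inl (Or.inl (Or.inr rfl))))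
      rw [map_mul, map_inv, mul_inv_eq_one] at this; simp only [map_mul] at this; exact this
    · have := hone _ (Or.inl (Or.inl (Or.inr rfl)))
      rw [map_mul, map_inv, mul_inv_eq_one] at this; simp only [map_mul] at this; exact this
    · have := hone _ (Or.inl (Or.inr rfl))
      rw [map_mul, map_inv, mul_inv_eq_one] at this; simp only [map_mul] at this; exact this
    · have := hone _ (Or.inr rfl)
      rw [map_mul, map_inv, mul_inv_eq_one] at this; simp only [map_mul] at this; exact this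
  obtain ⟨hfin, hcard⟩ := hP.bound (PresentedGroup.closure_range_of _)
  have hrels : ∀ {M : Type _} [Group M] {t : Fin 4 → M}, CoxFive t →
      ∀ r ∈ coxFiveRels, FreeGroup.lift t r = 1 := by
    intro M _ t ht r hr
    simp only [coxFiveRels, Set.mem_union, Set.mem_ofPred_eq] at hr
    rcases hr with ((((((⟨i, rfl⟩ | rfl) | rfl) | rfl) | rfl) | rfl) | rfl) <;>
      simp only [map_mul, map_inv, FreeGroup.lift_apply_of, mul_inv_eq_one]
    exacts [ht.sq i, ht.b01, ht.b12, ht.b23, ht.c02, ht.c03, ht.c13]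
  let π : P →* Perm (Fin 5) := PresentedGroup.toGroup (hrels s5Gen_cox)
  have hπ : Function.Surjective π := by
    rw [← MonoidHom.range_eq_top, eq_top_iff, ← closure_s5Gen, Subgroup.closure_le]
    rintro _ ⟨i, rfl⟩
    exact ⟨x i, PresentedGroup.toGroup.of _⟩
  have hbij : Function.Bijective π := (Nat.bijective_iff_surjective_and_card π).2
    ⟨hπ, le_antisymm (by rw [Nat.card_perm, Nat.card_fin]; exact hcard.trans (le_of_eq rfl))
      (Nat.card_le_card_of_surjective π hπ)⟩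
  let e := MulEquiv.ofBijective π hbij
  have hrelG : ∀ r ∈ coxFiveRels, FreeGroup.lift s r = 1 := by
    intro r hr
    simp only [coxFiveRels, Set.mem_union, Set.mem_ofPred_eq] at hr
    rcases hr with ((((((⟨i, rfl⟩ | rfl) | rfl) | rfl) | rfl) | rfl) | rfl) <;>
      simp only [map_mul, map_inv, FreeGroup.lift_apply_of, mul_inv_eq_one]
    exacts [h.sq i, h.b01, h.b12, h.b23, h.c02, h.c03, h.c13]
  refine ⟨(PresentedGroup.toGroup hrelG).comp e.symm.toMonoidHom, fun i => ?_⟩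
  have : e.symm (s5Gen i) = x i := e.symm_apply_eq.2 (PresentedGroup.toGroup.of (hrels s5Gen_cox)).symm
  show PresentedGroup.toGroup hrelG (e.symm (s5Gen i)) = s i
  rw [this]
  exact PresentedGroup.toGroup.of hrelG

/-- A homomorphism from the symmetric group of degree five separating two braiding generators is injective. -/
theorem s5Hom_injective {G : Type*} [Group G] (φ : Perm (Fin 5) →* G)
    (h : φ (swap 0 1) ≠ φ (swap 1 2)) : Function.Injective φ := by
  rw [← MonoidHom.ker_eq_bot_iff]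
  set K := φ.ker with hK
  rcases (alternatingGroup.isSimpleGroup (α := Fin 5) (by simp)).eq_bot_or_eq_top_of_normal
    (K.subgroupOf (alternatingGroup (Fin 5))) inferInstance with h0 | h0
  · rw [Subgroup.eq_bot_iff_forall]
    intro σ hσ
    have h1 : ∀ u, u ∈ K → u ∈ alternatingGroup (Fin 5) → u = 1 := fun u hu ha => by
      have : (⟨u, ha⟩ : alternatingGroup (Fin 5)) ∈ K.subgroupOf (alternatingGroup (Fin 5)) := hu
      rw [h0, Subgroup.mem_bot] at this
      exact congrArg Subtype.val this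
    have hc : ∀ τ, σ * τ = τ * σ := fun τ => by
      have := h1 (σ * τ * σ⁻¹ * τ⁻¹) (by
          rw [hK, MonoidHom.mem_ker] at hσ ⊢
          simp [hσ]) (by
        rw [Perm.mem_alternatingGroup, map_mul, map_mul, map_mul, map_inv, map_inv]
        rcases Int.units_eq_one_or (Perm.sign σ) with e | e <;>
          rcases Int.units_eq_one_or (Perm.sign τ) with e' | e' <;> simp [e, e'])
      calc σ * τ = σ * τ * σ⁻¹ * τ⁻¹ * (τ * σ) := by group
        _ = τ * σ := by rw [this, one_mul]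
    have key : ∀ σ : Perm (Fin 5), σ * swap 0 1 = swap 0 1 * σ → σ * swap 1 2 = swap 1 2 * σ →
        σ * swap 2 3 = swap 2 3 * σ → σ * swap 3 4 = swap 3 4 * σ → σ = 1 := by decide +kernel
    exact key σ (hc _) (hc _) (hc _) (hc _)
  · exfalso
    apply h
    have hm : swap (0 : Fin 5) 1 * swap 1 2 ∈ alternatingGroup (Fin 5) := by
      rw [Perm.mem_alternatingGroup]; decide
    have : (⟨_, hm⟩ : alternatingGroup (Fin 5)) ∈ K.subgroupOf (alternatingGroup (Fin 5)) := by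
      rw [h0]; trivial
    have h2 : φ (swap 0 1 * swap 1 2) = 1 := this
    rw [map_mul] at h2
    rw [eq_inv_of_mul_eq_one_left h2, ← map_inv, swap_inv]

set_option synthInstance.maxHeartbeats 400000 in
set_option synthInstance.maxSize 2048 in
/-- The Petersen graph has no proper edge colouring with three colours. -/
theorem petersen_colour : ∀ a : Fin 3, ∀ b : Fin 3, b ≠ a → ∀ c : Fin 3, c ≠ a → c ≠ b →
    ∀ d : Fin 3, d ≠ a → ∀ e : Fin 3, e ≠ a → e ≠ d → ∀ f : Fin 3, f ≠ b → ∀ g : Fin 3, g ≠ b → g ≠ f →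
    ∀ h : Fin 3, h ≠ c → ∀ i : Fin 3, i ≠ c → i ≠ h →
    ∀ u : Fin 3, u ≠ d → u ≠ f → ∀ v : Fin 3, v ≠ d → v ≠ h → v ≠ u → ∀ w : Fin 3, w ≠ e → w ≠ g →
    ∀ z : Fin 3, z ≠ e → z ≠ i → z ≠ w → ∀ t : Fin 3, t ≠ f → t ≠ i → t ≠ u → t ≠ z →
    ∀ y : Fin 3, y ≠ g → y ≠ h → y ≠ v → y ≠ w → False := by
  decide

end Cfsg.Agent.Lib.ThreeTransp
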