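import Cfsg.Agent.Lib.ThreeTransp.DecompMaxLine

/-!
From a non-monomial element fixing an axis to the whole special linear group.
-/

set_option autoImplicit false

namespace Cfsg.Agent.Lib.ThreeTransp.DecompMax

open Cfsg.Agent.Lib.MaxSub Matrix
open scoped MatrixGroups Matrix

variable {ι : Type} [Fintype ι] [DecidableEq ι] {F : Type*} [Field F]

/-- `g` fixes the axis through `o`. -/
def Fix (o : ι) (g : GL ι F) : Prop := ∀ p, p ≠ o → g.val p o = 0

/-- The block of `g` away from `o`. -/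
def ap (o : ι) (g : GL ι F) : Matrix {p : ι // p ≠ o} {p : ι // p ≠ o} F := g.val.submatrix Subtype.val Subtype.val

theorem Fix.oo_ne {o : ι} {g : GL ι F} (h : Fix o g) : g.val o o ≠ 0 := by
  obtain ⟨p, hp⟩ := exists_col_ne g o
  rwa [show p = o from not_not.mp fun hne => hp (h p hne)] at hp

theorem Fix.mul {o : ι} {g h : GL ι F} (hg : Fix o g) (hh : Fix o h) : Fix o (g * h) := fun p hp => by
  rw [Units.val_mul, Matrix.mul_apply]
  refine Finset.sum_eq_zero fun l _ => ?_
  rcases eq_or_ne l o with rfl | hl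
  · rw [hg p hp, zero_mul]
  · rw [hh l hl, mul_zero]

theorem Fix.inv {o : ι} {g : GL ι F} (hg : Fix o g) : Fix o g⁻¹ := fun p hp => by
  have h1 : ((g⁻¹).val * g.val) p o = 0 := by
    rw [← Units.val_mul, inv_mul_cancel, Units.val_one, Matrix.one_apply_ne hp]
  rw [Matrix.mul_apply, Finset.sum_eq_single o (fun l _ hl => by rw [hg l hl, mul_zero])
    (fun h => absurd (Finset.mem_univ o) h)] at h1
  exact (mul_eq_zero.mp h1).resolve_right hg.oo_ne

theorem Fix.oo_mul {o : ι} {g h : GL ι F} (hh : Fix o h) : (g * h).val o o = g.val o o * h.val o o := by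
  rw [Units.val_mul, Matrix.mul_apply, Finset.sum_eq_single o (fun l _ hl => by rw [hh l hl, mul_zero])
    (fun h => absurd (Finset.mem_univ o) h)]

theorem ap_mul {o : ι} {g h : GL ι F} (hg : Fix o g) : ap o (g * h) = ap o g * ap o h := by
  ext p r
  simp only [ap, Matrix.submatrix_apply, Units.val_mul, Matrix.mul_apply]
  rw [← Finset.sum_subtype (Finset.univ.erase o) (by simp) fun l => g.val p.1 l * h.val l r.1,
    Finset.sum_erase _ (by rw [hg p.1 p.2, zero_mul])]

theorem ap_one (o : ι) : ap o (1 : GL ι F) = 1 := by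
  rw [ap, Units.val_one, Matrix.submatrix_one _ Subtype.val_injective]

theorem ap_inv_mul {o : ι} {g : GL ι F} (hg : Fix o g) : ap o g⁻¹ * ap o g = 1 := by
  rw [← ap_mul hg.inv, inv_mul_cancel, ap_one]

theorem fix_dg (o : ι) (d : ι → F) (hd : ∏ i, d i = 1) : Fix o (dg d hd) := fun p hp => by
  rw [dg_val, Matrix.diagonal_apply_ne _ hp]

theorem ap_dg (o : ι) (d : ι → F) (hd : ∏ i, d i = 1) :
    ap o (dg d hd) = Matrix.diagonal fun p => d p.1 := by
  rw [ap, dg_val, Matrix.submatrix_diagonal _ _ Subtype.val_injective]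
  rfl

theorem conj_tv (g : GL ι F) (v a : ι → F) (h : a ⬝ᵥ v = 0) :
    ∃ h', g * tv v a h * g⁻¹ = tv (g.val *ᵥ v) (a ᵥ* (g⁻¹).val) h' := by
  refine ⟨by rw [← Matrix.dotProduct_mulVec, inv_mulVec_val, h], Units.ext (eq_of_mulVec_eq fun x => ?_)⟩
  rw [Units.val_mul, Units.val_mul, ← Matrix.mulVec_mulVec, ← Matrix.mulVec_mulVec, tv_mulVec, tv_mulVec,
    ← Matrix.dotProduct_mulVec, Matrix.mulVec_add, Matrix.mulVec_smul, val_mulVec_inv]

theorem diag_conj {α : Type*} [Fintype α] [DecidableEq α] {X Y : Matrix α α F} (h : Y * X = 1) (i : α)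
    (d : α → F) (hd : ∀ p, p ≠ i → d p = 1) :
    Y * Matrix.diagonal d * X = 1 + Matrix.vecMulVec ((d i - 1) • fun p => Y p i) (X i) := by
  ext p r
  rw [Matrix.add_apply, ← h, Matrix.mul_apply, Matrix.mul_apply, Matrix.vecMulVec_apply]
  simp only [Matrix.mul_diagonal, Pi.smul_apply, smul_eq_mul]
  rw [← sub_eq_iff_eq_add', ← Finset.sum_sub_distrib, Finset.sum_eq_single i]
  · ring
  · intro l _ hl
    rw [hd l hl]; ring
  · exact fun h => absurd (Finset.mem_univ i) h

theorem add_vec_mul {α : Type*} [Fintype α] [DecidableEq α] (v w β β' : α → F) :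
    (1 + Matrix.vecMulVec v β) * (1 + Matrix.vecMulVec w β') =
      1 + Matrix.vecMulVec v β + Matrix.vecMulVec w β' + Matrix.vecMulVec ((β ⬝ᵥ w) • v) β' := by
  rw [mul_add, mul_one, add_mul, one_mul, Matrix.vecMulVec_mul_vecMulVec, ← add_assoc]
  congr 1
  ext p r
  simp [Matrix.vecMulVec_apply, mul_comm, mul_left_comm]

theorem diag_mul_rankOne {α : Type*} [Fintype α] [DecidableEq α] (v β d d' : α → F) (h : ∀ p, d p * d' p = 1) :
    Matrix.diagonal d * (1 + Matrix.vecMulVec v β) * Matrix.diagonal d' =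
      1 + Matrix.vecMulVec (fun p => d p * v p) (fun p => β p * d' p) := by
  rw [mul_add, add_mul, mul_one, Matrix.diagonal_mul_diagonal]
  congr 1
  · rw [← Matrix.diagonal_one]; exact congrArg _ (funext h)
  · ext p r
    simp only [Matrix.mul_diagonal, Matrix.diagonal_mul, Matrix.vecMulVec_apply]
    ring

variable {K : Subgroup (GL ι F)} (hK : ∀ g : GL ι F, g.val.det = 1 → Mono g → g ∈ K)
  (h13 : 13 ≤ Fintype.card ι) {c : F} (hc0 : c ≠ 0) (hc2 : c ^ 2 ≠ 1) (hc3 : c ^ 3 ≠ 1)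

include hK h13 hc0 hc2 in
/-- One transvection with an axis as centre gives everything. -/
theorem sl_le_of_root {o : ι} {φ : ι → F} (h : InK K (Pi.single o 1) φ) (hφ : φ ≠ 0) :
    Cfsg.Geo.specialLinear ι F ≤ K := by
  have hc1 : c ≠ 1 := fun h => hc2 (by rw [h, one_pow])
  have hφo : φ o = 0 := by simpa using h.dot
  obtain ⟨k, hk⟩ := Function.ne_iff.mp hφ
  have hko : k ≠ o := fun e => hk (by rw [e, hφo, Pi.zero_apply])
  have hw : ∀ S : Finset ι, S.card ≤ 3 → ∃ w, w ∉ S := fun S hS => by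
    obtain ⟨w, -, hw⟩ := Finset.exists_mem_notMem_of_card_lt_card (s := S) (t := Finset.univ)
      (by rw [Finset.card_univ]; omega)
    exact ⟨w, hw⟩
  have hdgK := dg_mem hK
  have hconj : ∀ ψ, InK K (Pi.single o 1) ψ → ∀ w, w ≠ o → w ≠ k →
      ∃ ψ', InK K (Pi.single o 1) ψ' ∧ ψ' k = ψ k * (1 - c⁻¹) ∧ ψ' w = ψ w * (1 - c) ∧
        ∀ p, p ≠ k → p ≠ w → ψ' p = 0 := by
    intro ψ hψ w hwo hwk
    obtain ⟨d, hd, hdk, hdw, hd1⟩ := exists_two (F := F) k w hwk.symm hc0
    have h1 := hψ.conj (hdgK d hd)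
    rw [dg_mulVec_single, vecMul_dg_inv, hd1 o hko.symm hwo.symm, one_smul] at h1
    refine ⟨_, hψ.sub h1, ?_, ?_, fun p h2 h3 => ?_⟩
    · simp only [Pi.sub_apply, hdk]; ring
    · simp only [Pi.sub_apply, hdw, inv_inv]; ring
    · simp only [Pi.sub_apply, hd1 p h2 h3, inv_one, mul_one, sub_self]
  obtain ⟨w, hw1⟩ := hw {o, k} (Finset.card_le_two.trans (by omega))
  simp only [Finset.mem_insert, Finset.mem_singleton, not_or] at hw1
  obtain ⟨w', hw2⟩ := hw {o, k, w} Finset.card_le_three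
  simp only [Finset.mem_insert, Finset.mem_singleton, not_or] at hw2
  obtain ⟨ψ, hψ, hψk, -, hψ0⟩ := hconj φ h w hw1.1 hw1.2
  obtain ⟨χ, hχ, hχk, hχw, hχ0⟩ := hconj ψ hψ w' hw2.1 hw2.2.1
  have hci : c⁻¹ ≠ 1 := fun h => hc1 (inv_eq_one.mp h)
  have hχe : χ = Pi.single k (φ k * (1 - c⁻¹) * (1 - c⁻¹)) := by
    funext p
    rcases eq_or_ne p k with rfl | hp
    · rw [Pi.single_eq_same, hχk, hψk]
    rcases eq_or_ne p w' with rfl | hp'
    · rw [Pi.single_eq_of_ne hp, hχw, hψ0 p hp hw2.2.2, zero_mul]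
    · rw [Pi.single_eq_of_ne hp, hχ0 p hp hp']
  subst hχe
  set s := φ k * (1 - c⁻¹) * (1 - c⁻¹)
  have hs : s ≠ 0 := mul_ne_zero (mul_ne_zero hk (sub_ne_zero.mpr hci.symm)) (sub_ne_zero.mpr hci.symm)
  have hall : ∀ z : F, InK K (Pi.single o 1) (Pi.single k z) := by
    intro z
    rcases eq_or_ne z 0 with rfl | hz
    · rw [Pi.single_zero]; exact InK.zero _
    obtain ⟨d, hd, hdo, hdw, hd1⟩ := exists_two (F := F) o w (Ne.symm hw1.1) (mul_ne_zero hz (inv_ne_zero hs))
    have h1 := hχ.conj (hdgK d hd)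
    rw [dg_mulVec_single, vecMul_dg_inv, hdo] at h1
    have h2 := h1.of_smul
    convert h2 using 1
    funext p
    rcases eq_or_ne p k with rfl | hp
    · rw [Pi.single_eq_same, Pi.smul_apply, Pi.single_eq_same, hd1 p hko (Ne.symm hw1.2), inv_one, mul_one,
        smul_eq_mul, mul_assoc, inv_mul_cancel₀ hs, mul_one]
    · simp [Pi.single_eq_of_ne hp]
  refine specialLinear_le_of_single fun a b hab z => ?_
  set σ₁ : Equiv.Perm ι := Equiv.swap o a
  have hne : σ₁ k ≠ a := fun h => hko (σ₁.injective (h.trans (Equiv.swap_apply_left o a).symm))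
  set π := σ₁.trans (Equiv.swap (σ₁ k) b)
  have hπo : π o = a := by simp [π, σ₁, Equiv.swap_apply_of_ne_of_ne hne.symm hab]
  have hπk : π k = b := by simp [π]
  obtain ⟨d, hd, -⟩ := exists_coeff π (fun _ => (1 : F)) (fun _ => one_ne_zero) a
  obtain ⟨g, hg1, hg2, hg3, hg4⟩ := exists_monomial π d hd
  have hdo : d o ≠ 0 := fun hr => by
    rw [Finset.prod_eq_zero (Finset.mem_univ o) hr, mul_zero] at hd
    exact zero_ne_one hd
  have hgK : g ∈ K := hK g hg1 fun q p p' h h' => by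
    rw [hg2] at h h'
    exact (not_not.mp fun e => h (if_neg e)).trans (not_not.mp fun e => h' (if_neg e)).symm
  have := inK_single_perm π hgK hg3 hg4 hall hdo z
  rwa [hπo, hπk] at this

include hK h13 hc0 hc2 hc3 in
/-- A zero of `x` facing a non-zero entry of `x⁻¹` gives everything. -/
theorem sl_le_of_mismatch {o i j : ι} {x : GL ι F} (hx : x ∈ K) (hf : Fix o x) (hio : i ≠ o) (hjo : j ≠ o)
    (h1 : x.val i j = 0) (h2 : (x⁻¹).val j i ≠ 0) : Cfsg.Geo.specialLinear ι F ≤ K := by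
  classical
  have hc1 : c ≠ 1 := fun h => hc2 (by rw [h, one_pow])
  set i' : {p : ι // p ≠ o} := ⟨i, hio⟩
  set j' : {p : ι // p ≠ o} := ⟨j, hjo⟩
  obtain ⟨d, hd, hdi, hdo, hd1⟩ := exists_two (F := F) i o hio hc0
  obtain ⟨e, he, hej, heo, he1⟩ := exists_two (F := F) j o hjo hc0
  have hdgK := dg_mem hK
  have hfd := fun (d : ι → F) (hd : ∏ i, d i = 1) => fix_dg o d hd
  set X := x⁻¹ * dg d hd * x with hX
  have hXf : Fix o X := (hf.inv.mul (hfd d hd)).mul hf
  have hXK : X ∈ K := conj_dg_mem hK hx d hd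
  set b : {p : ι // p ≠ o} → F := fun p => ap o x⁻¹ p i'
  set β : {p : ι // p ≠ o} → F := ap o x i'
  have hXA : ap o X = 1 + Matrix.vecMulVec ((c - 1) • b) β := by
    rw [hX, ap_mul (hf.inv.mul (hfd d hd)), ap_mul hf.inv, ap_dg,
      diag_conj (ap_inv_mul hf) i' _ fun p hp => hd1 p.1 (fun h => hp (Subtype.ext h)) p.2]
    simp only [i', hdi]
    rfl
  have hXiA : ap o X⁻¹ = 1 + Matrix.vecMulVec ((c⁻¹ - 1) • b) β := by
    have : X⁻¹ = x⁻¹ * (dg d hd)⁻¹ * x := by rw [hX]; group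
    have hdi' : ap o (dg d hd)⁻¹ = Matrix.diagonal fun p : {p : ι // p ≠ o} => (d p.1)⁻¹ := by
      rw [ap, dg_inv_val, Matrix.submatrix_diagonal _ _ Subtype.val_injective]
      rfl
    rw [this, ap_mul (hf.inv.mul (hfd d hd).inv), ap_mul hf.inv, hdi',
      diag_conj (ap_inv_mul hf) i' _ fun p hp => by
        rw [hd1 p.1 (fun h => hp (Subtype.ext h)) p.2, inv_one]]
    simp only [i', hdi]
    rfl
  have hβb : β ⬝ᵥ b = 1 := by
    have h := ap_mul (g := x) (h := x⁻¹) hf
    rw [mul_inv_cancel, ap_one] at h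
    have h' := congrFun (congrFun h i') i'
    rw [Matrix.one_apply_eq, Matrix.mul_apply] at h'
    exact h'.symm
  set Z := dg e he * X * (dg e he)⁻¹ * X⁻¹ with hZ
  have hZK : Z ∈ K := K.mul_mem (K.mul_mem (K.mul_mem (hdgK e he) hXK) (K.inv_mem (hdgK e he))) (K.inv_mem hXK)
  have hZf : Fix o Z := (((hfd e he).mul hXf).mul (hfd e he).inv).mul hXf.inv
  set κ := (c - 1) ^ 2 * c⁻¹ * b j'
  have hκ : κ ≠ 0 := mul_ne_zero (mul_ne_zero (pow_ne_zero _ (sub_ne_zero.mpr hc1)) (inv_ne_zero hc0)) h2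
  have hdi2 : ∀ (d : ι → F) (hd : ∏ i, d i = 1), ap o (dg d hd)⁻¹ = Matrix.diagonal fun p : {p : ι // p ≠ o} => (d p.1)⁻¹ :=
    fun d hd => by
      rw [ap, dg_inv_val, Matrix.submatrix_diagonal _ _ Subtype.val_injective]
      rfl
  have hβe : (fun p : {p : ι // p ≠ o} => β p * (e p.1)⁻¹) = β := funext fun p => by
    rcases eq_or_ne p j' with rfl | hp
    · rw [show β j' = 0 from h1, zero_mul]
    · rw [he1 p.1 (fun h => hp (Subtype.ext h)) p.2, inv_one, mul_one]
  have hZA : ap o Z = 1 + Matrix.vecMulVec (Pi.single j' κ) β := by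
    rw [hZ, ap_mul (((hfd e he).mul hXf).mul (hfd e he).inv), ap_mul ((hfd e he).mul hXf), ap_mul (hfd e he),
      ap_dg, hdi2, hXA, hXiA, diag_mul_rankOne _ _ (fun p : {p : ι // p ≠ o} => e p.1) (fun p => (e p.1)⁻¹) (fun p => mul_inv_cancel₀ (dg_ne_zero he p.1)), hβe,
      add_vec_mul, add_assoc, add_assoc, dotProduct_smul, hβb, smul_eq_mul, mul_one]
    congr 1
    ext p r
    simp only [Matrix.add_apply, Matrix.vecMulVec_apply, Pi.smul_apply, smul_eq_mul]
    rcases eq_or_ne p j' with rfl | hp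
    · simp only [j', hej, Pi.single_eq_same, κ]
      field_simp
      ring
    · rw [Pi.single_eq_of_ne hp, he1 p.1 (fun h => hp (Subtype.ext h)) p.2, zero_mul]
      field_simp
      ring
  obtain ⟨k', hk'⟩ : ∃ k', β k' ≠ 0 := by
    by_contra! h
    rw [show β = 0 from funext h, zero_dotProduct] at hβb
    exact zero_ne_one hβb
  have hkj : k' ≠ j' := fun h => hk' (by rw [h]; exact h1)
  obtain ⟨f, hf', hfk, hfo, hf1⟩ := exists_two (F := F) k'.1 o k'.2 hc0
  have hZiA : ap o Z⁻¹ = 1 + Matrix.vecMulVec (Pi.single j' κ) (-β) := by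
    refine left_inv_eq_right_inv (ap_inv_mul hZf) ?_
    rw [hZA, add_vec_mul, dotProduct_single, show β j' = 0 from h1, zero_mul, zero_smul, Matrix.vecMulVec_neg]
    ext p r
    simp [Matrix.vecMulVec_apply]
  set W := dg f hf' * Z * (dg f hf')⁻¹ * Z⁻¹ with hW
  have hWK : W ∈ K := K.mul_mem (K.mul_mem (K.mul_mem (hdgK f hf') hZK) (K.inv_mem (hdgK f hf'))) (K.inv_mem hZK)
  have hWf : Fix o W := (((hfd f hf').mul hZf).mul (hfd f hf').inv).mul hZf.inv
  set μ := κ * (β k' * (c⁻¹ - 1))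
  have hWA : ap o W = 1 + Matrix.vecMulVec (Pi.single j' 1) (Pi.single k' μ) := by
    rw [hW, ap_mul (((hfd f hf').mul hZf).mul (hfd f hf').inv), ap_mul ((hfd f hf').mul hZf), ap_mul (hfd f hf'),
      ap_dg, hdi2, hZA, hZiA, diag_mul_rankOne _ _ (fun p : {p : ι // p ≠ o} => f p.1) (fun p => (f p.1)⁻¹) (fun p => mul_inv_cancel₀ (dg_ne_zero hf' p.1)), add_vec_mul,
      dotProduct_single, show β j' = 0 from h1, zero_mul, zero_mul, zero_smul]
    ext p r
    simp only [Matrix.add_apply, Matrix.vecMulVec_apply, Pi.zero_apply, zero_mul, add_zero, Pi.neg_apply]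
    rcases eq_or_ne p j' with rfl | hp
    · rw [hf1 j'.1 (fun h => hkj (Subtype.ext h.symm)) j'.2, Pi.single_eq_same, Pi.single_eq_same]
      rcases eq_or_ne r k' with rfl | hr
      · rw [Pi.single_eq_same, hfk]; ring
      · rw [Pi.single_eq_of_ne hr, hf1 r.1 (fun h => hr (Subtype.ext h)) r.2, inv_one]; ring
    · rw [Pi.single_eq_of_ne hp, Pi.single_eq_of_ne hp]; ring
  have hWo : W.val o o = 1 := by
    rw [hW, Fix.oo_mul hZf.inv, Fix.oo_mul (hfd f hf').inv, Fix.oo_mul hZf]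
    have a1 : Z.val o o * (Z⁻¹).val o o = 1 := by
      rw [← Fix.oo_mul hZf.inv, mul_inv_cancel, Units.val_one, Matrix.one_apply_eq]
    have a2 : (dg f hf').val o o * ((dg f hf')⁻¹).val o o = 1 := by
      rw [← Fix.oo_mul (hfd f hf').inv, mul_inv_cancel, Units.val_one, Matrix.one_apply_eq]
    linear_combination ((dg f hf').val o o * ((dg f hf')⁻¹).val o o) * a1 + a2
  set k := k'.1
  have hjk : j ≠ k := fun h => hkj (Subtype.ext h.symm)
  have hμ : μ ≠ 0 := mul_ne_zero hκ (mul_ne_zero hk' (sub_ne_zero.mpr fun h => hc1 (inv_eq_one.mp h)))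
  set B : ι → F := fun r => if r = o then 0 else W.val o r - if r = k then μ * W.val o j else 0 with hB
  have hd1' : B ⬝ᵥ (Pi.single o 1 : ι → F) = 0 := by simp [hB]
  have hd2 : (Pi.single k μ : ι → F) ⬝ᵥ (Pi.single j 1 : ι → F) = 0 := by simp [hjk]
  have hWeq : W = tv (Pi.single o 1) B hd1' * tv (Pi.single j 1) (Pi.single k μ) hd2 := by
    refine Units.ext ?_
    show W.val = tvMat _ _ * tvMat _ _
    rw [tvMat, tvMat, add_vec_mul, dotProduct_single, mul_one,
      show B j = W.val o j by simp [hB, hjo, hjk]]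
    ext p r
    simp only [Matrix.add_apply, Matrix.vecMulVec_apply, Pi.smul_apply, smul_eq_mul]
    rcases eq_or_ne p o with rfl | hp
    · rw [Pi.single_eq_same, Pi.single_eq_of_ne (Ne.symm hjo)]
      rcases eq_or_ne r p with rfl | hr
      · simp [hWo, hB, Ne.symm k'.2]
        exact Or.inr (by simp [k, Ne.symm k'.2])
      · rw [Matrix.one_apply_ne (Ne.symm hr)]
        rcases eq_or_ne r k with h' | h' <;> simp [hB, hr, h', k'.2, k]
        ring
    · rw [Pi.single_eq_of_ne hp]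
      rcases eq_or_ne r o with rfl | hr
      · rw [hWf p hp, Matrix.one_apply_ne hp, Pi.single_eq_of_ne (show r ≠ k from Ne.symm k'.2)]
        ring
      · have h := congrFun (congrFun hWA ⟨p, hp⟩) ⟨r, hr⟩
        simp only [ap, Matrix.submatrix_apply, Matrix.add_apply, Matrix.vecMulVec_apply, Matrix.one_apply,
          Pi.single_apply, Subtype.ext_iff, j'] at h
        rw [h, Matrix.one_apply, Pi.single_apply, Pi.single_apply]
        ring
  obtain ⟨w, hw⟩ : ∃ a : ι → F, ∏ i, a i = 1 ∧ a j = c ∧ a k = c ∧ a o = (c * c)⁻¹ ∧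
      ∀ r, r ≠ j → r ≠ k → r ≠ o → a r = 1 := by
    refine ⟨Function.update (Function.update (Function.update (fun _ => (1 : F)) j c) k c) o (c * c)⁻¹, ?_,
      by simp [hjo, hjk], by simp [k'.2, k], by simp, fun r a b d => by simp [a, b, d]⟩
    rw [Finset.prod_update_of_mem (Finset.mem_univ o), Finset.prod_update_of_mem (by simp [k, k'.2]),
      Finset.prod_update_of_mem (by simp [hjo, hjk])]
    simp only [Finset.prod_const_one, mul_one]
    exact inv_mul_cancel₀ (mul_ne_zero hc0 hc0)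
  obtain ⟨hwp, hwj, hwk, hwo, hw1⟩ := hw
  set s := dg w hwp
  set P := tv (Pi.single o 1) B hd1' with hP
  set T := tv (Pi.single j 1) (Pi.single k μ) hd2 with hT
  have hsT : s * T * s⁻¹ = T := by
    obtain ⟨h', he⟩ := conj_tv s (Pi.single j 1) (Pi.single k μ) hd2
    rw [he]
    refine Units.ext (eq_of_mulVec_eq fun y => ?_)
    rw [tv_mulVec, tv_mulVec, dg_mulVec_single, vecMul_dg_inv]
    simp only [dotProduct, smul_smul]
    congr 2
    rw [hwj, Finset.sum_mul]
    refine Finset.sum_congr rfl fun r _ => ?_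
    rcases eq_or_ne r k with rfl | hr
    · rw [hwk]; field_simp
    · simp [hr]
  have hmem : s * P * s⁻¹ * P⁻¹ ∈ K := by
    have h := K.mul_mem (K.mul_mem (K.mul_mem (hdgK w hwp) hWK) (K.inv_mem (hdgK w hwp))) (K.inv_mem hWK)
    rw [hWeq] at h
    rwa [show s * P * s⁻¹ * P⁻¹ = s * (P * T) * s⁻¹ * (P * T)⁻¹ by
      calc s * P * s⁻¹ * P⁻¹ = s * P * s⁻¹ * (T * T⁻¹) * P⁻¹ := by group
        _ = s * P * s⁻¹ * (s * T * s⁻¹) * T⁻¹ * P⁻¹ := by rw [hsT]; group
        _ = s * (P * T) * s⁻¹ * (P * T)⁻¹ := by group]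
  by_cases hB0 : B = 0
  · refine sl_le_of_root hK h13 hc0 hc2 (o := j) (φ := Pi.single k μ) ⟨hd2, ?_⟩ (by simp [hμ])
    show T ∈ K
    rw [hWeq] at hWK
    rwa [show P = 1 from Units.ext (by simp [hP, tv, hB0, tvMat_zero_right]), one_mul] at hWK
  set φ : ι → F := fun r => B r * (w o * (w r)⁻¹ - 1) with hφ
  have hφo : φ ⬝ᵥ (Pi.single o 1 : ι → F) = 0 := by simp [hφ, hB]
  have hin : InK K (Pi.single o 1) φ := by
    refine ⟨hφo, ?_⟩
    obtain ⟨h', he⟩ := conj_tv s (Pi.single o 1) B hd1'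
    rw [hP, he, tv_inv] at hmem
    convert hmem using 1
    refine Units.ext (eq_of_mulVec_eq fun y => ?_)
    rw [Units.val_mul, ← Matrix.mulVec_mulVec, tv_mulVec, tv_mulVec, tv_mulVec, dg_mulVec_single, vecMul_dg_inv,
      dotProduct_add, dotProduct_smul, dotProduct_single, mul_one, show B o = 0 by simp [hB], zero_mul, smul_zero,
      add_zero, add_assoc, smul_smul, ← add_smul]
    congr 2
    simp only [dotProduct, Finset.sum_mul, ← Finset.sum_add_distrib, hφ, Pi.neg_apply]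
    exact Finset.sum_congr rfl fun r _ => by ring
  refine sl_le_of_root hK h13 hc0 hc2 hin fun h0 => hB0 (funext fun r => ?_)
  rcases eq_or_ne r o with rfl | hr
  · simp [hB]
  refine (mul_eq_zero.mp (congrFun h0 r)).resolve_right (sub_ne_zero.mpr ?_)
  rw [hwo]
  rcases eq_or_ne r j with rfl | hrj
  · rw [hwj]; intro h; field_simp at h; exact hc3 (by linear_combination -h)
  rcases eq_or_ne r k with rfl | hrk
  · rw [hwk]; intro h; field_simp at h; exact hc3 (by linear_combination -h)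
  rw [hw1 r hrj hrk hr]; intro h; field_simp at h; exact hc2 (by linear_combination -h)

include hK h13 hc0 hc2 hc3 in
/-- A column with three non-zero entries off the axis gives everything. -/
theorem sl_le_of_three [DecidableEq F] (hq : ∀ S : Finset F, S.card ≤ 4 → ∃ a, a ∉ S) {o j : ι} {x : GL ι F} (hx : x ∈ K)
    (hf : Fix o x) (hjo : j ≠ o) (h3 : 3 ≤ (Finset.univ.filter fun l => l ≠ o ∧ x.val l j ≠ 0).card) :
    Cfsg.Geo.specialLinear ι F ≤ K := by
  classical
  set S := Finset.univ.filter fun l => l ≠ o ∧ x.val l j ≠ 0 with hS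
  by_cases hmis : ∃ l ∈ S, (x⁻¹).val j l = 0
  · obtain ⟨l, hl, hl0⟩ := hmis
    simp only [hS, Finset.mem_filter, Finset.mem_univ, true_and] at hl
    exact sl_le_of_mismatch hK h13 hc0 hc2 hc3 (i := j) (j := l) (K.inv_mem hx) hf.inv hjo hl.1 hl0
      (by rw [inv_inv]; exact hl.2)
  push Not at hmis
  let lam : ι → F := fun l => (x⁻¹).val j l * x.val l j
  have hlam : ∀ l ∈ S, lam l ≠ 0 := fun l hl =>
    mul_ne_zero (hmis l hl) (Finset.mem_filter.mp hl).2.2
  -- coefficients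
  obtain ⟨ev, hev0, hev1, hev2⟩ : ∃ ev : ι → F, (∀ l ∈ S, ev l ≠ 0) ∧ ∑ l ∈ S, ev l = 0 ∧
      ∑ l ∈ S, lam l ^ 2 * (ev l)⁻¹ ≠ 0 := by
    obtain ⟨l₁, l₂, r₀, hl₁, hl₂, hr₀, h12, h1r, h2r⟩ := Finset.two_lt_card_iff.mp h3
    set R := ((S.erase l₁).erase l₂) with hR
    have hr₀R : r₀ ∈ R := by simp [hR, hr₀, h1r.symm, h2r.symm]
    obtain ⟨a, ha⟩ := hq {0, -((R.erase r₀).card : F)} (Finset.card_le_two.trans (by omega))
    simp only [Finset.mem_insert, Finset.mem_singleton, not_or] at ha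
    let base : ι → F := fun l => if l = r₀ then a else 1
    set σ := ∑ l ∈ R, base l with hσ
    have hσ0 : σ ≠ 0 := by
      rw [hσ, ← Finset.add_sum_erase _ _ hr₀R, Finset.sum_congr rfl fun l hl => show base l = 1 from
        if_neg (Finset.mem_erase.mp hl).1, Finset.sum_const, nsmul_eq_mul, mul_one]
      simp only [base, if_true]
      exact fun h => ha.2 (eq_neg_of_add_eq_zero_left h)
    set Cst := ∑ l ∈ R, lam l ^ 2 * (base l)⁻¹
    set A := -σ
    obtain ⟨v, hv0, hvA, hv⟩ : ∃ v : F, v ≠ 0 ∧ v ≠ A ∧ lam l₁ ^ 2 * v⁻¹ + lam l₂ ^ 2 * (A - v)⁻¹ + Cst ≠ 0 := by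
      by_contra! hall
      obtain ⟨p₁, hp₁⟩ := hq {0, A} (Finset.card_le_two.trans (by omega))
      obtain ⟨p₂, hp₂⟩ := hq {0, A, p₁} (Finset.card_le_three.trans (by omega))
      obtain ⟨p₃, hp₃⟩ := hq {0, A, p₁, p₂} Finset.card_le_four
      simp only [Finset.mem_insert, Finset.mem_singleton, not_or] at hp₁ hp₂ hp₃
      have hP : ∀ p, p ≠ 0 → p ≠ A →
          lam l₁ ^ 2 * (A - p) + lam l₂ ^ 2 * p + Cst * p * (A - p) = 0 := fun p h0 hA => by
        have h := hall p h0 hA
        have hAp : A - p ≠ 0 := sub_ne_zero.mpr hA.symm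
        field_simp at h
        linear_combination h
      have e1 := hP p₁ hp₁.1 hp₁.2
      have e2 := hP p₂ hp₂.1 hp₂.2.1
      have e3 := hP p₃ hp₃.1 hp₃.2.1
      have f12 : lam l₂ ^ 2 - lam l₁ ^ 2 + Cst * A - Cst * (p₁ + p₂) = 0 := by
        refine (mul_eq_zero.mp (?_ : (p₁ - p₂) * _ = 0)).resolve_left (sub_ne_zero.mpr (Ne.symm hp₂.2.2))
        linear_combination e1 - e2
      have f13 : lam l₂ ^ 2 - lam l₁ ^ 2 + Cst * A - Cst * (p₁ + p₃) = 0 := by
        refine (mul_eq_zero.mp (?_ : (p₁ - p₃) * _ = 0)).resolve_left (sub_ne_zero.mpr (Ne.symm hp₃.2.2.1))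
        linear_combination e1 - e3
      have hC : Cst = 0 := by
        refine (mul_eq_zero.mp (?_ : Cst * (p₃ - p₂) = 0)).resolve_right (sub_ne_zero.mpr hp₃.2.2.2)
        linear_combination f12 - f13
      have : lam l₁ ^ 2 * A = 0 := by
        linear_combination e1 - p₁ * f12 - p₁ * p₂ * hC
      exact mul_ne_zero (pow_ne_zero _ (hlam l₁ hl₁)) (neg_ne_zero.mpr hσ0) this
    refine ⟨fun l => if l = l₁ then v else if l = l₂ then A - v else base l, fun l hl => ?_, ?_, ?_⟩
    · dsimp only [base]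
      split_ifs
      exacts [hv0, sub_ne_zero.mpr hvA.symm, ha.1, one_ne_zero]
    · rw [← Finset.add_sum_erase _ _ hl₁, ← Finset.add_sum_erase _ _ (Finset.mem_erase.mpr ⟨h12.symm, hl₂⟩)]
      rw [Finset.sum_congr rfl fun l hl => show (if l = l₁ then v else if l = l₂ then A - v else base l) = base l by
        simp only [Finset.mem_erase] at hl
        rw [if_neg hl.2.1, if_neg hl.1]]
      simp only [if_true, if_neg h12.symm]
      show v + (A - v + σ) = 0
      ring
    · rw [← Finset.add_sum_erase _ _ hl₁, ← Finset.add_sum_erase _ _ (Finset.mem_erase.mpr ⟨h12.symm, hl₂⟩)]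
      rw [Finset.sum_congr rfl fun l hl => show
          lam l ^ 2 * (if l = l₁ then v else if l = l₂ then A - v else base l)⁻¹ = lam l ^ 2 * (base l)⁻¹ by
        simp only [Finset.mem_erase] at hl
        rw [if_neg hl.2.1, if_neg hl.1]]
      simp only [if_true, if_neg h12.symm]
      rw [← add_assoc]
      exact hv
  let d₀ : ι → F := fun l => if l ∈ S then ev l * (lam l)⁻¹ else 1
  have hd₀ : ∀ l, d₀ l ≠ 0 := fun l => by
    dsimp only [d₀]
    split_ifs with h
    · exact mul_ne_zero (hev0 l h) (inv_ne_zero (hlam l h))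
    · exact one_ne_zero
  obtain ⟨d, hd, hdd⟩ := exists_coeff (1 : Equiv.Perm ι) d₀ hd₀ o
  replace hd : ∏ i, d i = 1 := by simpa using hd
  have hsum : ∀ G : ι → F, (∀ l, l ∈ S → G l = G l) →
      ∑ l, (x⁻¹).val j l * G l * x.val l j = ∑ l ∈ S, lam l * G l := fun G _ => by
    rw [← Finset.sum_subset (Finset.subset_univ S) fun l _ hl => ?_]
    · exact Finset.sum_congr rfl fun l _ => by simp only [lam]; ring
    · simp only [hS, Finset.mem_filter, Finset.mem_univ, true_and, not_and, not_not] at hl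
      rcases eq_or_ne l o with rfl | hlo
      · rw [hf.inv j hjo, zero_mul, zero_mul]
      · rw [hl hlo, mul_zero]
  have hdS : ∀ l ∈ S, d l = ev l * (lam l)⁻¹ := fun l hl => by
    rw [hdd l (Finset.mem_filter.mp hl).2.1]
    exact if_pos hl
  refine sl_le_of_mismatch hK h13 hc0 hc2 hc3 (conj_dg_mem hK hx d hd)
    ((hf.inv.mul (fix_dg o d hd)).mul hf) hjo hjo ?_ ?_
  · rw [Units.val_mul, Units.val_mul, dg_val, conj_apply, hsum d fun _ _ => rfl, ← hev1]
    exact Finset.sum_congr rfl fun l hl => by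
      rw [hdS l hl]
      field_simp [hlam l hl]
  · rw [show (x⁻¹ * dg d hd * x)⁻¹ = x⁻¹ * (dg d hd)⁻¹ * x by group, Units.val_mul, Units.val_mul, dg_inv_val,
      conj_apply, hsum (fun l => (d l)⁻¹) fun _ _ => rfl]
    refine fun h => hev2 ?_
    rw [← h]
    exact Finset.sum_congr rfl fun l hl => by
      rw [hdS l hl]
      field_simp [hlam l hl, hev0 l hl]

include hK h13 hc0 hc2 hc3 in
/-- The special linear group is generated by the monomial group and one further element. -/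
theorem line_core (hq : ∀ S : Finset F, S.card ≤ 4 → ∃ a, a ∉ S) (hdet : ∀ g ∈ K, g.val.det = 1)
    {g₀ : GL ι F} (hg₀ : g₀ ∈ K) (hg₀m : ¬ Mono g₀) : Cfsg.Geo.specialLinear ι F ≤ K := by
  classical
  obtain ⟨x, hx, hxm, o, hf⟩ := exists_axis hK h13 hq hc0 hc2 hc3 hg₀ hg₀m
  change Fix o x at hf
  by_cases hone : ∀ k, k ≠ o → ∀ p p', p ≠ o → p' ≠ o → x.val p k ≠ 0 → x.val p' k ≠ 0 → p = p'
  · set B : ι → F := fun r => if r = o then 0 else -(x.val o r * (x.val o o)⁻¹) with hB
    have hB' : B ⬝ᵥ (Pi.single o 1 : ι → F) = 0 := by simp [hB]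
    set M := x * tv (Pi.single o 1) B hB' with hM
    have hMv : ∀ p r, M.val p r = x.val p r + x.val p o * B r := fun p r => by
      rw [hM, Units.val_mul]
      show (x.val * tvMat (Pi.single o 1) B) p r = _
      rw [tvMat, mul_add, mul_one, Matrix.add_apply, Matrix.mul_vecMulVec, Matrix.vecMulVec_apply,
        Matrix.mulVec_single_one, Matrix.col_apply]
    have hMm : Mono M := by
      intro q p p' h h'
      rw [hMv] at h h'
      rcases eq_or_ne q o with rfl | hq
      · simp only [hB, if_true, mul_zero, add_zero] at h h'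
        exact (not_not.mp fun e => h (hf p e)).trans (not_not.mp fun e => h' (hf p' e)).symm
      · have hne : ∀ r, x.val r q + x.val r o * B q ≠ 0 → r ≠ o ∧ x.val r q ≠ 0 := fun r hr => by
          rcases eq_or_ne r o with rfl | hro
          · refine absurd ?_ hr
            simp [hB, hq]
            field_simp [hf.oo_ne]
            ring
          · exact ⟨hro, fun e => hr (by rw [e, hf r hro, zero_mul, add_zero])⟩
        exact hone q hq p p' (hne p h).1 (hne p' h').1 (hne p h).2 (hne p' h').2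
    have hMd : M.val.det = 1 := by
      rw [hM, Units.val_mul, Matrix.det_mul, hdet x hx, det_of_mem_sl (tv_mem_specialLinear _ _ _), one_mul]
    refine sl_le_of_root hK h13 hc0 hc2 (o := o) (φ := B) ⟨hB', ?_⟩ fun h0 => hxm ?_
    · rw [show tv (Pi.single o 1) B hB' = x⁻¹ * M by rw [hM, inv_mul_cancel_left]]
      exact K.mul_mem (K.inv_mem hx) (hK M hMd hMm)
    · intro q p p' h h'
      refine hMm q p p' ?_ ?_ <;> rw [hMv, h0] <;> simpa
  push Not at hone
  obtain ⟨k, hko, a, b, hao, hbo, hak, hbk, hab⟩ := hone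
  by_cases h3 : 3 ≤ (Finset.univ.filter fun l => l ≠ o ∧ x.val l k ≠ 0).card
  · exact sl_le_of_three hK h13 hc0 hc2 hc3 hq hx hf hko h3
  have hsupp : ∀ p, p ≠ o → p ≠ a → p ≠ b → x.val p k = 0 := fun p hpo hpa hpb => by
    by_contra hp
    refine h3 (le_trans (le_of_eq (Finset.card_eq_three.mpr ⟨p, a, b, hpa, hpb, hab, rfl⟩).symm)
      (Finset.card_le_card ?_))
    intro l hl
    simp only [Finset.mem_insert, Finset.mem_singleton] at hl
    rcases hl with rfl | rfl | rfl <;> simp [*]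
  obtain ⟨p, -, hp⟩ := Finset.exists_mem_notMem_of_card_lt_card (s := ({o, a, b} : Finset ι))
    (t := Finset.univ) (Finset.card_le_three.trans_lt (by rw [Finset.card_univ]; omega))
  simp only [Finset.mem_insert, Finset.mem_singleton, not_or] at hp
  obtain ⟨r, hr⟩ := exists_row_ne x p
  have hro : r ≠ o := fun e => hr (e ▸ hf p hp.1)
  have hrk : r ≠ k := fun e => hr (e ▸ hsupp p hp.1 hp.2.1 hp.2.2)
  obtain ⟨z, hz⟩ := hq {0, -(x.val b k * x.val a r) * (x.val a k)⁻¹, -(x.val b k * x.val b r) * (x.val b k)⁻¹}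
    (Finset.card_le_three.trans (by omega))
  simp only [Finset.mem_insert, Finset.mem_singleton, not_or] at hz
  set σ₁ : Equiv.Perm ι := Equiv.swap a k
  have h1b : σ₁ b ≠ k := fun h => hab (σ₁.injective (h.trans (Equiv.swap_apply_left a k).symm)).symm
  set π := σ₁.trans (Equiv.swap (σ₁ b) r)
  have hπa : π a = k := by simp [π, σ₁, Equiv.swap_apply_of_ne_of_ne h1b.symm hrk.symm]
  have hπb : π b = r := by simp [π]
  have h1o : σ₁ o = o := Equiv.swap_apply_of_ne_of_ne hao.symm hko.symm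
  have hπo : π o = o := by
    simp only [π, Equiv.trans_apply, h1o]
    exact Equiv.swap_apply_of_ne_of_ne (fun h => hbo (σ₁.injective (h.symm.trans h1o.symm))) hro.symm
  obtain ⟨w, -, hw⟩ := Finset.exists_mem_notMem_of_card_lt_card (s := ({o, a, b} : Finset ι))
    (t := Finset.univ) (Finset.card_le_three.trans_lt (by rw [Finset.card_univ]; omega))
  simp only [Finset.mem_insert, Finset.mem_singleton, not_or] at hw
  obtain ⟨d, hd, hdd⟩ := exists_coeff π (fun l => if l = a then z * (x.val a k)⁻¹ else 1) (fun l => by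
    split_ifs
    · exact mul_ne_zero hz.1 (inv_ne_zero hak)
    · exact one_ne_zero) w
  obtain ⟨M, hM1, hM2, hM3, -⟩ := exists_monomial π d hd
  have hMK : M ∈ K := hK M hM1 fun q p p' h h' => by
    rw [hM2] at h h'
    exact (not_not.mp fun e => h (if_neg e)).trans (not_not.mp fun e => h' (if_neg e)).symm
  have hMf : Fix o M := fun p hpo => by rw [hM2, hπo, if_neg hpo]
  have hval : ∀ s, s ≠ o → (x * M * x).val s k = z * x.val s k + x.val b k * x.val s r := by
    intro s hs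
    have hcol : x.val *ᵥ Pi.single k 1 = Pi.single o (x.val o k) + Pi.single a (x.val a k) + Pi.single b (x.val b k) := by
      funext l
      rw [Matrix.mulVec_single_one, Matrix.col_apply]
      rcases eq_or_ne l o with rfl | h1
      · simp [hao.symm, hbo.symm]
      rcases eq_or_ne l a with rfl | h2
      · simp [hao, hab]
      rcases eq_or_ne l b with rfl | h3
      · simp [hbo, hab.symm]
      simp [h1, h2, h3, hsupp l h1 h2 h3]
    have h := congrFun (show (x * M * x).val *ᵥ Pi.single k 1 = x.val *ᵥ (M.val *ᵥ (x.val *ᵥ Pi.single k 1)) by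
      rw [Units.val_mul, Units.val_mul, Matrix.mulVec_mulVec, Matrix.mulVec_mulVec]) s
    rw [Matrix.mulVec_single_one, Matrix.col_apply] at h
    rw [h, hcol, Matrix.mulVec_add, Matrix.mulVec_add, Matrix.mulVec_add, Matrix.mulVec_add, hM3, hM3, hM3, hπo, hπa, hπb, hdd a (Ne.symm hw.2.1), hdd b (Ne.symm hw.2.2)]
    simp [Matrix.mulVec_single, hf s hs, hab.symm]
    field_simp
  refine sl_le_of_three hK h13 hc0 hc2 hc3 hq (K.mul_mem (K.mul_mem hx hMK) hx) ((hf.mul hMf).mul hf) hko ?_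
  refine le_trans (le_of_eq (Finset.card_eq_three.mpr ⟨p, a, b, hp.2.1, hp.2.2, hab, rfl⟩).symm)
    (Finset.card_le_card fun l hl => ?_)
  simp only [Finset.mem_insert, Finset.mem_singleton] at hl
  simp only [Finset.mem_filter, Finset.mem_univ, true_and]
  rcases hl with rfl | rfl | rfl
  · refine ⟨hp.1, ?_⟩
    rw [hval l hp.1, hsupp l hp.1 hp.2.1 hp.2.2, mul_zero, zero_add]
    exact mul_ne_zero hbk hr
  · refine ⟨hao, ?_⟩
    rw [hval l hao]
    exact fun h => hz.2.1 (by field_simp; linear_combination h)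
  · refine ⟨hbo, ?_⟩
    rw [hval l hbo]
    exact fun h => hz.2.2 (by rw [eq_mul_inv_iff_mul_eq₀ hbk]; linear_combination h)

end Cfsg.Agent.Lib.ThreeTransp.DecompMax
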