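import Cfsg.Agent.Lib.MaxSub.Transvec

/-!
Matrices permuting coordinate blocks, monomial elements, diagonal elements and auxiliary facts about
transvections in a subgroup.
-/

set_option autoImplicit false

namespace Cfsg.Agent.Lib.ThreeTransp.DecompMax

open Cfsg.Agent.Lib.MaxSub Matrix
open scoped MatrixGroups Matrix

variable {ι : Type} [Fintype ι] [DecidableEq ι] {F : Type*} [Field F]

/-- `g` permutes the coordinate blocks, the fibres of `f`. -/
def Blk {β : Type*} (f : ι → β) (g : GL ι F) : Prop :=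
  ∃ σ : Equiv.Perm β, ∀ p q, g.val p q ≠ 0 → f p = σ (f q)

/-- `g` is monomial: every column has at most one non-zero entry. -/
def Mono (g : GL ι F) : Prop := ∀ q p p', g.val p q ≠ 0 → g.val p' q ≠ 0 → p = p'

theorem val_mulVec_inv (g : GL ι F) (x : ι → F) : g.val *ᵥ ((g⁻¹).val *ᵥ x) = x := by
  rw [Matrix.mulVec_mulVec, ← Units.val_mul, mul_inv_cancel, Units.val_one, Matrix.one_mulVec]

theorem inv_mulVec_val (g : GL ι F) (x : ι → F) : (g⁻¹).val *ᵥ (g.val *ᵥ x) = x := by
  rw [Matrix.mulVec_mulVec, ← Units.val_mul, inv_mul_cancel, Units.val_one, Matrix.one_mulVec]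

theorem val_mulVec_injective (g : GL ι F) : Function.Injective (g.val *ᵥ ·) := fun x y h => by
  simpa [inv_mulVec_val] using congrArg ((g⁻¹).val *ᵥ ·) h

theorem vecMul_val_inv (g : GL ι F) (x : ι → F) : (x ᵥ* g.val) ᵥ* (g⁻¹).val = x := by
  rw [Matrix.vecMul_vecMul, ← Units.val_mul, mul_inv_cancel, Units.val_one, Matrix.vecMul_one]

theorem exists_row_ne (g : GL ι F) (p : ι) : ∃ q, g.val p q ≠ 0 := by
  by_contra! h
  have h1 : (g.val * (g⁻¹).val) p p = 1 := by
    rw [← Units.val_mul, mul_inv_cancel, Units.val_one, Matrix.one_apply_eq]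
  rw [Matrix.mul_apply, Finset.sum_eq_zero fun q _ => by rw [h q, zero_mul]] at h1
  exact zero_ne_one h1

theorem exists_col_ne (g : GL ι F) (q : ι) : ∃ p, g.val p q ≠ 0 := by
  by_contra! h
  have h1 : ((g⁻¹).val * g.val) q q = 1 := by
    rw [← Units.val_mul, inv_mul_cancel, Units.val_one, Matrix.one_apply_eq]
  rw [Matrix.mul_apply, Finset.sum_eq_zero fun p _ => by rw [h p, mul_zero]] at h1
  exact zero_ne_one h1

theorem mem_sl_of_det {g : GL ι F} (h : g.val.det = 1) : g ∈ Cfsg.Geo.specialLinear ι F :=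
  MonoidHom.mem_ker.mpr (Units.ext h)

theorem det_of_mem_sl {g : GL ι F} (h : g ∈ Cfsg.Geo.specialLinear ι F) : g.val.det = 1 :=
  congrArg Units.val (MonoidHom.mem_ker.mp h)

/-! ### Diagonal elements -/

/-- A diagonal element of determinant one. -/
def dg (d : ι → F) (hd : ∏ i, d i = 1) : GL ι F where
  val := Matrix.diagonal d
  inv := Matrix.diagonal fun i => (d i)⁻¹
  val_inv := by
    have h : ∀ i, d i ≠ 0 := fun i hi => by
      rw [Finset.prod_eq_zero (Finset.mem_univ i) hi] at hd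
      exact zero_ne_one hd
    rw [Matrix.diagonal_mul_diagonal, ← Matrix.diagonal_one]
    exact congrArg _ (funext fun i => mul_inv_cancel₀ (h i))
  inv_val := by
    have h : ∀ i, d i ≠ 0 := fun i hi => by
      rw [Finset.prod_eq_zero (Finset.mem_univ i) hi] at hd
      exact zero_ne_one hd
    rw [Matrix.diagonal_mul_diagonal, ← Matrix.diagonal_one]
    exact congrArg _ (funext fun i => inv_mul_cancel₀ (h i))

theorem dg_val (d : ι → F) (hd : ∏ i, d i = 1) : (dg d hd).val = Matrix.diagonal d := rfl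

theorem dg_inv_val (d : ι → F) (hd : ∏ i, d i = 1) :
    (dg d hd)⁻¹.val = Matrix.diagonal fun i => (d i)⁻¹ := rfl

theorem dg_det (d : ι → F) (hd : ∏ i, d i = 1) : (dg d hd).val.det = 1 := by
  rw [dg_val, Matrix.det_diagonal, hd]

theorem dg_mono (d : ι → F) (hd : ∏ i, d i = 1) : Mono (dg d hd) := by
  intro q p p' h h'
  rw [dg_val, Matrix.diagonal_apply] at h h'
  split_ifs at h h' with h1 h2
  · exact h1.trans h2.symm
  · exact absurd rfl h'
  · exact absurd rfl h
  · exact absurd rfl h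

theorem dg_ne_zero {d : ι → F} (hd : ∏ i, d i = 1) (i : ι) : d i ≠ 0 := fun hi => by
  rw [Finset.prod_eq_zero (Finset.mem_univ i) hi] at hd
  exact zero_ne_one hd

theorem dg_mulVec_single (d : ι → F) (hd : ∏ i, d i = 1) (i : ι) (c : F) :
    (dg d hd).val *ᵥ Pi.single i c = d i • Pi.single i c := by
  funext k
  rw [dg_val, Matrix.mulVec_diagonal, Pi.smul_apply, smul_eq_mul]
  rcases eq_or_ne k i with rfl | h
  · rfl
  · simp [h]

theorem vecMul_dg_inv (d : ι → F) (hd : ∏ i, d i = 1) (a : ι → F) :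
    a ᵥ* (dg d hd)⁻¹.val = fun i => a i * (d i)⁻¹ :=
  funext fun i => by rw [dg_inv_val, Matrix.vecMul_diagonal]

/-- A function that differs from one at two places only, with product one. -/
theorem exists_two (u v : ι) (h : u ≠ v) {c : F} (hc : c ≠ 0) :
    ∃ d : ι → F, ∏ i, d i = 1 ∧ d u = c ∧ d v = c⁻¹ ∧ ∀ i, i ≠ u → i ≠ v → d i = 1 := by
  refine ⟨Function.update (Function.update (fun _ => 1) u c) v c⁻¹, ?_, ?_, by simp,
    fun i h1 h2 => by simp [h1, h2]⟩
  · rw [Finset.prod_update_of_mem (Finset.mem_univ v), Finset.prod_update_of_mem (by simp [h])]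
    simp [inv_mul_cancel₀ hc]
  · simp [h]

/-! ### Permutation matrices with coefficients -/

theorem exists_monomial (π : Equiv.Perm ι) (d : ι → F)
    (hd : ((Equiv.Perm.sign π : ℤ) : F) * ∏ i, d i = 1) :
    ∃ g : GL ι F, g.val.det = 1 ∧ (∀ p q, g.val p q = if p = π q then d q else 0) ∧
      (∀ q c, g.val *ᵥ Pi.single q c = Pi.single (π q) (d q * c)) ∧
      ∀ q c, Pi.single (π q) c ᵥ* g.val = Pi.single q (c * d q) := by
  let A : Matrix ι ι F := (Equiv.Perm.permMatrix F π.symm) * Matrix.diagonal d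
  have hA : ∀ p q, A p q = if p = π q then d q else 0 := by
    intro p q
    simp only [A, Matrix.mul_diagonal, Equiv.Perm.permMatrix, PEquiv.toMatrix_apply, Equiv.toPEquiv_apply,
      Option.mem_def, Option.some.injEq]
    rcases eq_or_ne p (π q) with rfl | h
    · simp
    · rw [if_neg h, if_neg fun e => h (by rw [← e, Equiv.apply_symm_apply]), zero_mul]
  have hdet : A.det = 1 := by
    rw [Matrix.det_mul, Matrix.det_permutation, Matrix.det_diagonal, Equiv.Perm.sign_symm]
    exact hd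
  refine ⟨Matrix.GeneralLinearGroup.mkOfDetNeZero A (hdet ▸ one_ne_zero), hdet, hA, fun q c => ?_, fun q c => ?_⟩
  · funext p
    show (A *ᵥ Pi.single q c) p = _
    rw [Matrix.mulVec_single, Pi.single_apply]
    simp [hA]
  · funext k
    show (Pi.single (π q) c ᵥ* A) k = _
    rw [Matrix.single_vecMul, Pi.single_apply]
    simp only [Pi.smul_apply, Matrix.row, hA, smul_eq_mul, π.injective.eq_iff]
    rcases eq_or_ne k q with rfl | h
    · simp
    · simp [h, h.symm]

/-- Coefficients for a permutation matrix of determinant one, prescribed outside one place. -/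
theorem exists_coeff (π : Equiv.Perm ι) (d₀ : ι → F) (hd₀ : ∀ i, d₀ i ≠ 0) (w : ι) :
    ∃ d : ι → F, ((Equiv.Perm.sign π : ℤ) : F) * ∏ i, d i = 1 ∧ ∀ i, i ≠ w → d i = d₀ i := by
  classical
  let r := ((Equiv.Perm.sign π : ℤ) : F) * ∏ i ∈ Finset.univ \ {w}, d₀ i
  refine ⟨Function.update d₀ w r⁻¹, ?_, fun i hi => by simp [hi]⟩
  have hr : r ≠ 0 := mul_ne_zero (by
    rcases Int.units_eq_one_or (Equiv.Perm.sign π) with h | h <;> simp [h]) (Finset.prod_ne_zero_iff.mpr fun i _ => hd₀ i)
  rw [Finset.prod_update_of_mem (Finset.mem_univ w), mul_left_comm]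
  exact inv_mul_cancel₀ hr

/-! ### Transvections in a subgroup -/

variable {K : Subgroup (GL ι F)}

theorem inK_add_left {u w a : ι → F} (hu : InK K u a) (hw : InK K w a) : InK K (u + w) a := by
  obtain ⟨h1, hk1⟩ := hu
  obtain ⟨h2, hk2⟩ := hw
  refine ⟨by rw [dotProduct_add, h1, h2, add_zero], ?_⟩
  have hm := K.mul_mem hk1 hk2
  rwa [show tv u a h1 * tv w a h2 = tv (u + w) a (by rw [dotProduct_add, h1, h2, add_zero]) from
    Units.ext (eq_of_mulVec_eq fun x => by
      rw [Units.val_mul, ← Matrix.mulVec_mulVec, tv_mulVec, tv_mulVec, tv_mulVec, dotProduct_add, dotProduct_smul,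
        h2, smul_zero, add_zero, smul_add]
      abel)] at hm

theorem inK_smul_left {u a : ι → F} (hu : InK K u a) : InK K (-u) a := by
  obtain ⟨h1, hk⟩ := hu
  refine ⟨by rw [dotProduct_neg, h1, neg_zero], ?_⟩
  have hm := K.inv_mem hk
  rwa [tv_inv, show tv u (-a) (by rw [neg_dotProduct, h1, neg_zero]) = tv (-u) a (by rw [dotProduct_neg, h1, neg_zero])
    from Units.ext (eq_of_mulVec_eq fun x => by simp [tv_mulVec])] at hm

theorem inK_sub_left {u w a : ι → F} (hu : InK K u a) (hw : InK K w a) : InK K (u - w) a :=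
  sub_eq_add_neg u w ▸ inK_add_left hu (inK_smul_left hw)

/-- Conjugating `(y, b)` by a transvection `(x, a)` with `b ⬝ᵥ x = 0` moves only the centre. -/
theorem inK_transport {x a y b : ι → F} (hx : InK K x a) (hy : InK K y b) (hbx : b ⬝ᵥ x = 0) :
    InK K x ((a ⬝ᵥ y) • b) := by
  obtain ⟨h1, hk1⟩ := hx
  have h3 := hy.conj hk1
  have hb : b ᵥ* (tv x a h1)⁻¹.val = b := by
    rw [tv_inv]
    show b ᵥ* tvMat x (-a) = b
    rw [tvMat, Matrix.vecMul_add, Matrix.vecMul_one, Matrix.vecMul_vecMulVec, hbx, zero_smul, add_zero]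
  rw [hb, tv_mulVec] at h3
  have h4 := inK_sub_left h3 hy
  rw [add_sub_cancel_left] at h4
  exact h4.of_smul

/-- A subgroup with every elementary transvection contains the special linear group. -/
theorem specialLinear_le_of_single
    (h : ∀ i j : ι, i ≠ j → ∀ b : F, InK K (Pi.single i 1) (Pi.single j b)) :
    Cfsg.Geo.specialLinear ι F ≤ K := by
  have htop : K.comap (Matrix.SpecialLinearGroup.toGL : Matrix.SpecialLinearGroup ι F →* GL ι F) = ⊤ := by
    refine Cfsg.Agent.Lib.Classical.SL_eq_top_of_transvection_mem fun i j hij b => ?_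
    obtain ⟨h1, hk⟩ := h i j hij b
    show Matrix.SpecialLinearGroup.toGL _ ∈ K
    convert hk using 1
    refine Units.ext ?_
    show (1 : Matrix ι ι F) + Matrix.single i j b = 1 + Matrix.vecMulVec _ _
    congr 1
    ext p q
    simp only [Matrix.single_apply, Matrix.vecMulVec_apply, Pi.single_apply]
    by_cases hp : p = i <;> by_cases hq : q = j <;> simp [hp, hq, Ne.symm]
  intro g hg
  obtain ⟨s, rfl⟩ : g ∈ (Matrix.SpecialLinearGroup.toGL : Matrix.SpecialLinearGroup ι F →* GL ι F).range :=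
    ⟨⟨g.val, det_of_mem_sl hg⟩, Units.ext rfl⟩
  have : s ∈ K.comap (Matrix.SpecialLinearGroup.toGL : Matrix.SpecialLinearGroup ι F →* GL ι F) := by
    rw [htop]; trivial
  exact this

/-- From one pair of coordinates to all, by permuting. -/
theorem inK_single_perm (π : Equiv.Perm ι) {g : GL ι F} (hg : g ∈ K) {d : ι → F}
    (h1 : ∀ q c, g.val *ᵥ Pi.single q c = Pi.single (π q) (d q * c))
    (h2 : ∀ q c, Pi.single (π q) c ᵥ* g.val = Pi.single q (c * d q)) {p q : ι}
    (h : ∀ c : F, InK K (Pi.single p 1) (Pi.single q c)) (hdp : d p ≠ 0) (c : F) :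
    InK K (Pi.single (π p) 1) (Pi.single (π q) c) := by
  have h3 := (h ((d p)⁻¹ * c * d q)).conj hg
  rw [h1, mul_one, ← h2, vecMul_val_inv] at h3
  rw [show Pi.single (π p) (d p) = d p • (Pi.single (π p) 1 : ι → F) by simp [← Pi.single_smul]] at h3
  have h4 := h3.of_smul
  rwa [← Pi.single_smul, smul_eq_mul, ← mul_assoc, mul_inv_cancel₀ hdp, one_mul] at h4

end Cfsg.Agent.Lib.ThreeTransp.DecompMax
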