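import Cfsg.Agent.Lib.ThreeTransp.DecompMaxBase

/-!
A subgroup of `GL` containing the determinant one elements permuting coordinate blocks of size at least two,
and one element that does not permute them, contains the special linear group.
-/

set_option autoImplicit false

namespace Cfsg.Agent.Lib.ThreeTransp.DecompMax

open Cfsg.Agent.Lib.MaxSub Matrix
open scoped MatrixGroups Matrix

variable {ι : Type} [Fintype ι] [DecidableEq ι] {F : Type*} [Field F]

section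
variable {t : ℕ} (f : ι → Fin t)

/-- The part of `v` in block `i`. -/
def res (i : Fin t) (v : ι → F) : ι → F := fun p => if f p = i then v p else 0

/-- `v` is supported in block `i`. -/
def Supp (i : Fin t) (v : ι → F) : Prop := ∀ p, f p ≠ i → v p = 0

theorem supp_res (i : Fin t) (v : ι → F) : Supp f i (res f i v) := fun _ h => if_neg h

theorem supp_single (p : ι) (c : F) : Supp f (f p) (Pi.single p c) := fun q hq => by
  rw [Pi.single_apply, if_neg]
  rintro rfl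
  exact hq rfl

variable {f}

theorem dot_res {i : Fin t} {a : ι → F} (v : ι → F) (ha : Supp f i a) : a ⬝ᵥ v = a ⬝ᵥ res f i v :=
  Finset.sum_congr rfl fun p _ => by
    by_cases h : f p = i
    · simp [res, h]
    · simp [ha p h]

theorem res_dot {i : Fin t} (a : ι → F) {v : ι → F} (hv : Supp f i v) : res f i a ⬝ᵥ v = a ⬝ᵥ v :=
  Finset.sum_congr rfl fun p _ => by
    by_cases h : f p = i
    · simp [res, h]
    · simp [hv p h]

theorem dot_zero_of_ne {i j : Fin t} {a v : ι → F} (ha : Supp f i a) (hv : Supp f j v) (h : i ≠ j) :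
    a ⬝ᵥ v = 0 :=
  Finset.sum_eq_zero fun p _ => by
    by_cases hp : f p = i
    · rw [hv p (hp ▸ h), mul_zero]
    · rw [ha p hp, zero_mul]

theorem blk_mul {g h : GL ι F} (hg : Blk f g) (hh : Blk f h) : Blk f (g * h) := by
  obtain ⟨σ, hσ⟩ := hg
  obtain ⟨τ, hτ⟩ := hh
  refine ⟨τ.trans σ, fun p q hpq => ?_⟩
  rw [Units.val_mul, Matrix.mul_apply] at hpq
  obtain ⟨r, -, hr⟩ := Finset.exists_ne_zero_of_sum_ne_zero hpq
  rw [Equiv.trans_apply, ← hτ r q (right_ne_zero_of_mul hr), hσ p r (left_ne_zero_of_mul hr)]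

theorem blk_of_tvMat {g : GL ι F} {i : Fin t} {u b : ι → F} (hg : g.val = tvMat u b) (hu : Supp f i u)
    (hb : Supp f i b) : Blk f g := by
  refine ⟨1, fun p q hpq => ?_⟩
  rw [hg, tvMat, Matrix.add_apply, Matrix.vecMulVec_apply] at hpq
  rw [Equiv.Perm.one_apply]
  by_contra hne
  rw [Matrix.one_apply_ne fun h => hne (congrArg f h), zero_add] at hpq
  exact hne ((not_not.mp fun h => left_ne_zero_of_mul hpq (hu p h)).trans
    (not_not.mp fun h => right_ne_zero_of_mul hpq (hb q h)).symm)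

/-- A rank one change of the identity. -/
def rk (u b : ι → F) (h : 1 + b ⬝ᵥ u ≠ 0) : GL ι F where
  val := tvMat u b
  inv := tvMat u (-(1 + b ⬝ᵥ u)⁻¹ • b)
  val_inv := eq_of_mulVec_eq fun x => by
    rw [← Matrix.mulVec_mulVec, tvMat_mulVec, tvMat_mulVec, Matrix.one_mulVec, dotProduct_add, dotProduct_smul,
      smul_dotProduct, smul_eq_mul, smul_eq_mul, add_assoc, ← add_smul]
    conv_rhs => rw [← add_zero x, ← zero_smul F u]
    congr 2
    field_simp
    ring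
  inv_val := eq_of_mulVec_eq fun x => by
    rw [← Matrix.mulVec_mulVec, tvMat_mulVec, tvMat_mulVec, Matrix.one_mulVec, smul_dotProduct, dotProduct_add,
      dotProduct_smul, smul_eq_mul, smul_eq_mul, add_assoc, ← add_smul]
    conv_rhs => rw [← add_zero x, ← zero_smul F u]
    congr 2
    field_simp
    ring

theorem rk_det (u b : ι → F) (h : 1 + b ⬝ᵥ u ≠ 0) : (rk u b h).val.det = 1 + b ⬝ᵥ u := by
  show (tvMat u b).det = _
  rw [tvMat, Matrix.vecMulVec_eq Unit, Matrix.det_one_add_replicateCol_mul_replicateRow]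

theorem rk_mulVec (u b : ι → F) (h : 1 + b ⬝ᵥ u ≠ 0) (x : ι → F) :
    (rk u b h).val *ᵥ x = x + (b ⬝ᵥ x) • u := tvMat_mulVec u b x

theorem vecMul_rk_inv (u b : ι → F) (h : 1 + b ⬝ᵥ u ≠ 0) (a : ι → F) :
    a ᵥ* (rk u b h)⁻¹.val = a - ((a ⬝ᵥ u) * (1 + b ⬝ᵥ u)⁻¹) • b := by
  show a ᵥ* tvMat u _ = _
  rw [tvMat, Matrix.vecMul_add, Matrix.vecMul_one, Matrix.vecMul_vecMulVec, smul_smul, mul_neg, neg_smul,
    sub_eq_add_neg]

theorem exists_other {m : ℕ} (hm : 2 ≤ m) {e : ι ≃ Fin t × Fin m} (hf : ∀ p, f p = (e p).1) (p : ι) :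
    ∃ q, q ≠ p ∧ f q = f p := by
  obtain ⟨j, hj⟩ : ∃ j : Fin m, j ≠ (e p).2 := by
    haveI : Nontrivial (Fin m) := Fin.nontrivial_iff_two_le.mpr hm
    exact exists_ne _
  refine ⟨e.symm ((e p).1, j), fun h => hj ?_, by rw [hf, hf, Equiv.apply_symm_apply]⟩
  rw [← h, Equiv.apply_symm_apply]

variable {K : Subgroup (GL ι F)} {m : ℕ} (e : ι ≃ Fin t × Fin m) (hf : ∀ p, f p = (e p).1) (hm : 2 ≤ m)
  (hK : ∀ g : GL ι F, g.val.det = 1 → Blk f g → g ∈ K)

include hK in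
theorem block_inK {i : Fin t} {v a : ι → F} (hv : Supp f i v) (ha : Supp f i a) (h : a ⬝ᵥ v = 0) :
    InK K v a :=
  ⟨h, hK _ (det_of_mem_sl (tv_mem_specialLinear v a h)) (blk_of_tvMat rfl hv ha)⟩

include hK in
/-- Conjugation by a transvection inside a block. -/
theorem conj_block {i : Fin t} {x ψ u b : ι → F} (h : InK K x ψ) (hu : Supp f i u) (hb : Supp f i b)
    (hbu : b ⬝ᵥ u = 0) : InK K (x + (b ⬝ᵥ x) • u) (ψ - (ψ ⬝ᵥ u) • b) := by
  obtain ⟨hd, hk⟩ := block_inK hK hu hb hbu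
  have h1 := h.conj hk
  rw [tv_mulVec, tv_inv] at h1
  convert h1 using 2
  show _ = ψ ᵥ* tvMat u (-b)
  rw [tvMat, Matrix.vecMul_add, Matrix.vecMul_one, Matrix.vecMul_vecMulVec, smul_neg, sub_eq_add_neg]

include hK hf hm in
/-- One transvection with centre in a block and functional outside it gives everything. -/
theorem sl_le_of_centre {i : Fin t} {v ψ : ι → F} (h : InK K v ψ) (hv : Supp f i v) (hv0 : v ≠ 0)
    (hψ : ∃ q, f q ≠ i ∧ ψ q ≠ 0) : Cfsg.Geo.specialLinear ι F ≤ K := by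
  obtain ⟨q₀, hq₀i, hq₀⟩ := hψ
  have h0 : InK K v (ψ - res f i ψ) :=
    h.sub (block_inK hK hv (supp_res f i ψ) (by rw [res_dot _ hv, h.dot]))
  have hstep : ∀ φ, InK K v φ → ∀ q q', f q = f q₀ → f q' = f q₀ → q ≠ q' → φ q' ≠ 0 →
      ∀ c : F, InK K v (Pi.single q c) := by
    intro φ hφ q q' hq hq' hne hφq c
    have h1 := conj_block hK hφ (hq' ▸ supp_single f q' (1 : F))
      (hq ▸ supp_single f q ((φ q')⁻¹ * c)) (by simp [hne.symm])
    rw [single_dotProduct, hv q (hq ▸ hq₀i), mul_zero, zero_smul, add_zero, dotProduct_single, mul_one] at h1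
    have h2 := hφ.sub h1
    rwa [sub_sub_cancel, ← Pi.single_smul, smul_eq_mul, ← mul_assoc, mul_inv_cancel₀ hφq, one_mul] at h2
  have hq₀' : (ψ - res f i ψ) q₀ ≠ 0 := by simp [res, hq₀i, hq₀]
  have hfun : ∀ q, f q = f q₀ → ∀ c : F, InK K v (Pi.single q c) := by
    intro q hq c
    rcases eq_or_ne q q₀ with rfl | hne
    · obtain ⟨q', hne', hq'⟩ := exists_other hm hf q
      exact hstep _ (hstep _ h0 q' q hq' rfl hne' hq₀' 1) q q' rfl hq' hne'.symm (by simp) c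
    · exact hstep _ h0 q q₀ hq rfl hne hq₀' c
  obtain ⟨p₀, hp₀⟩ := Function.ne_iff.mp hv0
  have hp₀i : f p₀ = i := not_not.mp fun h => hp₀ (hv p₀ h)
  have hstep2 : ∀ w, Supp f i w → (∀ q, f q = f q₀ → ∀ c : F, InK K w (Pi.single q c)) → ∀ p p', f p = i →
      f p' = i → p ≠ p' → w p' ≠ 0 → ∀ q, f q = f q₀ → ∀ c : F, InK K (Pi.single p 1) (Pi.single q c) := by
    intro w hw hwq p p' hp hp' hne hwp q hq c
    have hqp : q ≠ p := fun h => hq₀i (by rw [← hq, h, hp])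
    have h1 := conj_block hK (hwq q hq c) (hp ▸ supp_single f p (1 : F))
      (hp' ▸ supp_single f p' ((w p')⁻¹)) (by simp [hne.symm])
    rw [single_dotProduct, inv_mul_cancel₀ hwp, one_smul] at h1
    rw [single_dotProduct, Pi.single_apply, if_neg hqp, mul_zero, zero_smul, sub_zero] at h1
    have h2 := inK_sub_left h1 (hwq q hq c)
    rwa [add_sub_cancel_left] at h2
  have hpair : ∀ p q, f p = i → f q = f q₀ → ∀ c : F, InK K (Pi.single p 1) (Pi.single q c) := by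
    intro p q hp hq c
    rcases eq_or_ne p p₀ with rfl | hne
    · obtain ⟨p', hne', hp'⟩ := exists_other hm hf p
      refine hstep2 _ (fun r hr => ?_) (hstep2 v hv hfun p' p (hp'.trans hp) hp hne' hp₀) p p' hp
        (hp'.trans hp) hne'.symm (by simp) q hq c
      exact (hp'.trans hp ▸ supp_single f p' (1 : F)) r hr
    · exact hstep2 v hv hfun p p₀ hp hp₀i hne hp₀ q hq c
  refine specialLinear_le_of_single fun a b hab c => ?_
  by_cases hfab : f a = f b
  · exact block_inK hK (supp_single f a 1) (hfab ▸ supp_single f b c) (by simp [hab.symm])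
  set σ₁ : Equiv.Perm (Fin t) := Equiv.swap i (f a)
  have hne : σ₁ (f q₀) ≠ f a := fun h =>
    hq₀i (σ₁.injective (h.trans (Equiv.swap_apply_left i (f a)).symm))
  set σ := σ₁.trans (Equiv.swap (σ₁ (f q₀)) (f b))
  have hσi : σ i = f a := by
    simp [σ, σ₁, Equiv.swap_apply_of_ne_of_ne hne.symm hfab]
  have hσq : σ (f q₀) = f b := by simp [σ]
  set π : Equiv.Perm ι := e.trans ((σ.prodCongr (Equiv.refl _)).trans e.symm)
  have hπ : ∀ r, f (π r) = σ (f r) := fun r => by simp [π, hf]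
  obtain ⟨d, hd, -⟩ := exists_coeff π (fun _ => (1 : F)) (fun _ => one_ne_zero) a
  obtain ⟨g, hg1, hg2, hg3, hg4⟩ := exists_monomial π d hd
  have hdne : ∀ r, d r ≠ 0 := fun r hr => by
    rw [Finset.prod_eq_zero (Finset.mem_univ r) hr, mul_zero] at hd
    exact zero_ne_one hd
  have hgK : g ∈ K := hK g hg1 ⟨σ, fun p q hpq => by
    rw [hg2] at hpq
    obtain rfl : p = π q := not_not.mp fun h => hpq (if_neg h)
    exact hπ q⟩
  have hfin := inK_single_perm π hgK hg3 hg4 (p := π.symm a) (q := π.symm b)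
    (hpair _ _ (σ.injective (by rw [← hπ, Equiv.apply_symm_apply, hσi]))
      (σ.injective (by rw [← hπ, Equiv.apply_symm_apply, hσq]))) (hdne _) c
  simpa using hfin

include hK hf hm in
theorem sl_le_of_good {i : Fin t} {x ψ v : ι → F} (h : InK K x ψ) (hxi : res f i x ≠ 0)
    (hψ : ∃ q, f q ≠ i ∧ ψ q ≠ 0) (hv : Supp f i v) (hψv : ψ ⬝ᵥ v = 0)
    (hvx : ∀ c : F, v ≠ c • res f i x) : Cfsg.Geo.specialLinear ι F ≤ K := by
  have hv0 : v ≠ 0 := fun h0 => hvx 0 (by rw [h0, zero_smul])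
  have hx : res f i x ∉ Submodule.span F {v} := fun hx => by
    obtain ⟨c, hc⟩ := Submodule.mem_span_singleton.mp hx
    rcases eq_or_ne c 0 with rfl | hc0
    · rw [zero_smul] at hc
      exact hxi hc.symm
    · exact hvx c⁻¹ (by rw [← hc, smul_smul, inv_mul_cancel₀ hc0, one_smul])
  obtain ⟨a, ha, hax⟩ := exists_functional _ hx
  have hb : res f i a ⬝ᵥ v = 0 := by rw [res_dot _ hv]; exact ha v (Submodule.mem_span_singleton_self v)
  have h1 := conj_block hK h hv (supp_res f i a) hb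
  rw [dot_res x (supp_res f i a), res_dot _ (supp_res f i x), hax, one_smul, hψv, zero_smul, sub_zero] at h1
  have h2 := inK_sub_left h1 h
  rw [add_sub_cancel_left] at h2
  exact sl_le_of_centre e hf hm hK h2 hv hv0 hψ

include hf hm in
/-- Some vector of the block avoids a given line and is killed by a given functional, except in one case. -/
theorem exists_good {i : Fin t} {x : ι → F} (ψ : ι → F) (hxi : res f i x ≠ 0)
    (hc : res f i ψ = 0 ∨ ψ ⬝ᵥ res f i x ≠ 0 ∨ 3 ≤ m) :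
    ∃ v, Supp f i v ∧ ψ ⬝ᵥ v = 0 ∧ ∀ c : F, v ≠ c • res f i x := by
  obtain ⟨p₀, hp₀⟩ := Function.ne_iff.mp hxi
  have hp₀i : f p₀ = i := not_not.mp fun h => hp₀ (supp_res f i x p₀ h)
  by_cases hψi : res f i ψ = 0
  · obtain ⟨p, hne, hp⟩ := exists_other hm hf p₀
    refine ⟨Pi.single p 1, hp.trans hp₀i ▸ supp_single f p 1, ?_, fun c hc => ?_⟩
    · rw [← res_dot ψ (hp.trans hp₀i ▸ supp_single f p (1 : F)), hψi, zero_dotProduct]
    · have h1 := congrFun hc p₀
      have h2 := congrFun hc p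
      simp only [Pi.single_eq_of_ne hne.symm, Pi.single_eq_same, Pi.smul_apply, smul_eq_mul] at h1 h2
      rcases mul_eq_zero.mp h1.symm with rfl | h1
      · simp at h2
      · exact hp₀ h1
  obtain ⟨p, hp⟩ := Function.ne_iff.mp hψi
  have hpi : f p = i := not_not.mp fun h => hp (supp_res f i ψ p h)
  have hψp : ψ p ≠ 0 := by simpa [res, hpi] using hp
  let v : ι → ι → F := fun p' => ψ p' • Pi.single p 1 - ψ p • Pi.single p' 1
  have hv : ∀ p', f p' = i → Supp f i (v p') ∧ ψ ⬝ᵥ v p' = 0 := fun p' hp' => by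
    refine ⟨fun r hr => ?_, by simp [v, dotProduct_sub, mul_comm]⟩
    simp [v, Pi.single_apply, show r ≠ p from fun h => hr (h ▸ hpi), show r ≠ p' from fun h => hr (h ▸ hp')]
  obtain ⟨p', hne, hp'⟩ := exists_other hm hf p
  rcases hc with hc | hc | hc
  · exact absurd hc hψi
  · refine ⟨v p', (hv p' (hp'.trans hpi)).1, (hv p' (hp'.trans hpi)).2, fun c h => ?_⟩
    have h1 := congrArg (ψ ⬝ᵥ ·) h
    simp only [(hv p' (hp'.trans hpi)).2, dotProduct_smul, smul_eq_mul] at h1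
    rcases mul_eq_zero.mp h1.symm with rfl | h1
    · have h2 := congrFun h p'
      simp [v, hne, hψp] at h2
    · exact hc h1
  · obtain ⟨j, hj1, hj2⟩ : ∃ j : Fin m, j ≠ (e p).2 ∧ j ≠ (e p').2 := by
      obtain ⟨j, -, hj⟩ := Finset.exists_mem_notMem_of_card_lt_card
        (s := ({(e p).2, (e p').2} : Finset (Fin m))) (t := Finset.univ)
        (Finset.card_le_two.trans_lt (by simp; omega))
      simp only [Finset.mem_insert, Finset.mem_singleton, not_or] at hj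
      exact ⟨j, hj⟩
    set p'' := e.symm (i, j)
    have hp'' : f p'' = i := by simp [p'', hf]
    have h1 : p'' ≠ p := fun h => hj1 (by rw [← h]; simp [p''])
    have h2 : p'' ≠ p' := fun h => hj2 (by rw [← h]; simp [p''])
    by_contra! hno
    obtain ⟨c, hc1⟩ := hno _ (hv p' (hp'.trans hpi)).1 (hv p' (hp'.trans hpi)).2
    obtain ⟨c', hc2⟩ := hno _ (hv p'' hp'').1 (hv p'' hp'').2
    have e1 := congrFun hc1 p'
    have e2 := congrFun hc2 p'
    simp [v, hne, h2.symm] at e1 e2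
    rcases e2 with hc' | hx'
    · have e3 := congrFun hc2 p''
      simp [v, h1, hc', hψp] at e3
    · rw [hx', mul_zero] at e1
      exact hψp (neg_eq_zero.mp e1)

include hK hf hm in
theorem sl_le_of_res {i : Fin t} {x ψ : ι → F} (h : InK K x ψ) (hxi : res f i x ≠ 0)
    (hψ : ∃ q, f q ≠ i ∧ ψ q ≠ 0) (hc : res f i ψ = 0 ∨ ψ ⬝ᵥ res f i x ≠ 0 ∨ 3 ≤ m) :
    Cfsg.Geo.specialLinear ι F ≤ K := by
  obtain ⟨v, hv, hψv, hvx⟩ := exists_good e hf hm ψ hxi hc
  exact sl_le_of_good e hf hm hK h hxi hψ hv hψv hvx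

include hK hf hm in
/-- The special linear group is generated by the block stabiliser and one further element. -/
theorem block_core (hex : m = 2 → ∃ δ : F, δ ≠ 0 ∧ δ ≠ 1) (h13 : 13 ≤ Fintype.card ι) (g : GL ι F)
    (hg : g ∈ K) (hgb : ¬ Blk f g) : Cfsg.Geo.specialLinear ι F ≤ K := by
  -- a column with entries in two blocks
  obtain ⟨p, v, hv0, hv, hgv⟩ : ∃ (p : ι) (v : ι → F), v ≠ 0 ∧ Supp f (f p) v ∧
      ∃ r r', f r ≠ f r' ∧ (g.val *ᵥ v) r ≠ 0 ∧ (g.val *ᵥ v) r' ≠ 0 := by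
    by_contra! hno
    refine hgb ?_
    have hsingle : ∀ q r r', g.val r q ≠ 0 → g.val r' q ≠ 0 → f r = f r' := by
      intro q r r' h1 h2
      by_contra hne
      have h3 := hno q (Pi.single q 1) (by simp) (supp_single f q 1) r r' hne
      simp [Matrix.mulVec_single] at h3
      exact h2 (h3 h1)
    choose ρ hρ using fun q => exists_col_ne g q
    have hsame : ∀ q q', f q = f q' → f (ρ q) = f (ρ q') := by
      intro q q' hqq
      by_contra hne
      have hq : q ≠ q' := fun h => hne (h ▸ rfl)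
      have h0 : g.val (ρ q) q' = 0 := not_not.mp fun h => hne (hsingle q' _ _ h (hρ q'))
      have h0' : g.val (ρ q') q = 0 := not_not.mp fun h => hne (hsingle q _ _ (hρ q) h)
      have h3 := hno q (Pi.single q 1 + Pi.single q' 1) (fun h => by simpa [hq] using congrFun h q)
        (fun r hr => by simp [Pi.single_apply, show r ≠ q from fun h => hr (h ▸ rfl),
          show r ≠ q' from fun h => hr (h ▸ hqq.symm)]) (ρ q) (ρ q') hne
      simp [Matrix.mulVec_add, Matrix.mulVec_single, h0, h0'] at h3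
      exact hρ q' (h3 (hρ q))
    let σ : Fin t → Fin t := fun i => f (ρ (e.symm (i, ⟨0, by omega⟩)))
    have hσ : ∀ r q, g.val r q ≠ 0 → f r = σ (f q) := fun r q h =>
      (hsingle q r (ρ q) h (hρ q)).trans (hsame q _ (by simp [hf]))
    have hsurj : Function.Surjective σ := fun i => by
      obtain ⟨q, hq⟩ := exists_row_ne g (e.symm (i, ⟨0, by omega⟩))
      exact ⟨f q, by rw [← hσ _ _ hq]; simp [hf]⟩
    exact ⟨Equiv.ofBijective σ ⟨Finite.injective_iff_surjective.mpr hsurj, hsurj⟩, hσ⟩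
  obtain ⟨r, r', hrr, hr, hr'⟩ := hgv
  obtain ⟨p₀, hp₀⟩ := Function.ne_iff.mp hv0
  have hp₀p : f p₀ = f p := not_not.mp fun h => hp₀ (hv p₀ h)
  obtain ⟨p', hne, hp'⟩ := exists_other hm hf p₀
  set a : ι → F := v p' • Pi.single p₀ 1 - v p₀ • Pi.single p' 1 with ha
  have hsa : Supp f (f p) a := fun s hs => by
    simp [ha, Pi.single_apply, show s ≠ p₀ from fun h => hs (h ▸ hp₀p),
      show s ≠ p' from fun h => hs (h ▸ hp'.trans hp₀p)]
  have hin := (block_inK hK hv hsa (by simp [ha, sub_dotProduct, mul_comm])).conj hg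
  set x := g.val *ᵥ v
  set ψ := a ᵥ* (g⁻¹).val with hψdef
  have hψ0 : ψ ≠ 0 := fun h => by
    have h1 : a = 0 := by
      have h2 := congrArg (· ᵥ* g.val) h
      simpa [hψdef, Matrix.vecMul_vecMul, ← Units.val_mul] using h2
    exact hp₀ (by simpa [ha, hne] using congrFun h1 p')
  obtain ⟨s, hs⟩ := Function.ne_iff.mp hψ0
  obtain ⟨i, hxi, hsi⟩ : ∃ i, res f i x ≠ 0 ∧ f s ≠ i := by
    rcases eq_or_ne (f s) (f r) with h | h
    · exact ⟨f r', fun h0 => hr' (by simpa [res] using congrFun h0 r'), h ▸ hrr⟩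
    · exact ⟨f r, fun h0 => hr (by simpa [res] using congrFun h0 r), h⟩
  by_cases hgood : res f i ψ = 0 ∨ ψ ⬝ᵥ res f i x ≠ 0 ∨ 3 ≤ m
  · exact sl_le_of_res e hf hm hK hin hxi ⟨s, hsi, hs⟩ hgood
  simp only [not_or, not_not, not_le] at hgood
  obtain ⟨hψi, hψxi, hm3⟩ := hgood
  obtain ⟨δ, hδ0, hδ1⟩ := hex (by omega)
  by_cases hxs : res f (f s) x = 0
  · -- the functional can be moved into one block
    obtain ⟨s', hne', hs'⟩ := exists_other hm hf s
    have h1 := conj_block hK hin (supp_single f s (1 : F)) (hs' ▸ supp_single f s' (1 : F))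
      (by simp [hne'])
    have hx0 : x s' = 0 := by simpa [res, hs'] using congrFun hxs s'
    rw [single_dotProduct, hx0, mul_zero, zero_smul, add_zero, dotProduct_single, mul_one] at h1
    have h2 := hin.sub h1
    rw [sub_sub_cancel, ← Pi.single_smul, smul_eq_mul, mul_one] at h2
    refine sl_le_of_res e hf hm hK h2 hxi ⟨s', hs' ▸ hsi, by simpa using hs⟩ (Or.inl ?_)
    funext r
    by_cases hri : f r = i
    · simp [res, hri, show r ≠ s' from fun h => hsi (by rw [← hs', ← h, hri])]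
    · simp [res, hri]
  set k := f s with hk
  have hψk : res f k ψ ≠ 0 := fun h => hs (by simpa [res, hk] using congrFun h s)
  by_cases hψxk : ψ ⬝ᵥ res f k x = 0
  swap
  · obtain ⟨s₀, hs₀⟩ := Function.ne_iff.mp hψi
    have hs₀i : f s₀ = i := not_not.mp fun h => hs₀ (supp_res f i ψ s₀ h)
    refine sl_le_of_res e hf hm hK hin hxs ⟨s₀, ?_, by simpa [res, hs₀i] using hs₀⟩ (Or.inr (Or.inl hψxk))
    rw [hs₀i]
    exact fun h => hsi h.symm
  -- both blocks are degenerate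
  obtain ⟨l, hli, hlk⟩ : ∃ l : Fin t, l ≠ i ∧ l ≠ k := by
    have ht : 3 ≤ t := by
      have h1 := Fintype.card_congr e
      rw [Fintype.card_prod, Fintype.card_fin, Fintype.card_fin, show m = 2 by omega] at h1
      omega
    obtain ⟨l, -, hl⟩ := Finset.exists_mem_notMem_of_card_lt_card
      (s := ({i, k} : Finset (Fin t))) (t := Finset.univ) (Finset.card_le_two.trans_lt (by simp; omega))
    simp only [Finset.mem_insert, Finset.mem_singleton, not_or] at hl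
    exact ⟨l, hl⟩
  have hpick : ∀ j, res f j ψ ≠ 0 → ψ ⬝ᵥ res f j x = 0 → res f j x ≠ 0 →
      ∃ u, Supp f j u ∧ ψ ⬝ᵥ u ≠ 0 ∧
        ∀ β ε : F, ∃ b, Supp f j b ∧ b ⬝ᵥ x = β ∧ b ⬝ᵥ u = ε := by
    intro j hj hjx hjx0
    obtain ⟨p, hp⟩ := Function.ne_iff.mp hj
    have hpj : f p = j := not_not.mp fun h => hp (supp_res f j ψ p h)
    have hψp : ψ p ≠ 0 := by simpa [res, hpj] using hp
    set u : ι → F := Pi.single p 1
    have hu : Supp f j u := hpj ▸ supp_single f p 1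
    have hψu : ψ ⬝ᵥ u ≠ 0 := by simp [u, hψp]
    have hnu : u ∉ Submodule.span F {res f j x} := fun h => by
      obtain ⟨c, hc⟩ := Submodule.mem_span_singleton.mp h
      exact hψu (by rw [← hc, dotProduct_smul, hjx, smul_zero])
    have hnx : res f j x ∉ Submodule.span F {u} := fun h => by
      obtain ⟨c, hc⟩ := Submodule.mem_span_singleton.mp h
      rw [← hc, dotProduct_smul, smul_eq_mul] at hjx
      rw [(mul_eq_zero.mp hjx).resolve_right hψu, zero_smul] at hc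
      exact hjx0 hc.symm
    obtain ⟨a₁, ha₁, ha₁'⟩ := exists_functional _ hnu
    obtain ⟨a₂, ha₂, ha₂'⟩ := exists_functional _ hnx
    refine ⟨u, hu, hψu, fun β ε => ⟨res f j (β • a₂ + ε • a₁), supp_res f j _, ?_, ?_⟩⟩
    · rw [dot_res x (supp_res f j _), res_dot _ (supp_res f j x), add_dotProduct, smul_dotProduct,
        smul_dotProduct, ha₂', ha₁ _ (Submodule.mem_span_singleton_self _)]
      simp
    · rw [res_dot _ hu, add_dotProduct, smul_dotProduct, smul_dotProduct, ha₁',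
        ha₂ _ (Submodule.mem_span_singleton_self _)]
      simp
  obtain ⟨u₁, hu₁, hr₁, hf₁⟩ := hpick i hψi hψxi hxi
  obtain ⟨u₂, hu₂, hr₂, hf₂⟩ := hpick k hψk hψxk hxs
  obtain ⟨b₁, hb₁, hb₁x, hb₁u⟩ := hf₁ 1 (δ - 1)
  obtain ⟨b₂, hb₂, hb₂x, hb₂u⟩ := hf₂ (-(ψ ⬝ᵥ u₁) / (δ * (ψ ⬝ᵥ u₂))) 0
  obtain ⟨u₃, b₃, hu₃, hb₃, hb₃x, hb₃u⟩ : ∃ u b, Supp f l u ∧ Supp f l b ∧ b ⬝ᵥ x = 0 ∧ b ⬝ᵥ u = δ⁻¹ - 1 := by
    obtain ⟨p, hpl, hpx⟩ : ∃ p, f p = l ∧ (Pi.single p (1 : F) : ι → F) ∉ Submodule.span F {res f l x} := by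
      by_contra! hall
      set p₁ := e.symm (l, ⟨0, by omega⟩) with hp₁
      have hp₁l : f p₁ = l := by simp [hp₁, hf]
      obtain ⟨p₂, hne₂, hp₂⟩ := exists_other hm hf p₁
      obtain ⟨c, hc⟩ := Submodule.mem_span_singleton.mp (hall p₁ hp₁l)
      obtain ⟨c', hc'⟩ := Submodule.mem_span_singleton.mp (hall p₂ (hp₂.trans hp₁l))
      have e1 := congrFun hc p₂
      have e2 := congrFun hc' p₂
      simp only [Pi.smul_apply, smul_eq_mul, Pi.single_eq_same, Pi.single_eq_of_ne hne₂] at e1 e2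
      rcases mul_eq_zero.mp e1 with rfl | h
      · exact one_ne_zero (α := F) (by simpa using (congrFun hc p₁).symm)
      · rw [h, mul_zero] at e2
        exact zero_ne_one e2
    obtain ⟨a₁, ha₁, ha₁'⟩ := exists_functional _ hpx
    refine ⟨(δ⁻¹ - 1) • Pi.single p 1, res f l a₁, fun r hr => ?_, supp_res f l _, ?_, ?_⟩
    · rw [Pi.smul_apply, supp_single f p (1 : F) r (hpl.symm ▸ hr), smul_zero]
    · rw [dot_res x (supp_res f l a₁), res_dot _ (supp_res f l x), ha₁ _ (Submodule.mem_span_singleton_self _)]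
    · rw [dotProduct_smul, res_dot a₁ (hpl ▸ supp_single f p (1 : F)), ha₁', smul_eq_mul, mul_one]
  have hd₁ : 1 + b₁ ⬝ᵥ u₁ = δ := by rw [hb₁u]; ring
  have hd₂ : 1 + b₂ ⬝ᵥ u₂ = 1 := by rw [hb₂u]; ring
  have hd₃ : 1 + b₃ ⬝ᵥ u₃ = δ⁻¹ := by rw [hb₃u]; ring
  set h₁ := rk u₁ b₁ (hd₁ ▸ hδ0) with hh₁
  set h₂ := rk u₂ b₂ (hd₂.symm ▸ one_ne_zero) with hh₂
  set h₃ := rk u₃ b₃ (hd₃ ▸ inv_ne_zero hδ0) with hh₃
  have hhK : h₁ * h₂ * h₃ ∈ K := by
    refine hK _ ?_ (blk_mul (blk_mul (blk_of_tvMat rfl hu₁ hb₁) (blk_of_tvMat rfl hu₂ hb₂)) (blk_of_tvMat rfl hu₃ hb₃))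
    rw [Units.val_mul, Units.val_mul, Matrix.det_mul, Matrix.det_mul, rk_det, rk_det, rk_det, hd₁, hd₂, hd₃,
      mul_one, mul_inv_cancel₀ hδ0]
  have h12 : b₁ ⬝ᵥ u₂ = 0 := dot_zero_of_ne hb₁ hu₂ hsi.symm
  have h13' : b₁ ⬝ᵥ u₃ = 0 := dot_zero_of_ne hb₁ hu₃ hli.symm
  have h23 : b₂ ⬝ᵥ u₃ = 0 := dot_zero_of_ne hb₂ hu₃ hlk.symm
  set A := ψ ᵥ* ((h₁ * h₂ * h₃ : GL ι F)⁻¹).val with hA
  set y := (h₁ * h₂ * h₃ : GL ι F).val *ᵥ x with hy
  have h21 : b₂ ⬝ᵥ u₁ = 0 := dot_zero_of_ne hb₂ hu₁ hsi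
  have h31 : b₃ ⬝ᵥ u₁ = 0 := dot_zero_of_ne hb₃ hu₁ hli
  have h32 : b₃ ⬝ᵥ u₂ = 0 := dot_zero_of_ne hb₃ hu₂ hlk
  have hA' : A = ψ - ((ψ ⬝ᵥ u₃) * δ) • b₃ - (ψ ⬝ᵥ u₂) • b₂ - ((ψ ⬝ᵥ u₁) * δ⁻¹) • b₁ := by
    rw [hA, _root_.mul_inv_rev, _root_.mul_inv_rev, Units.val_mul, Units.val_mul, ← Matrix.vecMul_vecMul,
      ← Matrix.vecMul_vecMul, vecMul_rk_inv, vecMul_rk_inv, vecMul_rk_inv, hd₁, hd₂, hd₃]
    simp [sub_dotProduct, smul_dotProduct, h31, h32, h21]
  have hy' : y = x + u₁ + (b₂ ⬝ᵥ x) • u₂ := by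
    rw [hy, Units.val_mul, Units.val_mul, ← Matrix.mulVec_mulVec, ← Matrix.mulVec_mulVec, rk_mulVec, rk_mulVec,
      rk_mulVec, hb₃x, zero_smul, add_zero, dotProduct_add, dotProduct_smul, h12, smul_zero, add_zero, hb₁x, one_smul]
    abel
  have hAx : A ⬝ᵥ x = 0 := by
    rw [hA', sub_dotProduct, sub_dotProduct, sub_dotProduct, smul_dotProduct, smul_dotProduct, smul_dotProduct,
      hin.dot, hb₃x, hb₂x, hb₁x, smul_eq_mul, smul_eq_mul, smul_eq_mul]
    field_simp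
    ring
  have hψy : ψ ⬝ᵥ y ≠ 0 := by
    rw [hy', dotProduct_add, dotProduct_add, dotProduct_smul, hin.dot, hb₂x, smul_eq_mul, zero_add]
    intro h0
    have h1 : (ψ ⬝ᵥ u₁) * (δ - 1) = 0 := by
      field_simp at h0
      linear_combination h0
    exact hr₁ ((mul_eq_zero.mp h1).resolve_right (sub_ne_zero.mpr hδ1))
  have hnew := inK_transport hin (hin.conj hhK) hAx
  have hAi : A ⬝ᵥ res f i x = -((ψ ⬝ᵥ u₁) * δ⁻¹) := by
    rw [hA', sub_dotProduct, sub_dotProduct, sub_dotProduct, smul_dotProduct, smul_dotProduct, smul_dotProduct,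
      hψxi, dot_zero_of_ne hb₃ (supp_res f i x) hli, dot_zero_of_ne hb₂ (supp_res f i x) hsi,
      ← dot_res x hb₁, hb₁x]
    simp
  have hcA : (ψ ⬝ᵥ y) • A ⬝ᵥ res f i x ≠ 0 := by
    rw [smul_dotProduct, hAi, smul_eq_mul]
    exact mul_ne_zero hψy (neg_ne_zero.mpr (mul_ne_zero hr₁ (inv_ne_zero hδ0)))
  refine sl_le_of_res e hf hm hK hnew hxi ?_ (Or.inr (Or.inl hcA))
  by_contra! hout
  refine hcA ?_
  rw [← dot_res x (i := i) fun r hr => hout r hr, smul_dotProduct, hAx, smul_zero]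

end

end Cfsg.Agent.Lib.ThreeTransp.DecompMax
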