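import Cfsg.Agent.Lib.ThreeTransp.DecompMaxBase

/-!
Monomial matrices: a subgroup containing the determinant one monomial matrices and one further element
has an element fixing an axis that is not monomial.
-/

set_option autoImplicit false

namespace Cfsg.Agent.Lib.ThreeTransp.DecompMax

open Cfsg.Agent.Lib.MaxSub Matrix
open scoped MatrixGroups Matrix

variable {ι : Type} [Fintype ι] [DecidableEq ι] {F : Type*} [Field F]

theorem Mono.exists_perm {g : GL ι F} (h : Mono g) :
    ∃ σ : Equiv.Perm ι, (∀ p q, g.val p q ≠ 0 → p = σ q) ∧ ∀ q, g.val (σ q) q ≠ 0 := by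
  choose ρ hρ using fun q => exists_col_ne g q
  have hρ' : ∀ p q, g.val p q ≠ 0 → p = ρ q := fun p q hp => h q p (ρ q) hp (hρ q)
  have hs : Function.Surjective ρ := fun p => by
    obtain ⟨q, hq⟩ := exists_row_ne g p
    exact ⟨q, (hρ' p q hq).symm⟩
  exact ⟨Equiv.ofBijective ρ ⟨Finite.injective_iff_surjective.mpr hs, hs⟩, hρ', hρ⟩

theorem Mono.mul {g h : GL ι F} (hg : Mono g) (hh : Mono h) : Mono (g * h) := by
  intro q p p' h1 h2
  rw [Units.val_mul, Matrix.mul_apply] at h1 h2
  obtain ⟨r, -, hr⟩ := Finset.exists_ne_zero_of_sum_ne_zero h1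
  obtain ⟨r', -, hr'⟩ := Finset.exists_ne_zero_of_sum_ne_zero h2
  obtain rfl := hh q r r' (right_ne_zero_of_mul hr) (right_ne_zero_of_mul hr')
  exact hg r p p' (left_ne_zero_of_mul hr) (left_ne_zero_of_mul hr')

theorem Mono.inv {g : GL ι F} (hg : Mono g) : Mono g⁻¹ := by
  obtain ⟨σ, hσ, hσ'⟩ := hg.exists_perm
  have key : ∀ p q, (g⁻¹).val p q ≠ 0 → p = σ.symm q := by
    intro p q hpq
    by_contra hne
    have h1 : ((g⁻¹).val * g.val) p (σ.symm q) = 0 := by
      rw [← Units.val_mul, inv_mul_cancel, Units.val_one, Matrix.one_apply_ne hne]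
    rw [Matrix.mul_apply, Finset.sum_eq_single q] at h1
    · have h2 := hσ' (σ.symm q)
      rw [Equiv.apply_symm_apply] at h2
      exact mul_ne_zero hpq h2 h1
    · intro r _ hr
      rw [show g.val r (σ.symm q) = 0 from not_not.mp fun h => hr (by simpa using hσ r _ h), mul_zero]
    · exact fun h => absurd (Finset.mem_univ q) h
  exact fun q p p' h1 h2 => (key p q h1).trans (key p' q h2).symm

theorem conj_apply (g : GL ι F) (d : ι → F) (p r : ι) :
    ((g⁻¹).val * Matrix.diagonal d * g.val) p r = ∑ l, (g⁻¹).val p l * d l * g.val l r := by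
  rw [Matrix.mul_apply]
  simp [Matrix.mul_diagonal]

theorem inv_mul_apply (g : GL ι F) (p r : ι) :
    ∑ l, (g⁻¹).val p l * g.val l r = if p = r then 1 else 0 := by
  rw [← Matrix.mul_apply, ← Units.val_mul, inv_mul_cancel, Units.val_one, Matrix.one_apply]

/-- Finitely many functionals have a common zero in a larger coordinate space. -/
theorem exists_kernel {κ : Type*} [Fintype κ] (U : Finset ι) (φ : κ → ι → F) (h : Fintype.card κ < U.card) :
    ∃ x : ι → F, x ≠ 0 ∧ (∀ i, i ∉ U → x i = 0) ∧ ∀ k, φ k ⬝ᵥ x = 0 := by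
  let L : (U → F) →ₗ[F] (κ → F) := (Matrix.of fun k (u : U) => φ k u.1).mulVecLin
  have hL : ¬ Function.Injective L := fun hi => by
    have h1 := LinearMap.finrank_le_finrank_of_injective hi
    simp [Module.finrank_fintype_fun_eq_card] at h1
    omega
  rw [injective_iff_map_eq_zero] at hL
  push Not at hL
  obtain ⟨y, hy, hy0⟩ := hL
  refine ⟨fun i => if hi : i ∈ U then y ⟨i, hi⟩ else 0, fun h0 => hy0 (funext fun u => ?_), fun i hi => dif_neg hi,
    fun k => ?_⟩
  · simpa [u.2] using congrFun h0 u.1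
  · have h1 : ∑ u : U, φ k u.1 * y u = 0 := by
      simpa [L, Matrix.mulVec, dotProduct] using congrFun hy k
    refine Eq.trans ?_ h1
    rw [dotProduct, ← Finset.sum_subset (Finset.subset_univ U) fun i _ hi => by simp [hi],
      ← Finset.sum_attach U]
    exact Finset.sum_congr rfl fun u _ => by simp [u.2]

/-- If a diagonal element supported on at most four places is conjugated to a monomial one, the
conjugating matrix has a column with two zeros. -/
theorem two_zeros_of_mono (h13 : 13 ≤ Fintype.card ι) (g : GL ι F) (d : ι → F) (hd : ∏ i, d i = 1)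
    (S : Finset ι) (hS : S.card ≤ 4) (hdS : ∀ l, l ∉ S → d l = 1) {l₁ : ι} (hl₁ : d l₁ ≠ 1)
    (hm : Mono (g⁻¹ * dg d hd * g)) :
    ∃ j u v, u ≠ v ∧ g.val u j = 0 ∧ g.val v j = 0 := by
  set h := g⁻¹ * dg d hd * g with hh
  obtain ⟨σ, hσ, hσ'⟩ := hm.exists_perm
  have hgh : ∀ l q, g.val l (σ q) * h.val (σ q) q = d l * g.val l q := by
    intro l q
    have h1 : g.val * h.val = Matrix.diagonal d * g.val := by
      rw [← dg_val d hd, ← Units.val_mul, ← Units.val_mul, hh]
      group
    have h2 := congrFun (congrFun h1 l) q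
    rw [Matrix.diagonal_mul, Matrix.mul_apply, Finset.sum_eq_single (σ q)] at h2
    · exact h2
    · intro r _ hr
      rw [show h.val r q = 0 from not_not.mp fun h => hr (hσ r q h), mul_zero]
    · exact fun h => absurd (Finset.mem_univ _) h
  obtain ⟨j, hj⟩ : ∃ j, σ j = j := by
    by_contra! hfree
    have hU : ∀ k, k ≤ 5 → ∃ U : Finset ι, U.card = k ∧ ∀ u ∈ U, σ u ∉ U := by
      intro k hk
      induction k with
      | zero => exact ⟨∅, rfl, by simp⟩
      | succ k ih =>
        obtain ⟨U, hU, hUσ⟩ := ih (by omega)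
        obtain ⟨w, -, hw⟩ := Finset.exists_mem_notMem_of_card_lt_card
          (s := U ∪ U.image σ ∪ U.image σ.symm) (t := Finset.univ) (by
            have h1 := Finset.card_union_le (U ∪ U.image σ) (U.image σ.symm)
            have h2 := Finset.card_union_le U (U.image σ)
            have h3 := Finset.card_image_le (s := U) (f := σ)
            have h4 := Finset.card_image_le (s := U) (f := σ.symm)
            rw [Finset.card_univ]
            omega)
        simp only [Finset.mem_union, Finset.mem_image, not_or, not_exists, not_and] at hw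
        refine ⟨insert w U, by rw [Finset.card_insert_of_notMem hw.1.1, hU], fun u hu => ?_⟩
        simp only [Finset.mem_insert, not_or] at hu ⊢
        rcases hu with rfl | hu
        · exact ⟨hfree u, fun h => hw.2 _ h (σ.symm_apply_apply u)⟩
        · exact ⟨fun h => hw.1.2 u hu h, hUσ u hu⟩
    obtain ⟨U, hU5, hUσ⟩ := hU 5 le_rfl
    obtain ⟨x, hx0, hxU, hxS⟩ := exists_kernel U (fun l : S => g.val l.1) (by simp; omega)
    have hgx : ∀ l, d l * (g.val *ᵥ x) l = (g.val *ᵥ x) l := fun l => by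
      by_cases hl : l ∈ S
      · rw [show (g.val *ᵥ x) l = 0 from hxS ⟨l, hl⟩, mul_zero]
      · rw [hdS l hl, one_mul]
    have hhx : h.val *ᵥ x = x := by
      rw [hh, Units.val_mul, Units.val_mul, ← Matrix.mulVec_mulVec, ← Matrix.mulVec_mulVec, dg_val,
        show Matrix.diagonal d *ᵥ (g.val *ᵥ x) = g.val *ᵥ x from
          funext fun l => by rw [Matrix.mulVec_diagonal]; exact hgx l,
        inv_mulVec_val]
    refine hx0 (funext fun u => ?_)
    by_cases hu : u ∈ U
    · have h1 := congrFun hhx (σ u)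
      rw [Matrix.mulVec, dotProduct, Finset.sum_eq_single u, hxU (σ u) (hUσ u hu)] at h1
      · exact (mul_eq_zero.mp h1).resolve_left (hσ' u)
      · intro q _ hq
        rw [show h.val (σ u) q = 0 from not_not.mp fun h => hq (σ.injective (hσ _ _ h)).symm, zero_mul]
      · exact fun h => absurd (Finset.mem_univ u) h
    · exact hxU u hu
  obtain ⟨μ, hμ⟩ : ∃ μ, ∀ l, g.val l j * μ = d l * g.val l j :=
    ⟨h.val j j, fun l => by have := hgh l j; rwa [hj] at this⟩
  have hzero : ∀ l, d l ≠ μ → g.val l j = 0 := fun l hl => by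
    have h1 : (d l - μ) * g.val l j = 0 := by rw [sub_mul, ← hμ l]; ring
    exact (mul_eq_zero.mp h1).resolve_left (sub_ne_zero.mpr hl)
  by_cases hμ1 : μ = 1
  · subst hμ1
    obtain ⟨l₂, hne, hl₂⟩ : ∃ l₂, l₂ ≠ l₁ ∧ d l₂ ≠ 1 := by
      by_contra! hall
      exact hl₁ (by rw [← hd, Fintype.prod_eq_single l₁ hall])
    exact ⟨j, l₁, l₂, hne.symm, hzero _ hl₁, hzero _ hl₂⟩
  · obtain ⟨u, v, hu, hv, huv⟩ : ∃ u v, u ∉ S ∧ v ∉ S ∧ u ≠ v := by
      have h1 : 1 < (Finset.univ \ S).card := by
        rw [Finset.card_sdiff_of_subset (Finset.subset_univ S), Finset.card_univ]; omega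
      obtain ⟨u, hu, v, hv, huv⟩ := Finset.one_lt_card.mp h1
      exact ⟨u, v, (Finset.mem_sdiff.mp hu).2, (Finset.mem_sdiff.mp hv).2, huv⟩
    exact ⟨j, u, v, huv, hzero u (by rw [hdS u hu]; exact Ne.symm hμ1),
      hzero v (by rw [hdS v hv]; exact Ne.symm hμ1)⟩

variable {K : Subgroup (GL ι F)} (hK : ∀ g : GL ι F, g.val.det = 1 → Mono g → g ∈ K)

include hK in
theorem dg_mem (d : ι → F) (hd : ∏ i, d i = 1) : dg d hd ∈ K := hK _ (dg_det d hd) (dg_mono d hd)

include hK in
theorem conj_dg_mem {g : GL ι F} (hg : g ∈ K) (d : ι → F) (hd : ∏ i, d i = 1) :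
    g⁻¹ * dg d hd * g ∈ K := K.mul_mem (K.mul_mem (K.inv_mem hg) (dg_mem hK d hd)) hg

include hK in
/-- Some non-monomial element has a column with two zeros. -/
theorem exists_two_zeros (h13 : 13 ≤ Fintype.card ι) (hq : ∀ S : Finset F, S.card ≤ 4 → ∃ a, a ∉ S)
    {g₀ : GL ι F} (hg₀ : g₀ ∈ K) (hg₀m : ¬ Mono g₀) :
    ∃ g ∈ K, ¬ Mono g ∧ ∃ j u v, u ≠ v ∧ g.val u j = 0 ∧ g.val v j = 0 := by
  classical
  by_contra! hA
  have hno : ∀ g ∈ K, ¬ Mono g → ∀ (d : ι → F) (hd : ∏ i, d i = 1) (S : Finset ι), S.card ≤ 4 →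
      (∀ l, l ∉ S → d l = 1) → ∀ l₁, d l₁ ≠ 1 → ¬ Mono (g⁻¹ * dg d hd * g) := by
    intro g hg hgm d hd S hS hdS l₁ hl₁ hm
    obtain ⟨j, u, v, huv, h1, h2⟩ := two_zeros_of_mono h13 g d hd S hS hdS hl₁ hm
    exact hA g hg hgm j u v huv h1 h2
  -- an element with a zero entry
  obtain ⟨g, hg, hgm, r, i₀, hr⟩ : ∃ g ∈ K, ¬ Mono g ∧ ∃ r i₀, g.val r i₀ = 0 := by
    by_contra! hall
    have hg := hall g₀ hg₀ hg₀m
    have hgi := hall g₀⁻¹ (K.inv_mem hg₀) fun h => hg₀m (by simpa using h.inv)
    obtain ⟨i₀⟩ : Nonempty ι := Fintype.card_pos_iff.mp (by omega)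
    let c : ι → ι → F := fun a l => (g₀⁻¹).val a l * g₀.val l i₀
    obtain ⟨a, hai, l, l', hll⟩ : ∃ a, a ≠ i₀ ∧ ∃ l l', c a l ≠ c a l' := by
      by_contra! hconst
      obtain ⟨a, -, ha⟩ := Finset.exists_mem_notMem_of_card_lt_card (s := ({i₀} : Finset ι))
        (t := Finset.univ) (by rw [Finset.card_univ, Finset.card_singleton]; omega)
      obtain ⟨b, -, hb⟩ := Finset.exists_mem_notMem_of_card_lt_card (s := ({i₀, a} : Finset ι))
        (t := Finset.univ) (Finset.card_le_two.trans_lt (by rw [Finset.card_univ]; omega))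
      simp only [Finset.mem_singleton] at ha
      simp only [Finset.mem_insert, Finset.mem_singleton, not_or] at hb
      have h0 : ∀ r, c b i₀ * (if a = r then 1 else 0) - c a i₀ * (if b = r then 1 else 0) = 0 := fun r => by
        rw [← inv_mul_apply g₀ a r, ← inv_mul_apply g₀ b r, Finset.mul_sum, Finset.mul_sum,
          ← Finset.sum_sub_distrib]
        refine Finset.sum_eq_zero fun l _ => ?_
        have h1 : c a l = c a i₀ := hconst a ha l i₀
        have h2 : c b l = c b i₀ := hconst b hb.1 l i₀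
        rw [← h1, ← h2]
        simp only [c]
        ring
      have h3 := h0 a
      rw [if_pos rfl, if_neg hb.2, mul_zero, sub_zero, mul_one] at h3
      exact mul_ne_zero (hgi b i₀) (hg i₀ i₀) h3
    have hne : l ≠ l' := fun h => hll (h ▸ rfl)
    have hc0 : ∀ l, c a l ≠ 0 := fun l => mul_ne_zero (hgi a l) (hg l i₀)
    set x := c a l' * (c a l)⁻¹ with hx
    have hx0 : x ≠ 0 := mul_ne_zero (hc0 l') (inv_ne_zero (hc0 l))
    obtain ⟨d, hd, hdl, hdl', hd1⟩ := exists_two (F := F) l l' hne hx0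
    have hx1 : d l ≠ 1 := by
      rw [hdl, hx]
      intro h
      field_simp [hc0 l] at h
      exact hll h.symm
    refine hall _ (conj_dg_mem hK hg₀ d hd) (hno g₀ hg₀ hg₀m d hd {l, l'} (Finset.card_le_two.trans (by omega))
      (fun s hs => by
        simp only [Finset.mem_insert, Finset.mem_singleton, not_or] at hs
        exact hd1 s hs.1 hs.2) l hx1) a i₀ ?_
    rw [Units.val_mul, Units.val_mul, dg_val, conj_apply]
    have hs : ∑ s, c a s * (d s - 1) = 0 := by
      rw [← Finset.sum_subset (Finset.subset_univ {l, l'}) fun s _ hs => by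
        simp only [Finset.mem_insert, Finset.mem_singleton, not_or] at hs
        rw [hd1 s hs.1 hs.2, sub_self, mul_zero]]
      rw [Finset.sum_pair hne, hdl, hdl', hx]
      field_simp [hc0 l, hc0 l']
      ring
    calc ∑ s, (g₀⁻¹).val a s * d s * g₀.val s i₀
        = ∑ s, (c a s * (d s - 1) + (g₀⁻¹).val a s * g₀.val s i₀) :=
          Finset.sum_congr rfl fun s _ => by simp only [c]; ring
      _ = 0 := by rw [Finset.sum_add_distrib, hs, inv_mul_apply, if_neg hai, zero_add]
  -- two zeros from one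
  obtain ⟨a, -, ha⟩ := Finset.exists_mem_notMem_of_card_lt_card (s := ({i₀} : Finset ι))
    (t := Finset.univ) (by rw [Finset.card_univ, Finset.card_singleton]; omega)
  obtain ⟨b, -, hb⟩ := Finset.exists_mem_notMem_of_card_lt_card (s := ({i₀, a} : Finset ι))
    (t := Finset.univ) (Finset.card_le_two.trans_lt (by rw [Finset.card_univ]; omega))
  simp only [Finset.mem_singleton] at ha
  simp only [Finset.mem_insert, Finset.mem_singleton, not_or] at hb
  obtain ⟨U, hUsub, hU⟩ := Finset.exists_subset_card_eq (s := Finset.univ.erase r) (n := 3) (by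
    rw [Finset.card_erase_of_mem (Finset.mem_univ r), Finset.card_univ]; omega)
  obtain ⟨x, hx0, hxU, hxk⟩ := exists_kernel U
    ![fun l => (g⁻¹).val a l * g.val l i₀, fun l => (g⁻¹).val b l * g.val l i₀] (by simp [hU])
  obtain ⟨s, hs⟩ := hq (insert 0 (U.image fun l => -(x l)⁻¹)) ((Finset.card_insert_le _ _).trans (by
    have := Finset.card_image_le (s := U) (f := fun l => -(x l)⁻¹)
    omega))
  simp only [Finset.mem_insert, Finset.mem_image, not_or, not_exists, not_and] at hs
  have hne : ∀ l, 1 + s * x l ≠ 0 := fun l h => by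
    rcases eq_or_ne (x l) 0 with h0 | h0
    · simp [h0] at h
    · refine hs.2 l (not_not.mp fun hl => h0 (hxU l hl)) ?_
      field_simp
      linear_combination -h
  have hrU : r ∉ U := fun h => (Finset.mem_erase.mp (hUsub h)).1 rfl
  set P := ∏ l ∈ Finset.univ \ {r}, (1 + s * x l) with hP
  have hP0 : P ≠ 0 := Finset.prod_ne_zero_iff.mpr fun l _ => hne l
  set d : ι → F := Function.update (fun l => 1 + s * x l) r P⁻¹ with hddef
  have hd : ∏ l, d l = 1 := by
    rw [hddef, Finset.prod_update_of_mem (Finset.mem_univ r), ← hP, inv_mul_cancel₀ hP0]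
  have hdl : ∀ l, l ≠ r → d l = 1 + s * x l := fun l hl => by simp [hddef, hl]
  obtain ⟨l₁, hl₁⟩ := Function.ne_iff.mp hx0
  have hl₁r : l₁ ≠ r := fun h => hl₁ (hxU l₁ (h ▸ hrU))
  have hnm := hno g hg hgm d hd (insert r U) ((Finset.card_insert_le _ _).trans (by omega)) (fun l hl => by
    simp only [Finset.mem_insert, not_or] at hl
    rw [hdl l hl.1, hxU l hl.2, mul_zero, add_zero]) l₁ (by
      rw [hdl l₁ hl₁r]
      exact fun h => hl₁ ((mul_eq_zero.mp (add_eq_left.mp h)).resolve_left hs.1))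
  have hz : ∀ a', a' ≠ i₀ → (fun l => (g⁻¹).val a' l * g.val l i₀) ⬝ᵥ x = 0 →
      (g⁻¹ * dg d hd * g).val a' i₀ = 0 := by
    intro a' ha' hdot
    rw [Units.val_mul, Units.val_mul, dg_val, conj_apply]
    calc ∑ l, (g⁻¹).val a' l * d l * g.val l i₀
        = ∑ l, ((g⁻¹).val a' l * g.val l i₀ + s * ((g⁻¹).val a' l * g.val l i₀ * x l)) :=
          Finset.sum_congr rfl fun l _ => by
            rcases eq_or_ne l r with rfl | hl
            · rw [hr]; ring
            · rw [hdl l hl]; ring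
      _ = 0 := by
        rw [Finset.sum_add_distrib, inv_mul_apply, if_neg ha', ← Finset.mul_sum]
        rw [dotProduct] at hdot
        rw [hdot, mul_zero, zero_add]
  exact hA _ (conj_dg_mem hK hg d hd) hnm i₀ a b (Ne.symm hb.2) (hz a ha (hxk 0)) (hz b hb.1 (hxk 1))

omit hK in
/-- Two zeros in a column contradict the absence of non-monomial elements fixing an axis. -/
theorem false_of_two_zeros (h13 : 13 ≤ Fintype.card ι) {c : F} (hc0 : c ≠ 0) (hc2 : c ^ 2 ≠ 1) (hc3 : c ^ 3 ≠ 1)
    (hD : ∀ u v : ι, u ≠ v → ∀ (d : ι → F) (hd : ∏ i, d i = 1), d u = c → d v = c⁻¹ →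
      (∀ i, i ≠ u → i ≠ v → d i = 1) → dg d hd ∈ K)
    (hW : ∀ a b : ι, ∃ w ∈ K, ∀ p q, w.val p q ≠ 0 → p = Equiv.swap a b q)
    (hB : ∀ g ∈ K, ¬ Mono g → ∀ o, ∃ p, p ≠ o ∧ g.val p o ≠ 0)
    {g : GL ι F} (hg : g ∈ K) (hgm : ¬ Mono g) {j₀ u₀ v₀ : ι} (huv₀ : u₀ ≠ v₀) (hu₀ : g.val u₀ j₀ = 0)
    (hv₀ : g.val v₀ j₀ = 0) : False := by
  classical
  have hc1 : c ≠ 1 := fun h => hc2 (by rw [h, one_pow])
  -- every pair of zeros in a column gives a column supported there
  have hcol : ∀ j u v, u ≠ v → g.val u j = 0 → g.val v j = 0 →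
      ∃ k, g.val u k ≠ 0 ∧ g.val v k ≠ 0 ∧ ∀ p, p ≠ u → p ≠ v → g.val p k = 0 := by
    intro j u v huv hu hv
    obtain ⟨d, hd, hdu, hdv, hd1⟩ := exists_two (F := F) u v huv hc0
    set y := g⁻¹ * dg d hd * g with hy
    have hyj : ∀ p, p ≠ j → y.val p j = 0 := fun p hp => by
      rw [hy, Units.val_mul, Units.val_mul, dg_val, conj_apply]
      calc ∑ l, (g⁻¹).val p l * d l * g.val l j = ∑ l, (g⁻¹).val p l * g.val l j :=
            Finset.sum_congr rfl fun l _ => by
              rcases eq_or_ne l u with rfl | h1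
              · rw [hu]; ring
              rcases eq_or_ne l v with rfl | h2
              · rw [hv]; ring
              rw [hd1 l h1 h2]; ring
        _ = 0 := by rw [inv_mul_apply, if_neg hp]
    have hym : Mono y := by
      by_contra h
      obtain ⟨p, hp, hp0⟩ := hB y (K.mul_mem (K.mul_mem (K.inv_mem hg) (hD u v huv d hd hdu hdv hd1)) hg) h j
      exact hp0 (hyj p hp)
    obtain ⟨σ, hσ, hσ'⟩ := hym.exists_perm
    let η : ι → F := fun q => y.val (σ q) q
    have hE : ∀ l q, η q * g.val l (σ q) = d l * g.val l q := by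
      intro l q
      have h1 : g.val * y.val = Matrix.diagonal d * g.val := by
        rw [← dg_val d hd, ← Units.val_mul, ← Units.val_mul, hy]
        group
      have h2 := congrFun (congrFun h1 l) q
      rw [Matrix.diagonal_mul, Matrix.mul_apply, Finset.sum_eq_single (σ q)] at h2
      · rw [← h2, mul_comm]
      · intro r _ hr
        rw [show y.val r q = 0 from not_not.mp fun h => hr (hσ r q h), mul_zero]
      · exact fun h => absurd (Finset.mem_univ _) h
    obtain ⟨k, hk⟩ : ∃ k, ∀ p, p ≠ u → p ≠ v → g.val p k = 0 := by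
      by_cases hid : ∀ q, σ q = q
      · by_cases hη : ∀ q, η q = 1
        · exfalso
          obtain ⟨q, hq'⟩ := exists_row_ne g u
          have h1 := hE u q
          rw [hid, hη, one_mul, hdu] at h1
          refine hc1 (mul_right_cancel₀ hq' ?_)
          rw [one_mul, ← h1]
        · push Not at hη
          obtain ⟨k, hk⟩ := hη
          refine ⟨k, fun p hpu hpv => ?_⟩
          have h1 := hE p k
          rw [hid, hd1 p hpu hpv] at h1
          have h2 : (η k - 1) * g.val p k = 0 := by rw [sub_mul, h1, sub_self]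
          exact (mul_eq_zero.mp h2).resolve_left (sub_ne_zero.mpr hk)
      push Not at hid
      obtain ⟨k, hk⟩ := hid
      by_cases hk2 : σ (σ k) = k
      · have hdd : ∀ l, (d l * d l - η k * η (σ k)) * g.val l k = 0 := fun l => by
          have h1 := hE l k
          have h2 := hE l (σ k)
          rw [hk2] at h2
          linear_combination (-(d l)) * h1 + (-(η k)) * h2
        by_cases hηη : η k * η (σ k) = 1
        · exfalso
          have hc4 : c⁻¹ * c⁻¹ ≠ 1 := fun h => hc2 (by
            have := congrArg (fun z => z⁻¹) h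
            simpa [sq] using this)
          have hz : ∀ l, (η k * g.val l (σ k) - g.val l k) = 0 := fun l => by
            rw [hE, ← sub_one_mul]
            rcases eq_or_ne l u with rfl | h1
            · have := hdd l
              rw [hdu, hηη] at this
              rw [(mul_eq_zero.mp this).resolve_left (sub_ne_zero.mpr (sq c ▸ hc2)), mul_zero]
            rcases eq_or_ne l v with rfl | h2
            · have := hdd l
              rw [hdv, hηη] at this
              rw [(mul_eq_zero.mp this).resolve_left (sub_ne_zero.mpr hc4), mul_zero]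
            rw [hd1 l h1 h2, sub_self, zero_mul]
          have h0 : g.val *ᵥ (Pi.single (σ k) (η k) - Pi.single k 1) = g.val *ᵥ 0 := by
            funext l
            simp [Matrix.mulVec_sub, Matrix.mulVec_single, ← hz l, mul_comm]
          exact one_ne_zero (α := F) (by simpa [Ne.symm hk] using congrFun (val_mulVec_injective g h0) k)
        · refine ⟨k, fun p hpu hpv => ?_⟩
          have := hdd p
          rw [hd1 p hpu hpv, one_mul] at this
          exact (mul_eq_zero.mp this).resolve_left (sub_ne_zero.mpr (Ne.symm hηη))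
      · exfalso
        set k₁ := σ k
        set k₂ := σ k₁
        set k₃ := σ k₂
        have h21 : k₂ ≠ k₁ := fun h => hk (σ.injective h)
        have h31 : k₃ ≠ k₁ := fun h => hk2 (σ.injective h)
        set w : ι → F := (η k * η k₁) • (η k₂ • Pi.single k₃ 1 - Pi.single k₂ 1)
          - ((c + c⁻¹) * η k) • (η k₁ • Pi.single k₂ 1 - Pi.single k₁ 1)
          + (η k • Pi.single k₁ 1 - Pi.single k 1) with hw
        have h0 : g.val *ᵥ w = g.val *ᵥ 0 := by
          funext l
          simp only [hw, Matrix.mulVec_add, Matrix.mulVec_sub, Matrix.mulVec_smul, Matrix.mulVec_single_one,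
            Pi.add_apply, Pi.sub_apply, Pi.smul_apply, smul_eq_mul, Matrix.mulVec_zero, Pi.zero_apply,
            Matrix.col_apply]
          have a1 := hE l k
          have a2 := hE l k₁
          have a3 := hE l k₂
          have hroot : (d l - 1) * (d l ^ 2 - (c + c⁻¹) * d l + 1) = 0 := by
            rcases eq_or_ne l u with rfl | h1
            · rw [hdu]; field_simp; ring
            rcases eq_or_ne l v with rfl | h2
            · rw [hdv]; field_simp; ring
            rw [hd1 l h1 h2, sub_self, zero_mul]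
          linear_combination (η k * η k₁) * a3 + η k * (d l - (c + c⁻¹) - 1) * a2
            + ((d l - 1) * (d l - (c + c⁻¹)) + 1) * a1 + g.val l k * hroot
        have h1 := congrFun (val_mulVec_injective g h0) k₁
        have hk₁ : k₁ ≠ k := hk
        simp [hw, h21.symm, h31.symm, hk₁] at h1
        have h2 : (1 + c + c⁻¹) * η k = 0 := by linear_combination h1
        have h3 : 1 + c + c⁻¹ = 0 := (mul_eq_zero.mp h2).resolve_right (hσ' k)
        refine hc3 ?_
        field_simp at h3
        linear_combination (c - 1) * h3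
    by_cases hu' : g.val u k = 0
    swap
    · by_cases hv' : g.val v k = 0
      swap
      · exact ⟨k, hu', hv', hk⟩
      exfalso
      obtain ⟨w, hwK, hw2⟩ := hW u k
      have hwm : Mono w := fun q p p' a b => (hw2 p q a).trans (hw2 p' q b).symm
      obtain ⟨p, hp, hp0⟩ := hB (w * g) (K.mul_mem hwK hg)
        (fun h => hgm (by simpa using hwm.inv.mul h)) k
      refine hp0 ?_
      rw [Units.val_mul, Matrix.mul_apply]
      refine Finset.sum_eq_zero fun l _ => ?_
      rcases eq_or_ne l u with rfl | hl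
      · rw [show w.val p l = 0 from not_not.mp fun h => hp (by simpa using hw2 p l h), zero_mul]
      rcases eq_or_ne l v with rfl | hl'
      · rw [hv', mul_zero]
      · rw [hk l hl hl', mul_zero]
    exfalso
    obtain ⟨w, hwK, hw2⟩ := hW v k
    have hwm : Mono w := fun q p p' a b => (hw2 p q a).trans (hw2 p' q b).symm
    obtain ⟨p, hp, hp0⟩ := hB (w * g) (K.mul_mem hwK hg)
      (fun h => hgm (by simpa using hwm.inv.mul h)) k
    refine hp0 ?_
    rw [Units.val_mul, Matrix.mul_apply]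
    refine Finset.sum_eq_zero fun l _ => ?_
    rcases eq_or_ne l v with rfl | hl
    · rw [show w.val p l = 0 from not_not.mp fun h => hp (by simpa using hw2 p l h), zero_mul]
    rcases eq_or_ne l u with rfl | hl'
    · rw [hu', mul_zero]
    · rw [hk l hl' hl, mul_zero]
  -- too many pairs
  obtain ⟨k₀, -, -, hk₀⟩ := hcol j₀ u₀ v₀ huv₀ hu₀ hv₀
  set Z : Finset ι := Finset.univ \ {u₀, v₀} with hZ
  have hZc : Fintype.card ι ≤ Z.card + 2 := by
    rw [hZ, Finset.card_sdiff_of_subset (Finset.subset_univ _), Finset.card_univ]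
    have := Finset.card_le_two (a := u₀) (b := v₀)
    omega
  have hZ0 : ∀ z ∈ Z, g.val z k₀ = 0 := fun z hz => by
    simp only [hZ, Finset.mem_sdiff, Finset.mem_insert, Finset.mem_singleton, not_or] at hz
    exact hk₀ z hz.2.1 hz.2.2
  obtain ⟨z₀, hz₀, z₁, hz₁, hz01⟩ := Finset.one_lt_card.mp (show 1 < Z.card by omega)
  set T : Finset (ι × ι) := (Z.erase z₀).image (Prod.mk z₀) ∪ ((Z.erase z₀).erase z₁).image (Prod.mk z₁) with hT
  have hTc : Fintype.card ι < T.card := by
    rw [hT, Finset.card_union_of_disjoint, Finset.card_image_of_injective _ (Prod.mk_right_injective _),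
      Finset.card_image_of_injective _ (Prod.mk_right_injective _), Finset.card_erase_of_mem hz₀,
      Finset.card_erase_of_mem (Finset.mem_erase.mpr ⟨hz01.symm, hz₁⟩), Finset.card_erase_of_mem hz₀]
    · omega
    · rw [Finset.disjoint_left]
      intro p hp hp'
      obtain ⟨a, -, rfl⟩ := Finset.mem_image.mp hp
      obtain ⟨b, -, hb⟩ := Finset.mem_image.mp hp'
      exact hz01 (Prod.mk.inj hb).1.symm
  have hmem : ∀ p ∈ T, p.1 ∈ Z ∧ p.2 ∈ Z ∧ p.1 ≠ p.2 := fun p hp => by
    simp only [hT, Finset.mem_union, Finset.mem_image, Finset.mem_erase] at hp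
    rcases hp with ⟨a, ⟨ha, haZ⟩, rfl⟩ | ⟨a, ⟨ha, -, haZ⟩, rfl⟩
    · exact ⟨hz₀, haZ, Ne.symm ha⟩
    · exact ⟨hz₁, haZ, Ne.symm ha⟩
  choose κ hκ1 hκ2 hκ3 using fun p : T =>
    hcol k₀ p.1.1 p.1.2 (hmem _ p.2).2.2 (hZ0 _ (hmem _ p.2).1) (hZ0 _ (hmem _ p.2).2.1)
  have hinj : Function.Injective κ := by
    rintro ⟨⟨a, b⟩, hp⟩ ⟨⟨a', b'⟩, hp'⟩ h
    have ha : a' = a ∨ a' = b := by
      by_contra! hne
      exact hκ1 ⟨_, hp'⟩ (h ▸ hκ3 ⟨_, hp⟩ a' hne.1 hne.2)
    have hb : b' = a ∨ b' = b := by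
      by_contra! hne
      exact hκ2 ⟨_, hp'⟩ (h ▸ hκ3 ⟨_, hp⟩ b' hne.1 hne.2)
    simp only [hT, Finset.mem_union, Finset.mem_image, Finset.mem_erase, Prod.mk.injEq] at hp hp'
    simp only [Subtype.mk.injEq, Prod.mk.injEq]
    rcases hp with ⟨_, ⟨h1, -⟩, rfl, rfl⟩ | ⟨_, ⟨h1, h1', -⟩, rfl, rfl⟩ <;>
      rcases hp' with ⟨_, ⟨h2, -⟩, rfl, rfl⟩ | ⟨_, ⟨h2, h2', -⟩, rfl, rfl⟩ <;> grind
  have := Fintype.card_le_of_injective κ hinj
  rw [Fintype.card_coe] at this
  omega

include hK in
/-- Some non-monomial element fixes an axis. -/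
theorem exists_axis (h13 : 13 ≤ Fintype.card ι) (hq : ∀ S : Finset F, S.card ≤ 4 → ∃ a, a ∉ S) {c : F}
    (hc0 : c ≠ 0) (hc2 : c ^ 2 ≠ 1) (hc3 : c ^ 3 ≠ 1) {g₀ : GL ι F} (hg₀ : g₀ ∈ K) (hg₀m : ¬ Mono g₀) :
    ∃ g ∈ K, ¬ Mono g ∧ ∃ o, ∀ p, p ≠ o → g.val p o = 0 := by
  by_contra! hB
  obtain ⟨g, hg, hgm, j₀, u₀, v₀, huv₀, hu₀, hv₀⟩ := exists_two_zeros hK h13 hq hg₀ hg₀m
  refine false_of_two_zeros h13 hc0 hc2 hc3 (fun _ _ _ d hd _ _ _ => dg_mem hK d hd) (fun a b => ?_) hB hg hgm huv₀
    hu₀ hv₀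
  obtain ⟨e, he, -⟩ := exists_coeff (Equiv.swap a b) (fun _ => (1 : F)) (fun _ => one_ne_zero) a
  obtain ⟨w, h1, h2, -⟩ := exists_monomial (Equiv.swap a b) e he
  have hw : ∀ p q, w.val p q ≠ 0 → p = Equiv.swap a b q := fun p q h => not_not.mp fun h' => h (by rw [h2, if_neg h'])
  exact ⟨w, hK w h1 (fun q p p' x y => (hw p q x).trans (hw p' q y).symm), hw⟩

end Cfsg.Agent.Lib.ThreeTransp.DecompMax
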