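import Cfsg.Agent.Lib.ThreeTransp.DecompOrthBase

/-!
One Eichler element joining two blocks gives, with the stabiliser of the decomposition, all of `omegaGL`.
-/

set_option autoImplicit false

namespace Cfsg.Agent.Lib.ThreeTransp.DecompOrth

open Matrix QuadraticMap
open Cfsg.Agent.Lib.MaxSub
open Cfsg.Agent.Lib.MaxSub.OrthSplit (InE finrank_inf_ker)
open Cfsg.Agent.Lib.Geometry (quad_add quad_sub quad_smul quad_polar_self quad_polar_comm)
open scoped MatrixGroups Matrix

attribute [-simp] QuadraticMap.polarBilin_apply_apply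

variable {ι : Type} [Fintype ι] [DecidableEq ι] {F : Type*} [Field F] [Fintype F] {Q : QuadraticForm F (ι → F)}
  {t k : ℕ} {D : Fin t → Submodule F (ι → F)} {K : Subgroup (GL ι F)} (S : Sys Q D k K)

/-- A seed: a centre in one block whose vector has a component in another. -/
def Seed : Prop :=
  ∃ (l j : Fin t) (u z : ι → F), j ≠ l ∧ u ∈ D l ∧ u ≠ 0 ∧ InE Q K u z ∧ S.comp j z ≠ 0

/-- Singular vectors of block `a` are centres with every vector of block `b`. -/
def Lk (Q : QuadraticForm F (ι → F)) (D : Fin t → Submodule F (ι → F)) (K : Subgroup (GL ι F)) (a b : Fin t) :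
    Prop :=
  ∀ u ∈ D a, u ≠ 0 → Q u = 0 → ∀ x ∈ D b, InE Q K u x

include S

theorem Sys.lk_one {l j : Fin t} (hjl : j ≠ l) {u z : ι → F} (hu : u ∈ D l) (h : InE Q K u z)
    (hz : S.comp j z ≠ 0) : ∀ x ∈ D j, InE Q K u x := by
  classical
  have step : ∀ w, InE Q K u w → ∀ u' ∈ D j, u' ≠ 0 → Q u' = 0 → polarBilin Q u' w ≠ 0 →
      ∀ c : F, InE Q K u (c • u') := by
    intro w hw u' hu' hu'0 hQu' hne c
    obtain ⟨x₀, hx₀, hux₀, hQx₀⟩ := S.sing_aniso hu' hu'0 hQu'
    set κ := -(2 * Q x₀ * polarBilin Q u' w) with hκ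
    have hκ0 : κ ≠ 0 := neg_ne_zero.mpr (mul_ne_zero (mul_ne_zero S.h2 hQx₀) hne)
    let T : AddSubgroup F :=
      { carrier := {a | InE Q K u ((a * κ) • u')}
        add_mem' := fun {a b} ha hb => by
          show InE Q K u (((a + b) * κ) • u')
          rw [add_mul, add_smul]; exact inE_add ha hb
        zero_mem' := by
          show InE Q K u ((0 * κ) • u')
          rw [zero_mul, zero_smul]; exact inE_zero h
        neg_mem' := fun {a} ha => by
          show InE Q K u ((-a * κ) • u')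
          rw [neg_mul, neg_smul]; exact inE_neg ha }
    have hmv : ∀ x ∈ D j, polarBilin Q u' x = 0 →
        InE Q K u (w + polarBilin Q w u' • x - (polarBilin Q w x + Q x * polarBilin Q w u') • u') := by
      intro x hx hux
      obtain ⟨_, _, hm⟩ := S.eich_mem hu' hx hQu' hux
      have h1 := hw.conj hm (Orth.toGL_mem_isometry Q _)
      rwa [Orth.eichGL_mulVec, Orth.eichGL_mulVec, S.orth hjl.symm hu hu', S.orth hjl.symm hu hx, zero_smul,
        add_zero, mul_zero, add_zero, zero_smul, sub_zero] at h1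
    have hsq : ∀ a, a * a ∈ T := fun a => by
      have h1 := hmv (a • x₀) ((D j).smul_mem a hx₀) (by rw [map_smul, hux₀, smul_zero])
      have h2 := hmv ((-a) • x₀) ((D j).smul_mem _ hx₀) (by rw [map_smul, hux₀, smul_zero])
      have h3 := (inE_add h1 h2).sub (inE_add hw hw)
      show InE Q K u _
      convert h3 using 1
      rw [quad_smul, quad_smul, map_smul, map_smul, hκ, quad_polar_comm Q u' w, smul_eq_mul, smul_eq_mul]
      module
    have hc : c / κ ∈ T := by rw [eq_top_of_sq S.h2 T hsq]; trivial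
    have hc' : InE Q K u ((c / κ * κ) • u') := hc
    rwa [div_mul_cancel₀ _ hκ0] at hc'
  obtain ⟨u₁, hu₁, hu₁0, hQu₁, hne₁⟩ := S.sing_ne hz
  have h₁ := step z h u₁ hu₁ hu₁0 hQu₁ hne₁
  have hall : ∀ u' ∈ D j, Q u' = 0 → ∀ c : F, InE Q K u (c • u') := by
    intro u' hu' hQu' c
    by_cases hm : u' ∈ F ∙ u₁
    · obtain ⟨a, rfl⟩ := Submodule.mem_span_singleton.mp hm
      rw [smul_smul]
      exact h₁ _
    have hu'0 : u' ≠ 0 := fun e => hm (e ▸ Submodule.zero_mem _)
    by_cases hb : polarBilin Q u' u₁ = 0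
    swap
    · exact step u₁ (by simpa using h₁ 1) u' hu' hu'0 hQu' hb c
    obtain ⟨f, hf, hQf, hf1⟩ := S.partner hu₁ hu₁0 hQu₁
    obtain ⟨z₁, hz₁, hzu, hzu'⟩ := S.dual_one hu₁ hu' hm
    -- a singular vector paired with both
    set w := f + (1 - polarBilin Q f u') • z₁ with hw
    have hwu₁ : polarBilin Q u₁ w = 1 := by
      rw [hw, map_add, map_smul, hf1, hzu, smul_zero, add_zero]
    have hwu' : polarBilin Q w u' = 1 := by
      rw [hw, map_add, map_smul, LinearMap.add_apply, LinearMap.smul_apply, hzu', smul_eq_mul, mul_one,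
        add_sub_cancel]
    set w' := w - Q w • u₁ with hw'
    have hQw' : Q w' = 0 := by
      rw [hw', quad_sub, quad_smul, hQu₁, map_smul, quad_polar_comm Q w u₁, hwu₁, smul_eq_mul]; ring
    have hw'u₁ : polarBilin Q w' u₁ = 1 := by
      rw [hw', map_sub, map_smul, LinearMap.sub_apply, LinearMap.smul_apply, quad_polar_comm Q w u₁, hwu₁,
        Orth.polar_self_of_sing Q hQu₁, smul_zero, sub_zero]
    have hw'u' : polarBilin Q u' w' = 1 := by
      rw [hw', map_sub, map_smul, hb, smul_zero, sub_zero, quad_polar_comm, hwu']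
    have hw'D : w' ∈ D j := (D j).sub_mem ((D j).add_mem hf ((D j).smul_mem _ hz₁)) ((D j).smul_mem _ hu₁)
    have h₂ := step u₁ (by simpa using h₁ 1) w' hw'D (fun e => by simp [e] at hw'u₁) hQw'
      (by rw [hw'u₁]; exact one_ne_zero) 1
    rw [one_smul] at h₂
    exact step w' h₂ u' hu' hu'0 hQu' (by rw [hw'u']; exact one_ne_zero) c
  intro x hx
  suffices ∀ c : F, InE Q K u (c • x) by simpa using this 1
  have hx' := S.span_sing j hx
  induction hx' using Submodule.span_induction with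
  | mem y hy => exact hall y hy.1 hy.2
  | zero => intro c; rw [smul_zero]; exact inE_zero h
  | add a b ha hb iha ihb =>
    intro c
    rw [smul_add]
    exact inE_add (iha (by
      exact (Submodule.span_le.mpr fun z hz => hz.1) ha) c) (ihb (by
      exact (Submodule.span_le.mpr fun z hz => hz.1) hb) c)
  | smul a y hy ih =>
    intro c
    rw [smul_smul]
    exact ih ((Submodule.span_le.mpr fun z hz => hz.1) hy) _

theorem Sys.lk_of {l j : Fin t} (hjl : j ≠ l) {u : ι → F} (hu : u ∈ D l) (hu0 : u ≠ 0) (hQu : Q u = 0)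
    (h : ∀ x ∈ D j, InE Q K u x) : Lk Q D K j l ∧ Lk Q D K l j := by
  have h1 : Lk Q D K j l := fun u' hu' _ hQu' => by
    refine S.lk_one hjl.symm hu' (inE_flip (h u' hu') hQu') ?_
    rw [S.comp_neg, S.comp_self hu]
    exact neg_ne_zero.mpr hu0
  refine ⟨h1, fun u₁ hu₁ hu₁0 hQu₁ => ?_⟩
  obtain ⟨e, he, -, -, he0, hQe, -, -⟩ := S.hyp j
  refine S.lk_one hjl hu₁ (inE_flip (h1 e he he0 hQe u₁ hu₁) hQu₁) ?_
  rw [S.comp_neg, S.comp_self he]
  exact neg_ne_zero.mpr he0

theorem Sys.lk_symm {l j : Fin t} (hjl : j ≠ l) (h : Lk Q D K l j) : Lk Q D K j l := by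
  obtain ⟨e, he, -, -, he0, hQe, -, -⟩ := S.hyp l
  exact (S.lk_of hjl he he0 hQe (h e he he0 hQe)).1

/-- An element of the stabiliser exchanging two blocks and fixing a third setwise. -/
theorem Sys.exists_swap {l j i : Fin t} (hlj : l ≠ j) (hli : l ≠ i) (hji : j ≠ i) :
    ∃ g ∈ K, g ∈ Cfsg.isometryGroup F ⇑Q ∧ (∀ u ∈ D l, ∃ u₀ ∈ D l, (g : Matrix ι ι F) *ᵥ u₀ = u) ∧
      ∀ x ∈ D i, ∃ x₀ ∈ D j, (g : Matrix ι ι F) *ᵥ x₀ = x := by
  classical
  obtain ⟨φ, hφ⟩ := S.hD.isometric j i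
  haveI : Invertible (2 : F) := invertibleOfNonzero S.h2
  obtain ⟨v, hv⟩ := LinearMap.BilinForm.exists_orthogonal_basis
    (B := LinearMap.BilinForm.restrict (polarBilin Q) (D j)) (⟨fun x y => quad_polar_comm Q _ _⟩)
  have hpol : ∀ x y : D j, polarBilin Q (φ x : ι → F) (φ y) = polarBilin Q (x : ι → F) y := fun x y => by
    simp only [polarBilin_apply_apply, polar, ← Submodule.coe_add, ← map_add, hφ]
  have hvv : ∀ a b, a ≠ b → polarBilin Q (v a : ι → F) (v b) = 0 := fun a b hab => hv hab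
  have hQv : ∀ a, Q (v a : ι → F) ≠ 0 := fun a h0 => by
    obtain ⟨y, hy, hne⟩ := S.nd j _ (v a).2 fun e => v.ne_zero a (Subtype.ext e)
    refine hne ?_
    have hz : ((LinearMap.BilinForm.restrict (polarBilin Q) (D j)) (v a)) = 0 := v.ext fun b => by
      rcases eq_or_ne a b with rfl | hab
      · show polarBilin Q (v a : ι → F) (v a) = _
        rw [Orth.polar_self_of_sing Q h0]; rfl
      · exact hvv a b hab
    exact LinearMap.congr_fun hz ⟨y, hy⟩
  suffices ∀ s : Finset (Fin (Module.finrank F (D j))), ∃ g : GL ι F, g ∈ Cfsg.Geo.omegaGL ⇑Q ∧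
      (∀ a ∈ s, (g : Matrix ι ι F) *ᵥ (v a : ι → F) = φ (v a) ∧ (g : Matrix ι ι F) *ᵥ (φ (v a) : ι → F) = v a) ∧
      (∀ a, a ∉ s → (g : Matrix ι ι F) *ᵥ (v a : ι → F) = v a ∧
        (g : Matrix ι ι F) *ᵥ (φ (v a) : ι → F) = φ (v a)) ∧
      ∀ m, m ≠ i → m ≠ j → ∀ x ∈ D m, (g : Matrix ι ι F) *ᵥ x ∈ D m by
    obtain ⟨g, hgO, hg1, -, hg3⟩ := this Finset.univ
    have hgj : ∀ z : D j, (g : Matrix ι ι F) *ᵥ (z : ι → F) = φ z := fun z => by
      have h := v.ext (f₁ := (Matrix.toLin' (g : Matrix ι ι F)).comp (D j).subtype)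
        (f₂ := (D i).subtype.comp φ.toLinearMap) fun a => by
          simpa [Matrix.toLin'_apply] using (hg1 a (Finset.mem_univ a)).1
      simpa [Matrix.toLin'_apply] using LinearMap.congr_fun h z
    have hgi : ∀ z : D j, (g : Matrix ι ι F) *ᵥ (φ z : ι → F) = z := fun z => by
      have h := v.ext (f₁ := (Matrix.toLin' (g : Matrix ι ι F)).comp ((D i).subtype.comp φ.toLinearMap))
        (f₂ := (D j).subtype) fun a => by
          simpa [Matrix.toLin'_apply] using (hg1 a (Finset.mem_univ a)).2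
      simpa [Matrix.toLin'_apply] using LinearMap.congr_fun h z
    have hst : g ∈ Cfsg.Geo.decompositionStabilizer D := mem_stab S.fin (Equiv.swap i j) fun m z hz => by
      by_cases hmi : m = i
      · subst hmi
        rw [Equiv.swap_apply_left]
        obtain ⟨z₀, hz₀⟩ := φ.surjective ⟨z, hz⟩
        have hz' : (φ z₀ : ι → F) = z := congrArg Subtype.val hz₀
        rw [← hz', hgi]
        exact z₀.2
      by_cases hmj : m = j
      · subst hmj
        rw [Equiv.swap_apply_right, show (g : Matrix ι ι F) *ᵥ z = _ from hgj ⟨z, hz⟩]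
        exact (φ ⟨z, hz⟩).2
      rw [Equiv.swap_apply_of_ne_of_ne hmi hmj]
      exact hg3 m hmi hmj z hz
    refine ⟨g, S.hK ⟨hst, hgO⟩, Orth.omegaGL_le_isometry hgO, fun u hu => ?_, fun x hx => ?_⟩
    · have hinj : Function.Injective (Matrix.toLin' (g : Matrix ι ι F)) := fun a b hab => by
        have := congrArg (fun z => ((g⁻¹ : GL ι F) : Matrix ι ι F) *ᵥ z) hab
        simpa [Matrix.toLin'_apply, Matrix.mulVec_mulVec, ← Units.val_mul] using this
      have hmap : (D l).map (Matrix.toLin' (g : Matrix ι ι F)) = D l := Submodule.eq_of_le_of_finrank_eq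
        (by
          rintro _ ⟨z, hz, rfl⟩
          rw [Matrix.toLin'_apply]
          exact hg3 l hli hlj z hz)
        (Submodule.equivMapOfInjective _ hinj _).finrank_eq.symm
      obtain ⟨u₀, hu₀, he⟩ := hmap.symm ▸ hu
      exact ⟨u₀, hu₀, by rwa [Matrix.toLin'_apply] at he⟩
    · obtain ⟨z₀, hz₀⟩ := φ.surjective ⟨x, hx⟩
      exact ⟨z₀, z₀.2, by rw [hgj, hz₀]⟩
  intro s
  induction s using Finset.induction_on with
  | empty =>
    exact ⟨1, one_mem _, fun a ha => absurd ha (Finset.notMem_empty a), fun a _ => by simp,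
      fun m _ _ x hx => by simpa using hx⟩
  | insert a s ha ih =>
    obtain ⟨g, hgO, hg1, hg2, hg3⟩ := ih
    set e : ι → F := ↑(v a) with he
    set f : ι → F := ↑(φ (v a)) with hf
    have heD : e ∈ D j := (v a).2
    have hfD : f ∈ D i := (φ (v a)).2
    have hef : polarBilin Q e f = 0 := S.orth hji heD hfD
    have hQf : Q f = Q e := hφ _
    have hd : 2 * Q e ≠ 0 := mul_ne_zero S.h2 (hQv a)
    have hQd : Q (e - f) = 2 * Q e := by rw [quad_sub, hef, hQf]; ring
    obtain ⟨c, hc, hQc⟩ := (S.nd l).exists_value S.h2 (by rw [S.fin]; have := S.hk; omega) (2 * Q e)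
    set r := rr Q (e - f) c with hr
    have hrO : r ∈ Cfsg.Geo.omegaGL ⇑Q := rr_mem_omega S.hN (by rw [hQd, hQc]) (by rw [hQc]; exact hd)
    have hre : (r : Matrix ι ι F) *ᵥ e = f := by
      rw [hr, rr_mulVec, S.orth hlj hc heD, mul_zero, zero_smul, sub_zero, hQd, map_sub, LinearMap.sub_apply,
        quad_polar_self, quad_polar_comm Q f e, hef, sub_zero, inv_mul_cancel₀ hd, one_smul, sub_sub_cancel]
    have hrf : (r : Matrix ι ι F) *ᵥ f = e := by
      rw [hr, rr_mulVec, S.orth hli hc hfD, mul_zero, zero_smul, sub_zero, hQd, map_sub, LinearMap.sub_apply,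
        quad_polar_self, hef, zero_sub, hQf, mul_neg, inv_mul_cancel₀ hd, neg_one_smul, sub_neg_eq_add,
        add_sub_cancel]
    have hfix : ∀ b, b ≠ a → (r : Matrix ι ι F) *ᵥ (v b : ι → F) = v b ∧
        (r : Matrix ι ι F) *ᵥ (φ (v b) : ι → F) = φ (v b) := fun b hb => by
      refine ⟨rr_fix ?_ (S.orth hlj hc (v b).2), rr_fix ?_ (S.orth hli hc (φ (v b)).2)⟩
      · rw [map_sub, LinearMap.sub_apply, hvv a b hb.symm, S.orth hji.symm hfD (v b).2, sub_zero]
      · rw [map_sub, LinearMap.sub_apply, S.orth hji heD (φ (v b)).2, hf, hpol, hvv a b hb.symm, sub_zero]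
    refine ⟨r * g, mul_mem hrO hgO, fun b hb => ?_, fun b hb => ?_, fun m hmi hmj x hx => ?_⟩
    · rw [Units.val_mul, ← Matrix.mulVec_mulVec, ← Matrix.mulVec_mulVec]
      rcases Finset.mem_insert.mp hb with rfl | hb
      · rw [(hg2 b ha).1, (hg2 b ha).2]
        exact ⟨hre, hrf⟩
      · rw [(hg1 b hb).1, (hg1 b hb).2]
        exact ⟨(hfix b fun e' => ha (e' ▸ hb)).2, (hfix b fun e' => ha (e' ▸ hb)).1⟩
    · rw [Finset.mem_insert, not_or] at hb
      rw [Units.val_mul, ← Matrix.mulVec_mulVec, ← Matrix.mulVec_mulVec, (hg2 b hb.2).1, (hg2 b hb.2).2]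
      exact hfix b hb.1
    · rw [Units.val_mul, ← Matrix.mulVec_mulVec]
      have hgx := hg3 m hmi hmj x hx
      have h0 : ∀ y ∈ D m, polarBilin Q (e - f) y = 0 := fun y hy => by
        rw [map_sub, LinearMap.sub_apply, S.orth (Ne.symm hmj) heD hy, S.orth (Ne.symm hmi) hfD hy, sub_zero]
      by_cases hml : m = l
      · subst hml
        rw [hr, rr_mulVec, h0 _ ((D m).sub_mem hgx ((D m).smul_mem _ hc)), mul_zero, zero_smul, sub_zero]
        exact (D m).sub_mem hgx ((D m).smul_mem _ hc)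
      · rw [hr, rr_fix (h0 _ hgx) (S.orth (Ne.symm hml) hc hgx)]
        exact hgx

theorem Sys.lk_move {a b c : Fin t} (hab : a ≠ b) (hac : a ≠ c) (hbc : b ≠ c) (h : Lk Q D K a b) :
    Lk Q D K a c := by
  intro u hu hu0 hQu x hx
  obtain ⟨g, hgK, hgi, hgl, hgx⟩ := S.exists_swap hab hac hbc
  obtain ⟨u₀, hu₀, rfl⟩ := hgl u hu
  obtain ⟨x₀, hx₀, rfl⟩ := hgx x hx
  exact (h u₀ hu₀ (fun e => hu0 (by rw [e, Matrix.mulVec_zero])) (by rw [← Orth.iso_quad hgi]; exact hQu) x₀
    hx₀).conj hgK hgi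

/-- A seed gives the whole of `omegaGL`. -/
theorem Sys.omega_le_of_seed (h : Seed S) : Cfsg.Geo.omegaGL ⇑Q ≤ K := by
  classical
  obtain ⟨l, j, u, z, hjl, hu, hu0, huz, hz⟩ := h
  have hQu : Q u = 0 := huz.1
  obtain ⟨hjlk, hljk⟩ := S.lk_of hjl hu hu0 hQu (S.lk_one hjl hu huz hz)
  have hl : ∀ i, i ≠ l → Lk Q D K l i := fun i hi => by
    by_cases hij : i = j
    · exact hij ▸ hljk
    · exact S.lk_move hjl.symm hi.symm (Ne.symm hij) hljk
  have hroot : ∀ v ∈ D l, v ≠ 0 → Q v = 0 → Orth.Root Q K v := fun v hv hv0 hQv => by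
    refine ⟨hQv, fun x hx => ?_⟩
    have hall : ∀ i, InE Q K v (S.comp i x) := fun i => by
      by_cases hi : i = l
      · subst hi
        exact S.eich_mem hv (S.comp_mem i x) hQv (by rw [S.polar_comp hv]; exact hx)
      · exact hl i hi v hv hv0 hQv _ (S.comp_mem i x)
    have hsum : ∀ s : Finset (Fin t), InE Q K v (∑ i ∈ s, S.comp i x) := fun s => by
      induction s using Finset.induction_on with
      | empty => simpa using inE_zero (hall l)
      | insert a s ha ih => rw [Finset.sum_insert ha]; exact inE_add (hall a) ih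
    have := hsum Finset.univ
    rw [S.sum_comp] at this
    obtain ⟨_, _, hm⟩ := this
    exact hm
  obtain ⟨e, he, f, hf, he0, hQe, hQf, hef⟩ := S.hyp l
  exact Orth.omega_le S.hN S.h7 ((hroot e he he0 hQe).all S.hN
    (hroot f hf (fun h => by simp [h] at hef) hQf) (by rw [hef]; exact one_ne_zero))

end Cfsg.Agent.Lib.ThreeTransp.DecompOrth
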