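import Cfsg.Agent.Lib.MaxSub.UnitaryStd
import Cfsg.Agent.Lib.ThreeTransp.DecompMaxBase

/-!
The standard Hermitian form on coordinates: monomial isometries, and sums of norm one scalars with
prescribed value.
-/

set_option autoImplicit false

namespace Cfsg.Agent.Lib.ThreeTransp.DecompUni

open Cfsg.Agent.Lib.MaxSub Cfsg.Agent.Lib.ThreeTransp.DecompMax Matrix
open scoped MatrixGroups Matrix

variable {ι : Type} [Fintype ι] [DecidableEq ι] {F : Type*} [Field F] [Fintype F] {f : HermF ι F} {q : ℕ}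

/-- `f` is the standard form over the field of `q ^ 2` elements. -/
structure Std (f : HermF ι F) (q : ℕ) : Prop where
  card : Fintype.card F = q ^ 2
  sig : ∀ x : F, f.σ x = x ^ q
  form : ∀ x y, f.B x y = ∑ i, f.σ (x i) * y i

variable (hs : Std f q)
include hs

theorem two_le : 2 ≤ q := Geometry.q_pos hs.card

theorem norm_eq (x : F) : f.σ x * x = x ^ (q + 1) := by rw [hs.sig, pow_succ]

theorem B_single_left (u : ι) (c : F) (x : ι → F) : f.B (Pi.single u c) x = f.σ c * x u := by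
  rw [hs.form, Finset.sum_eq_single u]
  · simp
  · intro i _ hi; simp [hi]
  · exact fun h => absurd (Finset.mem_univ u) h

theorem B_single_right (u : ι) (c : F) (x : ι → F) : f.B x (Pi.single u c) = f.σ (x u) * c := by
  rw [hs.form, Finset.sum_eq_single u]
  · simp
  · intro i _ hi; simp [hi]
  · exact fun h => absurd (Finset.mem_univ u) h

theorem col_orth {g : GL ι F} (hg : f.Preserves g) (i j : ι) :
    ∑ l, f.σ (g.val l i) * g.val l j = if i = j then 1 else 0 := by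
  have h := hg (Pi.single i 1) (Pi.single j 1)
  rw [hs.form, B_single_left hs, map_one, one_mul, Pi.single_apply] at h
  simpa [Matrix.mulVec_single_one] using h

theorem inv_entry {g : GL ι F} (hg : f.Preserves g) (i l : ι) : (g⁻¹).val i l = f.σ (g.val l i) := by
  have h := hg (Pi.single i 1) ((g⁻¹).val *ᵥ Pi.single l 1)
  rw [val_mulVec_inv, B_single_right hs, B_single_left hs, map_one, one_mul, mul_one] at h
  simpa [Matrix.mulVec_single_one] using h.symm

/-! ### Monomial isometries -/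

theorem mono_preserves {g : GL ι F} {π : Equiv.Perm ι} {d : ι → F}
    (hg : ∀ p q', g.val p q' = if p = π q' then d q' else 0) (hd : ∀ i, f.σ (d i) * d i = 1) : f.Preserves g := by
  intro x y
  have happ : ∀ (z : ι → F) q', (g.val *ᵥ z) (π q') = d q' * z q' := fun z q' => by
    rw [Matrix.mulVec, dotProduct, Finset.sum_eq_single q']
    · simp [hg]
    · intro r _ hr; simp [hg, Ne.symm hr]
    · exact fun h => absurd (Finset.mem_univ q') h
  rw [hs.form, hs.form, ← Equiv.sum_comp π fun p => f.σ ((g.val *ᵥ x) p) * (g.val *ᵥ y) p]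
  refine Finset.sum_congr rfl fun q' _ => ?_
  rw [happ, happ, map_mul]
  linear_combination (f.σ (x q') * y q') * hd q'

omit hs in
theorem mono_of_entries {g : GL ι F} {π : Equiv.Perm ι} {d : ι → F}
    (hg : ∀ p q', g.val p q' = if p = π q' then d q' else 0) : Mono g := by
  intro q' p p' h h'
  rw [hg] at h h'
  exact (not_not.mp fun e => h (if_neg e)).trans (not_not.mp fun e => h' (if_neg e)).symm

theorem dg_preserves {d : ι → F} {hd : ∏ i, d i = 1} (h : ∀ i, f.σ (d i) * d i = 1) : f.Preserves (dg d hd) :=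
  mono_preserves hs (π := 1) (d := d) (fun p q' => by
    rw [dg_val, Matrix.diagonal_apply, Equiv.Perm.one_apply]
    rcases eq_or_ne p q' with rfl | hne <;> simp [*]) h

theorem norm_sign (π : Equiv.Perm ι) :
    f.σ ((Equiv.Perm.sign π : ℤ) : F) * ((Equiv.Perm.sign π : ℤ) : F) = 1 := by
  rcases Int.units_eq_one_or (Equiv.Perm.sign π) with h | h <;> simp [h]

/-- A monomial isometry of determinant one with phases prescribed outside one place. -/
theorem exists_umono (π : Equiv.Perm ι) (d₀ : ι → F) (hd₀ : ∀ i, f.σ (d₀ i) * d₀ i = 1) (w : ι) :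
    ∃ (g : GL ι F) (d : ι → F), f.Preserves g ∧ g.val.det = 1 ∧ Mono g ∧
      (∀ p q', g.val p q' = if p = π q' then d q' else 0) ∧
      (∀ q' c, g.val *ᵥ Pi.single q' c = Pi.single (π q') (d q' * c)) ∧
      (∀ (z : ι → F) q', (g.val *ᵥ z) (π q') = d q' * z q') ∧
      (∀ i, f.σ (d i) * d i = 1) ∧ ∀ i, i ≠ w → d i = d₀ i := by
  have h0 : ∀ i, d₀ i ≠ 0 := fun i h => by simpa [h] using hd₀ i
  obtain ⟨d, hd, hdw⟩ := exists_coeff π d₀ h0 w
  obtain ⟨g, hg1, hg2, hg3, -⟩ := exists_monomial π d hd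
  have hN : ∀ i, f.σ (d i) * d i = 1 := fun i => by
    rcases eq_or_ne i w with rfl | hi
    · rw [← Finset.mul_prod_erase _ _ (Finset.mem_univ i)] at hd
      have h1 := congrArg (fun z => f.σ z * z) hd
      have h2 : f.σ (∏ j ∈ Finset.univ.erase i, d j) * ∏ j ∈ Finset.univ.erase i, d j = 1 := by
        rw [map_prod, ← Finset.prod_mul_distrib]
        refine Finset.prod_eq_one fun j hj => ?_
        rw [hdw j (Finset.mem_erase.mp hj).1, hd₀ j]
      simp only [map_mul, map_one, mul_one] at h1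
      linear_combination h1 - (f.σ (d i) * d i * (f.σ (∏ j ∈ Finset.univ.erase i, d j) *
        ∏ j ∈ Finset.univ.erase i, d j)) * norm_sign hs π - (f.σ (d i) * d i) * h2
    · rw [hdw i hi, hd₀ i]
  refine ⟨g, d, mono_preserves hs hg2 hN, hg1, mono_of_entries hg2, hg2, hg3, fun z q' => ?_, hN, hdw⟩
  rw [Matrix.mulVec, dotProduct, Finset.sum_eq_single q']
  · simp [hg2]
  · intro r _ hr; simp [hg2, Ne.symm hr]
  · exact fun h => absurd (Finset.mem_univ q') h

/-! ### Scalars of norm one -/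

theorem exists_prim : ∃ z : F, IsPrimitiveRoot z (q + 1) := by
  obtain ⟨a, ha⟩ := IsCyclic.exists_ofOrder_eq_natCard (α := Fˣ)
  have hq := two_le hs
  have hc : Nat.card Fˣ = (q + 1) * (q - 1) := by
    rw [Nat.card_units, Nat.card_eq_fintype_card, hs.card, sq, ← Nat.sq_sub_sq, one_pow, sq]
  have h1 : IsPrimitiveRoot (a : F) (Nat.card Fˣ) :=
    (IsPrimitiveRoot.coe_units_iff).mpr (ha ▸ IsPrimitiveRoot.orderOf a)
  exact ⟨(a : F) ^ (q - 1), h1.pow Nat.card_pos (by rw [hc, mul_comm])⟩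

/-- The scalars of norm one. -/
theorem exists_circle : ∃ S : Finset F, S.card = q + 1 ∧ ∀ x ∈ S, f.σ x * x = 1 := by
  classical
  obtain ⟨z, hz⟩ := exists_prim hs
  refine ⟨(Finset.range (q + 1)).image (z ^ ·), ?_, fun x hx => ?_⟩
  · rw [Finset.card_image_of_injOn, Finset.card_range]
    exact fun i hi j hj h => hz.pow_inj (Finset.mem_range.mp hi) (Finset.mem_range.mp hj) h
  · obtain ⟨i, -, rfl⟩ := Finset.mem_image.mp hx
    rw [norm_eq hs, ← pow_mul, mul_comm, pow_mul, hz.pow_eq_one, one_pow]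

omit hs [Fintype F] in
theorem card_root_two {a b c : F} (ha : a ≠ 0) (S : Finset F) (hS : ∀ x ∈ S, a * x ^ 2 + b * x + c = 0) :
    S.card ≤ 2 := by
  classical
  by_contra! h
  obtain ⟨x, hx, y, hy, z, hz, hxy, hxz, hyz⟩ := Finset.two_lt_card.mp h
  have e : ∀ u v, u ∈ S → v ∈ S → u ≠ v → a * (u + v) + b = 0 := fun u v hu hv huv =>
    mul_left_cancel₀ (sub_ne_zero.mpr huv) (by linear_combination hS u hu - hS v hv)
  exact hyz (mul_left_cancel₀ ha (by linear_combination e x y hx hy hxy - e x z hx hz hxz))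

/-- Sums of two scaled norm one scalars fill more than half of the field. -/
theorem two_circle_card {c₁ c₂ : F} (h₁ : c₁ ≠ 0) (h₂ : c₂ ≠ 0) {S : Finset F} (hS : S.card = q + 1)
    (hS1 : ∀ x ∈ S, f.σ x * x = 1) [DecidableEq F] :
    q ^ 2 < 2 * ((S ×ˢ S).image fun p => c₁ * p.1 + c₂ * p.2).card := by
  set φ : F × F → F := fun p => c₁ * p.1 + c₂ * p.2 with hφ
  set P := (S ×ˢ S).filter fun p => φ p ≠ 0 with hP
  have hz : ((S ×ˢ S).filter fun p => ¬ φ p ≠ 0).card ≤ q + 1 := by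
    rw [← hS]
    refine Finset.card_le_card_of_injOn Prod.fst (fun p hp => ?_) fun p hp p' hp' h => ?_
    · exact (Finset.mem_product.mp (Finset.mem_filter.mp hp).1).1
    · simp only [Finset.coe_filter, Set.mem_setOf_eq, ne_eq, not_not, hφ] at hp hp'
      refine Prod.ext h (mul_left_cancel₀ h₂ ?_)
      linear_combination hp.2 - hp'.2 - c₁ * h
  have hfib : ∀ z ∈ P.image φ, (P.filter fun p => φ p = z).card ≤ 2 := by
    intro z hz'
    obtain ⟨p₀, hp₀, rfl⟩ := Finset.mem_image.mp hz'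
    have hz0 : φ p₀ ≠ 0 := (Finset.mem_filter.mp hp₀).2
    rw [← Finset.card_image_of_injOn (f := Prod.fst) fun p hp p' hp' h => by
      simp only [Finset.coe_filter, Set.mem_setOf_eq, hφ] at hp hp'
      refine Prod.ext h (mul_left_cancel₀ h₂ ?_)
      linear_combination hp.2 - hp'.2 - c₁ * h]
    refine card_root_two (a := f.σ (φ p₀) * c₁)
      (b := f.σ c₂ * c₂ - f.σ (φ p₀) * φ p₀ - f.σ c₁ * c₁) (c := φ p₀ * f.σ c₁)
      (mul_ne_zero (fun h => hz0 (f.σ_eq_zero.mp h)) h₁) _ fun x hx => ?_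
    obtain ⟨p, hp, rfl⟩ := Finset.mem_image.mp hx
    obtain ⟨hpP, hpe⟩ := Finset.mem_filter.mp hp
    obtain ⟨hp1, hp2⟩ := Finset.mem_product.mp (Finset.mem_filter.mp hpP).1
    have e1 := hS1 _ hp1
    have e2 := hS1 _ hp2
    have e : c₂ * p.2 = φ p₀ - c₁ * p.1 := by rw [← hpe, hφ]; ring
    have e' := congrArg (fun y => f.σ y * y) e
    simp only [map_mul, map_sub] at e'
    linear_combination p.1 * e' - (p.1 * f.σ c₂ * c₂) * e2 + (p.1 * f.σ c₁ * c₁ - φ p₀ * f.σ c₁) * e1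
  have h1 := Finset.card_le_mul_card_image P 2 hfib
  have h2 : (P.image φ).card ≤ ((S ×ˢ S).image φ).card :=
    Finset.card_le_card (Finset.image_subset_image (Finset.filter_subset _ _))
  have h3 := Finset.card_filter_add_card_filter_not (s := S ×ˢ S) (fun p => φ p ≠ 0)
  rw [← hP, Finset.card_product, hS] at h3
  have := two_le hs
  nlinarith

/-- Four scaled norm one scalars have every sum. -/
theorem exists_sum_four {c₁ c₂ c₃ c₄ : F} (h₁ : c₁ ≠ 0) (h₂ : c₂ ≠ 0) (h₃ : c₃ ≠ 0) (h₄ : c₄ ≠ 0) (T : F) :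
    ∃ a b c d : F, f.σ a * a = 1 ∧ f.σ b * b = 1 ∧ f.σ c * c = 1 ∧ f.σ d * d = 1 ∧
      c₁ * a + c₂ * b + c₃ * c + c₄ * d = T := by
  classical
  obtain ⟨S, hS, hS1⟩ := exists_circle hs
  have hA := two_circle_card hs h₁ h₂ hS hS1
  have hA' := two_circle_card hs h₃ h₄ hS hS1
  set A := (S ×ˢ S).image fun p => c₁ * p.1 + c₂ * p.2
  set A' := ((S ×ˢ S).image fun p => c₃ * p.1 + c₄ * p.2).image (T - ·) with hA'def
  have hc : A'.card = ((S ×ˢ S).image fun p => c₃ * p.1 + c₄ * p.2).card :=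
    Finset.card_image_of_injective _ (sub_right_injective)
  obtain ⟨x, hx⟩ : (A ∩ A').Nonempty := by
    rw [← Finset.card_pos]
    have h1 := Finset.card_union_add_card_inter A A'
    have h2 := Finset.card_le_univ (A ∪ A')
    rw [hs.card] at h2
    omega
  obtain ⟨hxA, hxA'⟩ := Finset.mem_inter.mp hx
  obtain ⟨p, hp, hpx⟩ := Finset.mem_image.mp hxA
  obtain ⟨y, hy, hyx⟩ := Finset.mem_image.mp hxA'
  obtain ⟨p', hp', hp'y⟩ := Finset.mem_image.mp hy
  obtain ⟨ha, hb⟩ := Finset.mem_product.mp hp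
  obtain ⟨hc', hd'⟩ := Finset.mem_product.mp hp'
  exact ⟨p.1, p.2, p'.1, p'.2, hS1 _ ha, hS1 _ hb, hS1 _ hc', hS1 _ hd', by
    linear_combination hpx + hp'y - hyx⟩

/-- A prescribed weighted sum over a set with four non-zero weights. -/
theorem exists_sum_set [DecidableEq F] (S : Finset ι) (c : ι → F) (h : 4 ≤ (S.filter fun l => c l ≠ 0).card) (T : F) :
    ∃ d : ι → F, (∀ l, f.σ (d l) * d l = 1) ∧ (∀ l, l ∉ S → d l = 1) ∧ ∑ l ∈ S, c l * d l = T := by
  obtain ⟨U, hU, hU4⟩ := Finset.exists_subset_card_eq h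
  obtain ⟨u₁, u₂, u₃, u₄, h12, h13, h14, h23, h24, h34, rfl⟩ := Finset.card_eq_four.mp hU4
  have hm : ∀ u ∈ ({u₁, u₂, u₃, u₄} : Finset ι), u ∈ S ∧ c u ≠ 0 := fun u hu => Finset.mem_filter.mp (hU hu)
  obtain ⟨a, b, x, y, ha, hb, hx, hy, hsum⟩ := exists_sum_four hs (hm u₁ (by simp)).2 (hm u₂ (by simp)).2
    (hm u₃ (by simp)).2 (hm u₄ (by simp)).2 (T - ∑ l ∈ S \ {u₁, u₂, u₃, u₄}, c l)
  refine ⟨fun l => if l = u₁ then a else if l = u₂ then b else if l = u₃ then x else if l = u₄ then y else 1,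
    fun l => ?_, fun l hl => ?_, ?_⟩
  · dsimp only
    split_ifs <;> simp [ha, hb, hx, hy]
  · have hne : ∀ u ∈ ({u₁, u₂, u₃, u₄} : Finset ι), l ≠ u := fun u hu e => hl (e ▸ (hm u hu).1)
    simp [hne u₁, hne u₂, hne u₃, hne u₄]
  · rw [← Finset.sum_sdiff (fun u hu => (hm u hu).1 : ({u₁, u₂, u₃, u₄} : Finset ι) ⊆ S)]
    rw [Finset.sum_insert (by simp [h12, h13, h14]), Finset.sum_insert (by simp [h23, h24]),
      Finset.sum_insert (by simp [h34]), Finset.sum_singleton]
    simp only [↓reduceIte, h12.symm, h13.symm, h23.symm, h14.symm, h24.symm, h34.symm]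
    rw [Finset.sum_congr rfl fun l hl => show c l * _ = c l by
      simp only [Finset.mem_sdiff, Finset.mem_insert, Finset.mem_singleton, not_or] at hl
      simp [hl.2.1, hl.2.2.1, hl.2.2.2.1, hl.2.2.2.2]]
    linear_combination hsum

omit hs [Fintype F] in
/-- Scaling on two disjoint sets. -/
theorem exists_scaled (d : ι → F) (hd : ∀ l, f.σ (d l) * d l = 1) (S₁ S₂ : Finset ι) (h : Disjoint S₁ S₂)
    {r₁ r₂ : F} (h1 : f.σ r₁ * r₁ = 1) (h2 : f.σ r₂ * r₂ = 1) :
    ∃ d' : ι → F, (∀ l, f.σ (d' l) * d' l = 1) ∧ (∀ l ∈ S₁, d' l = r₁ * d l) ∧ (∀ l ∈ S₂, d' l = r₂ * d l) ∧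
      (∀ l, l ∉ S₁ → l ∉ S₂ → d' l = d l) ∧ ∏ l, d' l = r₁ ^ S₁.card * r₂ ^ S₂.card * ∏ l, d l := by
  refine ⟨fun l => (if l ∈ S₁ then r₁ else 1) * (if l ∈ S₂ then r₂ else 1) * d l, fun l => ?_, fun l hl => ?_,
    fun l hl => ?_, fun l hl hl' => ?_, ?_⟩
  · dsimp only
    split_ifs <;> simp only [map_mul, map_one, one_mul]
    · linear_combination (f.σ r₂ * r₂ * f.σ (d l) * d l) * h1 + (f.σ (d l) * d l) * h2 + hd l
    · linear_combination (f.σ (d l) * d l) * h1 + hd l
    · linear_combination (f.σ (d l) * d l) * h2 + hd l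
    · exact hd l
  · simp [hl, Finset.disjoint_left.mp h hl]
  · simp [hl, Finset.disjoint_right.mp h hl]
  · simp [hl, hl']
  · rw [Finset.prod_mul_distrib, Finset.prod_mul_distrib]
    simp [Finset.prod_ite_mem]

omit hs [Fintype F] in
theorem norm_prod {d : ι → F} (hd : ∀ l, f.σ (d l) * d l = 1) :
    f.σ (∏ l, d l) * ∏ l, d l = 1 := by
  rw [map_prod, ← Finset.prod_mul_distrib]
  exact Finset.prod_eq_one fun l _ => hd l

/-- A norm one diagonal with product one, vanishing weighted sum, and three values differing from the one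
at a given place. -/
theorem exists_zero_sum (h13 : 13 ≤ Fintype.card ι) {η : F} (hη : f.σ η * η = 1) (h4 : η ^ 4 ≠ 1)
    (h8 : η ^ 8 ≠ 1) (c : ι → F) (o : ι) (hc : ∀ l, l ≠ o → c l ≠ 0) :
    ∃ d : ι → F, (∀ l, f.σ (d l) * d l = 1) ∧ ∏ l, d l = 1 ∧ ∑ l, c l * d l = 0 ∧
      ∃ T : Finset ι, 3 ≤ T.card ∧ ∀ l ∈ T, d l ≠ d o := by
  classical
  obtain ⟨S₁', hS₁'sub, hS₁'⟩ := Finset.exists_subset_card_eq (s := Finset.univ.erase o) (n := 4) (by
    rw [Finset.card_erase_of_mem (Finset.mem_univ o), Finset.card_univ]; omega)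
  have ho : o ∉ S₁' := fun h => (Finset.mem_erase.mp (hS₁'sub h)).1 rfl
  set S₁ := insert o S₁' with hS₁def
  have hS₁ : S₁.card = 5 := by rw [hS₁def, Finset.card_insert_of_notMem ho, hS₁']
  obtain ⟨S₂, hS₂sub, hS₂⟩ := Finset.exists_subset_card_eq (s := Finset.univ \ S₁) (n := 4) (by
    rw [Finset.card_sdiff_of_subset (Finset.subset_univ _), Finset.card_univ]; omega)
  have hdis : Disjoint S₁ S₂ := Finset.disjoint_left.mpr fun l h1 h2 => (Finset.mem_sdiff.mp (hS₂sub h2)).2 h1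
  set R := Finset.univ \ (S₁ ∪ S₂) with hR
  have hRc : 4 ≤ R.card := by
    rw [hR, Finset.card_sdiff_of_subset (Finset.subset_univ _), Finset.card_univ, Finset.card_union_of_disjoint hdis]
    omega
  have hno : ∀ S : Finset ι, o ∉ S → S.filter (fun l => c l ≠ 0) = S := fun S hS =>
    Finset.filter_true_of_mem fun l hl => hc l fun e => hS (e ▸ hl)
  obtain ⟨a₁, ha₁, -, hs₁⟩ := exists_sum_set hs S₁ c (by
    rw [← hS₁', ← hno S₁' ho]
    exact Finset.card_le_card (Finset.filter_subset_filter _ (Finset.subset_insert _ _))) 0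
  have ho₂ : o ∉ S₂ := fun h => Finset.disjoint_left.mp hdis (Finset.mem_insert_self o _) h
  have hoR : o ∉ R := fun h => (Finset.mem_sdiff.mp h).2 (Finset.mem_union_left _ (Finset.mem_insert_self o _))
  obtain ⟨a₂, ha₂, -, hs₂⟩ := exists_sum_set hs S₂ c (by rw [hno S₂ ho₂, hS₂]) 0
  obtain ⟨a₃, ha₃, -, hs₃⟩ := exists_sum_set hs R c (by rw [hno R hoR]; exact hRc) 0
  set d₀ : ι → F := fun l => if l ∈ S₁ then a₁ l else if l ∈ S₂ then a₂ l else a₃ l with hd₀
  have hN₀ : ∀ l, f.σ (d₀ l) * d₀ l = 1 := fun l => by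
    simp only [hd₀]; split_ifs <;> simp [ha₁, ha₂, ha₃]
  have hNπ := norm_prod (d := d₀) hN₀
  set π := ∏ l, d₀ l
  have hπ0 : π ≠ 0 := fun h => by simp [h] at hNπ
  have hη0 : η ≠ 0 := fun h => by simp [h] at h4 hη
  have key : ∀ j : ℕ, ∃ d : ι → F, (∀ l, f.σ (d l) * d l = 1) ∧ ∏ l, d l = 1 ∧ ∑ l, c l * d l = 0 ∧
      d o = π⁻¹ * η ^ (4 * j) * d₀ o ∧ ∀ l ∈ R, d l = d₀ l := fun j => by
    obtain ⟨d, h1, h2, h3, h4', h5⟩ := exists_scaled d₀ hN₀ S₁ S₂ hdis (r₁ := π⁻¹ * η ^ (4 * j))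
      (r₂ := π * (η ^ (5 * j))⁻¹) (by
        rw [map_mul, map_inv₀, map_pow]
        have e : (f.σ η) ^ (4 * j) * η ^ (4 * j) = 1 := by rw [← mul_pow, hη, one_pow]
        rw [mul_mul_mul_comm, ← mul_inv, hNπ, e, inv_one, one_mul])
      (by
        rw [map_mul, map_inv₀, map_pow]
        have e : (f.σ η) ^ (5 * j) * η ^ (5 * j) = 1 := by rw [← mul_pow, hη, one_pow]
        rw [mul_mul_mul_comm, ← mul_inv, hNπ, e, inv_one, one_mul])
    refine ⟨d, h1, ?_, ?_, h2 o (Finset.mem_insert_self o _), fun l hl => ?_⟩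
    · rw [h5, hS₁, hS₂]
      field_simp
      ring
    · rw [← Finset.sum_sdiff (Finset.subset_univ (S₁ ∪ S₂)), ← hR, Finset.sum_union hdis,
        Finset.sum_congr rfl fun l hl => show c l * d l = c l * a₃ l by
          simp only [hR, Finset.mem_sdiff, Finset.mem_univ, Finset.mem_union, not_or, true_and] at hl
          rw [h4' l hl.1 hl.2]; simp [hd₀, hl],
        hs₃, Finset.sum_congr rfl fun l hl => show c l * d l = π⁻¹ * η ^ (4 * j) * (c l * a₁ l) by
          rw [h2 l hl]; simp only [hd₀, hl, ↓reduceIte]; ring,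
        ← Finset.mul_sum, hs₁, Finset.sum_congr rfl fun l hl => show c l * d l = π * (η ^ (5 * j))⁻¹ * (c l * a₂ l) by
          rw [h3 l hl]; simp only [hd₀, Finset.disjoint_right.mp hdis hl, hl, ↓reduceIte]; ring,
        ← Finset.mul_sum, hs₂]
      ring
    · simp only [hR, Finset.mem_sdiff, Finset.mem_univ, Finset.mem_union, not_or, true_and] at hl
      exact h4' l hl.1 hl.2
  choose D hD1 hD2 hD3 hDo hDR using key
  by_contra! hno'
  have hcnt : ∀ j, R.card ≤ (R.filter fun l => D j l = D j o).card + 2 := fun j => by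
    have h1 := Finset.card_filter_add_card_filter_not (s := R) (fun l => D j l = D j o)
    have h2 : (R.filter fun l => ¬ D j l = D j o).card ≤ 2 := by
      by_contra! h
      obtain ⟨l, hl, hl'⟩ := hno' _ (hD1 j) (hD2 j) (hD3 j) _ h
      exact (Finset.mem_filter.mp hl).2 hl'
    omega
  have hpd : ∀ i j, η ^ (4 * i) ≠ η ^ (4 * j) →
      Disjoint (R.filter fun l => D i l = D i o) (R.filter fun l => D j l = D j o) := fun i j hij => by
    rw [Finset.disjoint_left]
    intro l hl hl'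
    obtain ⟨hlR, e1⟩ := Finset.mem_filter.mp hl
    obtain ⟨-, e2⟩ := Finset.mem_filter.mp hl'
    rw [hDR i l hlR, hDo] at e1
    rw [hDR j l hlR, hDo] at e2
    have h0 : d₀ o ≠ 0 := fun h => by have := hN₀ o; simp [h] at this
    exact hij (mul_left_cancel₀ (inv_ne_zero hπ0) (mul_right_cancel₀ h0 (e1.symm.trans e2)))
  have h01 := hpd 0 1 (by rw [mul_zero, pow_zero, mul_one]; exact Ne.symm h4)
  have h02 := hpd 0 2 (by rw [mul_zero, pow_zero]; exact Ne.symm h8)
  have h12 := hpd 1 2 (by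
    rw [mul_one, show η ^ (4 * 2) = η ^ 4 * η ^ 4 by ring]
    exact fun h => h4 (mul_left_cancel₀ (pow_ne_zero 4 hη0) (by rw [mul_one]; exact h.symm)))
  have hsum := Finset.card_le_card (show (R.filter fun l => D 0 l = D 0 o) ∪ (R.filter fun l => D 1 l = D 1 o) ∪
    (R.filter fun l => D 2 l = D 2 o) ⊆ R from
      Finset.union_subset (Finset.union_subset (Finset.filter_subset _ _) (Finset.filter_subset _ _)) (Finset.filter_subset _ _))
  rw [Finset.card_union_of_disjoint (Finset.disjoint_union_left.mpr ⟨h02, h12⟩),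
    Finset.card_union_of_disjoint h01] at hsum
  have := hcnt 0
  have := hcnt 1
  have := hcnt 2
  omega

end Cfsg.Agent.Lib.ThreeTransp.DecompUni
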