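import Cfsg.Agent.Lib.ThreeTransp.DecompUniBase

/-!
From the two coordinate centres to all isotropic vectors, for `q ≥ 3`.
-/

set_option autoImplicit false

namespace Cfsg.Agent.Lib.ThreeTransp.DecompUni

open Cfsg.Agent.Lib.MaxSub Matrix
open scoped MatrixGroups Matrix

variable {ι : Type} [Fintype ι] [DecidableEq ι] {F : Type*} [Field F] [Fintype F] {f : HermF ι F} {q : ℕ}
  (hs : Std f q) {K : Subgroup (GL ι F)}

omit [Fintype F] in
theorem ctr_neg_trans {w : ι → F} (hw : f.Ctr K w) {c : F} (hc : c + f.σ c = 0) {x : ι → F}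
    (h : f.Ctr K (x + (c * f.B w x) • w)) : f.Ctr K x := by
  obtain ⟨hwi, hwc⟩ := hw
  have hc' : -c + f.σ (-c) = 0 := by rw [map_neg]; linear_combination -hc
  have h1 := h.of_conj (hwc _ hc') (f.trans_preserves w hwi hc')
  have hww : f.B w w = 0 := hwi
  rwa [f.trans_mulVec, map_add, map_smul, hww, smul_zero, add_zero, add_assoc, ← add_smul,
    show c * f.B w x + -c * f.B w x = 0 by ring, zero_smul, add_zero] at h1

include hs

/-- The scalars fixed by the involution. -/
theorem exists_fixed : ∃ S : Finset F, q ≤ S.card ∧ ∀ x ∈ S, f.σ x = x := by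
  classical
  obtain ⟨a, ha⟩ := IsCyclic.exists_ofOrder_eq_natCard (α := Fˣ)
  have hq := two_le hs
  have hc : Nat.card Fˣ = (q + 1) * (q - 1) := by
    rw [Nat.card_units, Nat.card_eq_fintype_card, hs.card, sq, ← Nat.sq_sub_sq, one_pow, sq]
  have h1 : IsPrimitiveRoot (a : F) (Nat.card Fˣ) :=
    (IsPrimitiveRoot.coe_units_iff).mpr (ha ▸ IsPrimitiveRoot.orderOf a)
  have hz : IsPrimitiveRoot ((a : F) ^ (q + 1)) (q - 1) := h1.pow Nat.card_pos hc
  have hz0 : (a : F) ^ (q + 1) ≠ 0 := pow_ne_zero _ a.ne_zero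
  refine ⟨insert 0 ((Finset.range (q - 1)).image (((a : F) ^ (q + 1)) ^ ·)), ?_, fun x hx => ?_⟩
  · rw [Finset.card_insert_of_notMem, Finset.card_image_of_injOn, Finset.card_range]
    · omega
    · exact fun i hi j hj h => hz.pow_inj (Finset.mem_range.mp hi) (Finset.mem_range.mp hj) h
    · simp only [Finset.mem_image, not_exists, not_and]
      exact fun i _ h => pow_ne_zero i hz0 h
  · rcases Finset.mem_insert.mp hx with rfl | hx
    · exact map_zero _
    obtain ⟨i, -, rfl⟩ := Finset.mem_image.mp hx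
    rw [map_pow, hs.sig]
    congr 1
    rw [show ((a : F) ^ (q + 1)) ^ q = ((a : F) ^ (q + 1)) ^ (q - 1) * (a : F) ^ (q + 1) by
      rw [← pow_succ]; congr 1; omega, hz.pow_eq_one, one_mul]

/-- Isotropic vectors on three coordinates. -/
theorem ctr_triple (hP : ∀ p r : ι, p ≠ r → ∀ A B : F, f.σ A * A + f.σ B * B = 0 → f.Ctr K (Pi.single p A + Pi.single r B))
    {p b r : ι} (hpb : p ≠ b) (hpr : p ≠ r) (hbr : b ≠ r) {A B C : F} (hA : A ≠ 0) (hB : B ≠ 0) (hC : C ≠ 0)
    (hiso : f.σ A * A + f.σ B * B + f.σ C * C = 0) :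
    f.Ctr K (Pi.single p A + Pi.single b B + Pi.single r C) := by
  classical
  obtain ⟨δ₀, hδ₀0, hδ₀⟩ := f.exists_trace_zero
  have hσδ : f.σ δ₀ = -δ₀ := by linear_combination hδ₀
  obtain ⟨ε, hε⟩ := Cfsg.Agent.Lib.Geometry.exists_mul_conj_eq f.σ_ne f.invol (s := (-1 : F)) (by simp)
  have hCN : f.σ C * C ≠ 0 := mul_ne_zero (fun h => hC (f.σ_eq_zero.mp h)) hC
  -- the splitting
  have hsplit : ∀ (P Q δ : F), f.σ P * P + f.σ Q * Q + f.σ C * C = 0 → P ≠ 0 → Q ≠ 0 → δ ≠ 0 → δ + f.σ δ = 0 →
      (f.σ P * P) * (f.σ C * C) = f.σ δ * δ → f.Ctr K (Pi.single p P + Pi.single b Q + Pi.single r C) := by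
    intro P Q δ h0 hP0 hQ hδ0 hδ hN
    obtain ⟨m, hm⟩ := Cfsg.Agent.Lib.Geometry.exists_mul_conj_eq f.σ_ne f.invol (s := -(f.σ P * P))
      (by simp [f.invol, mul_comm])
    have hPN : f.σ P * P ≠ 0 := mul_ne_zero (fun h => hP0 (f.σ_eq_zero.mp h)) hP0
    have hm0 : m ≠ 0 := fun h => by rw [h, mul_zero] at hm; exact hPN (neg_eq_zero.mp hm.symm)
    have hσm : f.σ m ≠ 0 := fun h => hm0 (f.σ_eq_zero.mp h)
    set ν := δ / f.σ m with hν
    have hmν : f.σ m * ν = δ := by rw [hν]; field_simp
    have hνm : f.σ ν * m = f.σ δ := by rw [← hmν, map_mul, f.invol]; ring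
    have hνN : f.σ ν * ν = -(f.σ C * C) := by
      rw [hν, map_div₀, f.invol]
      field_simp
      linear_combination -hN + (f.σ C * C) * hm
    have hQ0 : f.σ Q * Q ≠ 0 := mul_ne_zero (fun h => hQ (f.σ_eq_zero.mp h)) hQ
    have hsum : f.σ (m + ν) * (m + ν) = f.σ Q * Q := by
      rw [map_add]
      linear_combination hm + hνN + hmν + hνm + hδ - h0
    have hs0 : m + ν ≠ 0 := fun h => hQ0 (by rw [← hsum, h, mul_zero])
    set θ := Q / (m + ν) with hθ
    have hθN : f.σ θ * θ = 1 := by
      rw [hθ, map_div₀, div_mul_div_comm, hsum, div_self hQ0]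
    have h1 := (hP p b hpb P (θ * m) (by rw [map_mul]; linear_combination hm + (f.σ m * m) * hθN)).add
      (hP b r hbr (θ * ν) C (by rw [map_mul]; linear_combination hνN + (f.σ ν * ν) * hθN)) (by
        simp only [map_add, LinearMap.add_apply, B_single_left hs, Pi.single_eq_same, Pi.single_eq_of_ne hpb,
          Pi.single_eq_of_ne hpr, Pi.single_eq_of_ne hbr, mul_zero, add_zero, zero_add, map_mul]
        intro h
        exact hδ0 (by linear_combination h - δ * hθN - (f.σ θ * θ) * hmν)) (by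
      show f.B _ _ = 0
      simp only [map_add, LinearMap.add_apply, B_single_left hs, Pi.single_eq_same, Pi.single_eq_of_ne hpb,
        Pi.single_eq_of_ne hpr, Pi.single_eq_of_ne hbr, Pi.single_eq_of_ne hpb.symm, Pi.single_eq_of_ne hpr.symm,
        Pi.single_eq_of_ne hbr.symm, mul_zero, add_zero, zero_add, map_mul]
      linear_combination hm + (f.σ m * m) * hθN + hνN + (f.σ ν * ν) * hθN + (f.σ θ * θ) * (hmν + hνm + hδ))
    rwa [show (Pi.single p P : ι → F) + Pi.single b (θ * m) + (Pi.single b (θ * ν) + Pi.single r C) =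
      Pi.single p P + (Pi.single b (θ * m) + Pi.single b (θ * ν)) + Pi.single r C by abel, ← Pi.single_add, ← mul_add,
      hθ, div_mul_cancel₀ _ hs0] at h1
  set L := A + f.σ ε * B with hL
  have hL0 : L ≠ 0 := fun h => hCN (by
    have h1 : f.σ A * A = -(f.σ B * B) := by
      rw [eq_neg_of_add_eq_zero_left h, map_neg, map_mul, f.invol]
      linear_combination (f.σ B * B) * hε
    linear_combination hiso - h1)
  set x : ι → F := Pi.single p A + Pi.single b B + Pi.single r C with hx
  set z : ι → F := Pi.single p 1 + Pi.single b ε with hz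
  have hzc : f.Ctr K z := hP p b hpb 1 ε (by rw [map_one]; linear_combination hε)
  have hBzx : f.B z x = L := by
    simp only [hz, hx, map_add, LinearMap.add_apply, B_single_left hs, Pi.single_eq_same, Pi.single_eq_of_ne hpb,
      Pi.single_eq_of_ne hpr, Pi.single_eq_of_ne hbr, Pi.single_eq_of_ne hpb.symm, mul_zero, map_one, one_mul,
      add_zero, zero_add, hL]
  set a : F → F := fun t => A + t * δ₀ * L with ha
  set a' : F → F := fun t => B + t * δ₀ * L * ε with ha'
  have hxt : ∀ t, f.σ t = t → f.σ (a t) * a t + f.σ (a' t) * a' t + f.σ C * C = 0 ∧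
      (f.Ctr K (Pi.single p (a t) + Pi.single b (a' t) + Pi.single r C) → f.Ctr K x) := by
    intro t ht
    refine ⟨?_, fun h => ctr_neg_trans hzc (c := t * δ₀) (by rw [map_mul, ht, hσδ]; ring) ?_⟩
    · simp only [ha, ha', map_add, map_mul, ht, hσδ]
      have hσL : f.σ L = f.σ A + ε * f.σ B := by rw [hL, map_add, map_mul, f.invol]
      linear_combination hiso + (f.σ t - t) * 0 + (-(t * δ₀)) * (f.σ L * (A + f.σ ε * B) - L * (f.σ A + ε * f.σ B)) * 0
        + (t * δ₀) * (f.σ L * L - L * f.σ L) * 0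
        + (-(t * t * δ₀ * δ₀ * f.σ L * L)) * hε + (t * δ₀ * L) * hσL.symm + (t * δ₀ * f.σ L) * hL
    · rw [hBzx]
      convert h using 1
      simp only [hx, hz, ha, ha', smul_add, ← Pi.single_smul, smul_eq_mul, mul_one, Pi.single_add]
      abel
  by_contra hno
  have hfail : ∀ t, f.σ t = t → a t ≠ 0 ∧ ∀ δ, δ ≠ 0 → δ + f.σ δ = 0 →
      (f.σ (a t) * a t) * (f.σ C * C) ≠ f.σ δ * δ := by
    intro t ht
    obtain ⟨h0, hback⟩ := hxt t ht
    have hat : a t ≠ 0 := fun h => hno (hback (by
      rw [h, Pi.single_zero, zero_add]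
      exact hP b r hbr _ _ (by rw [h] at h0; simpa using h0)))
    refine ⟨hat, fun δ hδ0 hδ hN => hno (hback ?_)⟩
    rcases eq_or_ne (a' t) 0 with h | h
    · rw [h, Pi.single_zero, add_zero]
      exact hP p r hpr _ _ (by rw [h] at h0; simpa using h0)
    · exact hsplit _ _ δ h0 hat h hδ0 hδ hN
  obtain ⟨S, hS, hSfix⟩ := exists_fixed hs
  have hq := two_le hs
  set F₀ := (Polynomial.nthRoots (q - 1) (1 : F)).toFinset with hF₀
  have hF₀c : F₀.card ≤ q - 1 := (Multiset.toFinset_card_le _).trans (Polynomial.card_nthRoots _ _)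
  have hfix : ∀ y : F, y ≠ 0 → f.σ y = y → y ∈ F₀ := fun y hy hy' => by
    rw [hF₀, Multiset.mem_toFinset, Polynomial.mem_nthRoots (by omega)]
    rw [hs.sig] at hy'
    refine mul_right_cancel₀ hy ?_
    rw [one_mul, ← pow_succ, show q - 1 + 1 = q by omega, hy']
  set V := S.image fun t => (f.σ (a t) * a t) * (f.σ C * C)
  set G := (S.erase 0).image fun t => f.σ (t * δ₀) * (t * δ₀)
  have hV : S.card ≤ 2 * V.card := Finset.card_le_mul_card_image S 2 fun y _ => by
    refine card_root_two (a := f.σ L * L * (f.σ δ₀ * δ₀) * (f.σ C * C))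
      (b := (f.σ A * δ₀ * L + A * f.σ δ₀ * f.σ L) * (f.σ C * C)) (c := f.σ A * A * (f.σ C * C) - y) ?_ _
      fun t ht => ?_
    · exact mul_ne_zero (mul_ne_zero (mul_ne_zero (fun h => hL0 (f.σ_eq_zero.mp h)) hL0)
        (mul_ne_zero (fun h => hδ₀0 (f.σ_eq_zero.mp h)) hδ₀0)) hCN
    · obtain ⟨ht, hy⟩ := Finset.mem_filter.mp ht
      simp only [ha, map_add, map_mul, hSfix t ht] at hy
      linear_combination hy
  have hG : (S.erase 0).card ≤ 2 * G.card := Finset.card_le_mul_card_image _ 2 fun y _ => by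
    refine card_root_two (a := f.σ δ₀ * δ₀) (b := 0) (c := -y)
      (mul_ne_zero (fun h => hδ₀0 (f.σ_eq_zero.mp h)) hδ₀0) _ fun t ht => ?_
    obtain ⟨ht, hy⟩ := Finset.mem_filter.mp ht
    simp only [map_mul, hSfix t (Finset.mem_of_mem_erase ht)] at hy
    linear_combination hy
  have hGd : ∀ t ∈ S.erase 0, t * δ₀ ≠ 0 ∧ t * δ₀ + f.σ (t * δ₀) = 0 := fun t ht =>
    ⟨mul_ne_zero (Finset.mem_erase.mp ht).1 hδ₀0, by
      rw [map_mul, hSfix t (Finset.mem_of_mem_erase ht), hσδ]; ring⟩
  have hdis : Disjoint V G := Finset.disjoint_left.mpr fun y hy hy' => by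
    obtain ⟨t, ht, rfl⟩ := Finset.mem_image.mp hy
    obtain ⟨t', ht', he⟩ := Finset.mem_image.mp hy'
    exact (hfail t (hSfix t ht)).2 _ (hGd t' ht').1 (hGd t' ht').2 he.symm
  have hsub : V ∪ G ⊆ F₀ := Finset.union_subset
    (fun y hy => by
      obtain ⟨t, ht, rfl⟩ := Finset.mem_image.mp hy
      have hat := (hfail t (hSfix t ht)).1
      exact hfix _ (mul_ne_zero (mul_ne_zero (fun h => hat (f.σ_eq_zero.mp h)) hat) hCN)
        (by simp only [map_mul, f.invol]; ring))
    (fun y hy => by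
      obtain ⟨t, ht, rfl⟩ := Finset.mem_image.mp hy
      exact hfix _ (mul_ne_zero (fun h => (hGd t ht).1 (f.σ_eq_zero.mp h)) (hGd t ht).1)
        (by simp only [map_mul, f.invol]; ring))
  have h1 := (Finset.card_le_card hsub).trans hF₀c
  rw [Finset.card_union_of_disjoint hdis] at h1
  have h2 : S.card ≤ (S.erase 0).card + 1 := by
    by_cases h0 : (0 : F) ∈ S
    · rw [Finset.card_erase_of_mem h0]; omega
    · rw [Finset.erase_eq_of_notMem h0]; omega
  omega

omit hs in
/-- Two coordinates with a prescribed product against given ones and a prescribed norm. -/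
theorem exists_vec {X Y r T : F} (hX : X ≠ 0) (hY : Y ≠ 0) (hr : r ≠ 0) (hT : f.σ T = T) :
    ∃ u v : F, f.σ X * u + f.σ Y * v = r ∧ f.σ u * u + f.σ v * v = T := by
  have hσX : f.σ X ≠ 0 := fun h => hX (f.σ_eq_zero.mp h)
  by_cases hM : f.σ X * X + f.σ Y * Y = 0
  · have hσr : f.σ r ≠ 0 := fun h => hr (f.σ_eq_zero.mp h)
    obtain ⟨d, hd⟩ := f.exists_trace (s := T - f.σ r * r / (f.σ X * X)) (by
      simp [map_div₀, f.invol, hT, mul_comm])
    obtain ⟨w, hw⟩ : ∃ w, f.σ r * w = d := ⟨d / f.σ r, by field_simp⟩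
    refine ⟨r / f.σ X + w * X, w * Y, ?_, ?_⟩
    · field_simp
      linear_combination (w * f.σ X) * 0 + w * hM
    · have key : f.σ (r / f.σ X + w * X) * (r / f.σ X + w * X) + f.σ (w * Y) * (w * Y) =
          f.σ r * r / (f.σ X * X) + (f.σ r * w + f.σ (f.σ r * w)) +
            f.σ w * w * (f.σ X * X + f.σ Y * Y) := by
        simp only [map_add, map_mul, map_div₀, f.invol]
        field_simp
        ring
      rw [key, hw, hM]
      linear_combination hd
  · set M := f.σ X * X + f.σ Y * Y with hMdef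
    have hσM : f.σ M = M := by simp only [hMdef, map_add, map_mul, f.invol]; ring
    obtain ⟨s, hs'⟩ := Cfsg.Agent.Lib.Geometry.exists_mul_conj_eq f.σ_ne f.invol
      (s := (T - f.σ r * r / M) / M) (by simp [map_div₀, f.invol, hT, hσM, mul_comm])
    refine ⟨r / M * X - s * f.σ Y, r / M * Y + s * f.σ X, ?_, ?_⟩
    · field_simp
      rw [hMdef]; ring
    · have key : f.σ (r / M * X - s * f.σ Y) * (r / M * X - s * f.σ Y) +
          f.σ (r / M * Y + s * f.σ X) * (r / M * Y + s * f.σ X) =
          (f.σ r * r / (M * M)) * M + f.σ s * s * M := by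
        simp only [map_add, map_sub, map_mul, map_div₀, f.invol, hσM]
        field_simp
        rw [hMdef]
        ring
      rw [key, hs']
      field_simp
      ring

/-- All isotropic vectors are centres. -/
theorem ctr_all (hq3 : 3 ≤ q)
    (hP : ∀ p r : ι, p ≠ r → ∀ A B : F, f.σ A * A + f.σ B * B = 0 → f.Ctr K (Pi.single p A + Pi.single r B)) :
    ∀ x, f.Iso x → f.Ctr K x := by
  classical
  suffices ∀ k, ∀ x, f.Iso x → (Finset.univ.filter fun i => x i ≠ 0).card ≤ k → f.Ctr K x from
    fun x hx => this _ x hx le_rfl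
  intro k
  induction k with
  | zero =>
    intro x _ hk
    rw [show x = 0 from funext fun i => by
      by_contra h
      have := Finset.card_pos.mpr ⟨i, (Finset.mem_filter.mpr ⟨Finset.mem_univ i, h⟩ : i ∈ Finset.univ.filter fun j => x j ≠ 0)⟩
      omega]
    exact HermF.Ctr.zero f K
  | succ k ih =>
    intro x hx hk
    set S := Finset.univ.filter fun i => x i ≠ 0 with hS
    by_cases hle : S.card ≤ k
    · exact ih x hx hle
    have hxS : x = ∑ i ∈ S, Pi.single i (x i) := by
      conv_lhs => rw [← Finset.univ_sum_single x]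
      exact (Finset.sum_subset (Finset.subset_univ S) fun i _ hi => by
        simp only [hS, Finset.mem_filter, Finset.mem_univ, true_and, not_not] at hi
        rw [hi, Pi.single_zero]).symm
    have hxx : f.B x x = ∑ i ∈ S, f.σ (x i) * x i := by
      rw [hs.form]
      exact (Finset.sum_subset (Finset.subset_univ S) fun i _ hi => by
        simp only [hS, Finset.mem_filter, Finset.mem_univ, true_and, not_not] at hi
        rw [hi, mul_zero]).symm
    rw [show f.B x x = 0 from hx] at hxx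
    have hne : ∀ i ∈ S, x i ≠ 0 := fun i hi => (Finset.mem_filter.mp hi).2
    rcases (show S.card = 1 ∨ S.card = 2 ∨ S.card = 3 ∨ 4 ≤ S.card by omega) with h | h | h | h
    · obtain ⟨i, hi⟩ := Finset.card_eq_one.mp h
      rw [hi, Finset.sum_singleton] at hxx
      exact absurd hxx.symm (mul_ne_zero (fun e => hne i (by simp [hi]) (f.σ_eq_zero.mp e)) (hne i (by simp [hi])))
    · obtain ⟨i, j, hij, hi⟩ := Finset.card_eq_two.mp h
      rw [hi, Finset.sum_pair hij] at hxx
      rw [hi, Finset.sum_pair hij] at hxS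
      rw [hxS]
      exact hP i j hij _ _ hxx.symm
    · obtain ⟨i, j, l, hij, hil, hjl, hi⟩ := Finset.card_eq_three.mp h
      rw [hi, Finset.sum_insert (by simp [hij, hil]), Finset.sum_pair hjl, ← add_assoc] at hxx hxS
      rw [hxS]
      exact ctr_triple hs hP hij hil hjl (hne i (by simp [hi])) (hne j (by simp [hi])) (hne l (by simp [hi])) hxx.symm
    obtain ⟨p, hp⟩ := Finset.card_pos.mp (show 0 < S.card by omega)
    obtain ⟨b, hb, c, hc, hbc⟩ := Finset.one_lt_card.mp (show 1 < (S.erase p).card by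
      rw [Finset.card_erase_of_mem hp]; omega)
    obtain ⟨hbp, hbS⟩ := Finset.mem_erase.mp hb
    obtain ⟨hcp, hcS⟩ := Finset.mem_erase.mp hc
    set Np := f.σ (x p) * x p with hNp
    obtain ⟨β, hβ0, hβ, hβN⟩ : ∃ β : F, β ≠ 0 ∧ β + f.σ β = 0 ∧ β ≠ Np := by
      obtain ⟨δ₀, hδ₀0, hδ₀⟩ := f.exists_trace_zero
      by_cases h : δ₀ = Np
      swap
      · exact ⟨δ₀, hδ₀0, hδ₀, h⟩
      obtain ⟨S', hS', hS'f⟩ := exists_fixed hs
      obtain ⟨t, ht, ht'⟩ := Finset.exists_mem_notMem_of_card_lt_card (s := ({0, 1} : Finset F)) (t := S')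
        (Finset.card_le_two.trans_lt (by omega))
      simp only [Finset.mem_insert, Finset.mem_singleton, not_or] at ht'
      refine ⟨t * δ₀, mul_ne_zero ht'.1 hδ₀0, by rw [map_mul, hS'f t ht]; linear_combination t * hδ₀, fun e => ht'.2 ?_⟩
      rw [← h] at e
      exact mul_right_cancel₀ hδ₀0 (by rw [one_mul]; exact e)
    obtain ⟨u, v, huv, hN⟩ := exists_vec (f := f) (hne b hbS) (hne c hcS) (r := β - Np) (T := -Np)
      (sub_ne_zero.mpr hβN) (by simp [hNp, f.invol, mul_comm])
    set w : ι → F := Pi.single p (x p) + Pi.single b u + Pi.single c v with hw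
    have hww : f.B w w = 0 := by
      simp only [hw, map_add, LinearMap.add_apply, B_single_left hs, Pi.single_eq_same, Pi.single_eq_of_ne hbp,
        Pi.single_eq_of_ne hcp, Pi.single_eq_of_ne hbc, Pi.single_eq_of_ne hbp.symm, Pi.single_eq_of_ne hcp.symm,
        Pi.single_eq_of_ne hbc.symm, mul_zero, add_zero, zero_add]
      linear_combination hN + hNp.symm
    have hxw : f.B x w = β := by
      simp only [hw, map_add, B_single_right hs]
      linear_combination huv + hNp.symm
    have hwu : f.B w (x - w) = -β := by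
      rw [map_sub, hww, sub_zero, ← f.herm x w, hxw]
      linear_combination hβ
    have huu : f.B (x - w) (x - w) = 0 := by
      simp only [map_sub, LinearMap.sub_apply, show f.B x x = 0 from hx, hww, hxw]
      rw [← f.herm x w, hxw]
      linear_combination -hβ
    have hsub : ∀ i, (x - w) i ≠ 0 → i ∈ S.erase p := fun i hi => by
      refine Finset.mem_erase.mpr ⟨fun h => hi ?_, Finset.mem_filter.mpr ⟨Finset.mem_univ i, fun h => hi ?_⟩⟩
      · subst h; simp [hw, hbp.symm, hcp.symm]
      · simp [hw, h, show i ≠ p from fun e => hne p hp (e ▸ h), show i ≠ b from fun e => hne b hbS (e ▸ h),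
          show i ≠ c from fun e => hne c hcS (e ▸ h)]
    have hu : f.Ctr K (x - w) := ih _ huu (by
      refine (Finset.card_le_card (t := S.erase p) fun i hi => hsub i (Finset.mem_filter.mp hi).2).trans ?_
      rw [Finset.card_erase_of_mem hp]; omega)
    have hwc : f.Ctr K w := ih _ hww (by
      refine (Finset.card_le_card (t := {p, b, c}) fun i hi => ?_).trans (Finset.card_le_three.trans (by omega))
      by_contra h
      simp only [Finset.mem_insert, Finset.mem_singleton, not_or] at h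
      exact (Finset.mem_filter.mp hi).2 (by simp [hw, h.1, h.2.1, h.2.2]))
    have := hwc.add hu (by rw [hwu]; exact neg_ne_zero.mpr hβ0) (by rw [add_sub_cancel]; exact hx)
    rwa [add_sub_cancel] at this

end Cfsg.Agent.Lib.ThreeTransp.DecompUni
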