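import Cfsg.Agent.S5654
import Cfsg.Agent.Lib.ThreeTransp.DecompUniSpread
import Cfsg.Agent.Lib.ThreeTransp.DecompMaxBlock

/-!
A group of isometries containing the special isometries permuting orthogonal coordinate blocks of size
at least two, and a further element, contains every transvection.
-/

set_option autoImplicit false

namespace Cfsg.Agent.Lib.ThreeTransp.DecompUni

open Cfsg.Agent.Lib.MaxSub Cfsg.Agent.Lib.ThreeTransp.DecompMax Matrix
open scoped MatrixGroups Matrix

variable {n t k : ℕ} {F : Type*} [Field F] [Fintype F] {f : HermF (Fin n) F} {q : ℕ}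

/-- The vectors supported in block `i`. -/
def blockSub (fn : Fin n → Fin t) (i : Fin t) : Submodule F (Fin n → F) where
  carrier := {v | Supp fn i v}
  add_mem' {a b} ha hb p hp := by rw [Pi.add_apply, ha p hp, hb p hp, add_zero]
  zero_mem' _ _ := rfl
  smul_mem' c a ha p hp := by rw [Pi.smul_apply, ha p hp, smul_zero]

/-- The vectors vanishing on block `i`. -/
def outSub (fn : Fin n → Fin t) (i : Fin t) : Submodule F (Fin n → F) where
  carrier := {v | ∀ p, fn p = i → v p = 0}
  add_mem' {a b} ha hb p hp := by rw [Pi.add_apply, ha p hp, hb p hp, add_zero]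
  zero_mem' _ _ := rfl
  smul_mem' c a ha p hp := by rw [Pi.smul_apply, ha p hp, smul_zero]

variable (hs : Std f q) {fn : Fin n → Fin t}

omit [Fintype F] in
theorem single_mem (p : Fin n) (c : F) : (Pi.single p c : Fin n → F) ∈ blockSub fn (fn p) := supp_single fn p c

include hs

theorem blk_orth {i : Fin t} {x : Fin n → F} (hx : x ∈ blockSub fn i) {y : Fin n → F} (hy : y ∈ outSub fn i) :
    f.B y x = 0 := by
  rw [hs.form]
  refine Finset.sum_eq_zero fun p _ => ?_
  by_cases h : fn p = i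
  · rw [hy p h, map_zero, zero_mul]
  · rw [hx p h, mul_zero]

theorem blk_orth' {i j : Fin t} (hij : i ≠ j) {x y : Fin n → F} (hx : x ∈ blockSub fn i) (hy : y ∈ blockSub fn j) :
    f.B x y = 0 :=
  blk_orth hs hy fun p hp => hx p (hp ▸ hij.symm)

theorem blk_perp {i : Fin t} : f.perp (outSub fn i) ≤ blockSub fn i := fun x hx p hp => by
  have h := hx (Pi.single p 1) fun p' hp' => by
    rw [Pi.single_eq_of_ne fun e : p' = p => hp (e ▸ hp')]
  rwa [B_single_left hs, map_one, one_mul] at h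

theorem blk_nd {i : Fin t} : ∀ x ∈ blockSub fn i, x ≠ 0 → ∃ y ∈ blockSub fn i, f.B x y ≠ 0 := by
  intro x hx hx0
  obtain ⟨p, hp⟩ := Function.ne_iff.mp hx0
  have hpi : fn p = i := not_not.mp fun h => hp (hx p h)
  refine ⟨Pi.single p 1, hpi ▸ single_mem (fn := fn) p (1 : F), ?_⟩
  rw [B_single_right hs, mul_one]
  exact fun h => hp (f.σ_eq_zero.mp h)

omit hs in
/-- The block has dimension at least `k`. -/
theorem blk_dim (e : Fin n ≃ Fin t × Fin k) (hf : ∀ p, fn p = (e p).1) (i : Fin t) :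
    k ≤ Module.finrank F (blockSub (F := F) fn i) := by
  let L : (Fin k → F) →ₗ[F] blockSub (F := F) fn i :=
    { toFun := fun v => ⟨fun p => if fn p = i then v (e p).2 else 0, fun p hp => if_neg hp⟩
      map_add' := fun v w => Subtype.ext (funext fun p => by
        simp only [Submodule.coe_add, Pi.add_apply]
        split_ifs <;> simp)
      map_smul' := fun c v => Subtype.ext (funext fun p => by
        simp only [RingHom.id_apply, Submodule.coe_smul, Pi.smul_apply]
        split_ifs <;> simp) }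
  have hL : Function.Injective L := fun v w h => funext fun j => by
    have h1 := congrFun (congrArg Subtype.val h) (e.symm (i, j))
    simpa [L, hf] using h1
  have := LinearMap.finrank_le_finrank_of_injective hL
  rwa [Module.finrank_fintype_fun_eq_card, Fintype.card_fin] at this

omit hs in
/-- Moving a vector of a block, changing the other blocks by a rank one map along `a` only. -/
theorem exists_move' {X Y : Submodule F (Fin n → F)} (horth : ∀ y ∈ Y, ∀ x ∈ X, f.B y x = 0)
    (hperp : f.perp Y ≤ X) (hdisj : ∀ x ∈ X, x ∈ Y → x = 0) {x x' a : Fin n → F} (hx : x ∈ X) (hx' : x' ∈ X)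
    (hx0 : x ≠ 0) (hx'0 : x' ≠ 0) (hn : f.B x' x' = f.B x x) (hai : ¬ f.Iso a) (ha : a ∈ X ∨ a ∈ Y)
    (hax : f.B a x' = 0) :
    ∃ (g : GL (Fin n) F) (κ : F), f.Preserves g ∧ g.val.det = 1 ∧ (∀ z ∈ X, g.val *ᵥ z ∈ X) ∧
      g.val *ᵥ x = x' ∧ ∀ y ∈ Y, g.val *ᵥ y = y + (κ * f.B a y) • a := by
  classical
  obtain ⟨μ, hμY, hμx⟩ := exists_functional Y (x := x) fun h => hx0 (hdisj x hx h)
  let T : (Fin n → F) →ₗ[F] (Fin n → F) :=
    LinearMap.mk (AddHom.mk (fun z => z + (μ ⬝ᵥ z) • (x' - x)) (fun z z' => by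
      simp only [dotProduct_add]; module)) (fun c z => by
      simp only [dotProduct_smul, RingHom.id_apply, smul_eq_mul]; module)
  set S := Y ⊔ (F ∙ x) with hS
  have hmem : ∀ z ∈ S, ∃ w ∈ Y, ∃ s : F, z = w + s • x := fun z hz => by
    obtain ⟨w, hw, r, hr, rfl⟩ := Submodule.mem_sup.mp hz
    obtain ⟨s, rfl⟩ := Submodule.mem_span_singleton.mp hr
    exact ⟨w, hw, s, rfl⟩
  have hT : ∀ w ∈ Y, ∀ s : F, T (w + s • x) = w + s • x' := fun w hw s => by
    show (w + s • x) + (μ ⬝ᵥ (w + s • x)) • (x' - x) = _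
    rw [dotProduct_add, hμY w hw, dotProduct_smul, hμx, zero_add, smul_eq_mul, mul_one]
    module
  have hinj : Function.Injective (T.comp S.subtype) := by
    rw [← LinearMap.ker_eq_bot, eq_bot_iff]
    intro z hz
    rw [LinearMap.mem_ker] at hz
    obtain ⟨w, hw, s, hzs⟩ := hmem z z.2
    have h0 : w + s • x' = 0 := by rw [← hT w hw s, ← hzs]; exact hz
    have hw0 : w = 0 := hdisj w (by rw [eq_neg_of_add_eq_zero_left h0]; exact X.neg_mem (X.smul_mem _ hx')) hw
    rw [hw0, zero_add] at h0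
    refine (Submodule.mem_bot F).mpr (Subtype.ext ?_)
    rw [hzs, hw0, (smul_eq_zero.mp h0).resolve_right hx'0, zero_smul, add_zero]
    rfl
  have hiso : ∀ z z' : S, f.B (T.comp S.subtype z) (T.comp S.subtype z') = f.B (z : Fin n → F) (z' : Fin n → F) := by
    intro z z'
    obtain ⟨w, hw, s, hzs⟩ := hmem z z.2
    obtain ⟨w', hw', s', hzs'⟩ := hmem z' z'.2
    show f.B (T (z : Fin n → F)) (T (z' : Fin n → F)) = _
    rw [hzs, hzs', hT w hw s, hT w' hw' s']
    simp only [map_add, map_smul, LinearMap.map_smulₛₗ, LinearMap.add_apply, LinearMap.smul_apply, smul_eq_mul,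
      horth w hw x hx, horth w hw x' hx', f.eq_zero_comm (horth w' hw' x hx), f.eq_zero_comm (horth w' hw' x' hx'), hn]
  obtain ⟨g₀, hg₀, hg₀S⟩ :=
    Cfsg.Agent.Lib.Geometry.witt_hermitian f.B f.σ_ne f.invol f.symm f.nondeg S (T.comp S.subtype) hinj hiso
  let g₁ : GL (Fin n) F := Matrix.GeneralLinearGroup.toLin.symm
    ((LinearMap.GeneralLinearGroup.generalLinearEquiv F (Fin n → F)).symm g₀)
  have hg₁ : ∀ z, g₁.val *ᵥ z = g₀ z := fun z => LinearMap.toMatrix'_mulVec _ z
  have hpres : f.Preserves g₁ := fun u u' => by rw [hg₁, hg₁, hg₀]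
  have hY1 : ∀ w ∈ Y, g₁.val *ᵥ w = w := fun w hw => by
    have h := hg₀S ⟨w, Submodule.mem_sup_left hw⟩
    change g₀ w = T w at h
    have h' := hT w hw 0
    rw [zero_smul, add_zero, zero_smul, add_zero] at h'
    rw [hg₁, h, h']
  have hx1 : g₁.val *ᵥ x = x' := by
    have h := hg₀S ⟨x, Submodule.mem_sup_right (Submodule.mem_span_singleton_self x)⟩
    change g₀ x = T x at h
    have h' := hT 0 Y.zero_mem 1
    rw [zero_add, one_smul, zero_add, one_smul] at h'
    rw [hg₁, h, h']
  set c := (f.σ g₁.val.det - 1) / f.B a a with hc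
  have hB : f.B a a ≠ 0 := hai
  have hdn : f.σ g₁.val.det * g₁.val.det = 1 := f.det_norm hpres
  set A : Matrix (Fin n) (Fin n) F := tvMat a (c • f.psi a) with hA
  have happ : ∀ z, A *ᵥ z = z + (c * f.B a z) • a := fun z => by
    rw [hA, tvMat_mulVec, smul_dotProduct, f.psi_dot, smul_eq_mul]
  have hdet : A.det = f.σ g₁.val.det := by
    rw [hA, tvMat, Matrix.vecMulVec_eq Unit, Matrix.det_one_add_replicateCol_mul_replicateRow, smul_dotProduct,
      f.psi_dot, smul_eq_mul, hc]
    field_simp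
    ring
  let Q : GL (Fin n) F := Matrix.GeneralLinearGroup.mkOfDetNeZero A (by
    rw [hdet]; exact fun h => one_ne_zero (by rw [← hdn, h, zero_mul]))
  have hQ : f.Preserves Q := fun u v => by
    show f.B (A *ᵥ u) (A *ᵥ v) = _
    simp only [happ, map_add, LinearMap.map_smulₛₗ, LinearMap.add_apply, LinearMap.smul_apply, map_smul,
      smul_eq_mul, map_mul, f.herm]
    have h1 : f.σ c + c + f.σ c * c * f.B a a = 0 := by
      rw [hc, map_div₀, map_sub, map_one, f.herm, f.invol]
      field_simp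
      linear_combination hdn
    linear_combination (f.B u a * f.B a v) * h1
  refine ⟨Q * g₁, c, hQ.mul hpres, ?_, fun z hz => ?_, ?_, fun y hy => ?_⟩
  · rw [Units.val_mul, Matrix.det_mul]
    show A.det * _ = 1
    rw [hdet, hdn]
  · have hz1 : g₁.val *ᵥ z ∈ X := hperp fun w hw => by
      rw [← hY1 w hw, hpres, horth w hw z hz]
    rw [Units.val_mul, ← Matrix.mulVec_mulVec]
    show A *ᵥ _ ∈ X
    rw [happ]
    rcases ha with ha | ha
    · exact X.add_mem hz1 (X.smul_mem _ ha)
    · rw [horth a ha _ hz1, mul_zero, zero_smul, add_zero]; exact hz1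
  · rw [Units.val_mul, ← Matrix.mulVec_mulVec, hx1]
    show A *ᵥ x' = x'
    rw [happ, hax, mul_zero, zero_smul, add_zero]
  · rw [Units.val_mul, ← Matrix.mulVec_mulVec, hY1 y hy]
    show A *ᵥ y = _
    exact happ y

omit hs in
theorem blk_disj {i : Fin t} : ∀ x ∈ blockSub (F := F) fn i, x ∈ outSub fn i → x = 0 := fun x hx hx' =>
  funext fun p => if h : fn p = i then hx' p h else hx p h

variable {K : Subgroup (GL (Fin n) F)} (hn : 13 ≤ n) (e : Fin n ≃ Fin t × Fin k) (hf : ∀ p, fn p = (e p).1)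
  (hk : 2 ≤ k) (hK : ∀ g : GL (Fin n) F, f.Preserves g → g.val.det = 1 → Blk fn g → g ∈ K)
  (hKp : ∀ g ∈ K, f.Preserves g)

include hK hf in
/-- Moving inside a block by an element of `K`, fixing a vector outside. -/
theorem block_move {i : Fin t} {x x' y : Fin n → F} (hx : x ∈ blockSub fn i) (hx' : x' ∈ blockSub fn i)
    (hx0 : x ≠ 0) (hx'0 : x' ≠ 0) (hnorm : f.B x' x' = f.B x x) (hy : y ∈ outSub fn i)
    (hor : 3 ≤ k ∨ ∃ p, fn p ≠ i ∧ y p = 0) :
    ∃ g ∈ K, f.Preserves g ∧ g.val *ᵥ x = x' ∧ g.val *ᵥ y = y := by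
  have hfix : ∀ a : Fin n → F, ¬ f.Iso a → (a ∈ blockSub fn i ∨ ∃ p, fn p ≠ i ∧ y p = 0 ∧ a = Pi.single p 1) →
      f.B a x' = 0 → ∃ g ∈ K, f.Preserves g ∧ g.val *ᵥ x = x' ∧ g.val *ᵥ y = y := by
    intro a hai ha hax
    have ha' : a ∈ blockSub fn i ∨ a ∈ outSub fn i := ha.imp id fun ⟨p, hp, _, hap⟩ p' hp' => by
      rw [hap, Pi.single_eq_of_ne fun e' : p' = p => hp (e' ▸ hp')]
    obtain ⟨g, κ, hgp, hgd, hgX, hgx, hgY⟩ := exists_move' (fun y hy x hx => blk_orth hs hx hy)
      (blk_perp hs) blk_disj hx hx' hx0 hx'0 hnorm hai ha' hax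
    have hBy : f.B a y = 0 := by
      rcases ha with ha | ⟨p, -, hyp, rfl⟩
      · exact f.eq_zero_comm (blk_orth hs ha hy)
      · rw [B_single_left hs, hyp, mul_zero]
    refine ⟨g, hK g hgp hgd ⟨1, fun p r hpr => ?_⟩, hgp, hgx, by rw [hgY y hy, hBy, mul_zero, zero_smul, add_zero]⟩
    rw [Equiv.Perm.one_apply]
    by_contra hne
    refine hpr ?_
    by_cases hr : fn r = i
    · have h := hgX _ (hr ▸ single_mem (fn := fn) r (1 : F)) p (hr ▸ hne)
      rwa [Matrix.mulVec_single_one, Matrix.col_apply] at h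
    · have h := congrFun (hgY (Pi.single r 1) fun p' hp' => by
        rw [Pi.single_eq_of_ne fun e' : p' = r => hr (e' ▸ hp')]) p
      rw [Matrix.mulVec_single_one, Matrix.col_apply] at h
      rw [h, Pi.add_apply, Pi.single_eq_of_ne fun e' : p = r => hne (e' ▸ rfl), Pi.smul_apply, smul_eq_mul,
        B_single_right hs]
      rcases ha with ha | ⟨p', -, -, rfl⟩
      · rw [ha r hr, map_zero]; ring
      · rcases eq_or_ne r p' with rfl | h'
        · rw [Pi.single_eq_of_ne fun e' : p = r => hne (e' ▸ rfl)]; ring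
        · rw [Pi.single_eq_of_ne h', map_zero]; ring
  rcases hor with h3 | ⟨p, hp, hyp⟩
  · obtain ⟨a, ha, hax, hai⟩ := Cfsg.Agent.S5654.exists_aniso (blk_nd hs (fn := fn) (i := i))
      (h3.trans (blk_dim e hf i)) x'
    exact hfix a hai (Or.inl ha) (f.eq_zero_comm hax)
  · refine hfix _ ?_ (Or.inr ⟨p, hp, hyp, rfl⟩) (by rw [B_single_left hs, hx' p hp, mul_zero])
    show ¬ f.B _ _ = 0
    simp [B_single_left hs]

include hf hk in
theorem blk_pair (i : Fin t) :
    ∃ e₁ ∈ blockSub (F := F) fn i, ∃ e₂ ∈ blockSub (F := F) fn i, f.Iso e₁ ∧ f.Iso e₂ ∧ f.B e₁ e₂ = 1 :=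
  Cfsg.Agent.S5654.exists_pair (blk_nd hs) (hk.trans (blk_dim e hf i))

include hf hk in
/-- An isotropic vector of a block not orthogonal to a given vector with a component there. -/
theorem exists_iso_ne {i : Fin t} {v : Fin n → F} {p : Fin n} (hp : fn p = i) (hv : v p ≠ 0) :
    ∃ z ∈ blockSub fn i, f.Iso z ∧ f.B v z ≠ 0 := by
  obtain ⟨e₁, h1, e₂, h2, i1, i2, h12⟩ := blk_pair hs e hf hk i
  by_contra! hall
  have h := f.le_span_iso_of_pair _ h1 h2 i1 i2 h12 (hp ▸ single_mem (fn := fn) p (1 : F))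
  suffices ∀ y ∈ Submodule.span F {w | w ∈ blockSub fn i ∧ f.Iso w}, f.B v y = 0 by
    have h' := this _ h
    rw [B_single_right hs, mul_one] at h'
    exact hv (f.σ_eq_zero.mp h')
  intro y hy
  induction hy using Submodule.span_induction with
  | mem w hw => exact hall w hw.1 hw.2
  | zero => rw [map_zero]
  | add a b _ _ ha hb => rw [map_add, ha, hb, add_zero]
  | smul c a _ ha => rw [map_smul, ha, smul_zero]

include hn hf hk hK hKp in
/-- All isotropic vectors are centres. -/
theorem ctr_all_block (hqk : 3 ≤ q ∨ 3 ≤ k) {g₀ : GL (Fin n) F} (hg₀ : g₀ ∈ K) (hg₀b : ¬ Blk fn g₀) :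
    ∀ x, f.Iso x → f.Ctr K x := by
  classical
  have hC : ∀ i, ∀ z ∈ blockSub (F := F) fn i, f.Iso z → f.Ctr K z := fun i z hz hzi => by
    refine ⟨hzi, fun c hc => hK _ (f.trans_preserves z hzi hc) (det_of_mem_sl (tv_mem_specialLinear _ _ _))
      (blk_of_tvMat rfl hz fun p hp => ?_)⟩
    rw [Pi.smul_apply, show f.psi z p = f.B z (Pi.single p 1) from rfl, B_single_right hs, hz p hp]
    simp
  have hres : ∀ i (v : Fin n → F), res fn i v ∈ blockSub (F := F) fn i := fun i v => supp_res fn i v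
  have hthird : ∀ i j : Fin t, ∀ y ∈ blockSub (F := F) fn j, 3 ≤ k ∨ ∃ p, fn p ≠ i ∧ y p = 0 := fun i j y hy => by
    by_cases h3 : 3 ≤ k
    · exact Or.inl h3
    right
    obtain ⟨l, -, hl⟩ := Finset.exists_mem_notMem_of_card_lt_card (s := ({i, j} : Finset (Fin t))) (t := Finset.univ)
      (Finset.card_le_two.trans_lt (by
        rw [Finset.card_univ, Fintype.card_fin]
        have hcard := Fintype.card_congr e
        rw [Fintype.card_fin, Fintype.card_prod, Fintype.card_fin, Fintype.card_fin] at hcard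
        nlinarith))
    simp only [Finset.mem_insert, Finset.mem_singleton, not_or] at hl
    have hp : fn (e.symm (l, ⟨0, by omega⟩)) = l := by rw [hf, Equiv.apply_symm_apply]
    exact ⟨_, hp.symm ▸ hl.1, hy _ (hp.symm ▸ hl.2)⟩
  have hout : ∀ {i j : Fin t}, i ≠ j → ∀ y ∈ blockSub (F := F) fn j, y ∈ outSub (F := F) fn i :=
    fun hij y hy p hp => hy p (hp ▸ hij)
  have hrep : ∀ i j, i ≠ j → ∀ w ∈ blockSub (F := F) fn i, ∀ u ∈ blockSub (F := F) fn j,
      ∀ w' ∈ blockSub (F := F) fn i, ∀ u' ∈ blockSub (F := F) fn j, w ≠ 0 → u ≠ 0 → w' ≠ 0 → u' ≠ 0 →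
      f.B w' w' = f.B w w → f.B u' u' = f.B u u → f.Ctr K (w + u) → f.Ctr K (w' + u') := by
    intro i j hij w hw u hu w' hw' u' hu' hw0 hu0 hw'0 hu'0 hNw hNu hctr
    obtain ⟨g₁, hg₁, hg₁p, hg₁w, hg₁u⟩ := block_move hs e hf hK hw hw' hw0 hw'0 hNw (hout hij u hu) (hthird i j u hu)
    obtain ⟨g₂, hg₂, hg₂p, hg₂u, hg₂w⟩ := block_move hs e hf hK hu hu' hu0 hu'0 hNu (hout hij.symm w' hw')
      (hthird j i w' hw')
    have h := (hctr.of_conj hg₁ hg₁p).of_conj hg₂ hg₂p
    rwa [Matrix.mulVec_add, Matrix.mulVec_add, hg₁w, hg₁u, hg₂w, hg₂u] at h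
  have hBsum : ∀ i j, i ≠ j → ∀ w ∈ blockSub (F := F) fn i, ∀ u ∈ blockSub (F := F) fn j,
      f.B (w + u) (w + u) = f.B w w + f.B u u := fun i j hij w hw u hu => by
    simp only [map_add, LinearMap.add_apply, blk_orth' hs hij hw hu, blk_orth' hs hij.symm hu hw]
    ring
  -- a centre with two components
  obtain ⟨i₀, j₀, hij₀, v, hv, p₀, hp₀, hvp₀, r₀, hr₀, hvr₀⟩ : ∃ i j, i ≠ j ∧ ∃ v, f.Ctr K v ∧
      ∃ p, fn p = i ∧ v p ≠ 0 ∧ ∃ r, fn r = j ∧ v r ≠ 0 := by
    by_contra! hno
    have hone : ∀ i, ∀ z ∈ blockSub (F := F) fn i, f.Iso z → ∀ p r, (g₀.val *ᵥ z) p ≠ 0 → (g₀.val *ᵥ z) r ≠ 0 →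
        fn p = fn r := fun i z hz hzi p r hp hr => by
      by_contra hne
      exact hr (hno (fn p) (fn r) hne _ ((hC i z hz hzi).of_conj hg₀ (hKp g₀ hg₀)) p rfl hp r rfl)
    have hblock : ∀ i, ∃ j, ∀ z ∈ blockSub (F := F) fn i, g₀.val *ᵥ z ∈ blockSub (F := F) fn j := by
      intro i
      obtain ⟨e₁, h1, e₂, h2, i1, i2, h12⟩ := blk_pair hs e hf hk i
      have he₁ : g₀.val *ᵥ e₁ ≠ 0 := fun h => by
        have := val_mulVec_injective g₀ (h.trans (Matrix.mulVec_zero _).symm)
        simp [this] at h12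
      obtain ⟨p, hp⟩ := Function.ne_iff.mp he₁
      refine ⟨fn p, fun z hz => ?_⟩
      suffices ∀ y ∈ Submodule.span F {w | w ∈ blockSub fn i ∧ f.Iso w}, g₀.val *ᵥ y ∈ blockSub (F := F) fn (fn p) from
        this z (f.le_span_iso_of_pair _ h1 h2 i1 i2 h12 hz)
      intro y hy
      induction hy using Submodule.span_induction with
      | zero => rw [Matrix.mulVec_zero]; exact zero_mem _
      | add a b _ _ ha hb => rw [Matrix.mulVec_add]; exact add_mem ha hb
      | smul c a _ ha => rw [Matrix.mulVec_smul]; exact Submodule.smul_mem _ c ha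
      | mem w hw =>
        obtain ⟨hwb, hwi⟩ := hw
        intro r hr
        by_contra hr0
        have hrw : ∀ r', fn r' ≠ fn r → (g₀.val *ᵥ w) r' = 0 := fun r' h' =>
          not_not.mp fun h0 => h' (hone i w hwb hwi r' r h0 hr0)
        have hre : ∀ r', fn r' ≠ fn p → (g₀.val *ᵥ e₁) r' = 0 := fun r' h' =>
          not_not.mp fun h0 => h' (hone i e₁ h1 i1 r' p h0 hp)
        have horth : f.B e₁ w = 0 := by
          rw [← hKp g₀ hg₀]
          exact blk_orth' hs (Ne.symm hr) hre hrw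
        have hsum : f.Iso (e₁ + w) := by
          show f.B _ _ = 0
          simp only [map_add, LinearMap.add_apply, show f.B e₁ e₁ = 0 from i1, show f.B w w = 0 from hwi, horth,
            f.eq_zero_comm horth, add_zero]
        exact hr (hone i _ (add_mem h1 hwb) hsum r p
          (by rw [Matrix.mulVec_add, Pi.add_apply, hre r hr, zero_add]; exact hr0)
          (by rw [Matrix.mulVec_add, Pi.add_apply, hrw p (Ne.symm hr), add_zero]; exact hp))
    choose τ hτ using hblock
    have hent : ∀ p r, g₀.val p r ≠ 0 → fn p = τ (fn r) := fun p r h => by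
      by_contra hne
      have h1 := hτ (fn r) _ (single_mem r 1) p hne
      rw [Matrix.mulVec_single_one, Matrix.col_apply] at h1
      exact h h1
    have hsurj : Function.Surjective τ := fun i => by
      obtain ⟨r, hr⟩ := exists_row_ne g₀ (e.symm (i, ⟨0, by omega⟩))
      exact ⟨fn r, by rw [← hent _ _ hr, hf, Equiv.apply_symm_apply]⟩
    exact hg₀b ⟨Equiv.ofBijective τ ⟨Finite.injective_iff_surjective.mpr hsurj, hsurj⟩, hent⟩
  obtain ⟨δ₀, hδ₀0, hδ₀⟩ := f.exists_trace_zero
  -- isotropic components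
  obtain ⟨z₁, hz₁, z₂, hz₂, hz₁0, hz₂0, hz₁i, hz₂i, hzc⟩ : ∃ z₁ ∈ blockSub (F := F) fn i₀,
      ∃ z₂ ∈ blockSub (F := F) fn j₀, z₁ ≠ 0 ∧ z₂ ≠ 0 ∧ f.B z₁ z₁ = 0 ∧ f.B z₂ z₂ = 0 ∧ f.Ctr K (z₁ + z₂) := by
    obtain ⟨a, ha, hai, hva⟩ := exists_iso_ne hs e hf hk hp₀ hvp₀
    have ha0 : a ≠ 0 := fun h => hva (by rw [h, map_zero])
    have hav : f.B a v ≠ 0 := fun h => hva (f.eq_zero_comm h)
    have hcδ : δ₀ * f.B a v ≠ 0 := mul_ne_zero hδ₀0 hav
    have hvv : f.B v v = 0 := hv.1
    have hfinish : ∀ (s : F) (b : Fin n → F), s ≠ 0 → b ∈ blockSub fn j₀ → b ≠ 0 → f.B b b = 0 →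
        f.B v (s • a + b) ≠ 0 → f.Ctr K (v + (s • a + b)) →
        ∃ z₁ ∈ blockSub (F := F) fn i₀, ∃ z₂ ∈ blockSub (F := F) fn j₀, z₁ ≠ 0 ∧ z₂ ≠ 0 ∧ f.B z₁ z₁ = 0 ∧
          f.B z₂ z₂ = 0 ∧ f.Ctr K (z₁ + z₂) := by
      intro s b hs0 hb hb0 hbi hne hc'
      have haa : f.B (s • a) (s • a) = 0 := hai.smul s
      have h := (hv.smul (-1)).add hc' (by
        rw [LinearMap.map_smulₛₗ, LinearMap.smul_apply, map_add, hvv, zero_add, map_neg, map_one, smul_eq_mul,
          neg_one_mul]
        exact neg_ne_zero.mpr hne) (by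
        show f.B _ _ = 0
        rw [show (-1 : F) • v + (v + (s • a + b)) = s • a + b by module,
          hBsum i₀ j₀ hij₀ _ (Submodule.smul_mem _ s ha) b hb, haa, hbi, add_zero])
      rw [show (-1 : F) • v + (v + (s • a + b)) = s • a + b by module] at h
      exact ⟨s • a, Submodule.smul_mem _ s ha, b, hb, smul_ne_zero hs0 ha0, hb0, haa, hbi, h⟩
    have h1 := hv.of_conj ((hC i₀ a ha hai).2 δ₀ hδ₀) (f.trans_preserves a hai hδ₀)
    rw [f.trans_mulVec] at h1
    rcases hqk with hq3 | hk3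
    · obtain ⟨b, hb, hbi, hvb⟩ := exists_iso_ne hs e hf hk hr₀ hvr₀
      have hbv : f.B b v ≠ 0 := fun h => hvb (f.eq_zero_comm h)
      obtain ⟨S, hS, hSf⟩ := exists_fixed hs
      obtain ⟨c, hc, hc'⟩ := Finset.exists_mem_notMem_of_card_lt_card
        (s := ({0, -(f.B v a * f.B a v / (f.B v b * f.B b v))} : Finset F)) (t := S)
        (Finset.card_le_two.trans_lt (by omega))
      simp only [Finset.mem_insert, Finset.mem_singleton, not_or] at hc'
      have hδc : c * δ₀ + f.σ (c * δ₀) = 0 := by rw [map_mul, hSf c hc]; linear_combination c * hδ₀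
      have h2 := h1.of_conj ((hC j₀ b hb hbi).2 _ hδc) (f.trans_preserves b hbi hδc)
      rw [f.trans_mulVec, map_add, map_smul, f.eq_zero_comm (blk_orth' hs hij₀ ha hb), smul_zero, add_zero,
        add_assoc] at h2
      have hs0 : c * δ₀ * f.B b v ≠ 0 := mul_ne_zero (mul_ne_zero hc'.1 hδ₀0) hbv
      refine hfinish _ _ hcδ (Submodule.smul_mem _ _ hb) (smul_ne_zero hs0 fun h => hvb (by rw [h, map_zero]))
        (hbi.smul _) ?_ h2
      rw [map_add, map_smul, map_smul, smul_eq_mul, smul_eq_mul]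
      intro h
      refine hc'.2 ?_
      field_simp
      apply mul_left_cancel₀ hδ₀0
      linear_combination h
    · set cj := res fn j₀ v with hcj
      have hcj0 : cj ≠ 0 := fun h => hvr₀ (by simpa [hcj, res, hr₀] using congrFun h r₀)
      obtain ⟨z', hz', hz'0, hz'i, hz'c, hne⟩ : ∃ z' ∈ blockSub (F := F) fn j₀, z' ≠ 0 ∧ f.B z' z' = 0 ∧
          f.B cj z' = 0 ∧ cj + z' ≠ 0 := by
        by_cases hci : f.B cj cj = 0
        · obtain ⟨S, hS, -⟩ := exists_circle hs
          have hq2 := two_le hs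
          obtain ⟨l, -, hl⟩ := Finset.exists_mem_notMem_of_card_lt_card (s := ({0, -1} : Finset F)) (t := S)
            (Finset.card_le_two.trans_lt (by omega))
          simp only [Finset.mem_insert, Finset.mem_singleton, not_or] at hl
          refine ⟨l • cj, Submodule.smul_mem _ l (hres _ _), smul_ne_zero hl.1 hcj0, ?_, by
            rw [map_smul, hci, smul_zero], fun h => hl.2 ?_⟩
          · simp [LinearMap.map_smulₛₗ, hci]
          · have h' : (1 + l) • cj = 0 := by rw [add_smul, one_smul]; exact h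
            exact eq_neg_of_add_eq_zero_right ((smul_eq_zero.mp h').resolve_right hcj0)
        · set X := blockSub (F := F) fn j₀ ⊓ f.perp (F ∙ cj)
          have hXnd : ∀ y ∈ X, y ≠ 0 → ∃ z ∈ X, f.B y z ≠ 0 := by
            intro y hy hy0
            obtain ⟨z, hz, hyz⟩ := blk_nd hs y hy.1 hy0
            refine ⟨z - (f.B cj z / f.B cj cj) • cj, ⟨Submodule.sub_mem _ hz (Submodule.smul_mem _ _ (hres _ _)),
              f.mem_perp_span.mpr (by rw [map_sub, map_smul, smul_eq_mul, div_mul_cancel₀ _ hci, sub_self])⟩, ?_⟩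
            rwa [map_sub, map_smul, f.eq_zero_comm (f.mem_perp_span.mp hy.2), smul_zero, sub_zero]
          obtain ⟨e₁, he₁, e₂, -, he₁i, -, h12⟩ := Cfsg.Agent.S5654.exists_pair hXnd (by
            have h1 := Submodule.finrank_sup_add_finrank_inf_eq (blockSub (F := F) fn j₀) (f.perp (F ∙ cj))
            have h2 := f.finrank_perp_ge (F ∙ cj)
            have h3 := finrank_span_singleton (K := F) hcj0
            have h4 := Submodule.finrank_le (blockSub (F := F) fn j₀ ⊔ f.perp (F ∙ cj))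
            have h5 := blk_dim (F := F) e hf j₀
            rw [Module.finrank_fintype_fun_eq_card] at h4
            show 2 ≤ Module.finrank F (blockSub (F := F) fn j₀ ⊓ f.perp (F ∙ cj) : Submodule F (Fin n → F))
            omega)
          have hce : f.B cj e₁ = 0 := f.mem_perp_span.mp he₁.2
          refine ⟨e₁, he₁.1, fun h => by simp [h] at h12, he₁i, hce, fun h => hci ?_⟩
          have := congrArg (f.B cj) h
          rwa [map_add, hce, add_zero, map_zero] at this
      set v₁ := v + (δ₀ * f.B a v) • a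
      obtain ⟨g, hg, hgp, hgx, hgy⟩ := block_move hs e hf hK (hres j₀ v) (add_mem (hres j₀ v) hz') hcj0 hne
        (by simp only [map_add, LinearMap.add_apply, ← hcj, hz'i, hz'c, f.eq_zero_comm hz'c, add_zero])
        (y := v₁ - cj) (fun p hp => by
          simp [v₁, hcj, res, hp, ha p (hp ▸ hij₀.symm)]) (Or.inl hk3)
      have h2 := h1.of_conj hg hgp
      rw [show v₁ = cj + (v₁ - cj) by abel, Matrix.mulVec_add, hgx, hgy,
        show cj + z' + (v₁ - cj) = v + ((δ₀ * f.B a v) • a + z') by simp only [v₁]; abel] at h2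
      refine hfinish _ _ hcδ hz' hz'0 hz'i ?_ h2
      have hvz : f.B v z' = 0 := by
        rw [← hz'c, hcj, hs.form, hs.form]
        refine Finset.sum_congr rfl fun p _ => ?_
        by_cases hp : fn p = j₀
        · simp [res, hp]
        · rw [hz' p hp, mul_zero, mul_zero]
      rw [map_add, map_smul, smul_eq_mul, hvz, add_zero]
      exact mul_ne_zero hcδ hva
  -- isotropic components in all pairs of blocks
  have hzero : ∀ i j, i ≠ j → ∀ w ∈ blockSub (F := F) fn i, ∀ u ∈ blockSub (F := F) fn j, w ≠ 0 → u ≠ 0 →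
      f.B w w = 0 → f.B u u = 0 → f.Ctr K (w + u) := by
    intro i j hij w hw u hu hw0 hu0 hww huu
    set σ₁ : Equiv.Perm (Fin t) := Equiv.swap i₀ i
    have hne : σ₁ j₀ ≠ i := fun h => hij₀ (σ₁.injective (by rw [Equiv.swap_apply_left]; exact h.symm))
    set σ := σ₁.trans (Equiv.swap (σ₁ j₀) j)
    have hσi : σ i₀ = i := by simp [σ, σ₁, Equiv.swap_apply_of_ne_of_ne hne.symm hij]
    have hσj : σ j₀ = j := by simp [σ]
    set π : Equiv.Perm (Fin n) := e.trans ((σ.prodCongr (Equiv.refl _)).trans e.symm)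
    have hπ : ∀ r, fn (π r) = σ (fn r) := fun r => by simp [π, hf]
    obtain ⟨M, d, hMp, hMd, -, hMe, -, hMa, -, -⟩ := exists_umono hs π (fun _ => (1 : F)) (by simp) p₀
    have hMK : M ∈ K := hK M hMp hMd ⟨σ, fun p r h => by
      rw [hMe] at h
      rw [show p = π r from not_not.mp fun h' => h (if_neg h'), hπ]⟩
    have hmap : ∀ l, ∀ z ∈ blockSub (F := F) fn l, M.val *ᵥ z ∈ blockSub (F := F) fn (σ l) := fun l z hz p hp => by
      obtain ⟨r, rfl⟩ := π.surjective p
      rw [hMa, hz r (fun h => hp (by rw [hπ, h])), mul_zero]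
    have h := hzc.of_conj hMK hMp
    rw [Matrix.mulVec_add] at h
    have hne0 : ∀ z : Fin n → F, z ≠ 0 → M.val *ᵥ z ≠ 0 := fun z hz h' =>
      hz (val_mulVec_injective M (h'.trans (Matrix.mulVec_zero _).symm))
    exact hrep i j hij _ (hσi ▸ hmap i₀ z₁ hz₁) _ (hσj ▸ hmap j₀ z₂ hz₂) w hw u hu (hne0 _ hz₁0) (hne0 _ hz₂0)
      hw0 hu0 (by rw [hMp, hz₁i, hww]) (by rw [hMp, hz₂i, huu]) h
  have htwo : ∀ i j, i ≠ j → ∀ w ∈ blockSub (F := F) fn i, ∀ u ∈ blockSub (F := F) fn j, w ≠ 0 → u ≠ 0 →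
      f.B w w + f.B u u = 0 → f.Ctr K (w + u) := by
    intro i j hij w hw u hu hw0 hu0 hiso
    by_cases hN : f.B w w = 0
    · exact hzero i j hij w hw u hu hw0 hu0 hN (by rw [hN, zero_add] at hiso; exact hiso)
    obtain ⟨a, ha, a', ha', hai, ha'i, haa'⟩ := blk_pair hs e hf hk i
    obtain ⟨b, hb, b', hb', hbi, hb'i, hbb'⟩ := blk_pair hs e hf hk j
    obtain ⟨d, hd⟩ := f.exists_trace (f.herm w w)
    have hd0 : d ≠ 0 := fun h => hN (by rw [← hd, h, map_zero, add_zero])
    have hβd : δ₀ - d ≠ 0 := fun h => hN (by rw [← hd, ← sub_eq_zero.mp h]; exact hδ₀)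
    have aa : f.B a a = 0 := hai
    have a'a' : f.B a' a' = 0 := ha'i
    have bb : f.B b b = 0 := hbi
    have b'b' : f.B b' b' = 0 := hb'i
    have a'a : f.B a' a = 1 := by rw [← f.herm a a', haa', map_one]
    have b'b : f.B b' b = 1 := by rw [← f.herm b b', hbb', map_one]
    have hne : ∀ {x y : Fin n → F}, f.B x y = 1 → x ≠ 0 ∧ y ≠ 0 := fun h =>
      ⟨fun h' => by simp [h'] at h, fun h' => by simp [h'] at h⟩
    have h1 := hzero i j hij a ha b hb (hne haa').1 (hne hbb').1 aa bb
    have h2 := hzero i j hij (d • a') (Submodule.smul_mem _ _ ha') ((δ₀ - d) • b') (Submodule.smul_mem _ _ hb')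
      (smul_ne_zero hd0 (hne haa').2) (smul_ne_zero hβd (hne hbb').2) (ha'i.smul _) (hb'i.smul _)
    have hw₁ : a + d • a' ∈ blockSub (F := F) fn i := add_mem ha (Submodule.smul_mem _ _ ha')
    have hu₁ : b + (δ₀ - d) • b' ∈ blockSub (F := F) fn j := add_mem hb (Submodule.smul_mem _ _ hb')
    have hN1 : f.B (a + d • a') (a + d • a') = f.B w w := by
      simp only [map_add, LinearMap.map_smulₛₗ, LinearMap.add_apply, LinearMap.smul_apply, map_smul, smul_eq_mul,
        aa, a'a', a'a, haa']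
      linear_combination hd
    have hN2 : f.B (b + (δ₀ - d) • b') (b + (δ₀ - d) • b') = f.B u u := by
      simp only [map_add, LinearMap.map_smulₛₗ, LinearMap.add_apply, LinearMap.smul_apply, map_smul, smul_eq_mul,
        bb, b'b', b'b, hbb', map_sub]
      linear_combination hδ₀ - hd - hiso
    have hsum : a + b + (d • a' + (δ₀ - d) • b') = (a + d • a') + (b + (δ₀ - d) • b') := by abel
    have h3 := h1.add h2 (by
      simp only [map_add, map_smul, LinearMap.add_apply, haa', hbb', blk_orth' hs hij ha hb',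
        blk_orth' hs hij.symm hb ha', smul_eq_mul]
      rw [show d * (1 + 0) + (δ₀ - d) * (0 + 1) = δ₀ by ring]
      exact hδ₀0) (by
      show f.B _ _ = 0
      rw [hsum, hBsum i j hij _ hw₁ _ hu₁, hN1, hN2, hiso])
    rw [hsum] at h3
    exact hrep i j hij _ hw₁ _ hu₁ w hw u hu (fun h => hN (by rw [← hN1, h, map_zero]))
      (fun h => hN (by rw [h, map_zero] at hN2; rw [← hN2, add_zero] at hiso; exact hiso)) hw0 hu0 hN1.symm hN2.symm h3
  -- induction on the number of components
  suffices ∀ m, ∀ x, f.Iso x → (Finset.univ.filter fun i => res fn i x ≠ 0).card ≤ m → f.Ctr K x from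
    fun x hx => this _ x hx le_rfl
  intro m
  induction m with
  | zero =>
    intro x _ hm
    rw [show x = 0 from funext fun p => by
      by_contra h
      have := Finset.card_pos.mpr ⟨fn p, (Finset.mem_filter.mpr ⟨Finset.mem_univ _, fun h0 => h (by
        simpa [res] using congrFun h0 p)⟩ : fn p ∈ Finset.univ.filter fun i => res fn i x ≠ 0)⟩
      omega]
    exact HermF.Ctr.zero f K
  | succ m ih =>
    intro x hx hm
    set S := Finset.univ.filter fun i => res fn i x ≠ 0 with hS
    by_cases hle : S.card ≤ m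
    · exact ih x hx hle
    have hxs : ∀ p, fn p ∉ S → x p = 0 := fun p hp => by
      by_contra h
      exact hp (Finset.mem_filter.mpr ⟨Finset.mem_univ _, fun h0 => h (by simpa [res] using congrFun h0 p)⟩)
    rcases (show S.card = 1 ∨ S.card = 2 ∨ 3 ≤ S.card by omega) with h | h | h
    · obtain ⟨i, hi⟩ := Finset.card_eq_one.mp h
      exact hC i x (fun p hp => hxs p (by simp [hi, hp])) hx
    · obtain ⟨i, j, hij, hi⟩ := Finset.card_eq_two.mp h
      have hxe : x = res fn i x + res fn j x := funext fun p => by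
        simp only [Pi.add_apply, res]
        rcases eq_or_ne (fn p) i with h1 | h1
        · simp [h1, hij]
        rcases eq_or_ne (fn p) j with h2 | h2
        · simp [h2, hij.symm]
        · rw [hxs p (by simp [hi, h1, h2])]; simp
      rw [hxe]
      refine htwo i j hij _ (hres i x) _ (hres j x) ?_ ?_ (by rw [← hBsum i j hij _ (hres i x) _ (hres j x), ← hxe]; exact hx)
      · exact (Finset.mem_filter.mp (show i ∈ S by simp [hi])).2
      · exact (Finset.mem_filter.mp (show j ∈ S by simp [hi])).2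
    obtain ⟨p, hp, b, hb, hpb⟩ := Finset.one_lt_card.mp (show 1 < S.card by omega)
    set xp := res fn p x with hxp
    set c := res fn b x with hc
    have hxp0 : xp ≠ 0 := (Finset.mem_filter.mp hp).2
    have hc0 : c ≠ 0 := (Finset.mem_filter.mp hb).2
    set Np := f.B xp xp with hNp
    obtain ⟨β, hβ0, hβ, hβN⟩ : ∃ β : F, β ≠ 0 ∧ β + f.σ β = 0 ∧ (β ≠ Np ∨ 3 ≤ k) := by
      rcases hqk with hq3 | hk3
      swap
      · exact ⟨δ₀, hδ₀0, hδ₀, Or.inr hk3⟩
      by_cases h' : δ₀ = Np
      swap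
      · exact ⟨δ₀, hδ₀0, hδ₀, Or.inl h'⟩
      obtain ⟨S', hS', hS'f⟩ := exists_fixed hs
      obtain ⟨l, hl, hl'⟩ := Finset.exists_mem_notMem_of_card_lt_card (s := ({0, 1} : Finset F)) (t := S')
        (Finset.card_le_two.trans_lt (by omega))
      simp only [Finset.mem_insert, Finset.mem_singleton, not_or] at hl'
      refine ⟨l * δ₀, mul_ne_zero hl'.1 hδ₀0, by rw [map_mul, hS'f l hl]; linear_combination l * hδ₀,
        Or.inl fun e' => hl'.2 (mul_right_cancel₀ hδ₀0 ?_)⟩
      rw [one_mul, e', h']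
    have hσN : f.σ Np = Np := f.herm xp xp
    obtain ⟨y, hy, hy0, hyy, hcy⟩ : ∃ y ∈ blockSub (F := F) fn b, y ≠ 0 ∧ f.B y y = -Np ∧ f.B c y = β - Np := by
      by_cases hr : β - Np = 0
      · have hk3 : 3 ≤ k := hβN.resolve_left fun h' => h' (sub_eq_zero.mp hr)
        obtain ⟨a, ha, hca, hai⟩ := Cfsg.Agent.S5654.exists_aniso (blk_nd hs (fn := fn) (i := b))
          (hk3.trans (blk_dim e hf b)) c
        have haa : f.B a a ≠ 0 := hai
        obtain ⟨s, hs'⟩ := Cfsg.Agent.Lib.Geometry.exists_mul_conj_eq f.σ_ne f.invol (s := -Np / f.B a a) (by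
          rw [map_div₀, map_neg, hσN, f.herm])
        refine ⟨s • a, Submodule.smul_mem _ s ha, smul_ne_zero (fun h0 => ?_) (fun h0 => haa (by rw [h0, map_zero])),
          ?_, by rw [map_smul, hca, smul_zero, hr]⟩
        · rw [h0, mul_zero] at hs'
          have : -Np ≠ 0 := by rw [← sub_eq_zero.mp hr]; exact neg_ne_zero.mpr hβ0
          exact div_ne_zero this haa hs'.symm
        · simp only [LinearMap.map_smulₛₗ, LinearMap.smul_apply, map_smul, smul_eq_mul]
          rw [← mul_assoc, mul_comm s, hs', div_mul_cancel₀ _ haa]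
      set r := β - Np
      have hr0 : f.σ r ≠ 0 := fun h0 => hr (f.σ_eq_zero.mp h0)
      by_cases hci : f.B c c = 0
      · obtain ⟨z, hz, hcz⟩ := blk_nd hs c (hres b x) hc0
        obtain ⟨c', hc', hc'i, hcc'⟩ := f.exists_partner (e := c) (hres b x) hz hci hcz
        have c'c : f.B c' c = 1 := by rw [← f.herm c c', hcc', map_one]
        have c'c' : f.B c' c' = 0 := hc'i
        obtain ⟨d, hd⟩ := f.exists_trace (s := -Np) (by rw [map_neg, hσN])
        refine ⟨r • c' + (d / f.σ r) • c, add_mem (Submodule.smul_mem _ _ hc') (Submodule.smul_mem _ _ (hres b x)),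
          fun h0 => hr ?_, ?_, ?_⟩
        · have h' := congrArg (f.B c) h0
          simp only [map_add, map_smul, smul_eq_mul, hci, hcc', map_zero, mul_one, mul_zero, add_zero] at h'
          exact h'
        · simp only [map_add, LinearMap.map_smulₛₗ, LinearMap.add_apply, LinearMap.smul_apply, map_smul, smul_eq_mul,
            c'c', c'c, hcc', hci, map_div₀, f.invol]
          field_simp
          linear_combination (f.σ r * r) * hd
        · simp only [map_add, map_smul, smul_eq_mul, hcc', hci]; ring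
      · obtain ⟨a, ha, hca, hai⟩ : ∃ a ∈ blockSub (F := F) fn b, f.B c a = 0 ∧ f.B a a ≠ 0 := by
          by_contra! hall
          obtain ⟨z, hz, hz0⟩ := (Submodule.ne_bot_iff (blockSub (F := F) fn b ⊓ f.perp (F ∙ c))).mp fun h' => by
            have h1 := Submodule.finrank_sup_add_finrank_inf_eq (blockSub (F := F) fn b) (f.perp (F ∙ c))
            rw [h', finrank_bot] at h1
            have h2 := f.finrank_perp_ge (F ∙ c)
            have h3 := finrank_span_singleton (K := F) hc0
            have h4 := Submodule.finrank_le (blockSub (F := F) fn b ⊔ f.perp (F ∙ c))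
            have h5 := blk_dim (F := F) e hf b
            rw [Module.finrank_fintype_fun_eq_card] at h4
            omega
          obtain ⟨w, hw, hzw⟩ := blk_nd hs z hz.1 hz0
          set w' := w - (f.B c w / f.B c c) • c
          have hw' : w' ∈ blockSub (F := F) fn b ⊓ f.perp (F ∙ c) :=
            ⟨Submodule.sub_mem _ hw (Submodule.smul_mem _ _ (hres b x)),
              f.mem_perp_span.mpr (by simp only [w', map_sub, map_smul, smul_eq_mul, div_mul_cancel₀ _ hci, sub_self])⟩
          have hzz : f.B z z = 0 := hall z hz.1 (f.mem_perp_span.mp hz.2)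
          obtain ⟨z', hz', hz'i, hzz'⟩ := f.exists_partner hz hw' hzz (show f.B z w' ≠ 0 by
            simp only [w', map_sub, map_smul, f.eq_zero_comm (f.mem_perp_span.mp hz.2), smul_zero, sub_zero]
            exact hzw)
          obtain ⟨d, hd⟩ := f.exists_trace (map_one f.σ)
          have hmem := Submodule.add_mem _ (Submodule.smul_mem _ d hz) hz'
          have h' := hall (d • z + z') hmem.1 (f.mem_perp_span.mp hmem.2)
          simp only [map_add, LinearMap.map_smulₛₗ, LinearMap.add_apply, LinearMap.smul_apply, map_smul, smul_eq_mul,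
            hzz, show f.B z' z' = 0 from hz'i, hzz', show f.B z' z = 1 by rw [← f.herm z z', hzz', map_one]] at h'
          exact one_ne_zero (α := F) (by linear_combination h' - hd)
        obtain ⟨s, hs'⟩ := Cfsg.Agent.Lib.Geometry.exists_mul_conj_eq f.σ_ne f.invol
          (s := (-Np - f.σ r * r / f.B c c) / f.B a a) (by
            simp only [map_div₀, map_sub, map_neg, map_mul, hσN, f.invol, f.herm]; ring)
        refine ⟨(r / f.B c c) • c + s • a, add_mem (Submodule.smul_mem _ _ (hres b x)) (Submodule.smul_mem _ _ ha),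
          fun h0 => hr ?_, ?_, ?_⟩
        · have h' := congrArg (f.B c) h0
          simp only [map_add, map_smul, smul_eq_mul, hca, mul_zero, add_zero, map_zero, div_mul_cancel₀ _ hci] at h'
          exact h'
        · simp only [map_add, LinearMap.map_smulₛₗ, LinearMap.add_apply, LinearMap.smul_apply, map_smul, smul_eq_mul,
            hca, f.eq_zero_comm hca, map_div₀, f.herm]
          field_simp at hs' ⊢
          linear_combination hs'
        · simp only [map_add, map_smul, smul_eq_mul, hca, mul_zero, add_zero, div_mul_cancel₀ _ hci]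
    set w := xp + y
    have hww : f.B w w = 0 := by rw [hBsum p b hpb _ (hres p x) y hy, hyy, ← hNp, add_neg_cancel]
    have hBres : ∀ i, ∀ z ∈ blockSub (F := F) fn i, f.B x z = f.B (res fn i x) z := fun i z hz => by
      rw [hs.form, hs.form]
      refine Finset.sum_congr rfl fun r _ => ?_
      by_cases hr : fn r = i
      · simp [res, hr]
      · rw [hz r hr, mul_zero, mul_zero]
    have hxw : f.B x w = β := by
      rw [map_add, hBres p _ (hres p x), hBres b y hy, ← hxp, ← hc, ← hNp, hcy]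
      ring
    have hwu : f.B w (x - w) = -β := by
      rw [map_sub, hww, sub_zero, ← f.herm x w, hxw]
      linear_combination hβ
    have huu : f.B (x - w) (x - w) = 0 := by
      simp only [map_sub, LinearMap.sub_apply, show f.B x x = 0 from hx, hww, hxw]
      rw [← f.herm x w, hxw]
      linear_combination -hβ
    have hu : f.Ctr K (x - w) := ih _ huu (by
      refine (Finset.card_le_card (t := S.erase p) fun i hi => ?_).trans (by rw [Finset.card_erase_of_mem hp]; omega)
      obtain ⟨r, hr⟩ := Function.ne_iff.mp (Finset.mem_filter.mp hi).2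
      have hri : fn r = i := not_not.mp fun h' => hr (if_neg h')
      simp only [res, hri, ↓reduceIte, Pi.zero_apply] at hr
      refine Finset.mem_erase.mpr ⟨fun h' => hr ?_, Finset.mem_filter.mpr ⟨Finset.mem_univ i, fun h0 => hr ?_⟩⟩
      · simp [w, hxp, res, hri, h', hy r (by rw [hri, h']; exact hpb)]
      · have hxr : x r = 0 := by simpa [res, hri] using congrFun h0 r
        have hxb : i ≠ b := fun h' => hc0 (by rw [hc, ← h']; exact h0)
        simp [w, hxp, res, hri, hxr, hy r (hri ▸ hxb)])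
    have hwc : f.Ctr K w := htwo p b hpb _ (hres p x) y hy hxp0 hy0 (by rw [hyy, ← hNp, add_neg_cancel])
    have hfin := hwc.add hu (by rw [hwu]; exact neg_ne_zero.mpr hβ0) (by rw [add_sub_cancel]; exact hx)
    rwa [add_sub_cancel] at hfin

end Cfsg.Agent.Lib.ThreeTransp.DecompUni
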