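import Cfsg.Agent.Lib.ThreeTransp.DecompUniBase
import Cfsg.Agent.Lib.ThreeTransp.DecompMaxLine

/-!
A group of isometries containing the monomial ones of determinant one and a further element has a
non-monomial element fixing an axis.
-/

set_option autoImplicit false

namespace Cfsg.Agent.Lib.ThreeTransp.DecompUni

open Cfsg.Agent.Lib.MaxSub Cfsg.Agent.Lib.ThreeTransp.DecompMax Matrix
open scoped MatrixGroups Matrix

variable {n : ℕ} {F : Type*} [Field F] [Fintype F] {f : HermF (Fin n) F} {q : ℕ} (hs : Std f q) (hn : 13 ≤ n)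
  {K : Subgroup (GL (Fin n) F)} (hK : ∀ g : GL (Fin n) F, f.Preserves g → g.val.det = 1 → Mono g → g ∈ K)
  (hKp : ∀ g ∈ K, f.Preserves g)

include hs hK in
theorem dg_mem' {d : Fin n → F} {hd : ∏ i, d i = 1} (h : ∀ i, f.σ (d i) * d i = 1) : dg d hd ∈ K :=
  hK _ (dg_preserves hs h) (dg_det d hd) (dg_mono d hd)

/-- A rank one centre: some element of `K` is a multiple of `x ↦ x + κ B(v, x) v`. -/
def Rk (f : HermF (Fin n) F) (K : Subgroup (GL (Fin n) F)) (κ : F) (v : Fin n → F) : Prop :=
  ∃ g ∈ K, ∃ r : F, r ≠ 0 ∧ ∀ x, g.val *ᵥ x = r • (x + (κ * f.B v x) • v)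

omit [Fintype F] in
theorem Rk.conj {κ : F} {v : Fin n → F} (h : Rk f K κ v) {g : GL (Fin n) F} (hg : g ∈ K) (hgp : f.Preserves g) :
    Rk f K κ (g.val *ᵥ v) := by
  obtain ⟨x, hx, r, hr, hxv⟩ := h
  refine ⟨g * x * g⁻¹, K.mul_mem (K.mul_mem hg hx) (K.inv_mem hg), r, hr, fun y => ?_⟩
  rw [Units.val_mul, Units.val_mul, ← Matrix.mulVec_mulVec, ← Matrix.mulVec_mulVec, hxv, Matrix.mulVec_smul,
    Matrix.mulVec_add, Matrix.mulVec_smul, val_mulVec_inv, ← hgp v, val_mulVec_inv]

include hs hn hK hKp in
/-- Some non-monomial element fixes an axis. -/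
theorem exists_fix (hq3 : 3 ≤ q) {g₀ : GL (Fin n) F} (hg₀ : g₀ ∈ K) (hg₀m : ¬ Mono g₀) :
    ∃ g ∈ K, ¬ Mono g ∧ ∃ o, ∀ p, p ≠ o → g.val p o = 0 := by
  classical
  by_contra! hB
  obtain ⟨z, hz⟩ := exists_prim hs
  have hz1 : f.σ z * z = 1 := by rw [norm_eq hs, hz.pow_eq_one]
  have hz0 : z ≠ 0 := fun h => by simp [h] at hz1
  have hzp : ∀ k, k ≠ 0 → k < q + 1 → z ^ k ≠ 1 := fun k hk hk' => hz.pow_ne_one_of_pos_of_lt hk hk'
  have h13 : 13 ≤ Fintype.card (Fin n) := by rw [Fintype.card_fin]; exact hn
  have tz : ∀ g ∈ K, ¬ Mono g → ∀ j u v, u ≠ v → g.val u j = 0 → g.val v j = 0 → False := by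
    intro g hg hgm j u v huv hu hv
    refine false_of_two_zeros h13 hz0 (hzp 2 (by norm_num) (by omega)) (hzp 3 (by norm_num) (by omega))
      (fun a b hab d hd hda hdb hd1 => dg_mem' hs hK fun i => ?_) (fun a b => ?_) hB hg hgm huv hu hv
    · rcases eq_or_ne i a with rfl | ha
      · rw [hda]; exact hz1
      rcases eq_or_ne i b with rfl | hb
      · rw [hdb, map_inv₀, ← mul_inv, hz1, inv_one]
      · rw [hd1 i ha hb, map_one, one_mul]
    · obtain ⟨w, d, hw, hwd, hwm, hwe, -⟩ := exists_umono hs (Equiv.swap a b) (fun _ => (1 : F)) (by simp) a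
      exact ⟨w, hK w hw hwd hwm, fun p r h => not_not.mp fun h' => h (by rw [hwe, if_neg h'])⟩
  by_cases hA : q % 2 = 1 ∧ q + 1 ≤ n
  · -- odd characteristic and few norms
    obtain ⟨hodd, hqn⟩ := hA
    have h2 : (2 : F) ≠ 0 := fun h => by
      have h1 : ringChar F = 2 := CharP.ringChar_of_prime_eq_zero Nat.prime_two (by exact_mod_cast h)
      have h3 := FiniteField.even_card_of_char_two h1
      rw [hs.card, sq, Nat.mul_mod, hodd] at h3
      norm_num at h3
    have hneg : (-1 : F) ≠ 1 := fun h => h2 (by linear_combination -h)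
    have hpig : ∀ (T : Finset (Fin n)) (c : Fin n → F), q ≤ T.card → (∀ l ∈ T, c l ≠ 0) →
        ∃ a ∈ T, ∃ b ∈ T, a ≠ b ∧ f.σ (c a) * c a = f.σ (c b) * c b := by
      intro T c hT hc
      refine Finset.exists_ne_map_eq_of_card_lt_of_maps_to (t := (Polynomial.nthRoots (q - 1) (1 : F)).toFinset)
        (((Multiset.toFinset_card_le _).trans (Polynomial.card_nthRoots _ _)).trans_lt (by omega)) fun l hl => ?_
      rw [Finset.mem_coe, Multiset.mem_toFinset, Polynomial.mem_nthRoots (by omega), norm_eq hs, ← pow_mul,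
        ← Nat.sq_sub_sq, one_pow, ← hs.card, FiniteField.pow_card_sub_one_eq_one _ (hc l hl)]
    obtain ⟨g, hg, hgm, r, i, hri⟩ : ∃ g ∈ K, ¬ Mono g ∧ ∃ r i, g.val r i = 0 := by
      by_contra! hnz
      have hne := hnz g₀ hg₀ hg₀m
      set i : Fin n := ⟨0, by omega⟩
      set a : Fin n := ⟨1, by omega⟩
      have hai : a ≠ i := by simp [a, i, Fin.ext_iff]
      set c : Fin n → F := fun l => f.σ (g₀.val l a) * g₀.val l i with hc
      have hc0 : ∀ l, c l ≠ 0 := fun l => mul_ne_zero (fun h => hne l a (f.σ_eq_zero.mp h)) (hne l i)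
      obtain ⟨l₁, -, l₂, -, hl, hNl⟩ := hpig Finset.univ c (by rw [Finset.card_univ, Fintype.card_fin]; omega) fun l _ => hc0 l
      obtain ⟨S₅, hS₅sub, hS₅⟩ := Finset.exists_subset_card_eq (s := Finset.univ \ {l₁, l₂}) (n := 5) (by
        rw [Finset.card_sdiff_of_subset (Finset.subset_univ _), Finset.card_univ, Finset.card_pair hl]; omega)
      set P : Finset (Fin n) := {l₁, l₂} with hP
      have hdis : Disjoint P S₅ := Finset.disjoint_left.mpr fun l h1 h2 => (Finset.mem_sdiff.mp (hS₅sub h2)).2 h1
      set R := Finset.univ \ (P ∪ S₅) with hR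
      have hRc : 4 ≤ R.card := by
        rw [hR, Finset.card_sdiff_of_subset (Finset.subset_univ _), Finset.card_univ,
          Finset.card_union_of_disjoint hdis, hS₅, hP, Finset.card_pair hl]
        omega
      have hall : ∀ S : Finset (Fin n), S.filter (fun l => c l ≠ 0) = S := fun S =>
        Finset.filter_true_of_mem fun l _ => hc0 l
      obtain ⟨a₅, ha₅, -, hs₅⟩ := exists_sum_set hs S₅ c (by rw [hall, hS₅]; norm_num) 0
      obtain ⟨a₃, ha₃, -, hs₃⟩ := exists_sum_set hs R c (by rw [hall]; exact hRc) 0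
      set e : Fin n → F := fun l => if l = l₁ then 1 else if l = l₂ then -(c l₁ / c l₂)
        else if l ∈ S₅ then a₅ l else a₃ l with he
      have hNe : ∀ l, f.σ (e l) * e l = 1 := fun l => by
        simp only [he]
        split_ifs <;> try simp [ha₅, ha₃]
        field_simp [hc0 l₂, fun h => hc0 l₂ (f.σ_eq_zero.mp h)]
        linear_combination hNl
      have hNπ := norm_prod (d := e) hNe
      set π := ∏ l, e l
      have hπ0 : π ≠ 0 := fun h => by simp [h] at hNπ
      obtain ⟨D, hD1, hDP, hD5, hDR, hD2⟩ := exists_scaled e hNe P S₅ hdis (r₁ := π ^ 2) (r₂ := π⁻¹)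
        (by rw [map_pow, ← mul_pow, hNπ, one_pow]) (by rw [map_inv₀, ← mul_inv, hNπ, inv_one])
      have hDprod : ∏ l, D l = 1 := by
        rw [hD2, hS₅, hP, Finset.card_pair hl]
        field_simp
        rfl
      obtain ⟨δ, hδ, hδ₁, hδ₂, hδ0⟩ := exists_two (F := F) l₁ l₂ hl (neg_ne_zero.mpr one_ne_zero)
      rw [inv_neg, inv_one] at hδ₂
      have hNδ : ∀ l, f.σ (δ l) * δ l = 1 := fun l => by
        rcases eq_or_ne l l₁ with rfl | h1
        · rw [hδ₁]; simp
        rcases eq_or_ne l l₂ with rfl | h2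
        · rw [hδ₂]; simp
        · rw [hδ0 l h1 h2]; simp
      have hD'prod : ∏ l, D l * δ l = 1 := by rw [Finset.prod_mul_distrib, hDprod, hδ, one_mul]
      have hpair : c l₁ * e l₁ + c l₂ * e l₂ = 0 := by
        simp only [he, hl.symm, ↓reduceIte]
        field_simp [hc0 l₂]
        ring
      have hrest : ∀ l ∈ R, c l * D l = c l * a₃ l ∧ δ l = 1 := fun l hl' => by
        simp only [hR, hP, Finset.mem_sdiff, Finset.mem_univ, Finset.mem_union, Finset.mem_insert,
          Finset.mem_singleton, not_or, true_and] at hl'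
        refine ⟨?_, hδ0 l hl'.1.1 hl'.1.2⟩
        rw [hDR l (by simp [hP, hl'.1]) hl'.2]
        simp [he, hl'.1, hl'.2]
      have hfive : ∀ l ∈ S₅, c l * D l = π⁻¹ * (c l * a₅ l) ∧ δ l = 1 := fun l hl' => by
        have h1 := Finset.disjoint_right.mp hdis hl'
        simp only [hP, Finset.mem_insert, Finset.mem_singleton, not_or] at h1
        refine ⟨?_, hδ0 l h1.1 h1.2⟩
        rw [hD5 l hl']
        simp only [he, h1.1, h1.2, hl', ↓reduceIte]
        ring
      have hsum : ∀ (D' : Fin n → F) (s : F), (∀ l ∈ P, D' l = s * e l) → (∀ l ∈ S₅ ∪ R, D' l = D l) →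
          ∑ l, c l * D' l = 0 := fun D' s h1 h2 => by
        rw [← Finset.sum_sdiff (Finset.subset_univ (P ∪ S₅)), ← hR, Finset.sum_union hdis,
          Finset.sum_congr rfl fun l hl' => show c l * D' l = c l * a₃ l by
            rw [h2 l (Finset.mem_union_right _ hl'), (hrest l hl').1],
          hs₃, Finset.sum_congr (s₁ := S₅) rfl fun l hl' => show c l * D' l = π⁻¹ * (c l * a₅ l) by
            rw [h2 l (Finset.mem_union_left _ hl'), (hfive l hl').1],
          ← Finset.mul_sum, hs₅, hP, Finset.sum_pair hl, h1 l₁ (by simp [hP]), h1 l₂ (by simp [hP])]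
        linear_combination s * hpair
      have hmono : ∀ (D' : Fin n → F) (hd : ∏ l, D' l = 1), (∀ l, f.σ (D' l) * D' l = 1) →
          ∑ l, c l * D' l = 0 → Mono (g₀⁻¹ * dg D' hd * g₀) := fun D' hd hN hsum => by
        by_contra h
        refine hnz _ (K.mul_mem (K.mul_mem (K.inv_mem hg₀) (dg_mem' hs hK hN)) hg₀) h a i ?_
        rw [Units.val_mul, Units.val_mul, dg_val, conj_apply, ← hsum]
        exact Finset.sum_congr rfl fun l _ => by rw [inv_entry hs (hKp g₀ hg₀)]; simp only [hc]; ring
      have hm1 := hmono D hDprod hD1 (hsum D (π ^ 2) hDP fun l _ => rfl)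
      have hm2 := hmono _ hD'prod (fun l => by
        rw [map_mul]; linear_combination (f.σ (δ l) * δ l) * hD1 l + hNδ l)
        (hsum _ (-π ^ 2) (fun l hl' => by
          rw [hDP l hl']
          rcases Finset.mem_insert.mp hl' with rfl | hl'
          · rw [hδ₁]; ring
          · rw [Finset.mem_singleton.mp hl', hδ₂]; ring) fun l hl' => by
          rcases Finset.mem_union.mp hl' with h | h
          · rw [(hfive l h).2, mul_one]
          · rw [(hrest l h).2, mul_one])
      have hdg : dg (fun l => D l * δ l) hD'prod = dg D hDprod * dg δ hδ := Units.ext (by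
        rw [Units.val_mul, dg_val, dg_val, dg_val, Matrix.diagonal_mul_diagonal])
      obtain ⟨j, u, v, -, hu, -⟩ := two_zeros_of_mono h13 g₀ δ hδ P (by rw [hP, Finset.card_pair hl]; norm_num)
        (fun l hl' => by
          simp only [hP, Finset.mem_insert, Finset.mem_singleton, not_or] at hl'
          exact hδ0 l hl'.1 hl'.2) (l₁ := l₁) (by rw [hδ₁]; exact hneg) (by
          have h := hm1.inv.mul hm2
          rwa [hdg, show (g₀⁻¹ * dg D hDprod * g₀)⁻¹ * (g₀⁻¹ * (dg D hDprod * dg δ hδ) * g₀) =
            g₀⁻¹ * dg δ hδ * g₀ by group] at h)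
      exact hne u j hu
    have hnz : ∀ p, p ≠ r → g.val p i ≠ 0 := fun p hp h => tz g hg hgm i p r hp h hri
    obtain ⟨u, hu, v, hv, huv, hNuv⟩ := hpig (Finset.univ.erase r) (fun p => g.val p i) (by
      rw [Finset.card_erase_of_mem (Finset.mem_univ r), Finset.card_univ, Fintype.card_fin]; omega)
      fun p hp => hnz p (Finset.mem_erase.mp hp).1
    have hur := (Finset.mem_erase.mp hu).1
    have hvr := (Finset.mem_erase.mp hv).1
    set lam := g.val v i / g.val u i with hlam
    have hu0 := hnz u hur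
    have hv0 := hnz v hvr
    have hlamN : f.σ lam * lam = 1 := by
      rw [hlam, map_div₀]
      field_simp [hu0, fun h => hu0 (f.σ_eq_zero.mp h)]
      linear_combination -hNuv
    have hlam0 : lam ≠ 0 := div_ne_zero hv0 hu0
    set d₀ : Fin n → F := fun l => if l = u then lam else if l = v then lam⁻¹ else 1 with hd₀
    obtain ⟨s, d, hsp, hsd, hsm, hse, -, hsa, -, hdw⟩ := exists_umono hs (Equiv.swap u v) d₀ (fun l => by
      simp only [hd₀]; split_ifs <;> simp [hlamN, map_inv₀, ← mul_inv]) r
    have hdu : d u = lam := by rw [hdw u hur]; simp [hd₀]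
    have hdv : d v = lam⁻¹ := by rw [hdw v hvr]; simp [hd₀, huv.symm]
    have hd1 : ∀ l, l ≠ u → l ≠ v → l ≠ r → d l = 1 := fun l h1 h2 h3 => by rw [hdw l h3]; simp [hd₀, h1, h2]
    have hdr : d r = -1 := by
      have h1 := hsd
      have h2 : s.val = (Equiv.Perm.permMatrix F (Equiv.swap u v).symm) * Matrix.diagonal d := by
        ext p k
        rw [hse, Matrix.mul_diagonal, Equiv.Perm.permMatrix, PEquiv.toMatrix_apply]
        simp only [Equiv.toPEquiv_apply, Option.mem_def, Option.some.injEq, Equiv.symm_swap]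
        rcases eq_or_ne p (Equiv.swap u v k) with rfl | h
        · simp
        · rw [if_neg h, if_neg fun e => h (by rw [← e, Equiv.swap_apply_self]), zero_mul]
      rw [h2, Matrix.det_mul, Matrix.det_permutation, Matrix.det_diagonal, Equiv.Perm.sign_symm,
        Equiv.Perm.sign_swap huv,
        ← Finset.prod_subset (Finset.subset_univ {u, v, r}) fun l _ hl => by
          simp only [Finset.mem_insert, Finset.mem_singleton, not_or] at hl
          exact hd1 l hl.1 hl.2.1 hl.2.2,
        Finset.prod_insert (by simp [huv, hur]), Finset.prod_pair hvr, hdu, hdv,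
        ← mul_assoc lam, mul_inv_cancel₀ hlam0] at h1
      simp at h1
      linear_combination -h1
    have hfix : ∀ x : Fin n → F, x v = lam * x u → x r = 0 → s.val *ᵥ x = x := fun x hx hxr => funext fun p => by
      obtain ⟨k, rfl⟩ := (Equiv.swap u v).surjective p
      rw [hsa]
      rcases eq_or_ne k u with rfl | h1
      · rw [Equiv.swap_apply_left, hdu, hx]
      rcases eq_or_ne k v with rfl | h2
      · rw [Equiv.swap_apply_right, hdv, hx, ← mul_assoc, inv_mul_cancel₀ hlam0, one_mul]
      rw [Equiv.swap_apply_of_ne_of_ne h1 h2]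
      rcases eq_or_ne k r with rfl | h3
      · rw [hxr, mul_zero]
      · rw [hd1 k h1 h2 h3, one_mul]
    set h := g⁻¹ * s * g with hh
    have hhK : h ∈ K := K.mul_mem (K.mul_mem (K.inv_mem hg) (hK s hsp hsd hsm)) hg
    have hhx : ∀ x, s.val *ᵥ (g.val *ᵥ x) = g.val *ᵥ x → h.val *ᵥ x = x := fun x hx => by
      rw [hh, Units.val_mul, Units.val_mul, ← Matrix.mulVec_mulVec, ← Matrix.mulVec_mulVec, hx, inv_mulVec_val]
    have hhi : ∀ p, p ≠ i → h.val p i = 0 := fun p hp => by
      have := congrFun (hhx (Pi.single i 1) (hfix _ (by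
        simp only [Matrix.mulVec_single_one, Matrix.col_apply, hlam, div_mul_cancel₀ _ hu0]) (by
        simp [Matrix.mulVec_single_one, hri]))) p
      simpa [Matrix.mulVec_single_one, hp] using this
    have hhm : Mono h := by
      by_contra hm
      obtain ⟨p, hp, hp0⟩ := hB h hhK hm i
      exact hp0 (hhi p hp)
    obtain ⟨σ, hσ, hσ'⟩ := hhm.exists_perm
    have hσi : σ i = i := not_not.mp fun e => hσ' i (hhi _ e)
    have happ : ∀ x j, (h.val *ᵥ x) (σ j) = h.val (σ j) j * x j := fun x j => by
      rw [Matrix.mulVec, dotProduct, Finset.sum_eq_single j]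
      · intro k _ hk
        rw [show h.val (σ j) k = 0 from not_not.mp fun e => hk (σ.injective (hσ _ _ e)).symm, zero_mul]
      · exact fun e => absurd (Finset.mem_univ j) e
    have hmoved : ∀ j, j ≠ i → σ j ≠ j := by
      intro j hji hj
      have hcol : ∀ l, (s.val *ᵥ fun p => g.val p j) l = h.val j j * g.val l j := fun l => by
        have h1 : g.val *ᵥ (h.val *ᵥ Pi.single j 1) = s.val *ᵥ (g.val *ᵥ Pi.single j 1) := by
          simp only [Matrix.mulVec_mulVec, ← Units.val_mul, hh]
          congr 2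
          group
        rw [show h.val *ᵥ Pi.single j 1 = Pi.single j (h.val j j) from funext fun p => by
          rw [Matrix.mulVec_single_one, Matrix.col_apply]
          rcases eq_or_ne p j with rfl | hp
          · simp
          · rw [Pi.single_eq_of_ne hp]
            exact not_not.mp fun e => hp ((hσ p j e).trans hj)] at h1
        have h2 := congrFun h1 l
        simp only [Matrix.mulVec_single, Matrix.mulVec_single_one, Pi.smul_apply, op_smul_eq_smul,
          smul_eq_mul, Matrix.col_apply] at h2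
        rw [h2, one_smul]; rfl
      by_cases hη : h.val j j = 1
      · have h1 := hcol r
        rw [show r = Equiv.swap u v r from (Equiv.swap_apply_of_ne_of_ne (Ne.symm hur) (Ne.symm hvr)).symm, hsa,
          Equiv.swap_apply_of_ne_of_ne (Ne.symm hur) (Ne.symm hvr), hdr, hη] at h1
        have h3 : g.val r j = 0 := by
          have h4 : (2 : F) * g.val r j = 0 := by linear_combination -h1
          exact (mul_eq_zero.mp h4).resolve_left h2
        refine tz g⁻¹ (K.inv_mem hg) (fun hm => hgm (by simpa using hm.inv)) r i j hji.symm ?_ ?_ <;>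
          rw [inv_entry hs (hKp g hg)] <;> simp [hri, h3]
      · obtain ⟨l, l', hl, hl', hll⟩ : ∃ l l', l ∉ ({u, v, r} : Finset (Fin n)) ∧
            l' ∉ ({u, v, r} : Finset (Fin n)) ∧ l ≠ l' := by
          have h1 : 1 < (Finset.univ \ ({u, v, r} : Finset (Fin n))).card := by
            rw [Finset.card_sdiff_of_subset (Finset.subset_univ _), Finset.card_univ]
            have := Finset.card_le_three (a := u) (b := v) (c := r)
            omega
          obtain ⟨l, hl, l', hl', hll⟩ := Finset.one_lt_card.mp h1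
          exact ⟨l, l', (Finset.mem_sdiff.mp hl).2, (Finset.mem_sdiff.mp hl').2, hll⟩
        have hzero : ∀ l, l ∉ ({u, v, r} : Finset (Fin n)) → g.val l j = 0 := fun l hl => by
          simp only [Finset.mem_insert, Finset.mem_singleton, not_or] at hl
          have h1 := hcol l
          rw [show l = Equiv.swap u v l from (Equiv.swap_apply_of_ne_of_ne hl.1 hl.2.1).symm, hsa,
            Equiv.swap_apply_of_ne_of_ne hl.1 hl.2.1, hd1 l hl.1 hl.2.1 hl.2.2, one_mul] at h1
          have h4 : (h.val j j - 1) * g.val l j = 0 := by linear_combination -h1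
          exact (mul_eq_zero.mp h4).resolve_left (sub_ne_zero.mpr hη)
        exact tz g hg hgm j l l' hll (hzero l hl) (hzero l' hl')
    obtain ⟨U, hU, hUd⟩ : ∃ U : Finset (Fin n), 4 ≤ U.card ∧
        ((∀ j ∈ U, j < σ j) ∨ ∀ j ∈ U, σ j < j) := by
      have h1 := Finset.card_filter_add_card_filter_not (s := Finset.univ.erase i) (fun j => j < σ j)
      rw [Finset.card_erase_of_mem (Finset.mem_univ i), Finset.card_univ, Fintype.card_fin] at h1
      by_cases h4 : 4 ≤ ((Finset.univ.erase i).filter fun j => j < σ j).card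
      · exact ⟨_, h4, Or.inl fun j hj => (Finset.mem_filter.mp hj).2⟩
      · refine ⟨(Finset.univ.erase i).filter fun j => ¬ j < σ j, by omega, Or.inr fun j hj => ?_⟩
        obtain ⟨hj1, hj2⟩ := Finset.mem_filter.mp hj
        exact lt_of_le_of_ne (not_lt.mp hj2) (hmoved j (Finset.mem_erase.mp hj1).1)
    obtain ⟨x, hx0, hxU, hxk⟩ := exists_kernel U ![g.val u, g.val v, g.val r] (by simp; omega)
    have hfixx := hhx x (hfix _ (by
      rw [show (g.val *ᵥ x) v = 0 from hxk 1, show (g.val *ᵥ x) u = 0 from hxk 0, mul_zero]) (hxk 2))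
    set S := U.filter fun j => x j ≠ 0
    have hSne : S.Nonempty := by
      obtain ⟨j, hj⟩ := Function.ne_iff.mp hx0
      exact ⟨j, Finset.mem_filter.mpr ⟨not_not.mp fun h => hj (hxU j h), hj⟩⟩
    have hzero : ∀ j ∈ S, x (σ j) ≠ 0 := fun j hj h0 => by
      have h1 := congrFun hfixx (σ j)
      rw [happ, h0] at h1
      exact mul_ne_zero (hσ' j) (Finset.mem_filter.mp hj).2 h1
    have hin : ∀ j ∈ S, σ j ∈ S := fun j hj =>
      Finset.mem_filter.mpr ⟨not_not.mp fun h => hzero j hj (hxU _ h), hzero j hj⟩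
    rcases hUd with hup | hdown
    · have := S.le_max' _ (hin _ (S.max'_mem hSne))
      exact absurd (hup _ (Finset.mem_filter.mp (S.max'_mem hSne)).1) (not_lt.mpr this)
    · have := S.min'_le _ (hin _ (S.min'_mem hSne))
      exact absurd (hdown _ (Finset.mem_filter.mp (S.min'_mem hSne)).1) (not_lt.mpr this)
  -- a rank one centre
  have hfin : ∀ κ v, κ ≠ 0 → Rk f K κ v → ∀ T : Finset (Fin n), 3 ≤ T.card → (∀ p ∈ T, v p ≠ 0) →
      ∀ o, v o = 0 → False := by
    intro κ v hκ ⟨x, hx, r, hr, hxv⟩ T hT hTv o ho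
    have hent : ∀ p k, x.val p k = r * ((Pi.single k (1 : F) : Fin n → F) p + κ * f.σ (v k) * v p) := fun p k => by
      have h1 := congrFun (hxv (Pi.single k 1)) p
      rw [B_single_right hs] at h1
      simpa [Matrix.mulVec_single_one, mul_assoc] using h1
    obtain ⟨p₁, h1, p₂, h2, p₃, h3, h12, h13', h23⟩ := Finset.two_lt_card.mp hT
    have hxm : ¬ Mono x := fun hm => h23 (hm p₁ p₂ p₃ (by
      rw [hent, Pi.single_eq_of_ne h12.symm, zero_add]
      exact mul_ne_zero hr (mul_ne_zero (mul_ne_zero hκ fun e => hTv _ h1 (f.σ_eq_zero.mp e)) (hTv _ h2))) (by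
      rw [hent, Pi.single_eq_of_ne h13'.symm, zero_add]
      exact mul_ne_zero hr (mul_ne_zero (mul_ne_zero hκ fun e => hTv _ h1 (f.σ_eq_zero.mp e)) (hTv _ h3))))
    obtain ⟨p, hp, hp0⟩ := hB x hx hxm o
    exact hp0 (by rw [hent, Pi.single_eq_of_ne hp, ho, map_zero]; ring)
  obtain ⟨κ, v, hκ, hv, T, hT, hTv⟩ : ∃ κ v, κ ≠ 0 ∧ Rk f K κ v ∧
      ∃ T : Finset (Fin n), 3 ≤ T.card ∧ ∀ p ∈ T, v p ≠ 0 := by
    by_cases hev : q % 2 = 0
    · have h2 : (2 : F) = 0 := by
        have h1 : ringChar F = 2 := by
          refine FiniteField.even_card_iff_char_two.mpr ?_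
          rw [hs.card, sq, Nat.mul_mod, hev]
        haveI := ringChar.of_eq h1
        exact CharTwo.two_eq_zero
      set u : Fin n := ⟨0, by omega⟩
      set w : Fin n := ⟨1, by omega⟩
      have huw : u ≠ w := by simp [u, w, Fin.ext_iff]
      obtain ⟨o₂, ho₂⟩ : ∃ o₂ : Fin n, o₂.val = 2 := ⟨⟨2, by omega⟩, rfl⟩
      have hu2 : u ≠ o₂ := fun h => by simp [← h, u] at ho₂
      have hw2 : w ≠ o₂ := fun h => by simp [← h, w] at ho₂
      obtain ⟨S, hS, hS1⟩ := exists_circle hs
      obtain ⟨a, ha, ha3⟩ : ∃ a ∈ S, 3 ≤ (Finset.univ.filter fun p => g₀.val p u + a * g₀.val p w ≠ 0).card := by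
        by_contra! hall
        have hcol : ∀ p, g₀.val p u ≠ 0 ∨ g₀.val p w ≠ 0 → (S.filter fun a => g₀.val p u + a * g₀.val p w = 0).card ≤ 1 :=
          fun p hp => Finset.card_le_one.mpr fun a ha b hb => by
            have e1 := (Finset.mem_filter.mp ha).2
            have e2 := (Finset.mem_filter.mp hb).2
            have hw0 : g₀.val p w ≠ 0 := fun h => by
              rcases hp with hp | hp
              · exact hp (by simpa [h] using e1)
              · exact hp h
            exact mul_right_cancel₀ hw0 (by linear_combination e1 - e2)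
        set Z := Finset.univ.filter fun p => g₀.val p u ≠ 0 ∨ g₀.val p w ≠ 0
        have hZ : n - 1 ≤ Z.card := by
          by_contra! hlt
          obtain ⟨p, hp, p', hp', hpp⟩ := Finset.one_lt_card.mp (show 1 < (Finset.univ \ Z).card by
            rw [Finset.card_sdiff_of_subset (Finset.subset_univ _), Finset.card_univ, Fintype.card_fin]; omega)
          simp only [Z, Finset.mem_sdiff, Finset.mem_filter, Finset.mem_univ, true_and, not_or, not_not] at hp hp'
          exact tz g₀ hg₀ hg₀m u p p' hpp hp.1 hp'.1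
        have h1 : ∑ a ∈ S, (Z.filter fun p => g₀.val p u + a * g₀.val p w = 0).card ≤ Z.card := by
          simp only [Finset.card_filter]
          rw [Finset.sum_comm, Finset.card_eq_sum_ones]
          refine Finset.sum_le_sum fun p hp => ?_
          rw [← Finset.card_filter]
          exact hcol p (Finset.mem_filter.mp hp).2
        have h2' : ∀ a ∈ S, Z.card - 2 ≤ (Z.filter fun p => g₀.val p u + a * g₀.val p w = 0).card := fun a ha => by
          have h3 := Finset.card_filter_add_card_filter_not (s := Z) (fun p => g₀.val p u + a * g₀.val p w = 0)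
          have h4 : (Z.filter fun p => ¬ g₀.val p u + a * g₀.val p w = 0).card ≤ 2 :=
            (Finset.card_le_card (Finset.filter_subset_filter _ (Finset.subset_univ Z))).trans
              (Nat.lt_succ_iff.mp (hall a ha))
          omega
        have h5 := (Finset.sum_le_sum h2').trans h1
        rw [Finset.sum_const, smul_eq_mul, hS] at h5
        have h6 := Nat.mul_le_mul_right (Z.card - 2) (show 4 ≤ q + 1 by omega)
        omega
      have haN := hS1 a ha
      have ha0 : a ≠ 0 := fun h => by simp [h] at haN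
      obtain ⟨s, d, hsp, hsd, hsm, -, -, hsa, -, hdw⟩ := exists_umono hs (Equiv.swap u w)
        (fun l => if l = u then a else if l = w then a⁻¹ else 1)
        (fun l => by split_ifs <;> simp [haN, map_inv₀, ← mul_inv]) o₂
      have hd2 : d o₂ = 1 := by
        have h1 := hsd
        have h2' : s.val = (Equiv.Perm.permMatrix F (Equiv.swap u w).symm) * Matrix.diagonal d := by
          ext p k
          have h3 : s.val p k = (s.val *ᵥ Pi.single k 1) p := by simp [Matrix.mulVec_single_one]
          obtain ⟨p', rfl⟩ := (Equiv.swap u w).surjective p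
          rw [h3, hsa, Matrix.mul_diagonal, Equiv.Perm.permMatrix, PEquiv.toMatrix_apply]
          simp only [Equiv.toPEquiv_apply, Option.mem_def, Option.some.injEq, Equiv.symm_swap,
            Equiv.swap_apply_self, Pi.single_apply]
          rcases eq_or_ne p' k with rfl | h <;> simp [*, Ne.symm]
        rw [h2', Matrix.det_mul, Matrix.det_permutation, Matrix.det_diagonal, Equiv.Perm.sign_symm,
          Equiv.Perm.sign_swap huw,
          ← Finset.prod_subset (Finset.subset_univ {u, w, o₂}) fun l _ hl => by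
            simp only [Finset.mem_insert, Finset.mem_singleton, not_or] at hl
            rw [hdw l hl.2.2]; simp [hl.1, hl.2.1],
          Finset.prod_insert (by simp [huw, hu2]), Finset.prod_pair hw2,
          hdw u hu2, hdw w hw2] at h1
        simp [huw.symm] at h1
        field_simp at h1
        linear_combination -h1 - h2
      have hRk : Rk f K 1 (Pi.single u 1 + Pi.single w a) := by
        refine ⟨s, hK s hsp hsd hsm, 1, one_ne_zero, fun x => ?_⟩
        rw [one_smul, one_mul, map_add, LinearMap.add_apply, B_single_left hs, B_single_left hs, map_one, one_mul]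
        funext p
        obtain ⟨k, rfl⟩ := (Equiv.swap u w).surjective p
        rw [hsa]
        have ha' : a⁻¹ = f.σ a := inv_eq_of_mul_eq_one_left haN
        simp only [Pi.add_apply, Pi.smul_apply, smul_eq_mul]
        rcases eq_or_ne k u with rfl | h1
        · simp only [Equiv.swap_apply_left, hdw u hu2, ↓reduceIte, Pi.single_eq_same,
            Pi.single_eq_of_ne huw.symm, zero_add]
          linear_combination (-(x w)) * h2 - (x w) * haN
        rcases eq_or_ne k w with rfl | h2'
        · simp only [Equiv.swap_apply_right, hdw w hw2, huw.symm, ↓reduceIte,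
            Pi.single_eq_same, Pi.single_eq_of_ne huw, add_zero, ha']
          linear_combination (-(x u)) * h2
        rw [Equiv.swap_apply_of_ne_of_ne h1 h2', Pi.single_eq_of_ne h1, Pi.single_eq_of_ne h2']
        rcases eq_or_ne k o₂ with rfl | h3
        · rw [hd2]; ring
        · rw [hdw k h3]; simp [h1, h2']
      refine ⟨1, _, one_ne_zero, hRk.conj hg₀ (hKp g₀ hg₀), _, ha3, fun p hp => ?_⟩
      have := (Finset.mem_filter.mp hp).2
      simpa [Matrix.mulVec_add, Matrix.mulVec_single, mul_comm a] using this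
    · have hqn : n < q + 1 := by
        by_contra h
        exact hA ⟨by omega, by omega⟩
      set u : Fin n := ⟨0, by omega⟩
      set δ := (z ^ n)⁻¹ with hδ
      have hδ1 : δ ≠ 1 := fun h => hzp n (by omega) hqn (inv_eq_one.mp h)
      set d : Fin n → F := fun l => if l = u then z * δ else z with hd
      have hdp : ∏ l, d l = 1 := by
        rw [← Finset.mul_prod_erase _ _ (Finset.mem_univ u),
          Finset.prod_congr rfl fun l hl => show d l = z by simp [hd, (Finset.mem_erase.mp hl).1],
          Finset.prod_const, Finset.card_erase_of_mem (Finset.mem_univ u), Finset.card_univ, Fintype.card_fin]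
        simp only [hd, ↓reduceIte, hδ]
        rw [show z ^ n = z ^ (n - 1) * z by rw [← pow_succ]; congr 1; omega]
        field_simp
      have hdN : ∀ l, f.σ (d l) * d l = 1 := fun l => by
        simp only [hd]
        split_ifs
        · rw [hδ, map_mul, map_inv₀, map_pow, mul_mul_mul_comm, hz1, ← mul_inv, ← mul_pow, hz1]
          simp
        · exact hz1
      have hRk : Rk f K (δ - 1) (Pi.single u 1) := ⟨_, dg_mem' hs hK (hd := hdp) hdN, z, hz0, fun x => funext fun p => by
        rw [dg_val, Matrix.mulVec_diagonal, B_single_left hs, map_one, one_mul]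
        simp only [hd, Pi.smul_apply, Pi.add_apply, smul_eq_mul]
        rcases eq_or_ne p u with rfl | hp
        · simp only [↓reduceIte, Pi.single_eq_same]; ring
        · simp [hp]⟩
      obtain ⟨i, p, p', hip, hip', hpp⟩ : ∃ i p p', g₀.val p i ≠ 0 ∧ g₀.val p' i ≠ 0 ∧ p ≠ p' := by
        simpa [Mono] using hg₀m
      obtain ⟨s, e, hsp, hsd, hsm, -, hs1, -, heN, -⟩ := exists_umono hs (Equiv.swap u i) (fun _ => (1 : F))
        (by simp) u
      have hv := (hRk.conj (hK s hsp hsd hsm) hsp).conj hg₀ (hKp g₀ hg₀)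
      refine ⟨_, _, sub_ne_zero.mpr hδ1, hv, Finset.univ.filter fun l => g₀.val l i ≠ 0, ?_, fun l hl => ?_⟩
      · by_contra! hlt
        obtain ⟨a, ha, b, hb, hab⟩ := Finset.one_lt_card.mp (show 1 < (Finset.univ.filter fun l => ¬ g₀.val l i ≠ 0).card by
          have := Finset.card_filter_add_card_filter_not (s := Finset.univ) (fun l => g₀.val l i ≠ 0)
          rw [Finset.card_univ] at this
          omega)
        simp only [Finset.mem_filter, Finset.mem_univ, true_and, not_not] at ha hb
        exact tz g₀ hg₀ hg₀m i a b hab ha hb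
      · rw [hs1, mul_one, Equiv.swap_apply_left, Matrix.mulVec_single]
        simpa using mul_ne_zero (Finset.mem_filter.mp hl).2 (fun h => by have := heN u; simp [h] at this : e u ≠ 0)
  by_cases hfull : ∀ p, v p ≠ 0
  swap
  · push Not at hfull
    obtain ⟨o, ho⟩ := hfull
    exact hfin κ v hκ hv T hT hTv o ho
  set o : Fin n := ⟨0, by omega⟩
  set N : Fin n → F := fun l => f.σ (v l) * v l
  have hN : ∀ l, N l ≠ 0 := fun l => mul_ne_zero (fun h => hfull l (f.σ_eq_zero.mp h)) (hfull l)
  have hbig : 4 ≤ q := by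
    by_contra h
    exact hA ⟨by omega, by omega⟩
  have h8 : z ^ 8 ≠ 1 := fun h => by
    have h1 : q + 1 ∣ 8 := (hz.pow_eq_one_iff_dvd 8).mp h
    have h2 := Nat.le_of_dvd (by norm_num) h1
    have h3 : q ≤ 7 := by omega
    interval_cases q <;> omega
  obtain ⟨d, hdN, hd, hsum, T', hT', hT'd⟩ := exists_zero_sum hs h13 hz1 (hzp 4 (by norm_num) (by omega)) h8
    (fun l => if l = o then N l + κ⁻¹ else N l) o fun l hl => by simp [hl, hN]
  obtain ⟨x, hx, r, hr, hxv⟩ := hv
  have hv' : Rk f K κ v := ⟨x, hx, r, hr, hxv⟩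
  have hv2 := (hv'.conj (dg_mem' hs hK (hd := hd) hdN) (dg_preserves hs hdN)).conj hx (hKp x hx)
  have hBw : κ * f.B v ((dg d hd).val *ᵥ v) = -d o := by
    rw [hs.form, dg_val]
    simp only [Matrix.mulVec_diagonal]
    rw [← Finset.add_sum_erase _ _ (Finset.mem_univ o),
      Finset.sum_congr rfl fun l hl => show (if l = o then N l + κ⁻¹ else N l) * d l = N l * d l by
        rw [if_neg (Finset.mem_erase.mp hl).1],
      if_pos rfl] at hsum
    rw [← Finset.add_sum_erase _ _ (Finset.mem_univ o),
      Finset.sum_congr rfl fun l _ => show f.σ (v l) * (d l * v l) = N l * d l by simp only [N]; ring]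
    simp only [N] at hsum ⊢
    linear_combination κ * hsum - (mul_inv_cancel₀ hκ) * d o
  have hw : ∀ p, (x.val *ᵥ ((dg d hd).val *ᵥ v)) p = r * ((d p - d o) * v p) := fun p => by
    rw [hxv, hBw, dg_val]
    simp only [Pi.smul_apply, Pi.add_apply, Matrix.mulVec_diagonal, smul_eq_mul]
    ring
  exact hfin κ _ hκ hv2 T' hT'
    (fun p hp => by rw [hw]; exact mul_ne_zero hr (mul_ne_zero (sub_ne_zero.mpr (hT'd p hp)) (hfull p))) o
    (by rw [hw, sub_self, zero_mul, mul_zero])

end Cfsg.Agent.Lib.ThreeTransp.DecompUni
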