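import Cfsg.Agent.Lib.ThreeTransp.DecompUniLine

/-!
From a non-monomial element fixing an axis to the transvections with two coordinate centres.
-/

set_option autoImplicit false

namespace Cfsg.Agent.Lib.ThreeTransp.DecompUni

open Cfsg.Agent.Lib.MaxSub Cfsg.Agent.Lib.ThreeTransp.DecompMax Matrix
open scoped MatrixGroups Matrix

variable {n : ℕ} {F : Type*} [Field F] [Fintype F] {f : HermF (Fin n) F} {q : ℕ} (hs : Std f q) (hn : 13 ≤ n)
  {K : Subgroup (GL (Fin n) F)} (hK : ∀ g : GL (Fin n) F, f.Preserves g → g.val.det = 1 → Mono g → g ∈ K)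
  (hKp : ∀ g ∈ K, f.Preserves g)

/-- The quasi-reflections along `a`, compensated on the axis `o`, lie in `K`. -/
structure Cen (f : HermF (Fin n) F) (K : Subgroup (GL (Fin n) F)) (o : Fin n) (a : Fin n → F) : Prop where
  zero : a o = 0
  one : f.B a a = 1
  mem : ∀ ζ : F, f.σ ζ * ζ = 1 → ∃ g ∈ K, ∀ x, g.val *ᵥ x =
    x + ((ζ - 1) * f.B a x) • a + (Pi.single o ((ζ⁻¹ - 1) * x o) : Fin n → F)

omit [Fintype F] in
theorem Cen.phase {o : Fin n} {a : Fin n → F} (h : Cen f K o a) {c : F} (hc : f.σ c * c = 1) :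
    Cen f K o (c • a) := by
  refine ⟨by simp [h.zero], ?_, fun ζ hζ => ?_⟩
  · simp [LinearMap.map_smulₛₗ, h.one, hc, mul_comm c]
  · obtain ⟨g, hg, hgx⟩ := h.mem ζ hζ
    refine ⟨g, hg, fun x => ?_⟩
    rw [hgx, LinearMap.map_smulₛₗ, LinearMap.smul_apply, smul_smul, smul_eq_mul]
    congr 2
    rw [show ((ζ - 1) * (f.σ c * f.B a x) * c) = (ζ - 1) * f.B a x * (f.σ c * c) by ring, hc, mul_one]

include hs

theorem Cen.conj {o : Fin n} {a : Fin n → F} (h : Cen f K o a) {g : GL (Fin n) F} (hg : g ∈ K)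
    (hgp : f.Preserves g) {c : F} (hgo : g.val *ᵥ Pi.single o 1 = Pi.single o c) :
    Cen f K o (g.val *ᵥ a) := by
  have hc : f.σ c * c = 1 := by
    have h1 := hgp (Pi.single o 1) (Pi.single o 1)
    rw [hgo, B_single_left hs, B_single_left hs] at h1
    simpa using h1
  have hrow : ∀ y, (g.val *ᵥ y) o = c * y o := fun y => by
    have h1 := hgp (Pi.single o 1) y
    rw [hgo, B_single_left hs, B_single_left hs, map_one, one_mul] at h1
    rw [← h1, ← mul_assoc, mul_comm c, hc, one_mul]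
  refine ⟨by rw [hrow, h.zero, mul_zero], by rw [hgp, h.one], fun ζ hζ => ?_⟩
  obtain ⟨x, hx, hxv⟩ := h.mem ζ hζ
  refine ⟨g * x * g⁻¹, K.mul_mem (K.mul_mem hg hx) (K.inv_mem hg), fun y => ?_⟩
  have h2 := hrow ((g⁻¹).val *ᵥ y)
  rw [val_mulVec_inv] at h2
  rw [Units.val_mul, Units.val_mul, ← Matrix.mulVec_mulVec, ← Matrix.mulVec_mulVec, hxv, Matrix.mulVec_add,
    Matrix.mulVec_add, Matrix.mulVec_smul, val_mulVec_inv, ← hgp a, val_mulVec_inv]
  congr 1
  rw [show (Pi.single o ((ζ⁻¹ - 1) * ((g⁻¹).val *ᵥ y) o) : Fin n → F) =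
    ((ζ⁻¹ - 1) * ((g⁻¹).val *ᵥ y) o) • Pi.single o 1 by simp [← Pi.single_smul], Matrix.mulVec_smul, hgo,
    ← Pi.single_smul, smul_eq_mul]
  congr 1
  rw [h2]; ring

include hn hK in
theorem cen_single {o u : Fin n} (huo : u ≠ o) : Cen f K o (Pi.single u 1) := by
  refine ⟨by simp [huo.symm], by simp [B_single_left hs], fun ζ hζ => ?_⟩
  have hζ0 : ζ ≠ 0 := fun h => by simp [h] at hζ
  obtain ⟨d, hd, hdu, hdo, hd1⟩ := exists_two (F := F) u o huo hζ0
  refine ⟨_, dg_mem' hs hK (hd := hd) fun i => ?_, fun x => funext fun p => ?_⟩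
  · rcases eq_or_ne i u with rfl | h1
    · rw [hdu]; exact hζ
    rcases eq_or_ne i o with rfl | h2
    · rw [hdo, map_inv₀, ← mul_inv, hζ, inv_one]
    · rw [hd1 i h1 h2, map_one, one_mul]
  · rw [dg_val, Matrix.mulVec_diagonal, B_single_left hs, map_one, one_mul]
    simp only [Pi.add_apply, Pi.smul_apply, smul_eq_mul]
    rcases eq_or_ne p u with rfl | h1
    · rw [hdu, Pi.single_eq_same, Pi.single_eq_of_ne huo]; ring
    rcases eq_or_ne p o with rfl | h2
    · rw [hdo, Pi.single_eq_of_ne h1, Pi.single_eq_same]; ring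
    · rw [hd1 p h1 h2, Pi.single_eq_of_ne h1, Pi.single_eq_of_ne h2]; ring

include hn hK hKp in
/-- A centre with at least five coordinates. -/
theorem exists_cen_five (hq3 : 3 ≤ q) {g₀ : GL (Fin n) F} (hg₀ : g₀ ∈ K) (hg₀m : ¬ Mono g₀) :
    ∃ o a, Cen f K o a ∧ ∃ T : Finset (Fin n), 5 ≤ T.card ∧ ∀ p ∈ T, a p ≠ 0 := by
  classical
  obtain ⟨x, hx, hxm, o, ho⟩ := exists_fix hs hn hK hKp hq3 hg₀ hg₀m
  have hxo : x.val *ᵥ Pi.single o 1 = Pi.single o (x.val o o) := funext fun p => by
    rw [Matrix.mulVec_single_one, Matrix.col_apply]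
    rcases eq_or_ne p o with rfl | hp
    · simp
    · rw [Pi.single_eq_of_ne hp, ho p hp]
  obtain ⟨c, hc⟩ : ∃ c, (x⁻¹).val *ᵥ Pi.single o 1 = Pi.single o c := by
    have hoo : x.val o o ≠ 0 := fun h => by
      obtain ⟨p, hp⟩ := exists_col_ne x o
      rcases eq_or_ne p o with rfl | hpo
      · exact hp h
      · exact hp (ho p hpo)
    refine ⟨(x.val o o)⁻¹, val_mulVec_injective x ?_⟩
    show x.val *ᵥ _ = x.val *ᵥ _
    rw [val_mulVec_inv, show (Pi.single o (x.val o o)⁻¹ : Fin n → F) = (x.val o o)⁻¹ • Pi.single o 1 by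
      simp [← Pi.single_smul], Matrix.mulVec_smul, hxo, ← Pi.single_smul, smul_eq_mul, inv_mul_cancel₀ hoo]
  obtain ⟨u, huo, p, p', hp, hp', hpp⟩ : ∃ u, u ≠ o ∧ ∃ p p', (x⁻¹).val p u ≠ 0 ∧ (x⁻¹).val p' u ≠ 0 ∧ p ≠ p' := by
    by_contra! h
    refine hxm (by
      have h1 : Mono x⁻¹ := fun u p p' hp hp' => by
        rcases eq_or_ne u o with rfl | hu
        · have e := fun r (hr : (x⁻¹).val r u ≠ 0) => (show r = u from by
            by_contra hne
            apply hr
            have := congrFun hc r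
            rwa [Matrix.mulVec_single_one, Matrix.col_apply, Pi.single_eq_of_ne hne] at this)
          rw [e p hp, e p' hp']
        · exact h u hu p p' hp hp'
      simpa using h1.inv)
  have ha₀ := (cen_single hs hn hK huo).conj hs (K.inv_mem hx) (hKp x hx).inv hc
  suffices ∀ k, 2 ≤ k → k ≤ 5 → ∃ a, Cen f K o a ∧ ∃ T : Finset (Fin n), k ≤ T.card ∧ ∀ r ∈ T, a r ≠ 0 by
    obtain ⟨a, ha, hT⟩ := this 5 (by norm_num) le_rfl
    exact ⟨o, a, ha, hT⟩
  intro k hk2 hk5
  induction k, hk2 using Nat.le_induction with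
  | base =>
    refine ⟨_, ha₀, {p, p'}, by rw [Finset.card_pair hpp], fun r hr => ?_⟩
    rw [Matrix.mulVec_single_one, Matrix.col_apply]
    rcases Finset.mem_insert.mp hr with rfl | hr
    · exact hp
    · rw [Finset.mem_singleton.mp hr]; exact hp'
  | succ k hk2 ih =>
    obtain ⟨a, ha, T, hT, hTa⟩ := ih (by omega)
    set S := Finset.univ.filter fun r => a r ≠ 0 with hS
    have hTS : T ⊆ S := fun r hr => Finset.mem_filter.mpr ⟨Finset.mem_univ r, hTa r hr⟩
    by_cases hbig : k + 1 ≤ S.card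
    · exact ⟨a, ha, S, hbig, fun r hr => (Finset.mem_filter.mp hr).2⟩
    have hSc : S.card = k := le_antisymm (by omega) (hT.trans (Finset.card_le_card hTS))
    obtain ⟨e, he, l, hl, hel⟩ := Finset.one_lt_card.mp (show 1 < S.card by omega)
    obtain ⟨r, -, hr⟩ := Finset.exists_mem_notMem_of_card_lt_card (s := insert o S) (t := Finset.univ)
      ((Finset.card_insert_le _ _).trans_lt (by rw [Finset.card_univ, Fintype.card_fin]; omega))
    simp only [Finset.mem_insert, not_or] at hr
    have hae := (Finset.mem_filter.mp he).2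
    have hal := (Finset.mem_filter.mp hl).2
    have har : a r = 0 := not_not.mp fun h => hr.2 (Finset.mem_filter.mpr ⟨Finset.mem_univ r, h⟩)
    have heo : e ≠ o := fun h => hae (h ▸ ha.zero)
    have hlo : l ≠ o := fun h => hal (h ▸ ha.zero)
    set Na := f.σ (a e) * a e
    set Nl := f.σ (a l) * a l
    have hNl : Nl ≠ 0 := mul_ne_zero (fun h => hal (f.σ_eq_zero.mp h)) hal
    obtain ⟨z, hz⟩ := exists_prim hs
    have hz1 : f.σ z * z = 1 := by rw [norm_eq hs, hz.pow_eq_one]
    have hz2 : z ^ 2 ≠ 1 := hz.pow_ne_one_of_pos_of_lt (by norm_num) (by omega)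
    set κ := z - 1
    have hκ : κ ≠ 0 := fun h => hz2 (by rw [sub_eq_zero.mp h, one_pow])
    obtain ⟨θ, hθN, hθ1, hθ2⟩ : ∃ θ : F, f.σ θ * θ = 1 ∧ θ + κ * (1 - Na + Nl * (θ - 1)) ≠ 0 ∧
        1 + κ * (1 - Na + Nl * (θ - 1)) ≠ 0 ∧ (1 - Na + Nl * (θ - 1) ≠ 0) := by
      by_cases hNe : Na = 1
      · obtain ⟨S', hS', hS'1⟩ := exists_circle hs
        have h1 : ∀ α β : F, (α ≠ 0 ∨ β ≠ 0) → (S'.filter fun θ => α * θ + β = 0).card ≤ 1 := fun α β hαβ =>
          Finset.card_le_one.mpr fun x hx y hy => by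
            have e1 := (Finset.mem_filter.mp hx).2
            have e2 := (Finset.mem_filter.mp hy).2
            have hα : α ≠ 0 := fun h => by
              rcases hαβ with h' | h'
              · exact h' h
              · exact h' (by simpa [h] using e1)
            exact mul_left_cancel₀ hα (by linear_combination e1 - e2)
        have hA := h1 (1 + κ * Nl) (-(κ * Nl)) (Or.inr (neg_ne_zero.mpr (mul_ne_zero hκ hNl)))
        have hB := h1 (κ * Nl) (1 - κ * Nl) (Or.inl (mul_ne_zero hκ hNl))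
        obtain ⟨θ, hθ, hθ'⟩ := Finset.exists_mem_notMem_of_card_lt_card
          (s := insert 1 ((S'.filter fun θ => (1 + κ * Nl) * θ + -(κ * Nl) = 0) ∪
            S'.filter fun θ => κ * Nl * θ + (1 - κ * Nl) = 0)) (t := S') (by
            refine (Finset.card_insert_le _ _).trans_lt ?_
            have := Finset.card_union_le (S'.filter fun θ => (1 + κ * Nl) * θ + -(κ * Nl) = 0)
              (S'.filter fun θ => κ * Nl * θ + (1 - κ * Nl) = 0)
            omega)
        simp only [Finset.mem_insert, Finset.mem_union, Finset.mem_filter, hθ, true_and, not_or] at hθ'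
        refine ⟨θ, hS'1 θ hθ, fun h => hθ'.2.1 (by rw [hNe] at h; linear_combination h),
          fun h => hθ'.2.2 (by rw [hNe] at h; linear_combination h), ?_⟩
        rw [hNe, sub_self, zero_add]
        exact mul_ne_zero hNl (sub_ne_zero.mpr hθ'.1)
      · have hne : 1 - Na ≠ 0 := sub_ne_zero.mpr (Ne.symm hNe)
        have h1 : 1 + κ * (1 - Na) ≠ 0 := fun h => hz2 (by
          have e : f.σ (1 - Na) = 1 - Na := by simp [Na, f.invol, mul_comm]
          have h' := congrArg f.σ h
          simp only [map_add, map_one, map_mul, e, map_zero, κ, map_sub] at h'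
          have h2 : f.σ z = z := by
            have h3 : (f.σ z - z) * (1 - Na) = 0 := by
              simp only [κ] at h
              linear_combination h' - h
            exact sub_eq_zero.mp ((mul_eq_zero.mp h3).resolve_right hne)
          rw [sq]; nth_rewrite 1 [← h2]; exact hz1)
        exact ⟨1, by simp, by simpa [add_comm] using h1, by simpa using h1, by simpa using hne⟩
    obtain ⟨hθ2, hB⟩ := hθ2
    obtain ⟨M, d, hMp, hMd, hMm, -, hMs, hMa, -, hdw⟩ := exists_umono hs (Equiv.swap e r)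
      (fun i => if i = l then θ else 1) (fun i => by split_ifs <;> simp [hθN]) o
    have hb := ha.conj hs (hK M hMp hMd hMm) hMp (show M.val *ᵥ Pi.single o 1 = Pi.single o (d o) by
      rw [hMs, Equiv.swap_apply_of_ne_of_ne heo.symm (Ne.symm hr.1), mul_one])
    set b := M.val *ᵥ a with hbdef
    have her : e ≠ r := fun h => hae (h ▸ har)
    have hlr : l ≠ r := fun h => hal (h ▸ har)
    have hbv : b = a + Pi.single l ((θ - 1) * a l) + (Pi.single r (a e) - Pi.single e (a e)) := funext fun p => by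
      obtain ⟨i, rfl⟩ := (Equiv.swap e r).surjective p
      rw [hbdef, hMa]
      simp only [Pi.add_apply, Pi.sub_apply]
      rcases eq_or_ne i e with rfl | h1
      · rw [Equiv.swap_apply_left, hdw i heo, if_neg hel, one_mul, har, Pi.single_eq_of_ne hlr.symm,
          Pi.single_eq_same, Pi.single_eq_of_ne her.symm]
        ring
      rcases eq_or_ne i r with rfl | h2
      · rw [Equiv.swap_apply_right, har, mul_zero, Pi.single_eq_of_ne hel, Pi.single_eq_of_ne her,
          Pi.single_eq_same]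
        ring
      rw [Equiv.swap_apply_of_ne_of_ne h1 h2, Pi.single_eq_of_ne h2, Pi.single_eq_of_ne h1]
      rcases eq_or_ne i l with rfl | h3
      · rw [hdw i hlo, if_pos rfl, Pi.single_eq_same]; ring
      rw [Pi.single_eq_of_ne h3]
      rcases eq_or_ne i o with rfl | h4
      · rw [ha.zero]; ring
      · rw [hdw i h4, if_neg h3]; ring
    have hBab : f.B a b = 1 - Na + Nl * (θ - 1) := by
      rw [hbv, map_add, map_add, map_sub, ha.one, B_single_right hs, B_single_right hs, B_single_right hs, har]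
      simp only [map_zero, zero_mul, Na, Nl]
      ring
    obtain ⟨g, hg, hgx⟩ := ha.mem z hz1
    have hgo : g.val *ᵥ Pi.single o 1 = Pi.single o z⁻¹ := by
      rw [hgx, B_single_right hs, ha.zero]
      simp [← Pi.single_add]
    refine ⟨_, hb.conj hs hg (hKp g hg) hgo, insert r S, by rw [Finset.card_insert_of_notMem hr.2, hSc],
      fun p hp => ?_⟩
    have hval : (g.val *ᵥ b) p = b p + κ * (1 - Na + Nl * (θ - 1)) * a p := by
      rw [hgx, hb.zero, hBab]
      simp [κ]
    rw [hval, hbv]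
    simp only [Pi.add_apply, Pi.sub_apply]
    rcases Finset.mem_insert.mp hp with rfl | hp
    · rw [har, Pi.single_eq_of_ne hlr.symm, Pi.single_eq_same, Pi.single_eq_of_ne her.symm]
      simpa using hae
    have hap := (Finset.mem_filter.mp hp).2
    rcases eq_or_ne p e with rfl | h1
    · rw [Pi.single_eq_of_ne hel, Pi.single_eq_of_ne her, Pi.single_eq_same,
        show a p + 0 + (0 - a p) + κ * (1 - Na + Nl * (θ - 1)) * a p = κ * (1 - Na + Nl * (θ - 1)) * a p by ring]
      exact mul_ne_zero (mul_ne_zero hκ hB) hap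
    rw [Pi.single_eq_of_ne h1, Pi.single_eq_of_ne (show p ≠ r from fun h => hr.2 (h ▸ hp))]
    rcases eq_or_ne p l with rfl | h2
    · rw [Pi.single_eq_same, show a p + (θ - 1) * a p + (0 - 0) + κ * (1 - Na + Nl * (θ - 1)) * a p =
        (θ + κ * (1 - Na + Nl * (θ - 1))) * a p by ring]
      exact mul_ne_zero hθ1 hap
    · rw [Pi.single_eq_of_ne h2, show a p + 0 + (0 - 0) + κ * (1 - Na + Nl * (θ - 1)) * a p =
        (1 + κ * (1 - Na + Nl * (θ - 1))) * a p by ring]
      exact mul_ne_zero hθ2 hap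

include hn hK hKp in
/-- A non-zero isotropic vector with all its transvections in `K`. -/
theorem exists_ctr (hq3 : 3 ≤ q) {g₀ : GL (Fin n) F} (hg₀ : g₀ ∈ K) (hg₀m : ¬ Mono g₀) :
    ∃ o z, z ≠ 0 ∧ z o = 0 ∧ f.Ctr K z := by
  classical
  obtain ⟨o, a₁, ha₁, T, hT, hTa⟩ := exists_cen_five hs hn hK hKp hq3 hg₀ hg₀m
  obtain ⟨e, heT⟩ := Finset.card_pos.mp (show 0 < T.card by omega)
  have hU : 4 ≤ (T.erase e).card := by rw [Finset.card_erase_of_mem heT]; omega
  have hoT : o ∉ T := fun h => hTa o h ha₁.zero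
  set N : Fin n → F := fun l => f.σ (a₁ l) * a₁ l
  have hN : ∀ l ∈ T, N l ≠ 0 := fun l hl => mul_ne_zero (fun h => hTa l hl (f.σ_eq_zero.mp h)) (hTa l hl)
  obtain ⟨ζ, hζ⟩ := exists_prim hs
  have hζ1 : f.σ ζ * ζ = 1 := by rw [norm_eq hs, hζ.pow_eq_one]
  have hζne : ζ ≠ 1 := hζ.ne_one (by omega)
  obtain ⟨d₀, hd₀, hd₀1, hd₀s⟩ := exists_sum_set hs (T.erase e) N (by
    rw [Finset.filter_true_of_mem fun l hl => hN l (Finset.mem_of_mem_erase hl)]; exact hU)
    (ζ - 1 + ∑ l ∈ T.erase e, N l)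
  obtain ⟨M, d, hMp, hMd, hMm, -, hMs, hMa, -, hdw⟩ := exists_umono hs (1 : Equiv.Perm (Fin n)) d₀ hd₀ o
  have hb := ha₁.conj hs (hK M hMp hMd hMm) hMp (show M.val *ᵥ Pi.single o 1 = Pi.single o (d o) by
    rw [hMs, mul_one]; rfl)
  set b := M.val *ᵥ a₁ with hbdef
  have hbp : ∀ p, b p = d₀ p * a₁ p := fun p => by
    have h1 := hMa a₁ p
    rw [Equiv.Perm.one_apply] at h1
    rw [hbdef, h1]
    rcases eq_or_ne p o with rfl | hp
    · rw [ha₁.zero, mul_zero, mul_zero]
    · rw [hdw p hp]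
  have hBab : f.B a₁ b = ζ := by
    have h1 : f.B a₁ b - f.B a₁ a₁ = ∑ l ∈ T.erase e, N l * (d₀ l - 1) := by
      rw [hs.form, hs.form, ← Finset.sum_sub_distrib,
        ← Finset.sum_subset (Finset.subset_univ (T.erase e)) fun l _ hl => by
          rw [hbp, hd₀1 l hl, one_mul, sub_self]]
      refine Finset.sum_congr rfl fun l _ => ?_
      rw [hbp]; simp only [N]; ring
    simp only [mul_sub, mul_one, Finset.sum_sub_distrib, hd₀s, ha₁.one] at h1
    linear_combination h1
  have ha := ha₁.phase hζ1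
  set a := ζ • a₁ with hadef
  set z := b - a with hzdef
  have hab : f.B a b = 1 := by
    rw [hadef, LinearMap.map_smulₛₗ, LinearMap.smul_apply, hBab, smul_eq_mul]; exact hζ1
  have haz : f.B a z = 0 := by rw [hzdef, map_sub, hab, ha.one, sub_self]
  have hzz : f.B z z = 0 := by
    simp only [hzdef, map_sub, LinearMap.sub_apply]
    rw [hb.one, ha.one, hab, ← f.herm a b, hab, map_one]
    ring
  have hza : f.B z a = 0 := f.eq_zero_comm haz
  have hzo : z o = 0 := by rw [hzdef, Pi.sub_apply, hb.zero, ha.zero, sub_zero]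
  have hz0 : z ≠ 0 := fun h => by
    have h1 := congrFun h e
    simp only [hzdef, hadef, Pi.sub_apply, Pi.smul_apply, smul_eq_mul, Pi.zero_apply, hbp,
      hd₀1 e (Finset.notMem_erase e T)] at h1
    exact hζne (mul_right_cancel₀ (hTa e heT) (by linear_combination -h1))
  refine ⟨o, z, hz0, hzo, hzz, ?_⟩
  let P : F → F → Prop := fun α γ => ∃ g ∈ K, ∀ x, g.val *ᵥ x =
    x + (α * f.B z x) • a - (f.σ α * f.B a x) • z + (γ * f.B z x) • z
  have hmul : ∀ α β γ γ', P α γ → P β γ' → P (α + β) (γ + γ' - f.σ α * β) := by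
    rintro α β γ γ' ⟨g, hg, hgx⟩ ⟨g', hg', hgx'⟩
    refine ⟨g * g', K.mul_mem hg hg', fun x => ?_⟩
    rw [Units.val_mul, ← Matrix.mulVec_mulVec, hgx', hgx]
    simp only [map_add, map_sub, map_smul, smul_eq_mul, haz, hza, hzz, ha.one, mul_zero, mul_one, add_zero,
      sub_zero]
    module
  have hinv : ∀ α γ, P α γ → P (-α) (-γ - f.σ α * α) := by
    rintro α γ ⟨g, hg, hgx⟩
    refine ⟨g⁻¹, K.inv_mem hg, fun x => val_mulVec_injective g ?_⟩
    show g.val *ᵥ _ = g.val *ᵥ _
    rw [val_mulVec_inv, hgx]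
    simp only [map_add, map_sub, map_smul, map_neg, smul_eq_mul, haz, hza, hzz, ha.one, mul_zero, mul_one, add_zero,
      sub_zero]
    module
  have hbase : ∀ θ, f.σ θ * θ = 1 → P (θ - 1) (θ - 1) := by
    intro θ hθ
    have hθ0 : θ ≠ 0 := fun h => by simp [h] at hθ
    have hθi : f.σ θ = θ⁻¹ := eq_inv_of_mul_eq_one_left hθ
    obtain ⟨g, hg, hgx⟩ := hb.mem θ hθ
    obtain ⟨g', hg', hgx'⟩ := ha.mem θ⁻¹ (by rw [map_inv₀, ← mul_inv, hθ, inv_one])
    refine ⟨g * g', K.mul_mem hg hg', fun x => ?_⟩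
    rw [Units.val_mul, ← Matrix.mulVec_mulVec, hgx', hgx]
    have hbaz : b = a + z := by rw [hzdef]; abel
    simp only [hbaz, map_add, LinearMap.add_apply, map_smul, smul_eq_mul, haz, hza, hzz, ha.one, inv_inv, map_sub,
      map_one, hθi, B_single_right hs, Pi.add_apply, Pi.smul_apply, Pi.single_eq_same, ha.zero, hzo, map_zero]
    rw [show ((θ⁻¹ - 1) * (x o + (θ⁻¹ - 1) * f.B a x * 0 + (θ - 1) * x o)) = -((θ - 1) * x o) by field_simp; ring]
    rw [Pi.single_neg]
    match_scalars <;> field_simp <;> ring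
  obtain ⟨θ, hθ⟩ : ∃ θ, f.σ θ * θ = 1 ∧ θ ≠ 1 := ⟨ζ, hζ1, hζne⟩
  have hall : ∀ α, ∃ γ, P α γ := by
    intro α
    obtain ⟨u₁, u₂, u₃, u₄, h₁, h₂, h₃, h₄, hsum⟩ := exists_sum_four hs (one_ne_zero (α := F)) one_ne_zero
      one_ne_zero one_ne_zero (α / (θ - 1))
    have hstep : ∀ u, f.σ u * u = 1 → ∃ γ, P ((θ - 1) * u) γ := fun u hu => by
      have h := hmul _ _ _ _ (hbase (θ * u) (by rw [map_mul]; linear_combination (f.σ θ * θ) * hu + hθ.1))
        (hinv _ _ (hbase u hu))
      rw [show θ * u - 1 + -(u - 1) = (θ - 1) * u by ring] at h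
      exact ⟨_, h⟩
    obtain ⟨g₁, e₁⟩ := hstep u₁ h₁
    obtain ⟨g₂, e₂⟩ := hstep u₂ h₂
    obtain ⟨g₃, e₃⟩ := hstep u₃ h₃
    obtain ⟨g₄, e₄⟩ := hstep u₄ h₄
    have h := hmul _ _ _ _ (hmul _ _ _ _ (hmul _ _ _ _ e₁ e₂) e₃) e₄
    rw [show (θ - 1) * u₁ + (θ - 1) * u₂ + (θ - 1) * u₃ + (θ - 1) * u₄ = α by
      have h5 : (θ - 1) ≠ 0 := sub_ne_zero.mpr hθ.2
      field_simp at hsum
      linear_combination hsum] at h
    exact ⟨_, h⟩
  intro c hc
  obtain ⟨d₁, hd₁⟩ := f.exists_trace (map_one f.σ)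
  obtain ⟨γ₁, h₁⟩ := hall (c * d₁)
  obtain ⟨γ₂, h₂⟩ := hall 1
  have h12 := hmul _ _ _ _ h₁ h₂
  have h21 := hmul _ _ _ _ h₂ h₁
  rw [add_comm (1 : F)] at h21
  have h := hmul _ _ _ _ h12 (hinv _ _ h21)
  obtain ⟨g, hg, hgx⟩ := h
  have hfinal : f.trans z hzz c = g := Units.ext (eq_of_mulVec_eq fun x => by
    refine (f.trans_mulVec z hzz c x).trans ?_
    rw [hgx, show c * d₁ + 1 + -(c * d₁ + 1) = (0 : F) by ring,
      map_zero, show (γ₁ + γ₂ - f.σ (c * d₁) * 1 + (-(γ₂ + γ₁ - f.σ 1 * (c * d₁)) - f.σ (c * d₁ + 1) * (c * d₁ + 1))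
        - f.σ (c * d₁ + 1) * -(c * d₁ + 1)) = c by
        rw [map_one, map_mul]
        linear_combination c * hd₁ - f.σ d₁ * hc]
    simp)
  rw [hfinal]
  exact hg

include hn hK hKp in
/-- Every isotropic vector on two coordinates is a centre. -/
theorem ctr_pair (hq3 : 3 ≤ q) {g₀ : GL (Fin n) F} (hg₀ : g₀ ∈ K) (hg₀m : ¬ Mono g₀) (p r : Fin n) (hpr : p ≠ r)
    (A B : F) (hiso : f.σ A * A + f.σ B * B = 0) :
    f.Ctr K (Pi.single p A + Pi.single r B) := by
  classical
  obtain ⟨o, z, hz0, hzo, hz⟩ := exists_ctr hs hn hK hKp hq3 hg₀ hg₀m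
  have hzz : f.B z z = 0 := hz.1
  set N : Fin n → F := fun l => f.σ (z l) * z l
  -- a centre on two coordinates
  obtain ⟨u, w, huw, C, D, hC, hD, hCD⟩ : ∃ u w, u ≠ w ∧ ∃ C D : F, C ≠ 0 ∧ D ≠ 0 ∧
      f.Ctr K (Pi.single u C + Pi.single w D) := by
    by_cases hex : ∃ u w, u ≠ w ∧ z u ≠ 0 ∧ z w ≠ 0 ∧ ((2 : F) = 0 ∨ N u + N w ≠ 0)
    · obtain ⟨u, w, huw, hu, hw, hgood⟩ := hex
      have hNu : N u ≠ 0 := mul_ne_zero (fun h => hu (f.σ_eq_zero.mp h)) hu
      have hNw : N w ≠ 0 := mul_ne_zero (fun h => hw (f.σ_eq_zero.mp h)) hw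
      obtain ⟨S, hS, hS1⟩ := exists_circle hs
      set φ : F → F := fun x => f.σ (x - 1) * (x - 1) with hφ
      have hφ0 : ∀ x ∈ S.erase 1, φ x ≠ 0 := fun x hx => by
        have h := sub_ne_zero.mpr (Finset.mem_erase.mp hx).1
        exact mul_ne_zero (fun e => h (f.σ_eq_zero.mp e)) h
      have hfib : ∀ c : F, c ≠ 0 → q ≤ 2 * ((S.erase 1).image fun x => c * φ x).card := fun c hc => by
        refine le_trans ?_ (Finset.card_le_mul_card_image (S.erase 1) 2 fun y _ => ?_)
        · have := Finset.card_erase_add_one (s := S) (a := 1)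
          by_cases h1 : (1 : F) ∈ S
          · rw [Finset.card_erase_of_mem h1, hS]; omega
          · rw [Finset.erase_eq_of_notMem h1, hS]; omega
        refine card_root_two (a := 1) (b := y / c - 2) (c := 1) one_ne_zero _ fun x hx => ?_
        obtain ⟨hx, hxy⟩ := Finset.mem_filter.mp hx
        have h1 := hS1 x (Finset.mem_of_mem_erase hx)
        rw [← hxy, mul_div_cancel_left₀ _ hc]
        simp only [hφ, map_sub, map_one]
        linear_combination (x - 1) * h1
      set F₀ := (Polynomial.nthRoots (q - 1) (1 : F)).toFinset with hF₀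
      have hF₀c : F₀.card ≤ q - 1 := (Multiset.toFinset_card_le _).trans (Polynomial.card_nthRoots _ _)
      have hfix : ∀ y : F, y ≠ 0 → f.σ y = y → y ∈ F₀ := fun y hy hy' => by
        rw [hF₀, Multiset.mem_toFinset, Polynomial.mem_nthRoots (by omega)]
        rw [hs.sig] at hy'
        refine mul_right_cancel₀ hy ?_
        rw [one_mul, ← pow_succ, show q - 1 + 1 = q by omega, hy']
      obtain ⟨y, hy⟩ : (((S.erase 1).image fun x => N u * φ x) ∩ ((S.erase 1).image fun x => -N w * φ x)).Nonempty := by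
        rw [← Finset.card_pos]
        have h1 := Finset.card_union_add_card_inter ((S.erase 1).image fun x => N u * φ x)
          ((S.erase 1).image fun x => -N w * φ x)
        have h2 := (Finset.card_le_card (show ((S.erase 1).image fun x => N u * φ x) ∪
          ((S.erase 1).image fun x => -N w * φ x) ⊆ F₀ from Finset.union_subset
            (fun y hy => by
              obtain ⟨x, hx, rfl⟩ := Finset.mem_image.mp hy
              exact hfix _ (mul_ne_zero hNu (hφ0 x hx)) (by simp only [N, hφ, map_mul, f.invol]; ring))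
            (fun y hy => by
              obtain ⟨x, hx, rfl⟩ := Finset.mem_image.mp hy
              exact hfix _ (mul_ne_zero (neg_ne_zero.mpr hNw) (hφ0 x hx))
                (by simp only [N, hφ, map_mul, map_neg, f.invol]; ring)))).trans hF₀c
        have h3 := hfib (N u) hNu
        have h4 := hfib (-N w) (neg_ne_zero.mpr hNw)
        omega
      obtain ⟨hy1, hy2⟩ := Finset.mem_inter.mp hy
      obtain ⟨ζ, hζ, rfl⟩ := Finset.mem_image.mp hy1
      obtain ⟨η₀, hη₀, hηζ⟩ := Finset.mem_image.mp hy2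
      have hζN := hS1 ζ (Finset.mem_of_mem_erase hζ)
      have hζ1 := (Finset.mem_erase.mp hζ).1
      obtain ⟨η, hηN, hη1, hzero, hne⟩ : ∃ η : F, f.σ η * η = 1 ∧ η ≠ 1 ∧ N u * φ ζ + N w * φ η = 0 ∧
          N u * (ζ - 1) + N w * (η - 1) ≠ 0 := by
        have hN₀ := hS1 η₀ (Finset.mem_of_mem_erase hη₀)
        have hη₀1 := (Finset.mem_erase.mp hη₀).1
        have e0 : N u * φ ζ + N w * φ η₀ = 0 := by linear_combination -hηζ
        by_cases h : N u * (ζ - 1) + N w * (η₀ - 1) = 0
        swap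
        · exact ⟨η₀, hN₀, hη₀1, e0, h⟩
        have hi : η₀⁻¹ = f.σ η₀ := inv_eq_of_mul_eq_one_left hN₀
        refine ⟨η₀⁻¹, by rw [map_inv₀, ← mul_inv, hN₀, inv_one], fun e => hη₀1 (inv_eq_one.mp e), ?_, fun h' => ?_⟩
        · rw [hi]; simp only [hφ, map_sub, map_one, f.invol] at e0 ⊢; linear_combination e0
        have h5 : η₀ * η₀ = 1 := by
          have h6 : N w * (η₀ - η₀⁻¹) = 0 := by linear_combination h - h'
          have h7 := sub_eq_zero.mp ((mul_eq_zero.mp h6).resolve_left hNw)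
          have h8 : η₀ ≠ 0 := fun e => by simp [e] at hN₀
          nth_rewrite 2 [h7]
          exact mul_inv_cancel₀ h8
        have h9 : η₀ = -1 := by
          have h10 : (η₀ - 1) * (η₀ + 1) = 0 := by linear_combination h5
          exact eq_neg_of_add_eq_zero_left ((mul_eq_zero.mp h10).resolve_left (sub_ne_zero.mpr hη₀1))
        have h2 : (2 : F) ≠ 0 := fun e => hη₀1 (by rw [h9]; linear_combination -e)
        subst h9
        have hσu : f.σ (N u) = N u := by simp only [N, map_mul, f.invol]; ring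
        have hσw : f.σ (N w) = N w := by simp only [N, map_mul, f.invol]; ring
        have h' := congrArg f.σ h
        simp only [map_add, map_mul, map_sub, map_neg, map_one, hσu, hσw, map_zero] at h'
        have h11 : f.σ ζ = ζ := mul_left_cancel₀ hNu (by linear_combination h' - h)
        rw [h11] at hζN
        have h12 : (ζ - 1) * (ζ + 1) = 0 := by linear_combination hζN
        have h13 := eq_neg_of_add_eq_zero_left ((mul_eq_zero.mp h12).resolve_left (sub_ne_zero.mpr hζ1))
        rw [h13] at h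
        rcases hgood with e | e
        · exact h2 e
        · exact mul_ne_zero h2 e (by linear_combination -h)
      have huo : u ≠ o := fun e => hu (e ▸ hzo)
      have hwo : w ≠ o := fun e => hw (e ▸ hzo)
      obtain ⟨M, d, hMp, hMd, hMm, -, -, hMa, -, hdw⟩ := exists_umono hs (1 : Equiv.Perm (Fin n))
        (fun i => if i = u then ζ else if i = w then η else 1) (fun i => by split_ifs <;> simp [hζN, hηN]) o
      have hMz : M.val *ᵥ z = z + (Pi.single u ((ζ - 1) * z u) + Pi.single w ((η - 1) * z w)) := funext fun i => by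
        have := hMa z i
        rw [Equiv.Perm.one_apply] at this
        rw [this]
        simp only [Pi.add_apply]
        rcases eq_or_ne i o with rfl | hio
        · simp [hzo, huo.symm, hwo.symm]
        rw [hdw i hio]
        rcases eq_or_ne i u with rfl | h1
        · simp [huw]; ring
        rcases eq_or_ne i w with rfl | h2
        · simp [h1]; ring
        · simp [h1, h2]
      have h3 := ((hz.smul (-1)).add (hz.of_conj (hK M hMp hMd hMm) hMp) (by
          rw [hMz]
          simp only [LinearMap.map_smulₛₗ, LinearMap.smul_apply, map_add, hzz, B_single_right hs, map_neg, map_one,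
            smul_eq_mul]
          intro e
          exact hne (by simp only [N]; linear_combination -e)) (by
          show f.B _ _ = 0
          rw [hMz, show (-1 : F) • z + (z + (Pi.single u ((ζ - 1) * z u) + Pi.single w ((η - 1) * z w))) =
            Pi.single u ((ζ - 1) * z u) + Pi.single w ((η - 1) * z w) by module]
          simp only [map_add, LinearMap.add_apply, B_single_left hs, Pi.single_eq_same, Pi.single_eq_of_ne huw,
            Pi.single_eq_of_ne huw.symm, map_mul, mul_zero, add_zero, zero_add]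
          simp only [hφ, N] at hzero
          linear_combination hzero))
      rw [hMz, show (-1 : F) • z + (z + (Pi.single u ((ζ - 1) * z u) + Pi.single w ((η - 1) * z w))) =
            Pi.single u ((ζ - 1) * z u) + Pi.single w ((η - 1) * z w) by module] at h3
      exact ⟨u, w, huw, _, _, mul_ne_zero (sub_ne_zero.mpr hζ1) hu, mul_ne_zero (sub_ne_zero.mpr hη1) hw, h3⟩
    · push Not at hex
      obtain ⟨u, hu⟩ := Function.ne_iff.mp hz0
      obtain ⟨w, huw, hw⟩ : ∃ w, u ≠ w ∧ z w ≠ 0 := by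
        by_contra! h
        rw [hs.form, Finset.sum_eq_single u (fun i _ hi => by rw [h i hi.symm, mul_zero])
          (fun h => absurd (Finset.mem_univ u) h)] at hzz
        exact mul_ne_zero (fun e => hu (f.σ_eq_zero.mp e)) hu hzz
      refine ⟨u, w, huw, z u, z w, hu, hw, ?_⟩
      suffices z = Pi.single u (z u) + Pi.single w (z w) from this ▸ hz
      funext i
      simp only [Pi.add_apply]
      rcases eq_or_ne i u with rfl | h1
      · simp [huw]
      rcases eq_or_ne i w with rfl | h2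
      · simp [h1]
      rw [Pi.single_eq_of_ne h1, Pi.single_eq_of_ne h2, add_zero]
      by_contra hi
      obtain ⟨h20, e1⟩ := hex u i h1.symm hu hi
      obtain ⟨-, e2⟩ := hex u w huw hu hw
      obtain ⟨-, e3⟩ := hex w i h2.symm hw hi
      have : (2 : F) * N u = 0 := by linear_combination e1 + e2 - e3
      exact mul_ne_zero h20 (mul_ne_zero (fun e => hu (f.σ_eq_zero.mp e)) hu) this
  rcases eq_or_ne A 0 with rfl | hA
  · obtain rfl : B = 0 := by
      rcases mul_eq_zero.mp (show f.σ B * B = 0 by simpa using hiso) with h | h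
      · exact f.σ_eq_zero.mp h
      · exact h
    simp [HermF.Ctr.zero]
  have hCD' : f.σ C * C + f.σ D * D = 0 := by
    have h := hCD.1
    unfold HermF.Iso at h
    simpa [B_single_left hs, huw, huw.symm] using h
  have hC' : f.σ C * C ≠ 0 := mul_ne_zero (fun e => hC (f.σ_eq_zero.mp e)) hC
  obtain ⟨c, hc⟩ := Cfsg.Agent.Lib.Geometry.exists_mul_conj_eq f.σ_ne f.invol
    (s := f.σ A * A / (f.σ C * C)) (by simp [map_div₀, f.invol, mul_comm])
  have hc0 : c ≠ 0 := fun h => by
    rw [h, mul_zero] at hc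
    exact div_ne_zero (mul_ne_zero (fun e => hA (f.σ_eq_zero.mp e)) hA) hC' hc.symm
  have hB : f.σ B * B ≠ 0 := fun h => mul_ne_zero (fun e => hA (f.σ_eq_zero.mp e)) hA (by linear_combination hiso - h)
  obtain ⟨π, hπu, hπw⟩ : ∃ π : Equiv.Perm (Fin n), π u = p ∧ π w = r := by
    refine ⟨(Equiv.swap u p).trans (Equiv.swap (Equiv.swap u p w) r), ?_, by simp⟩
    rw [Equiv.trans_apply, Equiv.swap_apply_left, Equiv.swap_apply_of_ne_of_ne ?_ hpr]
    intro h
    exact huw ((Equiv.swap u p).injective (by rw [Equiv.swap_apply_left]; exact h))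
  obtain ⟨t, ht⟩ : ∃ t : Fin n, t ∉ ({u, w} : Finset (Fin n)) := by
    obtain ⟨t, -, ht⟩ := Finset.exists_mem_notMem_of_card_lt_card (s := ({u, w} : Finset (Fin n))) (t := Finset.univ)
      (Finset.card_le_two.trans_lt (by rw [Finset.card_univ, Fintype.card_fin]; omega))
    exact ⟨t, ht⟩
  simp only [Finset.mem_insert, Finset.mem_singleton, not_or] at ht
  have hσc : f.σ c ≠ 0 := fun e => hc0 (f.σ_eq_zero.mp e)
  have hsC : f.σ C ≠ 0 := fun e => hC (f.σ_eq_zero.mp e)
  have hsD : f.σ D ≠ 0 := fun e => hD (f.σ_eq_zero.mp e)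
  field_simp at hc
  obtain ⟨M, d, hMp, hMd, hMm, -, hMs, -, -, hdw⟩ := exists_umono hs π
    (fun i => if i = u then A / (c * C) else if i = w then B / (c * D) else 1) (fun i => by
      split_ifs
      · rw [map_div₀, map_mul]
        field_simp
        linear_combination -hc
      · rw [map_div₀, map_mul]
        field_simp
        linear_combination hiso + hc - (f.σ c * c) * hCD'
      · simp) t
  have h := (hCD.smul c).of_conj (hK M hMp hMd hMm) hMp
  rwa [smul_add, ← Pi.single_smul, ← Pi.single_smul, smul_eq_mul, smul_eq_mul, Matrix.mulVec_add, hMs, hMs, hπu, hπw,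
    hdw u (Ne.symm ht.1), hdw w (Ne.symm ht.2), if_pos rfl, if_neg huw.symm, if_pos rfl,
    div_mul_cancel₀ _ (mul_ne_zero hc0 hC), div_mul_cancel₀ _ (mul_ne_zero hc0 hD)] at h

end Cfsg.Agent.Lib.ThreeTransp.DecompUni
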