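import Cfsg.Agent.Lib.ThreeTransp.DecompUniBase

/-!
The case `q = 2` for one dimensional blocks.
-/

set_option autoImplicit false

namespace Cfsg.Agent.Lib.ThreeTransp.DecompUni

open Cfsg.Agent.Lib.MaxSub Cfsg.Agent.Lib.ThreeTransp.DecompMax Matrix
open scoped MatrixGroups Matrix

variable {n : ℕ} {F : Type*} [Field F] [Fintype F] {f : HermF (Fin n) F} (hs : Std f 2) (hn : 13 ≤ n)
  {K : Subgroup (GL (Fin n) F)} (hK : ∀ g : GL (Fin n) F, f.Preserves g → g.val.det = 1 → Mono g → g ∈ K)
  (hKp : ∀ g ∈ K, f.Preserves g)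

include hs

theorem norm_two {x : F} (h : x ≠ 0) : f.σ x * x = 1 := by
  rw [norm_eq hs]
  have := FiniteField.pow_card_sub_one_eq_one x h
  rwa [hs.card] at this

theorem two_zero : (2 : F) = 0 := by
  have h1 : ringChar F = 2 := by
    refine FiniteField.even_card_iff_char_two.mpr ?_
    rw [hs.card]; rfl
  haveI := ringChar.of_eq h1
  exact CharTwo.two_eq_zero

theorem form_self [DecidableEq F] (x : Fin n → F) :
    f.B x x = ((Finset.univ.filter fun i => x i ≠ 0).card : F) := by
  rw [hs.form, Finset.card_filter, Nat.cast_sum]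
  refine Finset.sum_congr rfl fun i _ => ?_
  rcases eq_or_ne (x i) 0 with h | h
  · simp [h]
  · simp [h, norm_two hs h]

theorem iso_iff [DecidableEq F] (x : Fin n → F) :
    f.B x x = 0 ↔ Even (Finset.univ.filter fun i => x i ≠ 0).card := by
  haveI : CharP F 2 := ringChar.of_eq (FiniteField.even_card_iff_char_two.mpr (by rw [hs.card]; rfl))
  rw [form_self hs, CharP.cast_eq_zero_iff F 2, even_iff_two_dvd]

include hn hK hKp in
/-- All isotropic vectors are centres when `q = 2`. -/
theorem ctr_all_two {g₀ : GL (Fin n) F} (hg₀ : g₀ ∈ K) (hg₀m : ¬ Mono g₀) :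
    ∀ x, f.Iso x → f.Ctr K x := by
  classical
  have h2 := two_zero hs
  obtain ⟨ω, hω⟩ := exists_prim hs
  have hω3 : ω ^ 3 = 1 := hω.pow_eq_one
  have hω0 : ω ≠ 0 := fun h => by simp [h] at hω3
  have hω1 : ω ≠ 1 := hω.ne_one (by norm_num)
  have hωω : ω ^ 2 + ω + 1 = 0 := by
    have h : (ω - 1) * (ω ^ 2 + ω + 1) = 0 := by linear_combination hω3
    exact (mul_eq_zero.mp h).resolve_left (sub_ne_zero.mpr hω1)
  -- two coordinates
  have hpair : ∀ p r : Fin n, p ≠ r → ∀ A B : F, f.σ A * A + f.σ B * B = 0 →
      f.Ctr K (Pi.single p A + Pi.single r B) := by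
    intro p r hpr A B hiso
    rcases eq_or_ne A 0 with rfl | hA
    · obtain rfl : B = 0 := by
        by_contra h
        rw [norm_two hs h, mul_zero, zero_add] at hiso
        exact one_ne_zero hiso
      simp [HermF.Ctr.zero]
    have hB : B ≠ 0 := fun h => by
      rw [h, norm_two hs hA, mul_zero, add_zero] at hiso
      exact one_ne_zero hiso
    set v : Fin n → F := Pi.single p A + Pi.single r B with hv
    have hvi : f.Iso v := by
      show f.B _ _ = 0
      simp only [hv, map_add, LinearMap.add_apply, B_single_left hs, Pi.single_eq_same, Pi.single_eq_of_ne hpr,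
        Pi.single_eq_of_ne hpr.symm, mul_zero, add_zero, zero_add]
      exact hiso
    refine ⟨hvi, fun c hc => ?_⟩
    rcases eq_or_ne c 0 with rfl | hc0
    · rw [show f.trans v hvi 0 = 1 from Units.ext (eq_of_mulVec_eq fun x => by simp [f.trans_mulVec])]
      exact K.one_mem
    have hc1 : c = 1 := by
      have hN := norm_two hs hc0
      rw [eq_neg_of_add_eq_zero_right hc, show -c = c by linear_combination (-c) * h2] at hN
      have h : (c - 1) * (c - 1) = 0 := by linear_combination hN + (1 - c) * h2
      exact sub_eq_zero.mp ((mul_eq_zero.mp h).elim id id)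
    subst hc1
    refine hK _ (f.trans_preserves v hvi hc) (det_of_mem_sl (tv_mem_specialLinear _ _ _)) ?_
    have hent : ∀ i j, (f.trans v hvi 1).val i j = (Pi.single j (1 : F) : Fin n → F) i + f.σ (v j) * v i := fun i j => by
      have h1 := congrFun (f.trans_mulVec v hvi 1 (Pi.single j 1)) i
      rw [B_single_right hs] at h1
      simpa [Matrix.mulVec_single_one] using h1
    have hvp : v p = A := by simp [hv, hpr]
    have hvr : v r = B := by simp [hv, hpr.symm]
    have hv0 : ∀ i, i ≠ p → i ≠ r → v i = 0 := fun i h h' => by simp [hv, h, h']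
    intro j i i' hi hi'
    suffices ∀ i, (f.trans v hvi 1).val i j ≠ 0 → i = Equiv.swap p r j from (this i hi).trans (this i' hi').symm
    intro i hij
    rw [hent] at hij
    rcases eq_or_ne j p with rfl | hjp
    · rw [Equiv.swap_apply_left]
      by_contra hne
      refine hij ?_
      rcases eq_or_ne i j with rfl | h
      · rw [Pi.single_eq_same, hvp, norm_two hs hA]; linear_combination h2
      · rw [Pi.single_eq_of_ne h, hv0 i h hne]; ring
    rcases eq_or_ne j r with rfl | hjr
    · rw [Equiv.swap_apply_right]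
      by_contra hne
      refine hij ?_
      rcases eq_or_ne i j with rfl | h
      · rw [Pi.single_eq_same, hvr, norm_two hs hB]; linear_combination h2
      · rw [Pi.single_eq_of_ne h, hv0 i hne h]; ring
    rw [Equiv.swap_apply_of_ne_of_ne hjp hjr]
    by_contra hne
    exact hij (by rw [Pi.single_eq_of_ne hne, hv0 j hjp hjr, map_zero]; ring)
  -- a large centre
  obtain ⟨v, hvc, hv4⟩ : ∃ v, f.Ctr K v ∧ 4 ≤ (Finset.univ.filter fun i => v i ≠ 0).card := by
    by_contra! hsmall
    have hsupp : ∀ u w : Fin n, u ≠ w → ∀ l : F, l ≠ 0 →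
        (Finset.univ.filter fun i => g₀.val i u + l * g₀.val i w ≠ 0).card ≤ 2 := by
      intro u w huw l hl
      have hc := (hpair u w huw 1 l (by rw [map_one, norm_two hs hl]; linear_combination h2)).of_conj hg₀ (hKp g₀ hg₀)
      have h4 := hsmall _ hc
      have heven := (iso_iff hs _).mp hc.1
      have hEq : (Finset.univ.filter fun i => (g₀.val *ᵥ (Pi.single u 1 + Pi.single w l)) i ≠ 0) =
          Finset.univ.filter fun i => g₀.val i u + l * g₀.val i w ≠ 0 := Finset.filter_congr fun i _ => by
        simp [Matrix.mulVec_add, Matrix.mulVec_single, mul_comm]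
      rw [hEq] at h4 heven
      obtain ⟨m, hm⟩ := heven
      omega
    obtain ⟨S, hS, hS1⟩ := exists_circle hs
    have hU : ∀ u w : Fin n, u ≠ w → (Finset.univ.filter fun i => g₀.val i u ≠ 0 ∨ g₀.val i w ≠ 0).card ≤ 3 := by
      intro u w huw
      set Z := Finset.univ.filter fun i => g₀.val i u ≠ 0 ∨ g₀.val i w ≠ 0
      have h1 : ∑ a ∈ S, (Z.filter fun i => g₀.val i u + a * g₀.val i w = 0).card ≤ Z.card := by
        simp only [Finset.card_filter]
        rw [Finset.sum_comm, Finset.card_eq_sum_ones]
        refine Finset.sum_le_sum fun i hi => ?_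
        rw [← Finset.card_filter]
        refine Finset.card_le_one.mpr fun a ha b hb => ?_
        have e1 := (Finset.mem_filter.mp ha).2
        have e2 := (Finset.mem_filter.mp hb).2
        have hw0 : g₀.val i w ≠ 0 := fun h => by
          rcases (Finset.mem_filter.mp hi).2 with hp | hp
          · exact hp (by simpa [h] using e1)
          · exact hp h
        exact mul_right_cancel₀ hw0 (by linear_combination e1 - e2)
      have h2' : ∀ a ∈ S, Z.card - 2 ≤ (Z.filter fun i => g₀.val i u + a * g₀.val i w = 0).card := fun a ha => by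
        have h3 := Finset.card_filter_add_card_filter_not (s := Z) (fun i => g₀.val i u + a * g₀.val i w = 0)
        have h4 : (Z.filter fun i => ¬ g₀.val i u + a * g₀.val i w = 0).card ≤ 2 :=
          (Finset.card_le_card (Finset.filter_subset_filter _ (Finset.subset_univ Z))).trans
            (hsupp u w huw a fun h => by have := hS1 a ha; simp [h] at this)
        omega
      have h5 := (Finset.sum_le_sum h2').trans h1
      rw [Finset.sum_const, smul_eq_mul, hS] at h5
      omega
    obtain ⟨u, i₁, i₂, hi₁, hi₂, hne⟩ : ∃ u i i', g₀.val i u ≠ 0 ∧ g₀.val i' u ≠ 0 ∧ i ≠ i' := by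
      simpa [Mono] using hg₀m
    set T := Finset.univ.filter fun i => g₀.val i u ≠ 0 with hT
    have hT3 : 3 ≤ T.card := by
      have h1 : 1 < T.card := Finset.one_lt_card.mpr ⟨i₁, Finset.mem_filter.mpr ⟨Finset.mem_univ _, hi₁⟩, i₂,
        Finset.mem_filter.mpr ⟨Finset.mem_univ _, hi₂⟩, hne⟩
      by_contra! h
      have h2' : f.B (g₀.val *ᵥ Pi.single u 1) (g₀.val *ᵥ Pi.single u 1) = 0 := by
        rw [iso_iff hs, show (Finset.univ.filter fun i => (g₀.val *ᵥ Pi.single u 1) i ≠ 0) = T from
          Finset.filter_congr fun i _ => by simp, show T.card = 2 by omega]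
        exact even_two
      rw [hKp g₀ hg₀, B_single_left hs, map_one, Pi.single_eq_same, one_mul] at h2'
      exact one_ne_zero h2'
    obtain ⟨i, -, hi⟩ := Finset.exists_mem_notMem_of_card_lt_card (s := T) (t := Finset.univ) (by
      obtain ⟨w, hw⟩ : ∃ w, w ≠ u := by
        obtain ⟨w, -, hw⟩ := Finset.exists_mem_notMem_of_card_lt_card (s := {u}) (t := Finset.univ)
          (by rw [Finset.card_univ, Fintype.card_fin, Finset.card_singleton]; omega)
        exact ⟨w, by simpa using hw⟩
      have h1 := (Finset.card_le_card (show T ⊆ Finset.univ.filter (fun i => g₀.val i u ≠ 0 ∨ g₀.val i w ≠ 0) from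
        Finset.monotone_filter_right _ fun _ _ h => Or.inl h)).trans (hU u w hw.symm)
      rw [Finset.card_univ, Fintype.card_fin]
      omega)
    obtain ⟨w, hw⟩ := exists_row_ne g₀ i
    have huw : u ≠ w := fun h => hi (Finset.mem_filter.mpr ⟨Finset.mem_univ i, h ▸ hw⟩)
    have h1 : (insert i T).card ≤ 3 := (Finset.card_le_card fun j hj => by
      rcases Finset.mem_insert.mp hj with rfl | hj
      · exact Finset.mem_filter.mpr ⟨Finset.mem_univ _, Or.inr hw⟩
      · exact Finset.mem_filter.mpr ⟨Finset.mem_univ _, Or.inl (Finset.mem_filter.mp hj).2⟩).trans (hU u w huw)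
    rw [Finset.card_insert_of_notMem hi] at h1
    omega
  -- difference with a diagonal translate
  have hshift : ∀ (v : Fin n → F) (U₁ U₂ : Finset (Fin n)) (c : Fin n), f.Ctr K v → Disjoint U₁ U₂ →
      (∀ i ∈ U₁ ∪ U₂, v i ≠ 0) → (c ∈ U₁ ∪ U₂ ∨ v c = 0) → Even (U₁ ∪ U₂).card →
      (c ∈ U₁ ∪ U₂ → ω ^ U₁.card * (ω ^ 2) ^ U₂.card = 1) →
      (U₁.card : F) * (ω - 1) + (U₂.card : F) * (ω ^ 2 - 1) ≠ 0 →
      ∃ v', f.Ctr K v' ∧ Finset.univ.filter (fun i => v' i ≠ 0) = U₁ ∪ U₂ := by
    intro v U₁ U₂ c hv hdis hne hc heven hprod hsum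
    set d₀ : Fin n → F := fun i => if i ∈ U₁ then ω else if i ∈ U₂ then ω ^ 2 else 1 with hd₀
    have hd₀0 : ∀ i, d₀ i ≠ 0 := fun i => by simp only [hd₀]; split_ifs <;> simp [hω0]
    obtain ⟨M, d, hMp, hMd, hMm, hMe, -, hMa, -, hdw⟩ := exists_umono hs (1 : Equiv.Perm (Fin n)) d₀
      (fun i => norm_two hs (hd₀0 i)) c
    have hdc : c ∈ U₁ ∪ U₂ → d c = d₀ c := fun hcU => by
      have hval : M.val = Matrix.diagonal d := by
        ext i j
        rw [hMe, Matrix.diagonal_apply, Equiv.Perm.one_apply]
        rcases eq_or_ne i j with rfl | h <;> simp [*]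
      rw [hval, Matrix.det_diagonal, ← Finset.mul_prod_erase _ _ (Finset.mem_univ c),
        Finset.prod_congr rfl fun i hi => hdw i (Finset.mem_erase.mp hi).1] at hMd
      have hd₀p : ∏ i, d₀ i = 1 := by
        rw [← hprod hcU, ← Finset.prod_subset (Finset.subset_univ (U₁ ∪ U₂)) fun i _ hi => by
          simp only [Finset.mem_union, not_or] at hi
          simp [hd₀, hi], Finset.prod_union hdis]
        congr 1
        · rw [← Finset.prod_const]; exact Finset.prod_congr rfl fun i hi => by simp [hd₀, hi]
        · rw [← Finset.prod_const]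
          exact Finset.prod_congr rfl fun i hi => by simp [hd₀, hi, Finset.disjoint_right.mp hdis hi]
      rw [← Finset.mul_prod_erase _ _ (Finset.mem_univ c)] at hd₀p
      exact mul_right_cancel₀ (Finset.prod_ne_zero_iff.mpr fun i _ => hd₀0 i) (hMd.trans hd₀p.symm)
    set v' : Fin n → F := fun i => if i ∈ U₁ then (ω - 1) * v i else if i ∈ U₂ then (ω ^ 2 - 1) * v i else 0 with hv'
    have hMv : M.val *ᵥ v = v + v' := funext fun i => by
      have := hMa v i
      rw [Equiv.Perm.one_apply] at this
      rw [this, Pi.add_apply]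
      have hdi : i = c → v c ≠ 0 → d i = d₀ i := fun e hv0 => e ▸ hdc (hc.resolve_right hv0)
      rcases eq_or_ne i c with rfl | hic
      · rcases eq_or_ne (v i) 0 with h | h
        · simp [hv', h]
        · rw [hdi rfl h]; simp only [hd₀, hv']; split_ifs <;> ring
      · rw [hdw i hic]; simp only [hd₀, hv']; split_ifs <;> ring
    have hω21 : ω ^ 2 - 1 ≠ 0 := sub_ne_zero.mpr fun h => hω1 (by linear_combination hω3 - ω * h)
    have hsupp : Finset.univ.filter (fun i => v' i ≠ 0) = U₁ ∪ U₂ := by
      ext i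
      simp only [Finset.mem_filter, Finset.mem_univ, true_and, hv', Finset.mem_union]
      split_ifs with h1 h2'
      · simp [h1, sub_ne_zero.mpr hω1, hne i (Finset.mem_union_left _ h1)]
      · simp [h2', hω21, hne i (Finset.mem_union_right _ h2')]
      · simp [h1, h2']
    have hiso : f.B v' v' = 0 := by rw [iso_iff hs, hsupp]; exact heven
    have h3 := (hv.smul (-1)).add (hv.of_conj (hK M hMp hMd hMm) hMp) (by
      rw [hMv, LinearMap.map_smulₛₗ, LinearMap.smul_apply, map_add, show f.B v v = 0 from hv.1, zero_add, hs.form,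
        smul_eq_mul, map_neg, map_one, neg_one_mul, neg_ne_zero,
        ← Finset.sum_subset (Finset.subset_univ (U₁ ∪ U₂)) fun i _ hi => by
          simp only [Finset.mem_union, not_or] at hi
          simp [hv', hi], Finset.sum_union hdis,
        Finset.sum_congr rfl fun i hi => show f.σ (v i) * v' i = ω - 1 by
          simp only [hv', hi, ↓reduceIte]
          linear_combination (ω - 1) * norm_two hs (hne i (Finset.mem_union_left _ hi)),
        Finset.sum_congr rfl fun i hi => show f.σ (v i) * v' i = ω ^ 2 - 1 by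
          simp only [hv', hi, Finset.disjoint_right.mp hdis hi, ↓reduceIte]
          linear_combination (ω ^ 2 - 1) * norm_two hs (hne i (Finset.mem_union_right _ hi)),
        Finset.sum_const, Finset.sum_const, nsmul_eq_mul, nsmul_eq_mul]
      exact hsum) (by
      show f.B _ _ = 0
      rw [hMv, show (-1 : F) • v + (v + v') = v' by module]
      exact hiso)
    rw [hMv, show (-1 : F) • v + (v + v') = v' by module] at h3
    exact ⟨v', h3, hsupp⟩
  -- four coordinates
  obtain ⟨v₄, hv₄, hS₄⟩ : ∃ v, f.Ctr K v ∧ (Finset.univ.filter fun i => v i ≠ 0).card = 4 := by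
    set S := Finset.univ.filter fun i => v i ≠ 0 with hS
    rcases hv4.eq_or_lt with h | h
    · exact ⟨v, hvc, h.symm⟩
    obtain ⟨m, hm⟩ := (iso_iff hs v).mp hvc.1
    rw [← hS] at hm
    obtain ⟨U₁, hU₁, hU₁c⟩ := Finset.exists_subset_card_eq (s := S) (n := 3) (by omega)
    obtain ⟨U₂, hU₂, hU₂c⟩ := Finset.exists_subset_card_eq (s := S \ U₁) (n := 3) (by
      rw [Finset.card_sdiff_of_subset hU₁]; omega)
    have hd : Disjoint U₁ U₂ := Finset.disjoint_left.mpr fun i h1 h2' => (Finset.mem_sdiff.mp (hU₂ h2')).2 h1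
    obtain ⟨c, hc⟩ := Finset.card_pos.mp (show 0 < U₁.card by omega)
    obtain ⟨v₆, hv₆, hS₆⟩ := hshift v U₁ U₂ c hvc hd (fun i hi => (Finset.mem_filter.mp (by
        rcases Finset.mem_union.mp hi with h | h
        · exact hU₁ h
        · exact (Finset.mem_sdiff.mp (hU₂ h)).1 : i ∈ S)).2)
      (Or.inl (Finset.mem_union_left _ hc)) (by rw [Finset.card_union_of_disjoint hd, hU₁c, hU₂c]; decide)
      (fun _ => by rw [hU₁c, hU₂c]; linear_combination (ω ^ 6 + ω ^ 3 + 1) * hω3) (by
        rw [hU₁c, hU₂c]
        intro h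
        exact one_ne_zero (α := F) (by push_cast at h; linear_combination h - (3 : F) * hωω + (5 : F) * h2))
    obtain ⟨W, hW, hWc⟩ := Finset.exists_subset_card_eq (s := Finset.univ.filter fun i => v₆ i ≠ 0) (n := 4) (by
      rw [hS₆, Finset.card_union_of_disjoint hd]; omega)
    obtain ⟨a, ha⟩ := Finset.card_pos.mp (show 0 < W.card by omega)
    obtain ⟨c', -, hc'⟩ := Finset.exists_mem_notMem_of_card_lt_card
      (s := Finset.univ.filter fun i => v₆ i ≠ 0) (t := Finset.univ) (by
        rw [hS₆, Finset.card_union_of_disjoint hd, Finset.card_univ, Fintype.card_fin]; omega)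
    have hWu : W.erase a ∪ {a} = W := by
      rw [Finset.union_comm, ← Finset.insert_eq]; exact Finset.insert_erase ha
    obtain ⟨v₄, hv₄, hS₄⟩ := hshift v₆ (W.erase a) {a} c' hv₆ (by simp)
      (fun i hi => (Finset.mem_filter.mp (hW (by rwa [hWu] at hi))).2)
      (Or.inr (not_not.mp fun h => hc' (Finset.mem_filter.mpr ⟨Finset.mem_univ _, h⟩)))
      (by rw [hWu, hWc]; decide)
      (fun h => absurd (hW (by rwa [hWu] at h)) hc') (by
        rw [Finset.card_erase_of_mem ha, hWc, Finset.card_singleton]
        intro h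
        exact one_ne_zero (α := F) (by push_cast at h; linear_combination h - hωω + (3 - ω) * h2))
    exact ⟨v₄, hv₄, by rw [hS₄, hWu, hWc]⟩
  have hfour : ∀ x, (Finset.univ.filter fun i => x i ≠ 0).card = 4 → f.Ctr K x := by
    intro x hx
    set S := Finset.univ.filter fun i => v₄ i ≠ 0 with hS
    set T := Finset.univ.filter fun i => x i ≠ 0 with hT
    let e : {i // i ∈ S} ≃ {i // i ∈ T} := Finset.equivOfCardEq (hS₄.trans hx.symm)
    let π : Equiv.Perm (Fin n) := Equiv.extendSubtype e
    have hπ : ∀ i ∈ S, π i ∈ T := fun i hi => by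
      have := e.extendSubtype_apply_of_mem i hi
      rw [this]; exact (e ⟨i, hi⟩).2
    have hπ' : ∀ i, i ∉ S → π i ∉ T := fun i hi => Equiv.extendSubtype_not_mem e i hi
    obtain ⟨c, -, hc⟩ := Finset.exists_mem_notMem_of_card_lt_card (s := S) (t := Finset.univ)
      (by rw [hS₄, Finset.card_univ, Fintype.card_fin]; omega)
    obtain ⟨M, d, hMp, hMd, hMm, -, -, hMa, -, hdw⟩ := exists_umono hs π
      (fun i => if i ∈ S then x (π i) / v₄ i else 1) (fun i => by
        split_ifs with h
        · exact norm_two hs (div_ne_zero (Finset.mem_filter.mp (hπ i h)).2 (Finset.mem_filter.mp h).2)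
        · simp) c
    suffices M.val *ᵥ v₄ = x from this ▸ hv₄.of_conj (hK M hMp hMd hMm) hMp
    funext j
    obtain ⟨i, rfl⟩ := π.surjective j
    rw [hMa]
    by_cases hi : i ∈ S
    · rw [hdw i fun e => hc (e ▸ hi), if_pos hi, div_mul_cancel₀ _ (Finset.mem_filter.mp hi).2]
    · rw [show v₄ i = 0 from not_not.mp fun h => hi (Finset.mem_filter.mpr ⟨Finset.mem_univ i, h⟩), mul_zero]
      exact (not_not.mp fun h => hπ' i hi (Finset.mem_filter.mpr ⟨Finset.mem_univ _, h⟩)).symm
  suffices ∀ k, ∀ x, f.Iso x → (Finset.univ.filter fun i => x i ≠ 0).card ≤ k → f.Ctr K x from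
    fun x hx => this _ x hx le_rfl
  intro k
  induction k with
  | zero =>
    intro x _ hk
    rw [show x = 0 from funext fun i => by
      by_contra h
      have := Finset.card_pos.mpr ⟨i, (Finset.mem_filter.mpr ⟨Finset.mem_univ i, h⟩ : i ∈ Finset.univ.filter fun j => x j ≠ 0)⟩
      omega]
    exact HermF.Ctr.zero f K
  | succ k ih =>
    intro x hx hk
    set S := Finset.univ.filter fun i => x i ≠ 0 with hS
    by_cases hle : S.card ≤ k
    · exact ih x hx hle
    obtain ⟨m, hm⟩ := (iso_iff hs x).mp hx
    rw [← hS] at hm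
    rcases (show S.card = 2 ∨ S.card = 4 ∨ 6 ≤ S.card by omega) with h | h | h
    · obtain ⟨i, j, hij, hi⟩ := Finset.card_eq_two.mp h
      have hi0 : x i ≠ 0 := (Finset.mem_filter.mp (show i ∈ S by simp [hi])).2
      have hj0 : x j ≠ 0 := (Finset.mem_filter.mp (show j ∈ S by simp [hi])).2
      rw [show x = Pi.single i (x i) + Pi.single j (x j) from funext fun l => by
        simp only [Pi.add_apply]
        rcases eq_or_ne l i with rfl | h1
        · simp [hij]
        rcases eq_or_ne l j with rfl | h2'
        · simp [h1]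
        · have : x l = 0 := not_not.mp fun e => by
            have : l ∈ S := Finset.mem_filter.mpr ⟨Finset.mem_univ l, e⟩
            simp [hi, h1, h2'] at this
          simp [h1, h2', this]]
      exact hpair i j hij _ _ (by rw [norm_two hs hi0, norm_two hs hj0]; linear_combination h2)
    · exact hfour x h
    obtain ⟨W, hW, hWc⟩ := Finset.exists_subset_card_eq (s := S) (n := 4) (by omega)
    obtain ⟨U, hU, hUc⟩ := Finset.exists_subset_card_eq (s := W) (n := 2) (by omega)
    obtain ⟨p, r, hpr, rfl⟩ := Finset.card_eq_two.mp hUc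
    have hωn : ω ^ 2 ≠ 1 := fun h => hω1 (by linear_combination hω3 - ω * h)
    set w : Fin n → F := fun i => if i = p then ω * x i else if i = r then ω ^ 2 * x i
      else if i ∈ W then x i else 0 with hw
    have hxW : ∀ i ∈ W, x i ≠ 0 := fun i hi => (Finset.mem_filter.mp (hW hi)).2
    have hwS : (Finset.univ.filter fun i => w i ≠ 0) = W := by
      ext i
      simp only [Finset.mem_filter, Finset.mem_univ, true_and, hw]
      split_ifs with h1 h2' h3
      · subst h1; simp [hω0, hxW i (hU (by simp)), hU (show i ∈ ({i, r} : Finset _) by simp)]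
      · subst h2'; simp [hω0, hxW i (hU (by simp)), hU (show i ∈ ({p, i} : Finset _) by simp)]
      · simp [h3, hxW i h3]
      · simp [h3]
    have huS : (Finset.univ.filter fun i => (x - w) i ≠ 0) = (S \ W) ∪ {p, r} := by
      ext i
      simp only [Finset.mem_filter, Finset.mem_univ, true_and, hw, Pi.sub_apply, Finset.mem_union, Finset.mem_sdiff,
        Finset.mem_insert, Finset.mem_singleton, hS]
      split_ifs with h1 h2' h3
      · subst h1
        simp only [true_or, or_true, iff_true]
        rw [show x i - ω * x i = (1 - ω) * x i by ring]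
        exact mul_ne_zero (sub_ne_zero.mpr (Ne.symm hω1)) (hxW i (hU (by simp)))
      · subst h2'
        simp only [or_true, iff_true]
        rw [show x i - ω ^ 2 * x i = (1 - ω ^ 2) * x i by ring]
        exact mul_ne_zero (sub_ne_zero.mpr (Ne.symm hωn)) (hxW i (hU (by simp)))
      · simp [h1, h2', h3]
      · simp [h1, h2', h3]
    have hcard : ((S \ W) ∪ {p, r}).card = S.card - 2 := by
      rw [Finset.card_union_of_disjoint (Finset.disjoint_left.mpr fun i hi hi' =>
        (Finset.mem_sdiff.mp hi).2 (hU hi')), Finset.card_sdiff_of_subset hW, hWc, Finset.card_pair hpr]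
      omega
    have hww : f.B w w = 0 := by rw [iso_iff hs, hwS, hWc]; decide
    have huu : f.B (x - w) (x - w) = 0 := by
      rw [iso_iff hs, huS, hcard]
      exact ⟨m - 1, by omega⟩
    have hwu : f.B w (x - w) = 1 := by
      rw [hs.form, ← Finset.sum_subset (Finset.subset_univ {p, r}) fun i _ hi => by
        simp only [Finset.mem_insert, Finset.mem_singleton, not_or] at hi
        simp only [hw, Pi.sub_apply, hi.1, hi.2, ↓reduceIte]
        split_ifs <;> simp, Finset.sum_pair hpr]
      simp only [hw, Pi.sub_apply, hpr.symm, ↓reduceIte, map_mul, map_pow]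
      have e1 := norm_two hs (hxW p (hU (by simp)))
      have e2 := norm_two hs (hxW r (hU (by simp)))
      have hσω : f.σ ω = ω ^ 2 := hs.sig ω
      rw [hσω]
      linear_combination (ω ^ 2 * (1 - ω)) * e1 + (ω ^ 4 * (1 - ω ^ 2)) * e2
        + (ω - ω ^ 3 - 2) * hω3 + hωω - 2 * h2
    have := (ih w hww (by rw [hwS, hWc]; omega)).add (ih _ huu (by rw [huS, hcard]; omega))
      (by rw [hwu]; exact one_ne_zero) (by rw [add_sub_cancel]; exact hx)
    rwa [add_sub_cancel] at this

end Cfsg.Agent.Lib.ThreeTransp.DecompUni
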