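import Mathlib

/-!
Linear groups over `F` containing the maps that are linear over an extension field `K` of prime degree and have
determinant one: elements trivial modulo a `K`-line, dilatations, and the dichotomy for their left multipliers.
-/

set_option autoImplicit false

namespace Cfsg.Agent.Lib.ThreeTransp.ExtField

open Module

variable {F K V : Type*} [Field F] [Field K] [Algebra F K] [AddCommGroup V] [Module F V] [Module K V]
  [IsScalarTower F K V]

/-- The map `x ↦ x + θ x • v` for `θ` vanishing on the `K`-line of `v`. -/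
def tv (θ : V →ₗ[F] K) (v : V) (h : ∀ c : K, θ (c • v) = 0) : V ≃ₗ[F] V where
  toFun x := x + θ x • v
  invFun x := x - θ x • v
  map_add' x y := by rw [map_add, add_smul]; abel
  map_smul' c x := by rw [map_smul, RingHom.id_apply, smul_add, smul_assoc]
  left_inv x := by simp only [map_add, h, add_zero, add_sub_cancel_right]
  right_inv x := by simp only [map_sub, h, sub_zero, sub_add_cancel]

@[simp] theorem tv_apply (θ : V →ₗ[F] K) (v : V) (h : ∀ c : K, θ (c • v) = 0) (x : V) :
    tv θ v h x = x + θ x • v := rfl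

/-- The map `tv θ v` is defined and lies in `G`. -/
def InT (G : Subgroup (V ≃ₗ[F] V)) (v : V) (θ : V →ₗ[F] K) : Prop := ∃ h, tv θ v h ∈ G

variable {G : Subgroup (V ≃ₗ[F] V)} {v : V}

theorem InT.zero : InT (K := K) G v 0 := by
  refine ⟨fun _ => rfl, ?_⟩
  rw [show tv (0 : V →ₗ[F] K) v (fun _ => rfl) = 1 from LinearEquiv.ext fun x => by simp]
  exact G.one_mem

theorem InT.add {θ η : V →ₗ[F] K} (hθ : InT G v θ) (hη : InT G v η) : InT G v (θ + η) := by
  obtain ⟨h1, m1⟩ := hθ
  obtain ⟨h2, m2⟩ := hη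
  have h : ∀ c : K, (θ + η) (c • v) = 0 := fun c => by rw [LinearMap.add_apply, h1, h2, add_zero]
  refine ⟨h, ?_⟩
  rw [show tv (θ + η) v h = tv θ v h1 * tv η v h2 from LinearEquiv.ext fun x => by
    simp [h1, add_smul]; abel]
  exact G.mul_mem m1 m2

theorem InT.neg {θ : V →ₗ[F] K} (hθ : InT G v θ) : InT G v (-θ) := by
  obtain ⟨h1, m1⟩ := hθ
  have h : ∀ c : K, (-θ) (c • v) = 0 := fun c => by rw [LinearMap.neg_apply, h1, neg_zero]
  refine ⟨h, ?_⟩
  rw [show tv (-θ) v h = (tv θ v h1)⁻¹ from eq_inv_of_mul_eq_one_left (LinearEquiv.ext fun x => by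
    simp only [LinearEquiv.mul_apply, tv_apply, map_add, h, add_zero]; simp)]
  exact G.inv_mem m1

/-- Conjugation by an element stabilising the `K`-line of `v`. -/
theorem InT.conj {θ : V →ₗ[F] K} (hθ : InT G v θ) {g : V ≃ₗ[F] V} (hg : g ∈ G) (α : K ≃ₗ[F] K)
    (hα : ∀ c : K, g (c • v) = α c • v) :
    InT G v (α.toLinearMap ∘ₗ θ ∘ₗ g.symm.toLinearMap) := by
  obtain ⟨h1, m1⟩ := hθ
  have hs : ∀ c : K, g.symm (c • v) = α.symm c • v := fun c => by
    rw [LinearEquiv.symm_apply_eq, hα, LinearEquiv.apply_symm_apply]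
  have h : ∀ c : K, (α.toLinearMap ∘ₗ θ ∘ₗ g.symm.toLinearMap) (c • v) = 0 := fun c => by
    simp only [LinearMap.comp_apply, LinearEquiv.coe_coe, hs, h1, map_zero]
  refine ⟨h, ?_⟩
  rw [show tv (α.toLinearMap ∘ₗ θ ∘ₗ g.symm.toLinearMap) v h = g * tv θ v h1 * g⁻¹ from LinearEquiv.ext fun x => by
    change _ = g (tv θ v h1 (g.symm x))
    simp only [tv_apply, map_add, hα, LinearEquiv.apply_symm_apply]; rfl]
  exact G.mul_mem (G.mul_mem hg m1) (G.inv_mem hg)

/-- `G` contains a non-trivial transvection. -/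
def HasTv (G : Subgroup (V ≃ₗ[F] V)) : Prop :=
  ∃ (a : V) (f : Dual F V) (h : f a = 0), a ≠ 0 ∧ f ≠ 0 ∧ LinearEquiv.transvection h ∈ G

theorem hasTv_of_inT {f : Dual F V} (hv : v ≠ 0) (hf : f ≠ 0)
    (h : InT G v ((Algebra.linearMap F K) ∘ₗ f)) : HasTv G := by
  obtain ⟨h1, m1⟩ := h
  have hfv : f v = 0 := by
    have := h1 1
    rw [one_smul, LinearMap.comp_apply, Algebra.linearMap_apply, map_eq_zero] at this
    exact this
  refine ⟨v, f, hfv, hv, hf, ?_⟩
  rwa [show LinearEquiv.transvection hfv = tv ((Algebra.linearMap F K) ∘ₗ f) v h1 from LinearEquiv.ext fun x => by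
    simp [LinearMap.transvection.apply, algebraMap_smul]]

/-- The dilatation `x ↦ x + (d - 1) Φ x • w`. -/
def dil (Φ : V →ₗ[K] K) (w : V) (d : K) (hd : d ≠ 0) (hw : Φ w = 1) : V ≃ₗ[K] V where
  toFun := LinearMap.transvection Φ ((d - 1) • w)
  invFun x := x + ((d⁻¹ - 1) * Φ x) • w
  map_add' := map_add _
  map_smul' := map_smul _
  left_inv x := by
    simp only [LinearMap.transvection.apply, map_add, map_smul, hw, smul_eq_mul]
    match_scalars <;> field_simp
    ring
  right_inv x := by
    simp only [LinearMap.transvection.apply, map_add, map_smul, hw, smul_eq_mul]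
    match_scalars <;> field_simp
    ring

theorem dil_apply (Φ : V →ₗ[K] K) (w : V) (d : K) (hd : d ≠ 0) (hw : Φ w = 1) (x : V) :
    dil Φ w d hd hw x = x + ((d - 1) * Φ x) • w := by
  change LinearMap.transvection Φ ((d - 1) • w) x = _
  rw [LinearMap.transvection.apply, smul_smul, mul_comm]

theorem det_dil [FiniteDimensional K V] (Φ : V →ₗ[K] K) (w : V) (d : K) (hd : d ≠ 0) (hw : Φ w = 1) :
    LinearMap.det (dil Φ w d hd hw).toLinearMap = d := by
  change LinearMap.det (LinearMap.transvection Φ ((d - 1) • w)) = d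
  rw [LinearMap.transvection.det, map_smul, hw, smul_eq_mul, mul_one, add_sub_cancel]

theorem det_transvection_equiv [FiniteDimensional K V] {Φ : V →ₗ[K] K} {w : V} (h : Φ w = 0) :
    LinearMap.det (LinearEquiv.transvection h).toLinearMap = 1 := by
  rw [LinearEquiv.transvection.coe_toLinearMap, LinearMap.transvection.det, h, add_zero]

theorem exists_dual {x : V} (W : Submodule K V) (hx : x ∉ W) : ∃ Φ : V →ₗ[K] K, Φ x = 1 ∧ ∀ w ∈ W, Φ w = 0 := by
  obtain ⟨f, hfx, hf⟩ := Submodule.exists_le_ker_of_notMem hx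
  exact ⟨(f x)⁻¹ • f, by simp [hfx], fun w hw => by simp [LinearMap.mem_ker.mp (hf hw)]⟩

theorem exists_dual_one {x : V} (hx : x ≠ 0) : ∃ Φ : V →ₗ[K] K, Φ x = 1 :=
  (exists_dual ⊥ (by simpa using hx)).imp fun _ h => h.1

theorem exists_notMem_two {W₁ W₂ : Submodule K V} (h1 : W₁ ≠ ⊤) (h2 : W₂ ≠ ⊤) : ∃ z, z ∉ W₁ ∧ z ∉ W₂ := by
  obtain ⟨a, -, ha⟩ := SetLike.exists_of_lt h1.lt_top
  obtain ⟨b, -, hb⟩ := SetLike.exists_of_lt h2.lt_top
  by_cases ha' : a ∈ W₂
  · by_cases hb' : b ∈ W₁
    · exact ⟨a + b, fun h => ha (by simpa using W₁.sub_mem h hb'), fun h => hb (by simpa using W₂.sub_mem h ha')⟩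
    · exact ⟨b, hb', hb⟩
  · exact ⟨a, ha, ha'⟩

theorem exists_transvection_map [FiniteDimensional K V] {v x y : V} (hxv : x ∉ K ∙ v)
    (hy : y ∉ Submodule.span K {v, x}) :
    ∃ h : V ≃ₗ[K] V, LinearMap.det h.toLinearMap = 1 ∧ h v = v ∧ h x = y := by
  have hx : x ∉ Submodule.span K {v, y - x} := by
    intro hm
    obtain ⟨a, b, hab⟩ := Submodule.mem_span_pair.mp hm
    rcases eq_or_ne b 0 with rfl | hb
    · exact hxv (Submodule.mem_span_singleton.mpr ⟨a, by rw [← hab]; simp⟩)
    · refine hy (Submodule.mem_span_pair.mpr ⟨-(b⁻¹ * a), b⁻¹ * (1 + b), ?_⟩)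
      have e : b • y = (1 + b) • x - a • v := by linear_combination (norm := module) hab
      rw [← inv_smul_smul₀ hb y, e]
      module
  obtain ⟨Φ, hΦx, hΦ⟩ := exists_dual _ hx
  have hv : Φ v = 0 := hΦ v (Submodule.subset_span (by simp))
  have hd : Φ (y - x) = 0 := hΦ _ (Submodule.subset_span (by simp))
  exact ⟨LinearEquiv.transvection hd, det_transvection_equiv hd,
    by simp [LinearMap.transvection.apply, hv], by simp [LinearMap.transvection.apply, hΦx]⟩

/-- The determinant one maps fixing `v` carry `x` to `y`. -/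
theorem exists_move [FiniteDimensional K V] {v x y : V} (hxv : x ∉ K ∙ v) (hyv : y ∉ K ∙ v)
    (hx : Submodule.span K {v, x} ≠ ⊤) (hy : Submodule.span K {v, y} ≠ ⊤) :
    ∃ h : V ≃ₗ[K] V, LinearMap.det h.toLinearMap = 1 ∧ h v = v ∧ h x = y := by
  obtain ⟨z, hzx, hzy⟩ := exists_notMem_two hx hy
  obtain ⟨h1, d1, v1, x1⟩ := exists_transvection_map hxv hzx
  have hzv : z ∉ K ∙ v := fun h => hzx (Submodule.span_mono (by simp) h)
  have hy' : y ∉ Submodule.span K {v, z} := by
    intro hm
    obtain ⟨a, b, hab⟩ := Submodule.mem_span_pair.mp hm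
    rcases eq_or_ne b 0 with rfl | hb
    · exact hyv (Submodule.mem_span_singleton.mpr ⟨a, by rw [← hab]; simp⟩)
    · refine hzy (Submodule.mem_span_pair.mpr ⟨-(b⁻¹ * a), b⁻¹, ?_⟩)
      rw [← inv_smul_smul₀ hb z, show b • z = y - a • v by rw [← hab]; abel]
      module
  obtain ⟨h2, d2, v2, x2⟩ := exists_transvection_map hzv hy'
  refine ⟨h1.trans h2, ?_, by simp [v1, v2], by simp [x1, x2]⟩
  rw [show (h1.trans h2).toLinearMap = h2.toLinearMap ∘ₗ h1.toLinearMap from rfl, LinearMap.det_comp, d1, d2, one_mul]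

theorem span_pair_ne_top (h : 3 ≤ finrank K V) (a b : V) : Submodule.span K {a, b} ≠ ⊤ := by
  classical
  intro e
  have h2 := finrank_span_finset_le_card (R := K) ({a, b} : Finset V)
  rw [Set.finrank, Finset.coe_insert, Finset.coe_singleton, e, finrank_top] at h2
  exact absurd (h.trans (h2.trans Finset.card_le_two)) (by norm_num)

theorem span_singleton_ne_top (h : 2 ≤ finrank K V) (a : V) : Submodule.span K {0, a} ≠ ⊤ := by
  rw [Submodule.span_insert_zero]
  intro e
  have h2 := finrank_span_singleton (K := K) (v := a)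
  rcases eq_or_ne a 0 with rfl | ha
  · rw [Submodule.span_singleton_eq_bot.mpr rfl] at e
    have h3 := congrArg (fun W : Submodule K V => finrank K W) e
    simp only [finrank_bot, finrank_top] at h3
    omega
  · have h3 := h2 ha
    rw [e, finrank_top] at h3
    omega

variable [Finite F]

/-- A subring of `K` containing the elements of norm one is everything. -/
theorem subring_eq_top [FiniteDimensional F K] (hr : 2 ≤ finrank F K) (S : Subring K)
    (h : ∀ c : K, Algebra.norm F c = 1 → c ∈ S) : S = ⊤ := by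
  haveI : Finite K := Module.finite_of_finite F
  haveI := Fintype.ofFinite K
  haveI := Fintype.ofFinite F
  haveI : Fintype S := Fintype.ofFinite S
  haveI : DecidableEq S := Classical.decEq S
  by_contra hS
  let S' : Subfield K := S.toSubfield fun x hx => by
    rcases eq_or_ne x 0 with rfl | hx0
    · simpa using hx
    · obtain ⟨y, hy⟩ := (Finite.isField_of_domain S).mul_inv_cancel (a := ⟨x, hx⟩)
        (fun e => hx0 (congrArg Subtype.val e))
      rw [inv_eq_of_mul_eq_one_right (congrArg Subtype.val hy : x * (y : K) = 1)]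
      exact y.2
  have hsq : Nat.card S' ^ 2 ≤ Nat.card K := by
    rw [Module.natCard_eq_pow_finrank (K := S') (V := K)]
    refine Nat.pow_le_pow_right Nat.card_pos ?_
    by_contra hlt
    have hpos : 0 < finrank S' K := finrank_pos
    have h1 : finrank S' K = 1 := by omega
    refine hS (Subring.ext fun x => ⟨fun _ => trivial, fun _ => ?_⟩)
    obtain ⟨c, hc⟩ := exists_smul_eq_of_finrank_eq_one h1 (one_ne_zero : (1 : K) ≠ 0) x
    rw [← hc, Subfield.smul_def, smul_eq_mul, mul_one]
    exact c.2
  have hq : Nat.card F ^ 2 ≤ Nat.card K := by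
    rw [Module.natCard_eq_pow_finrank (K := F) (V := K)]
    exact Nat.pow_le_pow_right Nat.card_pos hr
  let N : Kˣ →* Fˣ := Units.map (Algebra.norm F (S := K))
  have hker : Nat.card N.ker ≤ Nat.card S - 1 := by
    have hinj : Function.Injective fun u : N.ker => (⟨⟨(u.1 : K), h _ (congrArg Units.val u.2)⟩, fun e =>
        u.1.ne_zero (congrArg Subtype.val e)⟩ : {s : S // s ≠ 0}) := fun a b e =>
      Subtype.ext (Units.ext (congrArg (fun z : {s : S // s ≠ 0} => (z.1 : K)) e))
    refine (Nat.card_le_card_of_injective _ hinj).trans (le_of_eq ?_)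
    rw [Nat.card_eq_fintype_card, Fintype.card_subtype_compl, Fintype.card_subtype_eq,
      Nat.card_eq_fintype_card]
  have hidx := N.ker.card_mul_index
  rw [Subgroup.index_ker, MonoidHom.range_eq_top.mpr (FiniteField.unitsMap_norm_surjective F K),
    Subgroup.card_top, Nat.card_units, Nat.card_units] at hidx
  have hsS : Nat.card S = Nat.card S' := rfl
  have hs2 : 2 ≤ Nat.card S := Finite.one_lt_card
  have hq2 : 2 ≤ Nat.card F := Finite.one_lt_card
  have hlt : (Nat.card S - 1) * (Nat.card F - 1) < Nat.card K - 1 := by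
    rcases le_total (Nat.card S) (Nat.card F) with hle | hle
    · have := Nat.mul_le_mul (Nat.sub_le_sub_right hle 1) (le_refl (Nat.card F - 1))
      obtain ⟨a, ha⟩ : ∃ a, Nat.card F = a + 2 := ⟨_, (Nat.sub_add_cancel hq2).symm⟩
      rw [ha] at hq this ⊢
      simp only [Nat.add_succ_sub_one, add_tsub_cancel_right] at this ⊢
      have e : (a + 2) ^ 2 = (a + 1) * (a + 1) + 2 * a + 3 := by ring
      omega
    · have := Nat.mul_le_mul (le_refl (Nat.card S - 1)) (Nat.sub_le_sub_right hle 1)
      rw [← hsS] at hsq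
      obtain ⟨a, ha⟩ : ∃ a, Nat.card S = a + 2 := ⟨_, (Nat.sub_add_cancel hs2).symm⟩
      rw [ha] at hsq this ⊢
      simp only [Nat.add_succ_sub_one, add_tsub_cancel_right] at this ⊢
      have e : (a + 2) ^ 2 = (a + 1) * (a + 1) + 2 * a + 3 := by ring
      omega
  have := Nat.mul_le_mul_right (Nat.card F - 1) hker
  omega

/-- A ring of endomorphisms of `K` containing all multiplications consists of multiplications or is everything. -/
theorem ring_dichotomy [FiniteDimensional F K] (hp : (finrank F K).Prime) (R : Subring (Module.End F K))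
    (hK : ∀ c, LinearMap.mulLeft F c ∈ R) : (∀ x ∈ R, ∀ k, x k = x 1 * k) ∨ ∀ x, x ∈ R := by
  classical
  haveI : Finite K := Module.finite_of_finite F
  haveI := Fintype.ofFinite K
  let L : Subalgebra F K :=
    { carrier := {c | ∀ x ∈ R, ∀ k, x (c * k) = c * x k}
      mul_mem' := fun {a b} ha hb x hx k => by rw [mul_assoc, ha x hx, hb x hx, mul_assoc]
      add_mem' := fun {a b} ha hb x hx k => by rw [add_mul, map_add, ha x hx, hb x hx, add_mul]
      algebraMap_mem' := fun c x _ k => by rw [← Algebra.smul_def, map_smul, Algebra.smul_def] }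
  haveI := Subalgebra.isSimpleOrder_of_finrank_prime F K hp
  rcases eq_bot_or_eq_top L with h | h
  · right
    intro f
    haveI : IsSimpleModule R K := by
      rw [isSimpleModule_iff]
      refine ⟨fun W => or_iff_not_imp_left.mpr fun hW => eq_top_iff.mpr fun k _ => ?_⟩
      obtain ⟨u, hu, hu0⟩ := W.exists_mem_ne_zero_of_ne_bot hW
      have := W.smul_mem (⟨_, hK (k * u⁻¹)⟩ : R) hu
      rwa [show (⟨_, hK (k * u⁻¹)⟩ : R) • u = k from inv_mul_cancel_right₀ hu0 k] at this
    let f' : Module.End (Module.End R K) K :=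
      { toFun := f
        map_add' := map_add f
        map_smul' := fun φ k => by
          have hφ : ∀ c, φ c = c * φ 1 := fun c => by
            have := φ.map_smul (⟨_, hK c⟩ : R) 1
            rw [show (⟨_, hK c⟩ : R) • (1 : K) = c from mul_one c] at this
            exact this
          have hL : φ 1 ∈ L := fun x hx c => by
            have := φ.map_smul (⟨x, hx⟩ : R) c
            change φ (x c) = x (φ c) at this
            rw [hφ, hφ c, mul_comm c, mul_comm (x c)] at this
            exact this.symm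
          rw [h] at hL
          obtain ⟨a, ha⟩ := Algebra.mem_bot.mp hL
          change f (φ k) = φ (f k)
          rw [hφ, hφ (f k), ← ha, mul_comm k, mul_comm (f k), ← Algebra.smul_def, map_smul, Algebra.smul_def] }
    obtain ⟨x, hx⟩ := jacobson_density f' Finset.univ
    rw [show f = x.1 from LinearMap.ext fun k => hx k (Finset.mem_univ k)]
    exact x.2
  · left
    intro x hx k
    have hk : k ∈ L := h ▸ trivial
    have := hk x hx 1
    rw [mul_one] at this
    rw [this, mul_comm]

/-- The hypothesis on `G`. -/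
structure Over (K : Type*) [Field K] [Algebra F K] [Module K V] [IsScalarTower F K V]
    (G : Subgroup (V ≃ₗ[F] V)) : Prop where
  prime : (finrank F K).Prime
  two_le : 2 ≤ finrank K V
  mem : ∀ h : V ≃ₗ[K] V, Algebra.norm F (LinearMap.det h.toLinearMap) = 1 → h.restrictScalars F ∈ G

variable [FiniteDimensional K V] [FiniteDimensional F K]

omit [Finite F] in
theorem Over.mem_one (S : Over K G) {h : V ≃ₗ[K] V} (hd : LinearMap.det h.toLinearMap = 1) :
    h.restrictScalars F ∈ G := S.mem h (by rw [hd, map_one])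

omit [Finite F] in
/-- The determinant one maps are transitive on non-zero vectors. -/
theorem Over.exists_map (S : Over K G) {x y : V} (hx : x ≠ 0) (hy : y ≠ 0) :
    ∃ h : V ≃ₗ[K] V, h.restrictScalars F ∈ G ∧ h x = y := by
  obtain ⟨h, hd, -, he⟩ := exists_move (v := (0 : V)) (x := x) (y := y) (by simpa using hx) (by simpa using hy)
    (span_singleton_ne_top S.two_le x) (span_singleton_ne_top S.two_le y)
  exact ⟨h, S.mem_one hd, he⟩

omit [Finite F] in
theorem Over.inT_linear (S : Over K G) {Ψ : V →ₗ[K] K} (h : Ψ v = 0) : InT G v (Ψ.restrictScalars F) := by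
  refine ⟨fun c => by simp [h], ?_⟩
  rw [show tv (Ψ.restrictScalars F) v (fun c => by simp [h]) = (LinearEquiv.transvection h).restrictScalars F from
    LinearEquiv.ext fun x => by simp [LinearMap.transvection.apply]]
  exact S.mem_one (det_transvection_equiv h)

omit [Finite F] in
theorem Over.exists_kill (S : Over K G) (v : V) : ∃ Ψ : V →ₗ[K] K, Ψ ≠ 0 ∧ Ψ v = 0 := by
  have := span_singleton_ne_top S.two_le v
  rw [Submodule.span_insert_zero] at this
  obtain ⟨x, -, hx⟩ := SetLike.exists_of_lt this.lt_top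
  obtain ⟨Φ, hΦx, hΦ⟩ := exists_dual _ hx
  exact ⟨Φ, fun e => by rw [e] at hΦx; simp at hΦx, hΦ v (Submodule.mem_span_singleton_self v)⟩

/-- The ring of left multipliers of the elements trivial on and modulo the line of `v`. -/
def leftRing (K : Type*) [Field K] [Algebra F K] [Module K V] [IsScalarTower F K V]
    (G : Subgroup (V ≃ₗ[F] V)) (v : V) : Subring (Module.End F K) where
  carrier := {x | ∀ θ : V →ₗ[F] K, InT G v θ → InT G v (x ∘ₗ θ)}
  one_mem' := fun θ h => by rwa [Module.End.one_eq_id, LinearMap.id_comp]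
  mul_mem' := fun {a b} ha hb θ h => by
    rw [Module.End.mul_eq_comp, LinearMap.comp_assoc]; exact ha _ (hb _ h)
  zero_mem' := fun θ _ => by rw [LinearMap.zero_comp]; exact InT.zero
  add_mem' := fun {a b} ha hb θ h => by rw [LinearMap.add_comp]; exact (ha _ h).add (hb _ h)
  neg_mem' := fun {a} ha θ h => by rw [LinearMap.neg_comp]; exact (ha _ h).neg

theorem Over.mulLeft_mem (S : Over K G) (hv : v ≠ 0) (c : K) : LinearMap.mulLeft F c ∈ leftRing K G v := by
  have hC := subring_eq_top S.prime.two_le ((leftRing K G v).comap (Algebra.lmul F K).toRingHom) fun c hc θ hθ => by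
    have hc0 : c ≠ 0 := fun e => zero_ne_one (α := F) (by rw [← hc, e, Algebra.norm_zero])
    obtain ⟨Φ, hΦ⟩ := exists_dual_one (K := K) hv
    have hg : (dil Φ v c hc0 hΦ).restrictScalars F ∈ G := S.mem _ (by rw [det_dil, hc])
    have hα : ∀ d : K, (dil Φ v c hc0 hΦ).restrictScalars F (d • v) =
        (DistribMulAction.toLinearEquiv F K (Units.mk0 c hc0)) d • v := fun d => by
      rw [LinearEquiv.restrictScalars_apply, dil_apply, map_smul, hΦ, smul_eq_mul, mul_one, ← add_smul]
      congr 1
      show d + (c - 1) * d = c * d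
      ring
    have h1 := hθ.conj hg _ hα
    convert h1 using 1
    refine LinearMap.ext fun x => ?_
    obtain ⟨hθ0, -⟩ := hθ
    simp only [LinearMap.comp_apply, LinearEquiv.coe_coe]
    show c * θ x = c * θ (((dil Φ v c hc0 hΦ).restrictScalars F).symm x)
    congr 1
    conv_lhs => rw [← LinearEquiv.apply_symm_apply ((dil Φ v c hc0 hΦ).restrictScalars F) x]
    rw [LinearEquiv.restrictScalars_apply, dil_apply, map_add, hθ0, add_zero]
  have : c ∈ (leftRing K G v).comap (Algebra.lmul F K).toRingHom := hC ▸ trivial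
  exact this

/-- Either a transvection lies in `G`, or the left multipliers of the elements trivial on and modulo a `K`-line
are the scalars. -/
theorem Over.left_multipliers (S : Over K G) (hv : v ≠ 0) (hno : ¬ HasTv G) (x : Module.End F K)
    (hx : x ∈ leftRing K G v) : ∀ k, x k = x 1 * k := by
  rcases ring_dichotomy S.prime (leftRing K G v) (S.mulLeft_mem hv) with h | h
  · exact h x hx
  · exfalso
    obtain ⟨Ψ, hΨ0, hΨv⟩ := S.exists_kill v
    obtain ⟨u, hu⟩ : ∃ u, Ψ u ≠ 0 := by
      by_contra hc; push Not at hc; exact hΨ0 (LinearMap.ext hc)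
    obtain ⟨l, hl, -⟩ := Submodule.exists_le_ker_of_notMem (show Ψ u ∉ (⊥ : Submodule F K) by simpa using hu)
    refine hno (hasTv_of_inT (K := K) (f := l ∘ₗ Ψ.restrictScalars F) hv (fun e => hl ?_) ?_)
    · exact LinearMap.congr_fun e u
    · have h1 := h ((Algebra.linearMap F K) ∘ₗ l) _ (S.inT_linear hΨv)
      rwa [LinearMap.comp_assoc] at h1

/-- An element fixing `v` and stabilising its `K`-line acts on it by a field automorphism. -/
theorem Over.line_algHom (S : Over K G) (hv : v ≠ 0) (hno : ¬ HasTv G) {g : V ≃ₗ[F] V} (hg : g ∈ G)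
    (hgv : g v = v) (hline : ∀ c : K, g (c • v) ∈ K ∙ v) :
    ∃ τ : K →ₐ[F] K, ∀ c : K, g (c • v) = τ c • v := by
  obtain ⟨Φ, hΦ⟩ := exists_dual_one (K := K) hv
  let a : K →ₗ[F] K := Φ.restrictScalars F ∘ₗ g.toLinearMap ∘ₗ (LinearMap.toSpanSingleton K V v).restrictScalars F
  have ha : ∀ c : K, g (c • v) = a c • v := fun c => by
    obtain ⟨d, hd⟩ := Submodule.mem_span_singleton.mp (hline c)
    have : a c = d := by simp [a, ← hd, hΦ]
    rw [this, hd]
  have hinj : Function.Injective a := fun c d e => smul_left_injective K hv (g.injective (by rw [ha, ha, e]))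
  let α : K ≃ₗ[F] K := LinearEquiv.ofInjectiveEndo a hinj
  have hα : ∀ c : K, g (c • v) = α c • v := ha
  have hs : ∀ c : K, g⁻¹ (c • v) = α.symm c • v := fun c => by
    show g.symm _ = _
    rw [LinearEquiv.symm_apply_eq, hα, LinearEquiv.apply_symm_apply]
  have hα1 : α 1 = 1 := smul_left_injective K hv (show α 1 • v = (1 : K) • v by rw [← hα, one_smul, hgv])
  have hmul : ∀ c d : K, α (c * d) = α c * α d := fun c d => by
    have hx : ∀ θ : V →ₗ[F] K, InT G v θ →
        InT G v ((α.toLinearMap ∘ₗ LinearMap.mulLeft F c ∘ₗ α.symm.toLinearMap) ∘ₗ θ) := fun θ hθ => by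
      have h1 := hθ.conj (G.inv_mem hg) α.symm hs
      have hK := S.mulLeft_mem hv c _ h1
      have h2 := hK.conj hg α hα
      convert h2 using 1
      exact LinearMap.ext fun x => by
        simp only [LinearMap.comp_apply, LinearEquiv.coe_coe]
        rw [show (g⁻¹).symm (g.symm x) = x from g.apply_symm_apply x]
    have h := S.left_multipliers hv hno _ hx
    have e1 := h (α d)
    simp only [LinearMap.comp_apply, LinearEquiv.coe_coe, LinearEquiv.symm_apply_apply, LinearMap.mulLeft_apply] at e1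
    rw [← hα1, LinearEquiv.symm_apply_apply, mul_one] at e1
    exact e1
  exact ⟨AlgHom.ofLinearMap α.toLinearMap hα1 hmul, hα⟩

end Cfsg.Agent.Lib.ThreeTransp.ExtField
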