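import Cfsg.Agent.Lib.ThreeTransp.ExtFieldBase

/-!
A linear group containing the determinant one maps over an extension field of prime degree consists of semilinear
maps or contains every transvection.
-/

set_option autoImplicit false

namespace Cfsg.Agent.Lib.ThreeTransp.ExtField

open Module

variable {F K V : Type*} [Field F] [Field K] [Algebra F K] [AddCommGroup V] [Module F V] [Module K V]
  [IsScalarTower F K V]
variable {G : Subgroup (V ≃ₗ[F] V)}

/-! ### From one transvection to all -/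

/-- The transvection with centre `a` and functional `f` lies in `G`. -/
def InTr (G : Subgroup (V ≃ₗ[F] V)) (a : V) (f : Dual F V) : Prop :=
  ∃ h : f a = 0, LinearEquiv.transvection h ∈ G

theorem InTr.zero_left (f : Dual F V) : InTr G 0 f := by
  refine ⟨map_zero f, ?_⟩
  rw [show LinearEquiv.transvection (map_zero f) = 1 from LinearEquiv.ext fun x => by
    simp [LinearMap.transvection.apply]]
  exact G.one_mem

theorem InTr.zero_right (a : V) : InTr G a 0 := by
  refine ⟨rfl, ?_⟩
  rw [show LinearEquiv.transvection (f := (0 : Dual F V)) (v := a) rfl = 1 from LinearEquiv.ext fun x => by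
    simp [LinearMap.transvection.apply]]
  exact G.one_mem

theorem InTr.add_left {a b : V} {f : Dual F V} (ha : InTr G a f) (hb : InTr G b f) : InTr G (a + b) f := by
  obtain ⟨h1, m1⟩ := ha
  obtain ⟨h2, m2⟩ := hb
  have h : f (a + b) = 0 := by rw [map_add, h1, h2, add_zero]
  refine ⟨h, ?_⟩
  rw [show LinearEquiv.transvection h = LinearEquiv.transvection h1 * LinearEquiv.transvection h2 from
    (LinearEquiv.transvection.trans_of_left_eq h1 h2 h).symm]
  exact G.mul_mem m1 m2

theorem InTr.neg_left {a : V} {f : Dual F V} (ha : InTr G a f) : InTr G (-a) f := by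
  obtain ⟨h1, m1⟩ := ha
  have h : f (-a) = 0 := by rw [map_neg, h1, neg_zero]
  exact ⟨h, (LinearEquiv.transvection.inv_eq h1 h) ▸ G.inv_mem m1⟩

theorem InTr.add_right {a : V} {f e : Dual F V} (hf : InTr G a f) (he : InTr G a e) : InTr G a (f + e) := by
  obtain ⟨h1, m1⟩ := hf
  obtain ⟨h2, m2⟩ := he
  have h : (f + e) a = 0 := by rw [LinearMap.add_apply, h1, h2, add_zero]
  refine ⟨h, ?_⟩
  rw [show LinearEquiv.transvection h = LinearEquiv.transvection h1 * LinearEquiv.transvection h2 from
    (LinearEquiv.transvection.trans_of_right_eq h1 h2 h).symm]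
  exact G.mul_mem m1 m2

theorem InTr.neg_right {a : V} {f : Dual F V} (hf : InTr G a f) : InTr G a (-f) := by
  obtain ⟨h1, m1⟩ := hf
  have h : (-f) a = 0 := by rw [LinearMap.neg_apply, h1, neg_zero]
  exact ⟨h, (LinearEquiv.transvection.inv_eq' h1 h) ▸ G.inv_mem m1⟩

theorem InTr.conj {a : V} {f : Dual F V} (hf : InTr G a f) {g : V ≃ₗ[F] V} (hg : g ∈ G) :
    InTr G (g a) (f ∘ₗ g.symm.toLinearMap) := by
  obtain ⟨h1, m1⟩ := hf
  have h : (f ∘ₗ g.symm.toLinearMap) (g a) = 0 := by simp [h1]
  refine ⟨h, ?_⟩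
  rw [show LinearEquiv.transvection h = g * LinearEquiv.transvection h1 * g⁻¹ from LinearEquiv.ext fun x => by
    change _ = g (LinearEquiv.transvection h1 (g.symm x))
    simp [LinearMap.transvection.apply]]
  exact G.mul_mem (G.mul_mem hg m1) (G.inv_mem hg)

variable [Finite F] [FiniteDimensional F V] [FiniteDimensional K V] [FiniteDimensional F K]

omit [Finite F] in
theorem exists_rep (l : K →ₗ[F] F) (hl : l ≠ 0) (f : Dual F V) :
    ∃ Φ : V →ₗ[K] K, l ∘ₗ Φ.restrictScalars F = f := by
  let c : (V →ₗ[K] K) →ₗ[F] Dual F V :=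
    { toFun := fun Φ => l ∘ₗ Φ.restrictScalars F
      map_add' := fun Φ Ψ => LinearMap.ext fun x => by simp
      map_smul' := fun a Φ => LinearMap.ext fun x => by simp }
  have hinj : Function.Injective c := by
    rw [injective_iff_map_eq_zero]
    intro Φ hΦ
    refine LinearMap.ext fun x => ?_
    by_contra hx
    apply hl
    refine LinearMap.ext fun k => ?_
    have := LinearMap.congr_fun hΦ ((k * (Φ x)⁻¹) • x)
    simpa [c, mul_assoc, inv_mul_cancel₀ (show Φ x ≠ 0 from hx)] using this
  refine ((LinearMap.injective_iff_surjective_of_finrank_eq_finrank ?_).mp hinj) f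
  have h : finrank K (V →ₗ[K] K) = finrank K V := Subspace.dual_finrank_eq
  rw [Subspace.dual_finrank_eq, ← finrank_mul_finrank F K (V →ₗ[K] K), h, finrank_mul_finrank F K V]

/-- One transvection killing the line of its centre gives all centres on that line. -/
theorem Over.inTr_smul (S : Over K G) {l : K →ₗ[F] F} {b : V} {Φ : V →ₗ[K] K} (hb : b ≠ 0) (hΦ : Φ b = 0)
    {d : K} (hd : d ≠ 0) (h : InTr G (d • b) (l ∘ₗ Φ.restrictScalars F)) (c : K) :
    InTr G (c • b) (l ∘ₗ Φ.restrictScalars F) := by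
  let M : Subring K :=
    { carrier := {e | ∀ c, InTr G (c • b) (l ∘ₗ Φ.restrictScalars F) → InTr G ((e * c) • b) (l ∘ₗ Φ.restrictScalars F)}
      one_mem' := fun c hc => by rwa [one_mul]
      mul_mem' := fun {x y} hx hy c hc => by rw [mul_assoc]; exact hx _ (hy _ hc)
      zero_mem' := fun c _ => by rw [zero_mul, zero_smul]; exact InTr.zero_left _
      add_mem' := fun {x y} hx hy c hc => by rw [add_mul, add_smul]; exact (hx _ hc).add_left (hy _ hc)
      neg_mem' := fun {x} hx c hc => by rw [neg_mul, neg_smul]; exact (hx _ hc).neg_left }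
  have hM := subring_eq_top S.prime.two_le M fun e he c hc => by
    have he0 : e ≠ 0 := fun h => zero_ne_one (α := F) (by rw [← he, h, Algebra.norm_zero])
    obtain ⟨Ψ, hΨ⟩ := exists_dual_one (K := K) hb
    have hg : (dil Ψ b e he0 hΨ).restrictScalars F ∈ G := S.mem _ (by rw [det_dil, he])
    have h2 := hc.conj hg
    convert h2 using 1
    · rw [LinearEquiv.restrictScalars_apply, map_smul, dil_apply, hΨ, mul_one, smul_add, smul_smul, ← add_smul]
      congr 1
      ring
    · refine LinearMap.ext fun x => ?_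
      simp only [LinearMap.comp_apply, LinearEquiv.coe_coe, LinearMap.coe_restrictScalars]
      congr 1
      conv_lhs => rw [← LinearEquiv.apply_symm_apply ((dil Ψ b e he0 hΨ).restrictScalars F) x]
      rw [LinearEquiv.restrictScalars_apply, dil_apply, map_add, map_smul, hΦ, smul_zero, add_zero]
  have hmem : c * d⁻¹ ∈ M := hM ▸ trivial
  have := hmem d h
  rwa [inv_mul_cancel_right₀ hd] at this

/-- A transvection in `G` gives all of them. -/
theorem Over.inTr_all (S : Over K G) (h : HasTv G) : ∀ (a : V) (f : Dual F V), f a = 0 → InTr G a f := by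
  obtain ⟨a₀, f₀, ha₀, ha0, hf0, hmem⟩ := h
  obtain ⟨l, hl, -⟩ := Submodule.exists_le_ker_of_notMem (show (1 : K) ∉ (⊥ : Submodule F K) by simp)
  have hl0 : l ≠ 0 := fun e => hl (by rw [e]; rfl)
  -- a transvection killing the line of its centre
  obtain ⟨b, Φ, hb, hΦ0, hΦ, hT⟩ : ∃ (b : V) (Φ : V →ₗ[K] K), b ≠ 0 ∧ Φ ≠ 0 ∧ Φ b = 0 ∧
      InTr G b (l ∘ₗ Φ.restrictScalars F) := by
    obtain ⟨Φ, hΦ⟩ := exists_rep (K := K) l hl0 f₀
    have hΦ0 : Φ ≠ 0 := fun e => hf0 (by rw [← hΦ, e]; exact LinearMap.ext fun x => by simp)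
    by_cases hk : Φ a₀ = 0
    · exact ⟨a₀, Φ, ha0, hΦ0, hk, hΦ ▸ ⟨ha₀, hmem⟩⟩
    obtain ⟨Ψ, hΨ0, hΨ⟩ := S.exists_kill a₀
    have hg : (LinearEquiv.transvection hΨ).restrictScalars F ∈ G := S.mem_one (det_transvection_equiv hΨ)
    have hd := (show InTr G a₀ f₀ from ⟨ha₀, hmem⟩)
    have hc := hd.conj hg
    rw [show (LinearEquiv.transvection hΨ).restrictScalars F a₀ = a₀ by
      simp [LinearMap.transvection.apply, hΨ]] at hc
    refine ⟨a₀, Φ a₀ • Ψ, ha0, smul_ne_zero hk hΨ0, by simp [hΨ], ?_⟩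
    have h3 := hd.add_right hc.neg_right
    convert h3 using 1
    refine LinearMap.ext fun x => ?_
    rw [← hΦ]
    simp only [LinearMap.add_apply, LinearMap.neg_apply, LinearMap.comp_apply, LinearEquiv.coe_coe,
      LinearMap.coe_restrictScalars, LinearMap.smul_apply]
    rw [show ((LinearEquiv.transvection hΨ).restrictScalars F).symm x = x - Ψ x • a₀ from by
      rw [LinearEquiv.symm_apply_eq, LinearEquiv.restrictScalars_apply]
      simp [LinearMap.transvection.apply, hΨ]]
    have e : l (Φ (x - Ψ x • a₀)) = l (Φ x) - l (Φ a₀ * Ψ x) := by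
      rw [← map_sub l, map_sub Φ, Φ.map_smul, smul_eq_mul, mul_comm]
    change l (Φ a₀ * Ψ x) = l (Φ x) + -(l (Φ (x - Ψ x • a₀)))
    rw [e]; ring
  -- all transvections killing the line of their centre
  have key : ∀ (b' : V) (Φ' : V →ₗ[K] K), Φ' b' = 0 → InTr G b' (l ∘ₗ Φ'.restrictScalars F) := by
    intro b' Φ' hb'
    rcases eq_or_ne b' 0 with rfl | hb0
    · exact InTr.zero_left _
    rcases eq_or_ne Φ' 0 with rfl | hΦ'0
    · rw [show l ∘ₗ (0 : V →ₗ[K] K).restrictScalars F = 0 from LinearMap.ext fun x => by simp]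
      exact InTr.zero_right _
    obtain ⟨h1, hg1, e1⟩ := S.exists_map hb hb0
    let Φ₁ : V →ₗ[K] K := Φ ∘ₗ h1.symm.toLinearMap
    have hΦ₁b : Φ₁ b' = 0 := by simp [Φ₁, ← e1, hΦ]
    have hΦ₁0 : Φ₁ ≠ 0 := fun e => hΦ0 (LinearMap.ext fun x => by
      have := LinearMap.congr_fun e (h1 x); simpa [Φ₁] using this)
    have hT1 : InTr G b' (l ∘ₗ Φ₁.restrictScalars F) := by
      have := hT.conj hg1
      rw [LinearEquiv.restrictScalars_apply, e1] at this
      convert this using 1
      exact LinearMap.ext fun x => rfl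
    obtain ⟨h2, s, hs, d2, e2, hΦ2⟩ : ∃ (h2 : V ≃ₗ[K] V) (s : K), s ≠ 0 ∧ LinearMap.det h2.toLinearMap = s ∧
        h2 b' = b' ∧ ∀ x, Φ' (h2 x) = Φ₁ x := by
      let Ψ := Φ₁ - Φ'
      by_cases hu : ∃ u, Ψ u = 0 ∧ Φ' u ≠ 0
      · obtain ⟨u, hu, hu'⟩ := hu
        have hΨ : Ψ ((Φ' u)⁻¹ • u) = 0 := by rw [map_smul, hu, smul_zero]
        refine ⟨LinearEquiv.transvection hΨ, 1, one_ne_zero, det_transvection_equiv hΨ, ?_, fun x => ?_⟩
        · simp [LinearMap.transvection.apply, Ψ, hΦ₁b, hb']
        · simp [LinearMap.transvection.apply, Ψ, hu']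
      · push Not at hu
        obtain ⟨w, hw⟩ : ∃ w, Φ' w = 1 := by
          obtain ⟨x, hx⟩ : ∃ x, Φ' x ≠ 0 := by by_contra hc; push Not at hc; exact hΦ'0 (LinearMap.ext hc)
          exact ⟨(Φ' x)⁻¹ • x, by simp [hx]⟩
        have hΨw : Ψ w ≠ 0 := fun e => by simpa [hw] using hu w e
        have hdep : ∀ x, Φ₁ x = Φ₁ w * Φ' x := fun x => by
          have h4 := hu (Ψ w • x - Ψ x • w) (by simp [mul_comm])
          rw [map_sub, map_smul, map_smul, hw, smul_eq_mul, smul_eq_mul, mul_one, sub_eq_zero] at h4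
          simp only [Ψ, LinearMap.sub_apply, hw] at h4
          linear_combination -h4
        have hs : Φ₁ w ≠ 0 := fun e => hΦ₁0 (LinearMap.ext fun x => by rw [hdep, e, zero_mul]; rfl)
        refine ⟨dil Φ' w (Φ₁ w) hs hw, Φ₁ w, hs, det_dil _ _ _ _ _, ?_, fun x => ?_⟩
        · simp [dil_apply, hb']
        · rw [dil_apply, map_add, map_smul, hw, hdep x, smul_eq_mul, mul_one]; ring
    obtain ⟨Ψ', hΨ'⟩ := exists_dual_one (K := K) hb0
    let g := h2.trans (dil Ψ' b' s⁻¹ (inv_ne_zero hs) hΨ')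
    have hgd : LinearMap.det g.toLinearMap = 1 := by
      rw [show g.toLinearMap = (dil Ψ' b' s⁻¹ (inv_ne_zero hs) hΨ').toLinearMap ∘ₗ h2.toLinearMap from rfl,
        LinearMap.det_comp, det_dil, d2, inv_mul_cancel₀ hs]
    have hgb : g b' = s⁻¹ • b' := by
      simp [g, e2, dil_apply, hΨ', sub_smul]
    have hgΦ : ∀ x, Φ' (g x) = Φ₁ x := fun x => by
      simp [g, dil_apply, hb', hΦ2]
    have hT2 := hT1.conj (S.mem_one hgd)
    rw [LinearEquiv.restrictScalars_apply, hgb] at hT2
    have heq : l ∘ₗ Φ₁.restrictScalars F ∘ₗ (g.restrictScalars F).symm.toLinearMap = l ∘ₗ Φ'.restrictScalars F :=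
      LinearMap.ext fun x => by
        simp only [LinearMap.comp_apply, LinearEquiv.coe_coe, LinearMap.coe_restrictScalars, ← hgΦ]
        congr 2
        exact (g.restrictScalars F).apply_symm_apply x
    rw [LinearMap.comp_assoc, heq] at hT2
    simpa using S.inTr_smul hb0 hb' (inv_ne_zero hs) hT2 1
  intro a f hf
  obtain ⟨Φf, hΦf⟩ := exists_rep (K := K) l hl0 f
  by_cases ha : Φf a = 0
  · exact hΦf ▸ key a Φf ha
  obtain ⟨b, hbf, hb0⟩ : ∃ b, Φf b = 0 ∧ b ≠ 0 := by
    by_contra hc
    push Not at hc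
    have hinj : Function.Injective Φf := (injective_iff_map_eq_zero Φf).mpr hc
    have := LinearMap.finrank_le_finrank_of_injective hinj
    rw [finrank_self] at this
    have := S.two_le
    omega
  have hba : b ∉ K ∙ a := fun hm => by
    obtain ⟨c, rfl⟩ := Submodule.mem_span_singleton.mp hm
    rw [map_smul, smul_eq_mul, mul_eq_zero] at hbf
    rcases hbf with h | h
    · exact hb0 (by rw [h, zero_smul])
    · exact ha h
  obtain ⟨Φ', hΦ'b, hΦ'⟩ := exists_dual _ hba
  have hl1 : l 1 ≠ 0 := hl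
  obtain ⟨h1, m1⟩ := key a ((algebraMap F K (l 1)⁻¹) • Φ') (by simp [hΦ' a (Submodule.mem_span_singleton_self a)])
  obtain ⟨h2, m2⟩ := key b Φf hbf
  have hfab : (l ∘ₗ ((algebraMap F K (l 1)⁻¹) • Φ').restrictScalars F) b = 1 := by
    simp only [LinearMap.comp_apply, LinearMap.coe_restrictScalars, LinearMap.smul_apply, hΦ'b, smul_eq_mul,
      mul_one]
    rw [Algebra.algebraMap_eq_smul_one, map_smul, smul_eq_mul, inv_mul_cancel₀ hl1]
  refine ⟨hf, ?_⟩
  subst hΦf
  have := G.mul_mem (G.mul_mem m1 m2) (G.mul_mem (G.inv_mem m1) (G.inv_mem m2))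
  convert this using 1
  refine LinearEquiv.ext fun x => ?_
  rw [LinearEquiv.transvection.inv_eq' h1 (by rw [LinearMap.neg_apply, h1, neg_zero]),
    LinearEquiv.transvection.inv_eq' h2 (by rw [LinearMap.neg_apply, h2, neg_zero])]
  generalize (l ∘ₗ ((algebraMap F K (l 1)⁻¹) • Φ').restrictScalars F) = e at h1 hfab ⊢
  generalize (l ∘ₗ Φf.restrictScalars F) = f at hf h2 ⊢
  simp only [LinearEquiv.mul_apply, LinearEquiv.transvection.coe_apply, LinearMap.transvection.apply, map_add,
    map_smul, LinearMap.neg_apply, map_neg, h1, h2, hf, hfab, smul_eq_mul]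
  module

/-! ### The semilinear case -/

/-- The map is semilinear over `K`. -/
def Semilin (K : Type*) [Field K] [Algebra F K] [Module K V] (g : V ≃ₗ[F] V) : Prop :=
  ∃ τ : K →ₐ[F] K, ∀ (k : K) (x : V), g (k • x) = τ k • g x

omit [Finite F] [FiniteDimensional F V] in
theorem semilin_of_lines (hm : 2 ≤ finrank K V) (g : V ≃ₗ[F] V)
    (h : ∀ (v : V) (k : K), g (k • v) ∈ K ∙ g v) : Semilin K g := by
  choose a ha using fun v k => Submodule.mem_span_singleton.mp (h v k)
  have indep : ∀ v w : V, v ≠ 0 → w ∉ K ∙ v → ∀ k, a v k = a w k := by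
    intro v w hv hw k
    have hw' : g w ∉ K ∙ g v := by
      intro hm
      obtain ⟨c, hc⟩ := Submodule.mem_span_singleton.mp hm
      -- the image of the line of `v` is the whole line of `g v`
      let b : K →ₗ[F] K :=
        { toFun := fun k => a v k
          map_add' := fun x y => smul_left_injective K (g.map_ne_zero_iff.mpr hv) (by
            simp only [ha, add_smul, map_add])
          map_smul' := fun c x => smul_left_injective K (g.map_ne_zero_iff.mpr hv) (by
            simp only [ha, RingHom.id_apply, smul_assoc, map_smul]) }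
      have hbi : Function.Injective b := fun x y e => smul_left_injective K hv (g.injective (by
        rw [← ha, ← ha, show a v x = a v y from e]))
      obtain ⟨k', hk'⟩ := (LinearMap.injective_iff_surjective.mp hbi) c
      refine hw (Submodule.mem_span_singleton.mpr ⟨k', g.injective ?_⟩)
      rw [← ha, show a v k' = c from hk', hc]
    have e1 := ha (v + w) k
    rw [smul_add, map_add, map_add, smul_add, ← ha v k, ← ha w k] at e1
    have e2 : (a (v + w) k - a v k) • g v + (a (v + w) k - a w k) • g w = 0 := by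
      linear_combination (norm := module) e1
    by_cases hq : a (v + w) k - a w k = 0
    · rw [hq, zero_smul, add_zero, smul_eq_zero] at e2
      have := e2.resolve_right (g.map_ne_zero_iff.mpr hv)
      linear_combination hq - this
    · refine absurd (Submodule.mem_span_singleton.mpr ⟨-((a (v + w) k - a w k)⁻¹ * (a (v + w) k - a v k)), ?_⟩) hw'
      rw [← inv_smul_smul₀ hq (g w), show (a (v + w) k - a w k) • g w = -((a (v + w) k - a v k) • g v) from
        eq_neg_of_add_eq_zero_right e2, smul_neg, neg_smul, smul_smul]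
  obtain ⟨v₀, hv₀⟩ : ∃ v₀ : V, v₀ ≠ 0 := by
    haveI : Nontrivial V := Module.nontrivial_of_finrank_pos (R := K) (by omega)
    exact exists_ne 0
  have hconst : ∀ (w : V) (k : K), g (k • w) = a v₀ k • g w := by
    intro w k
    rcases eq_or_ne w 0 with rfl | hw0
    · simp
    rw [← ha]
    congr 1
    by_cases hw : w ∈ K ∙ v₀
    · have := span_singleton_ne_top hm v₀
      rw [Submodule.span_insert_zero] at this
      obtain ⟨u, -, hu⟩ := SetLike.exists_of_lt this.lt_top
      rw [indep v₀ u hv₀ hu, indep w u hw0 fun h => hu ((Submodule.span_singleton_le_iff_mem _ _).mpr hw h)]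
    · exact (indep v₀ w hv₀ hw k).symm
  have hgv : g v₀ ≠ 0 := g.map_ne_zero_iff.mpr hv₀
  let τ : K →ₗ[F] K :=
    { toFun := fun k => a v₀ k
      map_add' := fun x y => smul_left_injective K hgv (by simp only [ha, add_smul, map_add])
      map_smul' := fun c x => smul_left_injective K hgv (by simp only [ha, RingHom.id_apply, smul_assoc, map_smul]) }
  refine ⟨AlgHom.ofLinearMap τ (smul_left_injective K hgv (show a v₀ 1 • g v₀ = (1 : K) • g v₀ by
    rw [ha, one_smul, one_smul])) (fun x y => smul_left_injective K hgv (show a v₀ (x * y) • g v₀ = (a v₀ x * a v₀ y) • g v₀ by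
      rw [ha, mul_smul, mul_smul, hconst, hconst])), fun k x => hconst x k⟩

omit [Finite F] [FiniteDimensional F V] in
/-- Every element of `K` outside `F` is moved off the line of any vector, or `G` is semilinear. -/
theorem semilin_or_moved_core (hp : (finrank F K).Prime) (hm : 2 ≤ finrank K V)
    (htrans : ∀ x y : V, x ≠ 0 → y ≠ 0 → ∃ h : V ≃ₗ[K] V, h.restrictScalars F ∈ G ∧ h x = y) : (∀ g ∈ G, Semilin K g) ∨
    ∀ (v : V), v ≠ 0 → ∀ k : K, k ∉ (algebraMap F K).range → ∃ g ∈ G, g v = v ∧ g (k • v) ∉ K ∙ v := by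
  by_contra hc
  push Not at hc
  obtain ⟨⟨g₀, hg₀, hns⟩, v, hv, k, hk, hfix⟩ := hc
  have trans : ∀ g ∈ G, ∀ w : V, w ≠ 0 → ∃ h : V ≃ₗ[K] V, h.restrictScalars F ∈ G ∧ h (g w) = w :=
    fun g _ w hw => htrans _ _ (g.map_ne_zero_iff.mpr hw) hw
  let L : Subalgebra F K :=
    { carrier := {c | ∀ g ∈ G, g (c • v) ∈ K ∙ g v}
      mul_mem' := fun {x y} hx hy g hg => by
        rcases eq_or_ne y 0 with rfl | hy0
        · simp
        obtain ⟨h, hh, e⟩ := htrans _ _ hv (smul_ne_zero hy0 hv)
        have h1 := hx (g * h.restrictScalars F) (G.mul_mem hg hh)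
        change g (h (x • v)) ∈ K ∙ g (h v) at h1
        rw [map_smul, e, smul_smul] at h1
        exact ((Submodule.span_singleton_le_iff_mem _ _).mpr (hy g hg)) h1
      add_mem' := fun {x y} hx hy g hg => by
        rw [add_smul, map_add]; exact Submodule.add_mem _ (hx g hg) (hy g hg)
      algebraMap_mem' := fun c g _ => by
        rw [algebraMap_smul, map_smul, ← algebraMap_smul K c (g v)]
        exact Submodule.smul_mem _ _ (Submodule.mem_span_singleton_self _) }
  have hkL : k ∈ L := fun g hg => by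
    obtain ⟨h, hh, e⟩ := trans g hg v hv
    have h1 := hfix (h.restrictScalars F * g) (G.mul_mem hh hg) e
    obtain ⟨c, hc⟩ := Submodule.mem_span_singleton.mp h1
    refine Submodule.mem_span_singleton.mpr ⟨c, h.injective ?_⟩
    rw [map_smul, e, hc]
    rfl
  haveI := Subalgebra.isSimpleOrder_of_finrank_prime F K hp
  rcases eq_bot_or_eq_top L with hL | hL
  · rw [hL] at hkL
    exact hk (Algebra.mem_bot.mp hkL)
  refine hns (semilin_of_lines hm g₀ fun w c => ?_)
  rcases eq_or_ne w 0 with rfl | hw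
  · simp
  obtain ⟨h, hh, e⟩ := htrans _ _ hv hw
  have h1 : c ∈ L := hL ▸ trivial
  have h2 := h1 (g₀ * h.restrictScalars F) (G.mul_mem hg₀ hh)
  change g₀ (h (c • v)) ∈ K ∙ g₀ (h v) at h2
  rwa [map_smul, e] at h2

omit [Finite F] [FiniteDimensional F V] in
/-- The case of a group containing the determinant one maps. -/
theorem Over.semilin_or_moved (S : Over K G) : (∀ g ∈ G, Semilin K g) ∨
    ∀ (v : V), v ≠ 0 → ∀ k : K, k ∉ (algebraMap F K).range → ∃ g ∈ G, g v = v ∧ g (k • v) ∉ K ∙ v :=
  semilin_or_moved_core S.prime S.two_le fun _ _ => S.exists_map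

end Cfsg.Agent.Lib.ThreeTransp.ExtField
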