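import Cfsg.Agent.Lib.ThreeTransp.ExtFieldOrbit

/-!
The extension of degree two of the field with two elements, and the dichotomy in general.
-/

set_option autoImplicit false

namespace Cfsg.Agent.Lib.ThreeTransp.ExtField

open Module

variable {F K V : Type*} [Field F] [Field K] [Algebra F K] [AddCommGroup V] [Module F V] [Module K V]
  [IsScalarTower F K V] [Finite F] [FiniteDimensional F V] [FiniteDimensional K V] [FiniteDimensional F K]
variable {G : Subgroup (V ≃ₗ[F] V)} {v : V}

omit [Finite F] in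
/-- Coordinates in a quadratic extension. -/
theorem exists_coord (h2 : finrank F K = 2) {k : K} (hk : k ∉ (algebraMap F K).range) :
    ∃ f : K →ₗ[F] F, f k = 1 ∧ ∀ c : K, ∃ a : F, c = algebraMap F K a + algebraMap F K (f c) * k := by
  have hli : LinearIndependent F ![(1 : K), k] := by
    rw [LinearIndependent.pair_iff' one_ne_zero]
    exact fun a ha => hk ⟨a, by rw [Algebra.algebraMap_eq_smul_one, ha]⟩
  let b := basisOfLinearIndependentOfCardEqFinrank hli (by rw [Fintype.card_fin, h2])
  have hb : ∀ i, b i = ![(1 : K), k] i := fun i => by simp [b]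
  refine ⟨b.coord 1, ?_, fun c => ⟨b.repr c 0, ?_⟩⟩
  · rw [Basis.coord_apply, show k = b 1 by simp [hb], Basis.repr_self, Finsupp.single_eq_same]
  · conv_lhs => rw [← b.sum_repr c, Fin.sum_univ_two, hb, hb]
    simp [Algebra.smul_def]

omit [Finite F] in
/-- In degree two and `K`-dimension at least three a moved line gives a transvection. -/
theorem Over.hasTv_of_quadratic (S : Over K G) (h2 : finrank F K = 2) (hm : 3 ≤ finrank K V) (hv : v ≠ 0) {k : K}
    (hk : k ∉ (algebraMap F K).range) {g : V ≃ₗ[F] V} (hg : g ∈ G) (hgv : g v = v) (hgk : g (k • v) ∉ K ∙ v) :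
    HasTv G := by
  obtain ⟨co, hcok, hco⟩ := exists_coord h2 hk
  obtain ⟨Φ, hΦw, hΦ⟩ := exists_dual _ hgk
  have hΦv := hΦ v (Submodule.mem_span_singleton_self v)
  obtain ⟨x₀, -, hx₀⟩ := SetLike.exists_of_lt (span_pair_ne_top hm v (g.symm (k • v))).lt_top
  obtain ⟨Ψ, hΨx, hΨ⟩ := exists_dual _ hx₀
  have hΨv := hΨ v (Submodule.subset_span (by simp))
  have hΨk := hΨ _ (Submodule.subset_span (show g.symm (k • v) ∈ ({v, g.symm (k • v)} : Set V) by simp))
  have hgs : g.symm v = v := by rw [LinearEquiv.symm_apply_eq, hgv]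
  have hΨc : ∀ c : K, Ψ (g.symm (c • v)) = 0 := fun c => by
    obtain ⟨a, ha⟩ := hco c
    rw [ha, add_smul, mul_smul, algebraMap_smul, algebraMap_smul, map_add, map_smul, map_smul, hgs, map_add,
      LinearMap.map_smul_of_tower, LinearMap.map_smul_of_tower, hΨv, hΨk, smul_zero, smul_zero, add_zero]
  have hΦc : ∀ c : K, Φ (g (c • v)) = algebraMap F K (co c) := fun c => by
    obtain ⟨a, ha⟩ := hco c
    conv_lhs => rw [ha, add_smul, mul_smul, algebraMap_smul, algebraMap_smul, map_add, map_smul, map_smul, hgv,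
      map_add, LinearMap.map_smul_of_tower, LinearMap.map_smul_of_tower, hΦv, hΦw, smul_zero, zero_add]
    rw [Algebra.algebraMap_eq_smul_one]
  let t := (LinearEquiv.transvection hΦv).restrictScalars F
  let s := g * (LinearEquiv.transvection hΨv).restrictScalars F * g⁻¹
  have ht : t ∈ G := S.mem_one (det_transvection_equiv hΦv)
  have hs : s ∈ G := G.mul_mem (G.mul_mem hg (S.mem_one (det_transvection_equiv hΨv))) (G.inv_mem hg)
  have ht' : ∀ x, t x = x + Φ x • v := fun x => by simp [t, LinearMap.transvection.apply]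
  have hs' : ∀ x, s x = x + g (Ψ (g.symm x) • v) := fun x => by
    show g ((LinearEquiv.transvection hΨv).restrictScalars F (g.symm x)) = _
    simp [LinearMap.transvection.apply]
  have hfix : ∀ c : K, s (c • v) = c • v := fun c => by rw [hs', hΨc, zero_smul, map_zero, add_zero]
  let f : Dual F V := co ∘ₗ Ψ.restrictScalars F ∘ₗ g.symm.toLinearMap
  refine hasTv_of_inT (K := K) (f := f) hv (fun e => ?_) ⟨fun c => ?_, ?_⟩
  · have := LinearMap.congr_fun e (g (k • x₀))
    simp [f, hΨx, hcok] at this
  · simp [f, hΨc]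
  · rw [show tv ((Algebra.linearMap F K) ∘ₗ f) v _ = t * s * t⁻¹ * s⁻¹ from ?_]
    · exact G.mul_mem (G.mul_mem (G.mul_mem ht hs) (G.inv_mem ht)) (G.inv_mem hs)
    rw [eq_mul_inv_iff_mul_eq, eq_mul_inv_iff_mul_eq]
    refine LinearEquiv.ext fun x => ?_
    simp only [LinearEquiv.mul_apply, tv_apply, hs', ht', LinearMap.comp_apply, Algebra.linearMap_apply, f, map_zero,
      LinearEquiv.coe_coe, LinearMap.coe_restrictScalars, map_add, map_smul, hΨc, add_zero, hΦv, hΦc,
      g.symm_apply_apply, hΨv, smul_zero, zero_smul, smul_eq_mul, mul_zero, hgs]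
    module

section two

variable (hq : Nat.card F = 2)
include hq

omit [FiniteDimensional F V] [FiniteDimensional K V] [FiniteDimensional F K] in
theorem eq_one_of_ne_zero {a : F} (ha : a ≠ 0) : a = 1 := by
  have h : Nat.card Fˣ = 1 := by rw [Nat.card_units, hq]
  haveI := (Nat.card_eq_one_iff_unique.mp h).1
  exact congrArg Units.val (Subsingleton.elim (Units.mk0 a ha) 1)

omit [FiniteDimensional F V] in
theorem Over.mem_all (S : Over K G) (h : V ≃ₗ[K] V) : h.restrictScalars F ∈ G := by
  refine S.mem h (eq_one_of_ne_zero hq (Algebra.norm_ne_zero_iff.mpr ?_))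
  exact (LinearEquiv.isUnit_det' h).ne_zero

variable (h2 : finrank F K = 2)
include h2

omit [FiniteDimensional F V] [FiniteDimensional K V] in
theorem sq_eq {k : K} (hk : k ∉ (algebraMap F K).range) : k * k = k + 1 := by
  obtain ⟨co, hcok, hco⟩ := exists_coord h2 hk
  obtain ⟨a, ha⟩ := hco (k * k)
  have h01 : ∀ x : F, x = 0 ∨ x = 1 := fun x => (em (x = 0)).imp id (eq_one_of_ne_zero hq)
  rcases h01 a with rfl | rfl <;> rcases h01 (co (k * k)) with e | e <;> rw [e] at ha <;>
    simp only [map_zero, map_one, zero_mul, one_mul, add_zero, zero_add] at ha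
  · exact absurd ⟨0, by rw [map_zero, mul_self_eq_zero.mp ha]⟩ hk
  · have hk0 : k ≠ 0 := fun e => hk ⟨0, by rw [map_zero, e]⟩
    exact absurd ⟨1, by rw [map_one]; exact (mul_left_cancel₀ hk0 (ha.trans (mul_one k).symm)).symm⟩ hk
  · rcases mul_self_eq_one_iff.mp ha with e' | e'
    · exact absurd ⟨1, by rw [map_one, e']⟩ hk
    · exact absurd ⟨-1, by rw [map_neg, map_one, e']⟩ hk
  · rw [ha, add_comm]

omit [FiniteDimensional F V] [FiniteDimensional K V] in
theorem char_two : (2 : K) = 0 := by
  have : (2 : F) = 0 := by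
    by_contra h
    have := eq_one_of_ne_zero hq h
    exact one_ne_zero (by linear_combination this)
  rw [show (2 : K) = algebraMap F K 2 from (map_ofNat _ 2).symm, this, map_zero]

/-- An element fixing two independent vectors of a line is linear. -/
theorem Over.linear_of_fix (S : Over K G) (b : Basis (Fin 2) K V) (hno : ¬ HasTv G) {k : K}
    (hk : k ∉ (algebraMap F K).range) {g : V ≃ₗ[F] V} (hg : g ∈ G) (hgv : g (b 0) = b 0)
    (hgk : g (k • b 0) = k • b 0) : ∀ x, g (k • x) = k • g x := by
  classical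
  obtain ⟨co, hcok, hco⟩ := exists_coord h2 hk
  have hb : b 0 ≠ 0 := b.ne_zero 0
  have hfix : ∀ c : K, g (c • b 0) = c • b 0 := fun c => by
    obtain ⟨a, ha⟩ := hco c
    rw [ha, add_smul, mul_smul, algebraMap_smul, algebraMap_smul, map_add, map_smul, map_smul, hgv, hgk]
  have hfix' : ∀ c : K, g.symm (c • b 0) = c • b 0 := fun c => by rw [LinearEquiv.symm_apply_eq, hfix]
  let Ψ : V →ₗ[K] K := b.coord 1
  have hΨ0 : Ψ (b 0) = 0 := by simp [Ψ]
  have hΨ1 : Ψ (b 1) = 1 := by simp [Ψ]
  have hdec : ∀ x, x = b.repr x 0 • b 0 + Ψ x • b 1 := fun x => by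
    conv_lhs => rw [← b.sum_repr x, Fin.sum_univ_two]
    rfl
  -- elements trivial on and modulo the line are linear
  have hlin : ∀ θ : V →ₗ[F] K, InT G (b 0) θ → θ (k • b 1) = k * θ (b 1) := by
    intro θ hθ
    by_contra hne
    set c := θ (b 1)
    have h1 : InT G (b 0) (θ + -(LinearMap.mulLeft F c ∘ₗ Ψ.restrictScalars F)) :=
      hθ.add ((S.mulLeft_mem hb c) _ (S.inT_linear hΨ0)).neg
    set e := θ (k • b 1) - k * c
    have he : e ≠ 0 := sub_ne_zero.mpr hne
    have h3 := S.mulLeft_mem hb e⁻¹ _ h1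
    refine hno (hasTv_of_inT (K := K) (f := co ∘ₗ Ψ.restrictScalars F) hb (fun h => ?_) ?_)
    · have := LinearMap.congr_fun h (k • b 1)
      simp [hΨ1, hcok] at this
    · convert h3 using 1
      refine LinearMap.ext fun x => ?_
      obtain ⟨hθ0, -⟩ := hθ
      obtain ⟨a, ha⟩ := hco (Ψ x)
      have hθx : θ x = algebraMap F K a * c + algebraMap F K (co (Ψ x)) * θ (k • b 1) := by
        conv_lhs => rw [hdec x, map_add, hθ0, zero_add, ha, add_smul, mul_smul, algebraMap_smul, algebraMap_smul,
          map_add, map_smul, map_smul]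
        rw [Algebra.smul_def, Algebra.smul_def]
      simp only [LinearMap.comp_apply, Algebra.linearMap_apply, LinearMap.coe_restrictScalars,
        LinearMap.mulLeft_apply, LinearMap.add_apply, LinearMap.neg_apply, hθx]
      generalize co (Ψ x) = q at ha ⊢
      generalize Ψ x = p at ha ⊢
      subst ha
      field_simp
      simp only [e]
      ring
  have h4 := hlin _ (((S.inT_linear hΨ0)).conj hg (LinearEquiv.refl F K) hfix)
  simp only [LinearMap.comp_apply, LinearEquiv.coe_coe, LinearMap.coe_restrictScalars, LinearEquiv.refl_apply] at h4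
  have hu : Ψ (g.symm (b 1)) ≠ 0 := by
    intro e
    have h5 := hdec (g.symm (b 1))
    rw [e, zero_smul, add_zero] at h5
    have h6 := congrArg g h5
    rw [g.apply_symm_apply, hfix] at h6
    have := congrArg Ψ h6
    rw [hΨ1, map_smul, hΨ0, smul_zero] at this
    exact one_ne_zero this
  -- the linear map agreeing with `g⁻¹` on the basis
  have hli : LinearIndependent K ![b 0, g.symm (b 1)] := by
    rw [LinearIndependent.pair_iff' hb]
    intro a ha
    have := congrArg Ψ ha
    rw [map_smul, hΨ0, smul_zero] at this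
    exact hu this.symm
  let b' := basisOfLinearIndependentOfCardEqFinrank hli (by rw [Fintype.card_fin, finrank_eq_card_basis b, Fintype.card_fin])
  let D : V ≃ₗ[K] V := b.equiv b' (Equiv.refl _)
  have hD0 : D (b 0) = b 0 := by simp [D, b']
  have hD1 : D (b 1) = g.symm (b 1) := by simp [D, b']
  set d := g.symm (k • b 1) - k • g.symm (b 1)
  have hd : d = b.repr d 0 • b 0 := by
    conv_lhs => rw [hdec d]
    rw [show Ψ d = 0 by simp only [d, map_sub, map_smul, smul_eq_mul, h4, sub_self], zero_smul, add_zero]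
  set a := b.repr d 0
  have hmain : ∀ x, g.symm x = D x + (a * algebraMap F K (co (Ψ x))) • b 0 := by
    intro x
    obtain ⟨a', ha'⟩ := hco (Ψ x)
    have e : g.symm (k • b 1) = k • g.symm (b 1) + a • b 0 := by rw [← hd]; simp [d]
    conv_lhs => rw [hdec x, map_add, hfix', ha', add_smul, mul_smul, algebraMap_smul, algebraMap_smul, map_add,
      map_smul, map_smul, e]
    conv_rhs => rw [show D x = b.repr x 0 • b 0 + Ψ x • g.symm (b 1) by
      conv_lhs => rw [hdec x, map_add, map_smul, map_smul, hD0, hD1]]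
    nth_rw 2 [ha']
    rw [add_smul, mul_smul, algebraMap_smul, algebraMap_smul, mul_comm a, mul_smul, algebraMap_smul, smul_add]
    abel
  by_cases ha : a = 0
  · intro x
    have : ∀ y, g.symm (k • y) = k • g.symm y := fun y => by
      rw [hmain, hmain, ha, zero_mul, zero_mul, zero_smul, add_zero, add_zero, map_smul]
    apply g.symm.injective
    rw [this, g.symm_apply_apply, g.symm_apply_apply]
  · exfalso
    have hG : D.symm.restrictScalars F * g⁻¹ ∈ G := G.mul_mem (S.mem_all hq _) (G.inv_mem hg)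
    let θ : V →ₗ[F] K := LinearMap.mulLeft F a ∘ₗ Algebra.linearMap F K ∘ₗ co ∘ₗ Ψ.restrictScalars F
    have hθ : InT G (b 0) θ := by
      refine ⟨fun c => by simp [θ, hΨ0], ?_⟩
      convert hG using 1
      refine LinearEquiv.ext fun x => ?_
      show x + (a * algebraMap F K (co (Ψ x))) • b 0 = D.symm (g.symm x)
      rw [hmain, map_add, D.symm_apply_apply, map_smul, show D.symm (b 0) = b 0 from
        (LinearEquiv.symm_apply_eq D).mpr hD0.symm]
    have h5 := hlin θ hθ
    simp [θ, hΨ1, hcok] at h5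
    have h6 : co (1 : K) = 0 := by
      obtain ⟨a₁, ha₁⟩ := hco 1
      by_contra hne
      rw [eq_one_of_ne_zero hq hne, map_one, one_mul] at ha₁
      exact hk ⟨1 - a₁, by rw [map_sub, map_one]; linear_combination ha₁⟩
    rw [h6, map_zero, mul_zero, mul_zero] at h5
    exact ha h5

/-- The degree two extension of the field with two elements in dimension four. -/
theorem Over.semilin_of_four (S : Over K G) (hm : finrank K V = 2) (hno : ¬ HasTv G) : ∀ g ∈ G, Semilin K g := by
  classical
  rcases S.semilin_or_moved with h | hmoved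
  · exact h
  exfalso
  haveI : Finite V := Module.finite_of_finite F
  haveI : Finite (V ≃ₗ[F] V) := DFunLike.finite _
  haveI := Fintype.ofFinite V
  haveI := Fintype.ofFinite F
  haveI : Finite K := Module.finite_of_finite F
  obtain ⟨k, hk⟩ : ∃ k : K, k ∉ (algebraMap F K).range := by
    by_contra hc
    push Not at hc
    have : finrank F K ≤ 1 := finrank_le_one (1 : K) fun c => by
      obtain ⟨a, ha⟩ := hc c; exact ⟨a, by rw [← ha, Algebra.algebraMap_eq_smul_one]⟩
    omega
  have hk2 := sq_eq hq h2 hk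
  have htwo := char_two (K := K) hq h2
  obtain ⟨co, hcok, hco⟩ := exists_coord h2 hk
  have hk0 : k ≠ 0 := fun e => hk ⟨0, by rw [map_zero, e]⟩
  have hkk : ∀ c : K, c = 0 ∨ c = 1 ∨ c = k ∨ c = k + 1 := fun c => by
    obtain ⟨a, ha⟩ := hco c
    generalize co c = q at ha
    subst ha
    have h01 : ∀ y : F, y = 0 ∨ y = 1 := fun y => (em (y = 0)).imp id (eq_one_of_ne_zero hq)
    rcases h01 a with rfl | rfl <;> rcases h01 q with rfl | rfl <;> simp [add_comm k]
  let b : Basis (Fin 2) K V := finBasisOfFinrankEq K V hm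
  have hb0 : b 0 ≠ 0 := b.ne_zero 0
  -- scalar multiplication by `k` and the linear elements of `G`
  let z : V ≃ₗ[F] V := (LinearEquiv.smulOfUnit (Units.mk0 k hk0) : V ≃ₗ[K] V).restrictScalars F
  have hz : ∀ x, z x = k • x := fun x => rfl
  have hzG : z ∈ G := S.mem_all hq _
  let H : Subgroup G :=
    { carrier := {g | ∀ x, g.1 (k • x) = k • g.1 x}
      one_mem' := fun x => rfl
      mul_mem' := fun {a c} ha hc x => by
        show a.1 (c.1 (k • x)) = k • a.1 (c.1 x)
        rw [hc, ha]
      inv_mem' := fun {a} ha x => by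
        show a.1.symm (k • x) = k • a.1.symm x
        rw [LinearEquiv.symm_apply_eq, ha, LinearEquiv.apply_symm_apply] }
  -- orbits on pairs
  let pt : V × V := (b 0, k • b 0)
  have hkx : ∀ x : V, x ≠ 0 → k • x ≠ x := fun x hx e => hk ⟨1, by
    rw [map_one]; exact (smul_left_injective K hx (e.trans (one_smul K x).symm)).symm⟩
  have out : ∀ x : V, x ∉ K ∙ b 0 → ∃ g ∈ G, g (b 0) = b 0 ∧ g (k • b 0) = x := by
    intro x hx
    obtain ⟨g, hg, hgv, hgk⟩ := hmoved _ hb0 k hk
    obtain ⟨cl, hcl⟩ := S.exists_class hb0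
    obtain ⟨h, hh, hhv, hhx⟩ := hcl _ _ hgk hx (Units.ext (by
      rw [eq_one_of_ne_zero hq (cl (g (k • b 0))).ne_zero, eq_one_of_ne_zero hq (cl x).ne_zero]))
    exact ⟨h * g, G.mul_mem hh hg, by rw [LinearEquiv.mul_apply, hgv, hhv], by rw [LinearEquiv.mul_apply, hhx]⟩
  have hT : MulAction.orbit G pt = {p : V × V | p.1 ≠ 0 ∧ p.2 ≠ 0 ∧ p.1 ≠ p.2} := by
    ext ⟨x, y⟩
    constructor
    · rintro ⟨g, hg⟩
      obtain ⟨rfl, rfl⟩ := Prod.mk.injEq _ _ _ _ |>.mp hg
      exact ⟨g.1.map_ne_zero_iff.mpr hb0, g.1.map_ne_zero_iff.mpr (smul_ne_zero hk0 hb0),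
        fun e => hkx _ hb0 (g.1.injective e).symm⟩
    · rintro ⟨hx, hy, hxy⟩
      obtain ⟨h, hh, e⟩ := S.exists_map hx hb0
      set y' := h y
      suffices ∃ g ∈ G, g (b 0) = b 0 ∧ g (k • b 0) = y' by
        obtain ⟨g, hg, g1, g2⟩ := this
        refine ⟨⟨(h.restrictScalars F)⁻¹ * g, G.mul_mem (G.inv_mem hh) hg⟩, ?_⟩
        refine Prod.ext ?_ ?_
        · show h.symm (g (b 0)) = x
          rw [g1, ← e, h.symm_apply_apply]
        · show h.symm (g (k • b 0)) = y
          rw [g2, h.symm_apply_apply]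
      by_cases hy' : y' ∈ K ∙ b 0
      · obtain ⟨c, hc⟩ := Submodule.mem_span_singleton.mp hy'
        rcases hkk c with rfl | rfl | rfl | rfl
        · exact absurd (h.injective (by rw [map_zero]; exact hc.symm.trans (zero_smul K (b 0)))) hy
        · exact absurd (h.injective (by rw [e]; exact (hc.symm.trans (one_smul K (b 0))).symm)) hxy
        · exact ⟨1, G.one_mem, rfl, hc⟩
        · obtain ⟨g, hg, hgv, hgk⟩ := hmoved _ hb0 (k + 1) fun ⟨a, ha⟩ =>
            hk ⟨a - 1, by rw [map_sub, map_one, ha, add_sub_cancel_right]⟩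
          obtain ⟨g', hg', g1, g2⟩ := out _ hgk
          exact ⟨g⁻¹ * g', G.mul_mem (G.inv_mem hg) hg',
            by show g.symm (g' (b 0)) = _; rw [g1, LinearEquiv.symm_apply_eq, hgv],
            by show g.symm (g' (k • b 0)) = _; rw [g2, g.symm_apply_apply, hc]⟩
      · exact out _ hy'
  have hH : MulAction.orbit H pt = (fun x => (x, k • x)) '' {x : V | x ≠ 0} := by
    ext ⟨x, y⟩
    constructor
    · rintro ⟨g, hg⟩
      obtain ⟨rfl, rfl⟩ := Prod.mk.injEq _ _ _ _ |>.mp hg
      exact ⟨_, g.1.1.map_ne_zero_iff.mpr hb0, Prod.ext rfl (g.2 (b 0)).symm⟩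
    · rintro ⟨x, hx, rfl, rfl⟩
      obtain ⟨h, hh, e⟩ := S.exists_map hb0 hx
      exact ⟨⟨⟨_, hh⟩, fun y => h.map_smul k y⟩, Prod.ext e (by show h (k • b 0) = _; rw [map_smul, e])⟩
  haveI := Fintype.ofFinite G
  haveI := Fintype.ofFinite H
  have c1 := MulAction.card_orbit_mul_card_stabilizer_eq_card_group G pt
  have c2 := MulAction.card_orbit_mul_card_stabilizer_eq_card_group H pt
  simp only [← Nat.card_eq_fintype_card] at c1 c2
  have hstab : Nat.card (MulAction.stabilizer G pt) = Nat.card (MulAction.stabilizer H pt) := by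
    refine Nat.card_congr ⟨fun g => ⟨⟨g.1, ?_⟩, g.2⟩, fun g => ⟨g.1.1, g.2⟩, fun g => rfl, fun g => rfl⟩
    have hg := g.2
    rw [MulAction.mem_stabilizer_iff] at hg
    exact S.linear_of_fix hq h2 b hno hk g.1.2 (congrArg Prod.fst hg) (congrArg Prod.snd hg)
  have hV : Fintype.card V = 16 := by
    rw [Module.card_eq_pow_finrank (K := F) (V := V), ← finrank_mul_finrank F K V, hm, h2,
      ← Nat.card_eq_fintype_card, hq]
    norm_num
  have hcG : Nat.card (MulAction.orbit G pt) = 210 := by
    rw [hT, Nat.card_eq_fintype_card, ← Set.toFinset_card, show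
      Set.toFinset {p : V × V | p.1 ≠ 0 ∧ p.2 ≠ 0 ∧ p.1 ≠ p.2} = ((Finset.univ : Finset V).erase 0).offDiag by
        ext p; simp [Finset.mem_offDiag, and_assoc],
      Finset.offDiag_card, Finset.card_erase_of_mem (Finset.mem_univ _), Finset.card_univ, hV]
  have hcH : Nat.card (MulAction.orbit H pt) = 15 := by
    rw [hH, Nat.card_image_of_injective (fun x y e => congrArg Prod.fst e), Nat.card_eq_fintype_card,
      ← Set.toFinset_card, show Set.toFinset {x : V | x ≠ 0} = (Finset.univ : Finset V).erase 0 by ext p; simp,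
      Finset.card_erase_of_mem (Finset.mem_univ _), Finset.card_univ, hV]
  have hidx : Nat.card (G ⧸ H) = 14 := by
    have h3 := H.card_eq_card_quotient_mul_card_subgroup
    rw [← c1, ← c2, hstab, hcG, hcH, show (210 : ℕ) = 14 * 15 from rfl, mul_assoc] at h3
    have hpos : 0 < 15 * Nat.card (MulAction.stabilizer H pt) := Nat.mul_pos (by norm_num) Nat.card_pos
    exact (Nat.eq_of_mul_eq_mul_right hpos h3).symm
  -- an element of order five
  let U : V →ₗ[K] V := b.constr K ![b 1, b 0 + k • b 1]
  have hU0 : U (b 0) = b 1 := by simp [U]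
  have hU1 : U (b 1) = b 0 + k • b 1 := by simp [U]
  have hU : ∀ x, U (U x) = k • U x + x := fun x => by
    have : U ∘ₗ U = k • U + LinearMap.id := b.ext fun i => by
      fin_cases i <;> simp [hU0, hU1, map_add, add_comm]
    exact LinearMap.congr_fun this x
  have hU5 : ∀ x, U (U (U (U (U x)))) = x := fun x => by
    simp only [hU, map_add, map_smul, smul_add, smul_smul]
    match_scalars
    · linear_combination (k * k + k + 5) * hk2 + (3 * k + 3) * htwo
    · linear_combination (k + 1) * hk2 + (2 * k) * htwo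
  let u : V ≃ₗ[F] V := (LinearEquiv.ofLinear U (U ∘ₗ U ∘ₗ U ∘ₗ U) (LinearMap.ext hU5)
    (LinearMap.ext hU5) : V ≃ₗ[K] V).restrictScalars F
  have hu : ∀ x, u x = U x := fun x => rfl
  let uG : G := ⟨u, S.mem_all hq _⟩
  haveI : Fact (Nat.Prime 5) := ⟨by norm_num⟩
  have hu5 : uG ^ 5 = 1 := Subtype.ext (LinearEquiv.ext fun x => hU5 x)
  have hpg : IsPGroup 5 (Subgroup.zpowers uG) := by
    intro x
    refine ⟨1, Subtype.ext ?_⟩
    obtain ⟨n, hn⟩ := Subgroup.mem_zpowers_iff.mp x.2
    rw [SubmonoidClass.coe_pow, pow_one, ← hn, ← zpow_natCast, ← zpow_mul, mul_comm, zpow_mul, zpow_natCast, hu5,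
      one_zpow]
    rfl
  have hmod := hpg.card_modEq_card_fixedPoints (G ⧸ H)
  rw [hidx] at hmod
  -- a fixed coset gives a semilinear element
  have hfix : ∀ g : G, (QuotientGroup.mk g : G ⧸ H) ∈ MulAction.fixedPoints (Subgroup.zpowers uG) (G ⧸ H) →
      ∃ a : K, (a = k ∨ a = k + 1) ∧ ∀ x, g.1 (k • x) = a • g.1 x := by
    intro g hg
    have h1 := hg ⟨uG, Subgroup.mem_zpowers uG⟩
    have h2' : (QuotientGroup.mk (uG * g) : G ⧸ H) = QuotientGroup.mk g := h1
    have h3 := H.inv_mem (QuotientGroup.eq.mp h2')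
    rw [mul_inv_rev, inv_inv] at h3
    -- the conjugate of `z` commutes with `U`
    let Z : V →ₗ[F] V := (g.1 * z * g.1⁻¹ : V ≃ₗ[F] V).toLinearMap
    have hZd : ∀ x, Z x = g.1 (k • g.1.symm x) := fun x => rfl
    have hZU : ∀ x, Z (U x) = U (Z x) := fun x => by
      have h4 := h3 (g.1.symm x)
      change g.1.symm (U (g.1 (k • g.1.symm x))) = k • g.1.symm (U (g.1 (g.1.symm x))) at h4
      rw [g.1.apply_symm_apply] at h4
      rw [hZd, hZd, ← h4, g.1.apply_symm_apply]
    have hZ2 : ∀ x, Z (Z x) = Z x + x := fun x => by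
      rw [hZd, hZd, g.1.symm_apply_apply, smul_smul, hk2, add_smul, one_smul, map_add, g.1.apply_symm_apply]
    set c := b.repr (Z (b 0)) 0
    set d := b.repr (Z (b 0)) 1
    have hP : ∀ x, Z x = c • x + d • U x := by
      let P : V →ₗ[K] V := c • LinearMap.id + d • U
      have hPv : Z (b 0) = P (b 0) := by
        simp only [P, LinearMap.add_apply, LinearMap.smul_apply, LinearMap.id_apply, hU0]
        conv_lhs => rw [← b.sum_repr (Z (b 0)), Fin.sum_univ_two]
      have hstep : ∀ x, Z x = P x → Z (U x) = P (U x) := fun x hx => by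
        rw [hZU, hx]; simp [P, map_add]
      have h1 : Z (b 1) = P (b 1) := hU0 ▸ hstep _ hPv
      have h2 := hstep _ h1
      have h3 := hstep _ h2
      rw [hU1] at h2
      have hk1 : Z (k • b 1) = P (k • b 1) := by
        rw [map_add, map_add, hPv] at h2; exact add_left_cancel h2
      rw [hU1, map_add, hU0, map_smul, hU1, smul_add, smul_smul, hk2, add_smul, one_smul] at h3
      have hk0' : Z (k • b 0) = P (k • b 0) := by
        rw [show b 1 + (k • b 0 + (k • b 1 + b 1)) = k • b 0 + k • b 1 by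
          match_scalars <;> first | rfl | linear_combination htwo] at h3
        rw [map_add, map_add, hk1] at h3; exact add_right_cancel h3
      intro x
      have hlin : ∀ i, ∀ c : K, Z (c • b i) = P (c • b i) := by
        intro i c
        obtain ⟨a, ha⟩ := hco c
        have hi : Z (b i) = P (b i) ∧ Z (k • b i) = P (k • b i) := by
          fin_cases i
          exacts [⟨hPv, hk0'⟩, ⟨h1, hk1⟩]
        rw [ha, add_smul, mul_smul, algebraMap_smul, algebraMap_smul, map_add, map_smul, map_smul, hi.1, hi.2,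
          map_add, LinearMap.map_smul_of_tower P a, LinearMap.map_smul_of_tower P (co c)]
      conv_lhs => rw [← b.sum_repr x, map_sum]
      simp only [hlin, ← map_sum, b.sum_repr]
      rfl
    have h5 := hZ2 (b 0)
    rw [hP, hP (b 0), map_add, map_smul, map_smul, hU, hU0] at h5
    have e0 : c * c + d * d = c + 1 := by
      have := congrArg (b.coord 0) h5
      simp [Basis.coord_apply, map_add, smul_add, smul_smul] at this
      linear_combination this
    have e1 : d * (c + (c + d * k)) = d := by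
      have := congrArg (b.coord 1) h5
      simp [Basis.coord_apply, map_add, smul_add, smul_smul] at this
      linear_combination this
    clear_value c d
    have hd : d = 0 := by
      by_contra hd
      have e2 : d * k = 1 := by
        have := mul_left_cancel₀ hd (e1.trans (mul_one d).symm)
        linear_combination this - c * htwo
      have e3 : d = k + 1 := mul_right_cancel₀ hk0 (by rw [e2]; linear_combination -hk2 - k * htwo)
      rw [e3] at e0
      obtain ⟨a, ha⟩ : ∃ a : F, c * c + c = algebraMap F K a := by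
        rcases hkk c with h | h | h | h <;> rw [h]
        · exact ⟨0, by simp⟩
        · exact ⟨0, by rw [map_zero]; linear_combination htwo⟩
        · exact ⟨1, by rw [map_one]; linear_combination hk2 + k * htwo⟩
        · exact ⟨1, by rw [map_one]; linear_combination hk2 + (2 * k + 1) * htwo⟩
      exact hk ⟨a + 1, by rw [map_add, map_one]; linear_combination e0 - hk2 - ha - (2 * k - c) * htwo⟩
    refine ⟨c, ?_, fun x => ?_⟩
    · rw [hd] at e0
      rcases hkk c with h | h | h | h
      · exfalso; rw [h] at e0; exact one_ne_zero (show (1 : K) = 0 by linear_combination -e0)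
      · exfalso; rw [h] at e0; exact one_ne_zero (show (1 : K) = 0 by linear_combination -e0)
      · exact Or.inl h
      · exact Or.inr h
    · have := hP (g.1 x)
      rw [hd, zero_smul, add_zero, hZd, g.1.symm_apply_apply] at this
      exact this
  -- at most two fixed cosets
  have hle : Nat.card (MulAction.fixedPoints (Subgroup.zpowers uG) (G ⧸ H)) ≤ 2 := by
    have hex : ∀ x : MulAction.fixedPoints (Subgroup.zpowers uG) (G ⧸ H), ∃ (g : G) (a : Fin 2),
        QuotientGroup.mk g = x.1 ∧ ∀ y, g.1 (k • y) = (![k, k + 1] a) • g.1 y := by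
      intro x
      obtain ⟨g, hg⟩ := QuotientGroup.mk_surjective x.1
      obtain ⟨a, ha, hga⟩ := hfix g (hg ▸ x.2)
      rcases ha with rfl | rfl
      · exact ⟨g, 0, hg, hga⟩
      · exact ⟨g, 1, hg, hga⟩
    choose gg aa hgg haa using hex
    refine (Nat.card_le_card_of_injective aa fun x y e => Subtype.ext ?_).trans (by simp)
    rw [← hgg x, ← hgg y, QuotientGroup.eq]
    intro w
    show (gg x).1.symm ((gg y).1 (k • w)) = k • (gg x).1.symm ((gg y).1 w)
    rw [LinearEquiv.symm_apply_eq, haa y, haa x, e, LinearEquiv.apply_symm_apply]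
  have hmem : (QuotientGroup.mk (1 : G) : G ⧸ H) ∈ MulAction.fixedPoints (Subgroup.zpowers uG) (G ⧸ H) := by
    rintro ⟨w, hw⟩
    have hle' : Subgroup.zpowers uG ≤ H := Subgroup.zpowers_le.mpr fun x => U.map_smul k x
    show (QuotientGroup.mk (w * 1) : G ⧸ H) = _
    rw [QuotientGroup.eq, mul_one, mul_one]
    exact H.inv_mem (hle' hw)
  haveI : Nonempty (MulAction.fixedPoints (Subgroup.zpowers uG) (G ⧸ H)) := ⟨⟨_, hmem⟩⟩
  have hpos := Nat.card_pos (α := MulAction.fixedPoints (Subgroup.zpowers uG) (G ⧸ H))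
  rw [Nat.ModEq] at hmod
  omega

end two

/-- **The dichotomy**: all maps are semilinear or all transvections lie in the group. -/
theorem Over.dichotomy (S : Over K G) :
    (∀ g ∈ G, Semilin K g) ∨ ∀ (a : V) (f : Dual F V), f a = 0 → InTr G a f := by
  by_cases hex : Nat.card F = 2 ∧ finrank F K = 2
  · obtain ⟨hq, h2⟩ := hex
    by_cases hno : HasTv G
    · exact Or.inr (S.inTr_all hno)
    refine Or.inl ?_
    rcases Nat.lt_or_ge (finrank K V) 3 with hm | hm
    · exact S.semilin_of_four hq h2 (le_antisymm (by omega) S.two_le) hno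
    rcases S.semilin_or_moved with h | hmoved
    · exact h
    exfalso
    obtain ⟨v, hv⟩ : ∃ v : V, v ≠ 0 := by
      haveI : Nontrivial V := Module.nontrivial_of_finrank_pos (R := K) (by omega)
      exact exists_ne 0
    obtain ⟨k, hk⟩ : ∃ k : K, k ∉ (algebraMap F K).range := by
      by_contra hc
      push Not at hc
      have : finrank F K ≤ 1 := finrank_le_one (1 : K) fun c => by
        obtain ⟨a, ha⟩ := hc c; exact ⟨a, by rw [← ha, Algebra.algebraMap_eq_smul_one]⟩
      omega
    obtain ⟨g, hg, hgv, hgk⟩ := hmoved v hv k hk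
    exact hno (S.hasTv_of_quadratic h2 hm hv hk hg hgv hgk)
  · exact (S.dichotomy_general hex).imp id fun h => S.inTr_all h

end Cfsg.Agent.Lib.ThreeTransp.ExtField
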