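import Cfsg.Prelude.Def_GeometricClasses
import Cfsg.Agent.Lib.ThreeTransp.ExtFieldTwo
import Cfsg.Agent.Lib.MaxSub.Transvec

/-!
The normaliser of an extension field of prime degree inside the general and special linear groups.
-/

set_option autoImplicit false

namespace Cfsg.Agent.Lib.ThreeTransp.ExtField

open Module Matrix
open Cfsg.Agent.Lib.MaxSub (InK FullAt specialLinear_le_of_fullAt exists_functional tv_mulVec tv_mem_specialLinear)
open scoped MatrixGroups Matrix

universe u

variable {ι : Type} [Fintype ι] [DecidableEq ι] {F : Type u} [Field F] {r : ℕ}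
  {K : Subalgebra F (Matrix ι ι F)}

/-- The subalgebra as an abstract field acting on the column vectors. -/
theorem exists_field (hK : Cfsg.Geo.IsFieldSubalgebra r K) (hr : r ≠ 0) :
    ∃ (L : Type u) (_ : Field L) (_ : Algebra F L) (_ : Module L (ι → F)) (_ : IsScalarTower F L (ι → F))
      (_ : FiniteDimensional F L) (e : L ≃ K),
      finrank F L = r ∧ ∀ (k : L) (x : ι → F), k • x = (e k : Matrix ι ι F) *ᵥ x := by
  haveI : Module.Finite F K := FiniteDimensional.finiteDimensional_submodule (Subalgebra.toSubmodule K)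
  have hne : Nontrivial K := Module.nontrivial_of_finrank_pos (R := F) (M := K) (by rw [hK.finrank_eq]; omega)
  have hf : IsField K :=
    { exists_pair_ne := exists_pair_ne K
      mul_comm := fun a b => Subtype.ext (hK.comm _ a.2 _ b.2)
      mul_inv_cancel := fun {a} ha => by
        obtain ⟨y, hy, hy'⟩ := hK.inv a.1 a.2 fun e => ha (Subtype.ext e)
        exact ⟨⟨y, hy⟩, Subtype.ext hy'⟩ }
  refine ⟨↥K, hf.toField, K.algebra, Module.compHom (ι → F)
    ((Matrix.toLinAlgEquiv' (R := F) (n := ι)).toAlgHom.comp K.val).toRingHom, ?_, ?_, Equiv.refl _, hK.finrank_eq,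
    fun k x => rfl⟩
  · constructor
    intro a k x
    exact Matrix.smul_mulVec a (k : Matrix ι ι F) x
  · exact inferInstanceAs (Module.Finite F K)

/-- The linear automorphism of an invertible matrix. -/
noncomputable def linOf : GL ι F ≃* ((ι → F) ≃ₗ[F] (ι → F)) :=
  Matrix.GeneralLinearGroup.toLin.trans (LinearMap.GeneralLinearGroup.generalLinearEquiv F (ι → F))

theorem linOf_apply (g : GL ι F) (x : ι → F) : linOf g x = (g : Matrix ι ι F) *ᵥ x := rfl

theorem two_le_finrank {L : Type*} [Field L] [Algebra F L] [Module L (ι → F)] [IsScalarTower F L (ι → F)]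
    [FiniteDimensional F L] (hrk : finrank F L = r) (hlt : r < Fintype.card ι) : 2 ≤ finrank L (ι → F) := by
  have h := finrank_mul_finrank F L (ι → F)
  rw [hrk, Module.finrank_pi] at h
  by_contra hc
  interval_cases hh : finrank L (ι → F) <;> omega

/-- The maps linear over the field normalise it. -/
theorem linear_mem {L : Type*} [Field L] [Algebra F L] [Module L (ι → F)] (e : L ≃ K)
    (he : ∀ (k : L) (x : ι → F), k • x = (e k : Matrix ι ι F) *ᵥ x) {g : GL ι F}
    (hlin : ∀ (k : L) (x : ι → F), linOf g (k • x) = k • linOf g x) : g ∈ Cfsg.Geo.subalgebraNormalizer K := by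
  have hc : ∀ k' : Matrix ι ι F, k' ∈ K → (g : Matrix ι ι F) * k' = k' * (g : Matrix ι ι F) := by
    intro k' hk'
    refine Matrix.ext_of_mulVec_single fun i => ?_
    have e1 := hlin (e.symm ⟨k', hk'⟩) (Pi.single i 1)
    rw [he, he, e.apply_symm_apply, linOf_apply, linOf_apply] at e1
    rw [← Matrix.mulVec_mulVec, ← Matrix.mulVec_mulVec]
    exact e1
  intro k
  refine ⟨fun hk => by rw [hc k hk, mul_assoc, Units.mul_inv, mul_one]; exact hk, fun hk => ?_⟩
  have e2 := hc _ hk
  rw [mul_assoc _ _ (g : Matrix ι ι F), Units.inv_mul, mul_one, Units.mul_right_inj, Units.mul_inv_eq_iff_eq_mul] at e2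
  rw [e2, mul_assoc, Units.mul_inv, mul_one] at hk
  exact hk

/-- Every non-zero scalar is the determinant of an element normalising the field. -/
theorem exists_det [Finite F] (hr : r.Prime) (hK : Cfsg.Geo.IsFieldSubalgebra r K) (hlt : r < Fintype.card ι)
    (c : Fˣ) : ∃ g ∈ Cfsg.Geo.subalgebraNormalizer K, Matrix.GeneralLinearGroup.det g = c := by
  obtain ⟨L, _, _, _, _, _, e, hrk, he⟩ := exists_field hK hr.ne_zero
  haveI : FiniteDimensional L (ι → F) := Module.Finite.of_restrictScalars_finite F L (ι → F)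
  have hm := two_le_finrank hrk hlt
  haveI : Finite L := Module.finite_of_finite F
  obtain ⟨v, hv⟩ : ∃ v : ι → F, v ≠ 0 := by
    haveI : Nontrivial (ι → F) := Module.nontrivial_of_finrank_pos (R := L) (by omega)
    exact exists_ne 0
  obtain ⟨Φ, hΦ⟩ := exists_dual_one (K := L) hv
  obtain ⟨d, hd⟩ := FiniteField.norm_surjective F L (c : F)
  have hd0 : d ≠ 0 := fun h => c.ne_zero (by rw [← hd, h, Algebra.norm_zero])
  set g : GL ι F := (linOf (ι := ι) (F := F)).symm ((dil Φ v d hd0 hΦ).restrictScalars F) with hg'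
  have hg : linOf g = (dil Φ v d hd0 hΦ).restrictScalars F := (linOf (ι := ι) (F := F)).apply_symm_apply _
  refine ⟨g, linear_mem e he fun k x => by rw [hg]; exact (dil Φ v d hd0 hΦ).map_smul k x, Units.ext ?_⟩
  show (g : Matrix ι ι F).det = c
  rw [← LinearMap.det_toLin', show Matrix.toLin' (g : Matrix ι ι F) =
      ((dil Φ v d hd0 hΦ : (ι → F) ≃ₗ[L] (ι → F)) : (ι → F) →ₗ[L] (ι → F)).restrictScalars F
    from LinearMap.ext fun x => by
      rw [Matrix.toLin'_apply, ← linOf_apply, hg]; rfl, LinearMap.det_restrictScalars, det_dil, hd]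

variable [Finite F]

/-- Over-groups of the determinant one part of the normaliser: inside the normaliser or containing `SL`. -/
theorem le_normalizer_or_specialLinear_le (hr : r.Prime) (hK : Cfsg.Geo.IsFieldSubalgebra r K)
    (hlt : r < Fintype.card ι) {M : Subgroup (GL ι F)}
    (hM : Cfsg.Geo.subalgebraNormalizer K ⊓ Cfsg.Geo.specialLinear ι F ≤ M) :
    M ≤ Cfsg.Geo.subalgebraNormalizer K ∨ Cfsg.Geo.specialLinear ι F ≤ M := by
  obtain ⟨L, _, _, _, _, _, e, hrk, he⟩ := exists_field hK hr.ne_zero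
  haveI : FiniteDimensional L (ι → F) := Module.Finite.of_restrictScalars_finite F L (ι → F)
  have hm := two_le_finrank hrk hlt
  have S : Over L (M.map (linOf (ι := ι) (F := F)).toMonoidHom) := by
    refine ⟨hrk.symm ▸ hr, hm, fun h hd => ?_⟩
    let g : GL ι F := (linOf (ι := ι) (F := F)).symm (h.restrictScalars F)
    have hg : linOf g = h.restrictScalars F := (linOf (ι := ι) (F := F)).apply_symm_apply _
    refine ⟨g, hM ⟨linear_mem e he fun k x => by rw [hg]; exact h.map_smul k x, ?_⟩, hg⟩
    · show Matrix.GeneralLinearGroup.det g = 1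
      refine Units.ext ?_
      show (g : Matrix ι ι F).det = 1
      rw [← LinearMap.det_toLin', show Matrix.toLin' (g : Matrix ι ι F) = (h : (ι → F) →ₗ[L] (ι → F)).restrictScalars F
        from LinearMap.ext fun x => by
          rw [Matrix.toLin'_apply, ← linOf_apply, hg]; rfl, LinearMap.det_restrictScalars]
      exact hd
  rcases S.dichotomy with hs | hs
  · left
    intro g hg k
    obtain ⟨τ, hτ⟩ := hs (linOf g) ⟨g, hg, rfl⟩
    have key : ∀ k' : L, (g : Matrix ι ι F) * (e k' : Matrix ι ι F) * ((g⁻¹ : GL ι F) : Matrix ι ι F) =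
        (e (τ k') : Matrix ι ι F) := by
      intro k'
      rw [Units.mul_inv_eq_iff_eq_mul]
      refine Matrix.ext_of_mulVec_single fun i => ?_
      rw [← Matrix.mulVec_mulVec, ← Matrix.mulVec_mulVec, ← he, ← he]
      exact hτ k' _
    refine ⟨fun hk => ?_, fun hk => ?_⟩
    · have e1 := key (e.symm ⟨k, hk⟩)
      rw [e.apply_symm_apply] at e1
      exact e1 ▸ (e _).2
    · haveI : Finite L := Module.finite_of_finite F
      obtain ⟨k', hk'⟩ := (Finite.injective_iff_surjective (α := L)).mp τ.injective (e.symm ⟨_, hk⟩)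
      have e1 := key k'
      rw [show τ k' = e.symm ⟨_, hk⟩ from hk', e.apply_symm_apply, Units.mul_left_inj, Units.mul_right_inj] at e1
      exact e1 ▸ (e k').2
  · right
    refine specialLinear_le_of_fullAt fun v a hav => ⟨hav, ?_⟩
    let f : Dual F (ι → F) :=
      { toFun := fun x => a ⬝ᵥ x
        map_add' := dotProduct_add a
        map_smul' := fun c x => dotProduct_smul c a x }
    obtain ⟨hf, g, hg, e1⟩ := hs v f hav
    have h2 : MaxSub.tv v a hav = g := (linOf (ι := ι) (F := F)).injective (LinearEquiv.ext fun x => by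
      rw [linOf_apply, tv_mulVec]
      exact (LinearEquiv.congr_fun e1 x).symm)
    exact h2 ▸ hg

/-- Some element of `SL` does not normalise the field. -/
theorem exists_not_mem (hr : r.Prime) (hK : Cfsg.Geo.IsFieldSubalgebra r K) (hlt : r < Fintype.card ι) :
    ∃ g ∈ Cfsg.Geo.specialLinear ι F, g ∉ Cfsg.Geo.subalgebraNormalizer K := by
  obtain ⟨L, _, _, _, _, _, e, hrk, he⟩ := exists_field hK hr.ne_zero
  haveI : FiniteDimensional L (ι → F) := Module.Finite.of_restrictScalars_finite F L (ι → F)
  have hm := two_le_finrank hrk hlt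
  obtain ⟨k, hk⟩ : ∃ k : L, k ∉ (algebraMap F L).range := by
    by_contra hc
    push Not at hc
    have : finrank F L ≤ 1 := finrank_le_one (1 : L) fun c => by
      obtain ⟨a, ha⟩ := hc c; exact ⟨a, by rw [← ha, Algebra.algebraMap_eq_smul_one]⟩
    have := hr.two_le
    omega
  obtain ⟨v, hv⟩ : ∃ v : ι → F, v ≠ 0 := by
    haveI : Nontrivial (ι → F) := Module.nontrivial_of_finrank_pos (R := L) (by omega)
    exact exists_ne 0
  have hline := span_singleton_ne_top hm v
  rw [Submodule.span_insert_zero] at hline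
  obtain ⟨w, -, hw⟩ := SetLike.exists_of_lt hline.lt_top
  have hkv : k • v ∉ Submodule.span F {v, w} := by
    intro hmem
    obtain ⟨a, b, hab⟩ := Submodule.mem_span_pair.mp hmem
    rcases eq_or_ne b 0 with rfl | hb
    · rw [zero_smul, add_zero, ← algebraMap_smul L a v] at hab
      exact hk ⟨a, smul_left_injective L hv hab⟩
    · refine hw (Submodule.mem_span_singleton.mpr ⟨b⁻¹ • (k - algebraMap F L a), ?_⟩)
      rw [smul_assoc, sub_smul, algebraMap_smul, ← hab, add_sub_cancel_left, inv_smul_smul₀ hb]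
  obtain ⟨a, ha, ha1⟩ := exists_functional _ hkv
  have hav : a ⬝ᵥ v = 0 := ha v (Submodule.subset_span (by simp))
  have haw : a ⬝ᵥ w = 0 := ha w (Submodule.subset_span (by simp))
  refine ⟨MaxSub.tv w a haw, tv_mem_specialLinear w a haw, fun hN => ?_⟩
  have h1 := (hN (e k : Matrix ι ι F)).mp (e k).2
  set g := MaxSub.tv w a haw
  set k' : L := e.symm ⟨_, h1⟩ with hk'
  have e1 : k' • ((g : Matrix ι ι F) *ᵥ v) = (g : Matrix ι ι F) *ᵥ (k • v) := by
    rw [he, he, hk', e.apply_symm_apply]
    show ((g : Matrix ι ι F) * (e k : Matrix ι ι F) * ((g⁻¹ : GL ι F) : Matrix ι ι F)) *ᵥ _ = _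
    rw [← Matrix.mulVec_mulVec, ← Matrix.mulVec_mulVec, Matrix.mulVec_mulVec v _ (g : Matrix ι ι F), Units.inv_mul,
      Matrix.one_mulVec]
  rw [tv_mulVec, tv_mulVec, hav, zero_smul, add_zero, ha1, one_smul] at e1
  refine hw (Submodule.mem_span_singleton.mpr ⟨k' - k, ?_⟩)
  rw [sub_smul]
  exact sub_eq_of_eq_add' e1

end Cfsg.Agent.Lib.ThreeTransp.ExtField
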