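import Cfsg.Agent.Lib.ThreeTransp.ExtFieldMain

/-!
Counting in the stabiliser of a vector: a linear group containing the determinant one maps over an extension field of
prime degree without transvections consists of semilinear maps.
-/

set_option autoImplicit false

namespace Cfsg.Agent.Lib.ThreeTransp.ExtField

open Module

section groups

variable {W : Type*} [Group W] [Finite W] {p : ℕ} [Fact p.Prime]

/-- Two maximal `p`-subgroups of `J` are conjugate in `J`. -/
theorem exists_conj_of_maximal {J Q₁ Q₂ : Subgroup W} (h1 : Q₁ ≤ J) (h2 : Q₂ ≤ J) (p1 : IsPGroup p Q₁)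
    (p2 : IsPGroup p Q₂) (m1 : ∀ Q, Q₁ ≤ Q → Q ≤ J → IsPGroup p Q → Q = Q₁)
    (m2 : ∀ Q, Q₂ ≤ Q → Q ≤ J → IsPGroup p Q → Q = Q₂) :
    ∃ j ∈ J, ∀ x, x ∈ Q₁ ↔ j * x * j⁻¹ ∈ Q₂ := by
  obtain ⟨S₁, hS₁⟩ := (p1.comap_subtype (K := J)).exists_le_sylow
  obtain ⟨S₂, hS₂⟩ := (p2.comap_subtype (K := J)).exists_le_sylow
  have key : ∀ (Q : Subgroup W), Q ≤ J → IsPGroup p Q → (∀ Q', Q ≤ Q' → Q' ≤ J → IsPGroup p Q' → Q' = Q) →
      ∀ S : Sylow p J, Q.comap J.subtype ≤ S → ∀ x : J, x ∈ (S : Subgroup J) ↔ (x : W) ∈ Q := by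
    intro Q hQJ _ hm S hS x
    have := hm ((S : Subgroup J).map J.subtype) (fun y hy => ⟨⟨y, hQJ hy⟩, hS hy, rfl⟩)
      (Subgroup.map_subtype_le _) (S.isPGroup'.map _)
    rw [← this]
    exact (Subgroup.mem_map_iff_mem Subtype.val_injective).symm
  obtain ⟨j, hj⟩ := MulAction.exists_smul_eq J S₁ S₂
  refine ⟨j, j.2, fun x => ⟨fun hx => ?_, fun hx => ?_⟩⟩
  · have h3 : j * ⟨x, h1 hx⟩ * j⁻¹ ∈ (S₂ : Subgroup J) := by
      rw [← hj, Sylow.coe_subgroup_smul]
      exact ⟨⟨x, h1 hx⟩, (key _ h1 p1 m1 S₁ hS₁ _).mpr hx, rfl⟩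
    exact (key _ h2 p2 m2 S₂ hS₂ _).mp h3
  · have h3 : (⟨(j : W) * x * (j : W)⁻¹, h2 hx⟩ : J) ∈ (S₂ : Subgroup J) := (key _ h2 p2 m2 S₂ hS₂ _).mpr hx
    rw [← hj, Sylow.coe_subgroup_smul] at h3
    obtain ⟨y, hy, hy'⟩ := h3
    have e : (y : W) = x := by
      have := congrArg Subtype.val hy'
      change (j : W) * y * (j : W)⁻¹ = (j : W) * x * (j : W)⁻¹ at this
      exact mul_left_cancel (mul_right_cancel this)
    rw [← e]
    exact (key _ h1 p1 m1 S₁ hS₁ _).mp hy

end groups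

variable {F K V : Type*} [Field F] [Field K] [Algebra F K] [AddCommGroup V] [Module F V] [Module K V]
  [IsScalarTower F K V] [Finite F] [FiniteDimensional F V] [FiniteDimensional K V] [FiniteDimensional F K]
variable {G : Subgroup (V ≃ₗ[F] V)} {v : V}

omit [Finite F] [FiniteDimensional F V] [FiniteDimensional K V] [FiniteDimensional F K] in
/-- The stabiliser in `G` of two vectors. -/
def twoFix (G : Subgroup (V ≃ₗ[F] V)) (v w : V) : Subgroup (V ≃ₗ[F] V) where
  carrier := {g | g ∈ G ∧ g v = v ∧ g w = w}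
  one_mem' := ⟨G.one_mem, rfl, rfl⟩
  mul_mem' := fun {a b} ha hb => ⟨G.mul_mem ha.1 hb.1, by rw [LinearEquiv.mul_apply, hb.2.1, ha.2.1],
    by rw [LinearEquiv.mul_apply, hb.2.2, ha.2.2]⟩
  inv_mem' := fun {a} ha => ⟨G.inv_mem ha.1, (LinearEquiv.symm_apply_eq a).mpr ha.2.1.symm,
    (LinearEquiv.symm_apply_eq a).mpr ha.2.2.symm⟩

omit [Finite F] [FiniteDimensional F V] [FiniteDimensional K V] [FiniteDimensional F K] in
/-- The stabiliser in `G` of every vector of a line. -/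
def lineFix (K : Type*) [Field K] [Algebra F K] [Module K V] (G : Subgroup (V ≃ₗ[F] V)) (v : V) :
    Subgroup (V ≃ₗ[F] V) where
  carrier := {g | g ∈ G ∧ ∀ c : K, g (c • v) = c • v}
  one_mem' := ⟨G.one_mem, fun _ => rfl⟩
  mul_mem' := fun {a b} ha hb => ⟨G.mul_mem ha.1 hb.1, fun c => by rw [LinearEquiv.mul_apply, hb.2, ha.2]⟩
  inv_mem' := fun {a} ha => ⟨G.inv_mem ha.1, fun c => (LinearEquiv.symm_apply_eq a).mpr (ha.2 c).symm⟩

omit [Finite F] [FiniteDimensional F V] [FiniteDimensional K V] in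
/-- An algebra endomorphism fixing an element outside `F` is the identity. -/
theorem algHom_eq_id (hp : (finrank F K).Prime) {τ : K →ₐ[F] K} {k : K} (hk : k ∉ (algebraMap F K).range)
    (h : τ k = k) : ∀ c, τ c = c := by
  haveI := Subalgebra.isSimpleOrder_of_finrank_prime F K hp
  rcases eq_bot_or_eq_top (AlgHom.equalizer τ (AlgHom.id F K)) with he | he
  · exact absurd (Algebra.mem_bot.mp (he ▸ (show k ∈ AlgHom.equalizer τ (AlgHom.id F K) from h))) hk
  · intro c
    have : c ∈ AlgHom.equalizer τ (AlgHom.id F K) := he ▸ trivial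
    exact this

/-- If `kv` is carried to `k'v` by the stabiliser of `v`, a `p`-group `T` fixing the line of `v` has its fixed
points in that line, and the stabiliser of the line acts on it by field automorphisms, then `k'` is conjugate to `k`. -/
theorem conj_core (hp : (finrank F K).Prime) (hv : v ≠ 0) {p : ℕ} [Fact p.Prime] {T : Subgroup (V ≃ₗ[F] V)}
    (hTp : IsPGroup p T) (hTle : T ≤ lineFix K G v) (hTfix : ∀ x : V, (∀ t ∈ T, t x = x) → x ∈ K ∙ v)
    (hline : ∀ g ∈ G, g v = v → (∀ c : K, g (c • v) ∈ K ∙ v) → ∃ τ : K →ₐ[F] K, ∀ c : K, g (c • v) = τ c • v)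
    {k k' : K} (hk : k ∉ (algebraMap F K).range) (hk' : k' ∉ (algebraMap F K).range) {g : V ≃ₗ[F] V} (hg : g ∈ G)
    (hgv : g v = v) (hgk : g (k • v) = k' • v) : ∃ τ : K →ₐ[F] K, τ k = k' := by
  classical
  haveI : Finite V := Module.finite_of_finite F
  haveI : Finite (V ≃ₗ[F] V) := DFunLike.finite _
  -- a maximal `p`-subgroup of the line stabiliser
  obtain ⟨P₀, hP₀⟩ := (hTp.comap_subtype (K := lineFix K G v)).exists_le_sylow
  let P := (P₀ : Subgroup (lineFix K G v)).map (lineFix K G v).subtype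
  have hPle : P ≤ lineFix K G v := Subgroup.map_subtype_le _
  have hPp : IsPGroup p P := P₀.isPGroup'.map _
  have hTP : T ≤ P := fun t ht => ⟨⟨t, hTle ht⟩, hP₀ ht, rfl⟩
  have hmax : ∀ Q, P ≤ Q → Q ≤ lineFix K G v → IsPGroup p Q → Q = P := fun Q h1 h2 h3 => by
    have h4 := P₀.is_maximal' (h3.comap_subtype (K := lineFix K G v))
      (fun x hx => h1 ⟨x, hx, rfl⟩)
    exact le_antisymm (fun x hx => ⟨⟨x, h2 hx⟩, h4 ▸ hx, rfl⟩) h1
  have hfix : ∀ x : V, (∀ h ∈ P, h x = x) → x ∈ K ∙ v := fun x hx => hTfix x fun t ht => hx t (hTP ht)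
  -- an element normalising `P` and fixing `v` acts on the line by an automorphism
  have hnorm : ∀ g ∈ G, g v = v → (∀ h ∈ P, g⁻¹ * h * g ∈ P) →
      ∃ τ : K →ₐ[F] K, ∀ c : K, g (c • v) = τ c • v := fun g hg hgv hn =>
    hline _ hg hgv fun c => hfix _ fun h hh => by
      have e := (hPle (hn h hh)).2 c
      change g.symm (h (g (c • v))) = c • v at e
      exact (LinearEquiv.symm_apply_eq g).mp e
  -- `P` is a maximal `p`-subgroup of each pair stabiliser
  have hPJ : ∀ l : K, P ≤ twoFix G v (l • v) := fun l x hx =>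
    ⟨(hPle hx).1, by simpa using (hPle hx).2 1, (hPle hx).2 l⟩
  have hJmax : ∀ l : K, l ∉ (algebraMap F K).range →
      ∀ Q, P ≤ Q → Q ≤ twoFix G v (l • v) → IsPGroup p Q → Q = P := by
    intro l hl Q h1 h2 h3
    by_contra hne
    haveI := h3.isNilpotent
    have hlt : P.subgroupOf Q < ⊤ := lt_top_iff_ne_top.mpr fun e =>
      hne (le_antisymm (Subgroup.subgroupOf_eq_top.mp e) h1)
    obtain ⟨⟨y, hyQ⟩, hyN, hyP⟩ := SetLike.exists_of_lt (Group.normalizerCondition_of_isNilpotent _ hlt)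
    rw [Subgroup.mem_normalizer_iff] at hyN
    obtain ⟨τ, hτ⟩ := hnorm y (h2 hyQ).1 (h2 hyQ).2.1 fun h hh => by
      have h5 := (hyN ⟨y⁻¹ * h * y, Q.mul_mem (Q.mul_mem (Q.inv_mem hyQ) (h1 hh)) hyQ⟩).mpr (by
        show y * (y⁻¹ * h * y) * y⁻¹ ∈ P
        simpa [mul_assoc] using hh)
      exact h5
    have hτl : τ l = l := smul_left_injective K hv (show τ l • v = l • v by rw [← hτ, (h2 hyQ).2.2])
    have hy : y ∈ lineFix K G v := ⟨(h2 hyQ).1, fun c => by rw [hτ, algHom_eq_id hp hl hτl]⟩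
    have := hmax (P ⊔ Subgroup.zpowers y) le_sup_left (sup_le hPle (Subgroup.zpowers_le.mpr hy))
      (h3.to_le (sup_le h1 (Subgroup.zpowers_le.mpr hyQ)))
    exact hyP (show y ∈ P from this ▸ Subgroup.mem_sup_right (Subgroup.mem_zpowers y))
  -- the conjugate of `P` under `g`
  have hgi : g⁻¹ (k' • v) = k • v := (LinearEquiv.symm_apply_eq g).mpr hgk.symm
  have hgiv : g⁻¹ v = v := (LinearEquiv.symm_apply_eq g).mpr hgv.symm
  let c : (V ≃ₗ[F] V) →* (V ≃ₗ[F] V) := (MulAut.conj g).toMonoidHom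
  have hQle : P.map c ≤ twoFix G v (k' • v) := by
    rintro _ ⟨x, hx, rfl⟩
    obtain ⟨h1, h2, h3⟩ := hPJ k hx
    refine ⟨G.mul_mem (G.mul_mem hg h1) (G.inv_mem hg), ?_, ?_⟩
    · show g (x (g⁻¹ v)) = v
      rw [hgiv, h2, hgv]
    · show g (x (g⁻¹ (k' • v))) = k' • v
      rw [hgi, h3, hgk]
  have hQmax : ∀ Q, P.map c ≤ Q → Q ≤ twoFix G v (k' • v) → IsPGroup p Q → Q = P.map c := by
    intro Q h1 h2 h3
    have h4 := hJmax k hk (Q.map (MulAut.conj g⁻¹).toMonoidHom) (fun x hx => ⟨c x, h1 ⟨x, hx, rfl⟩, by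
        simp [c, mul_assoc]⟩) (by
      rintro _ ⟨x, hx, rfl⟩
      obtain ⟨e1, e2, e3⟩ := h2 hx
      refine ⟨G.mul_mem (G.mul_mem (G.inv_mem hg) e1) (G.inv_mem (G.inv_mem hg)), ?_, ?_⟩
      · show g⁻¹ (x ((g⁻¹)⁻¹ v)) = v
        rw [inv_inv, hgv, e2, hgiv]
      · show g⁻¹ (x ((g⁻¹)⁻¹ (k • v))) = k • v
        rw [inv_inv, hgk, e3, hgi]) (h3.map _)
    rw [← h4, Subgroup.map_map]
    convert (Subgroup.map_id Q).symm using 2
    exact MonoidHom.ext fun x => by simp [c, mul_assoc]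
  obtain ⟨j, hj, hjP⟩ := exists_conj_of_maximal hQle (hPJ k') (hPp.map c) hPp hQmax (hJmax k' hk')
  obtain ⟨τ, hτ⟩ := hnorm (j * g) (G.mul_mem hj.1 hg) (by rw [LinearEquiv.mul_apply, hgv, hj.2.1]) fun h hh => by
    have h5 := (hjP (j⁻¹ * h * j)).mpr (by simpa [mul_assoc] using hh)
    obtain ⟨x, hx, hx'⟩ := h5
    have : x = (j * g)⁻¹ * h * (j * g) := by
      change g * x * g⁻¹ = j⁻¹ * h * j at hx'
      calc x = g⁻¹ * (g * x * g⁻¹) * g := by simp [mul_assoc]
        _ = _ := by rw [hx']; simp [mul_assoc]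
    exact this ▸ hx
  exact ⟨τ, smul_left_injective K hv (show τ k • v = k' • v by rw [← hτ, LinearEquiv.mul_apply, hgk, hj.2.2])⟩

/-- If `kv` is carried to `k'v` by the stabiliser of `v`, then `k'` is conjugate to `k` over `F`. -/
theorem Over.conj_of_orbit (S : Over K G) (hv : v ≠ 0) (hno : ¬ HasTv G) {k k' : K}
    (hk : k ∉ (algebraMap F K).range) (hk' : k' ∉ (algebraMap F K).range) {g : V ≃ₗ[F] V} (hg : g ∈ G)
    (hgv : g v = v) (hgk : g (k • v) = k' • v) : ∃ τ : K →ₐ[F] K, τ k = k' := by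
  classical
  haveI : Finite V := Module.finite_of_finite F
  haveI : Finite (V ≃ₗ[F] V) := DFunLike.finite _
  obtain ⟨p, hchar⟩ := CharP.exists F
  haveI := hchar
  haveI hpf : Fact p.Prime := ⟨CharP.char_is_prime F p⟩
  -- the transvections with centre `v` over `K`
  let T : Subgroup (V ≃ₗ[F] V) :=
    { carrier := {t | ∃ (Ψ : V →ₗ[K] K) (h : Ψ v = 0), t = (LinearEquiv.transvection h).restrictScalars F}
      one_mem' := ⟨0, rfl, LinearEquiv.ext fun x => by simp [LinearMap.transvection.apply]⟩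
      mul_mem' := by
        rintro _ _ ⟨Ψ₁, h1, rfl⟩ ⟨Ψ₂, h2, rfl⟩
        exact ⟨Ψ₁ + Ψ₂, by simp [h1, h2], LinearEquiv.ext fun x => by
          simp [LinearMap.transvection.apply, h1, add_smul]; abel⟩
      inv_mem' := by
        rintro _ ⟨Ψ, h, rfl⟩
        refine ⟨-Ψ, by simp [h], inv_eq_of_mul_eq_one_right (LinearEquiv.ext fun x => ?_)⟩
        simp [LinearMap.transvection.apply, h] }
  have hTp : IsPGroup p T := by
    rintro ⟨t, Ψ, h, rfl⟩
    refine ⟨1, Subtype.ext (LinearEquiv.ext fun x => ?_)⟩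
    have hn : ∀ n : ℕ, (((LinearEquiv.transvection h).restrictScalars F) ^ n) x = x + (n : K) • Ψ x • v := by
      intro n
      induction n with
      | zero => simp
      | succ n ih =>
        rw [pow_succ', LinearEquiv.mul_apply, ih, LinearEquiv.restrictScalars_apply]
        simp only [LinearEquiv.transvection.coe_apply, LinearMap.transvection.apply, map_add, map_smul, h,
          smul_zero, add_zero, Nat.cast_succ, smul_eq_mul]
        module
    rw [SubmonoidClass.coe_pow, pow_one, hn]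
    haveI : CharP K p := charP_of_injective_algebraMap (algebraMap F K).injective p
    simp [CharP.cast_eq_zero]
  have hTle : T ≤ lineFix K G v := by
    rintro _ ⟨Ψ, h, rfl⟩
    exact ⟨S.mem_one (det_transvection_equiv h), fun c => by simp [LinearMap.transvection.apply, h]⟩
  refine conj_core S.prime hv hTp hTle (fun x hx => ?_) (fun g hg hgv hl => S.line_algHom hv hno hg hgv hl)
    hk hk' hg hgv hgk
  by_contra hxv
  obtain ⟨Ψ, hΨx, hΨ⟩ := exists_dual _ hxv
  have h0 := hΨ v (Submodule.mem_span_singleton_self v)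
  have := hx _ ⟨Ψ, h0, rfl⟩
  simp [LinearMap.transvection.apply, hΨx] at this
  exact hv this

/-- The count of elements of `K` outside `F`, given a class function on the vectors outside the line of `v`. -/
theorem Over.card_bound (S : Over K G) (hv : v ≠ 0) (hno : ¬ HasTv G) {C : Type*} [Finite C] (cl : V → C)
    (hcl : ∀ x y, x ∉ K ∙ v → y ∉ K ∙ v → cl x = cl y → ∃ h : V ≃ₗ[F] V, h ∈ G ∧ h v = v ∧ h x = y)
    (hmoved : ∀ k : K, k ∉ (algebraMap F K).range → ∃ g ∈ G, g v = v ∧ g (k • v) ∉ K ∙ v) :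
    Nat.card {k : K // k ∉ (algebraMap F K).range} ≤ finrank F K * Nat.card C := by
  classical
  haveI : Finite K := Module.finite_of_finite F
  choose gm hgm hgmv hgmo using hmoved
  let f : {k : K // k ∉ (algebraMap F K).range} → C := fun k => cl (gm k.1 k.2 (k.1 • v))
  -- pick a representative in each class
  let rep : C → {k : K // k ∉ (algebraMap F K).range} → {k : K // k ∉ (algebraMap F K).range} :=
    fun c k₀ => if h : ∃ k, f k = c then h.choose else k₀
  have hfib : ∀ k, ∃ τ : K →ₐ[F] K, τ (rep (f k) k).1 = k.1 := by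
    intro k
    have hex : ∃ k', f k' = f k := ⟨k, rfl⟩
    have hr : f (rep (f k) k) = f k := by simp only [rep, dif_pos hex]; exact hex.choose_spec
    generalize rep (f k) k = k₀ at hr
    obtain ⟨h, hh, hhv, hhx⟩ := hcl _ _ (hgmo k₀.1 k₀.2) (hgmo k.1 k.2) hr
    refine S.conj_of_orbit hv hno k₀.2 k.2
      (G.mul_mem (G.inv_mem (hgm k.1 k.2)) (G.mul_mem hh (hgm k₀.1 k₀.2))) ?_ ?_
    · change (gm k.1 k.2).symm (h (gm k₀.1 k₀.2 v)) = v
      rw [hgmv, hhv, LinearEquiv.symm_apply_eq, hgmv]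
    · change (gm k.1 k.2).symm (h (gm k₀.1 k₀.2 (k₀.1 • v))) = k.1 • v
      rw [hhx, LinearEquiv.symm_apply_apply]
  choose τ hτ using hfib
  haveI : Finite (K →ₐ[F] K) := inferInstance
  refine (Nat.card_le_card_of_injective (fun k => (τ k, f k)) fun a b e => ?_).trans ?_
  · obtain ⟨e1, e2⟩ := Prod.mk.injEq _ _ _ _ |>.mp e
    apply Subtype.ext
    rw [← hτ a, ← hτ b, e1, e2]
    simp only [rep, dif_pos (⟨b, rfl⟩ : ∃ k, f k = f b)]
  · rw [Nat.card_prod]
    exact Nat.mul_le_mul_right _ (by rw [Nat.card_eq_fintype_card]; exact AlgHom.card_le)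

omit [Finite F] in
/-- The determinant one maps fixing `v` have at most `q - 1` orbits outside its line. -/
theorem Over.exists_class (S : Over K G) (hv : v ≠ 0) :
    ∃ cl : V → Fˣ, ∀ x y, x ∉ K ∙ v → y ∉ K ∙ v → cl x = cl y →
      ∃ h : V ≃ₗ[F] V, h ∈ G ∧ h v = v ∧ h x = y := by
  classical
  rcases Nat.lt_or_ge (finrank K V) 3 with hm | hm
  · have h2 : finrank K V = 2 := le_antisymm (by omega) S.two_le
    obtain ⟨Φ, hΦ0, hΦv⟩ := S.exists_kill v
    have hker : ∀ x, Φ x = 0 → x ∈ K ∙ v := by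
      intro x hx
      have he : K ∙ v = LinearMap.ker Φ := by
        refine Submodule.eq_of_le_of_finrank_le ((Submodule.span_singleton_le_iff_mem _ _).mpr hΦv) ?_
        have := (Φ.ker).finrank_lt (by rwa [Ne, LinearMap.ker_eq_top])
        rw [finrank_span_singleton hv]
        omega
      exact he ▸ hx
    refine ⟨fun x => if h : Φ x = 0 then 1 else Units.mk0 (Algebra.norm F (Φ x)) (Algebra.norm_ne_zero_iff.mpr h),
      fun x y hx hy hxy => ?_⟩
    have hΦx : Φ x ≠ 0 := fun e => hx (hker x e)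
    have hΦy : Φ y ≠ 0 := fun e => hy (hker y e)
    simp only [hΦx, hΦy, ↓reduceDIte, Units.ext_iff, Units.val_mk0] at hxy
    have hw : Φ ((Φ x)⁻¹ • x) = 1 := by rw [map_smul, smul_eq_mul, inv_mul_cancel₀ hΦx]
    have hd : Φ y * (Φ x)⁻¹ ≠ 0 := mul_ne_zero hΦy (inv_ne_zero hΦx)
    obtain ⟨c, hc⟩ := Submodule.mem_span_singleton.mp (hker (y - (Φ y * (Φ x)⁻¹) • x)
      (by rw [map_sub, map_smul, smul_eq_mul, mul_assoc, inv_mul_cancel₀ hΦx, mul_one, sub_self]))
    have hΨ : ((c * (Φ y)⁻¹) • Φ) v = 0 := by simp [hΦv]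
    refine ⟨((dil Φ ((Φ x)⁻¹ • x) _ hd hw).trans (LinearEquiv.transvection hΨ)).restrictScalars F, S.mem _ ?_, ?_, ?_⟩
    · rw [show ((dil Φ ((Φ x)⁻¹ • x) _ hd hw).trans (LinearEquiv.transvection hΨ)).toLinearMap =
        (LinearEquiv.transvection hΨ).toLinearMap ∘ₗ (dil Φ ((Φ x)⁻¹ • x) _ hd hw).toLinearMap from rfl,
        LinearMap.det_comp, det_dil, det_transvection_equiv, one_mul, map_mul, ← hxy, ← map_mul,
        mul_inv_cancel₀ hΦx, map_one]
    · simp [dil_apply, LinearMap.transvection.apply, hΦv]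
    · rw [LinearEquiv.restrictScalars_apply, LinearEquiv.trans_apply, dil_apply, smul_smul,
        show ((Φ y * (Φ x)⁻¹ - 1) * Φ x) * (Φ x)⁻¹ = Φ y * (Φ x)⁻¹ - 1 by field_simp,
        show x + (Φ y * (Φ x)⁻¹ - 1) • x = (Φ y * (Φ x)⁻¹) • x by module,
        LinearEquiv.transvection.coe_apply, LinearMap.transvection.apply, LinearMap.smul_apply, map_smul,
        smul_eq_mul, smul_eq_mul, show c * (Φ y)⁻¹ * (Φ y * (Φ x)⁻¹ * Φ x) = c by field_simp, hc, add_sub_cancel]
  · refine ⟨fun _ => 1, fun x y hx hy _ => ?_⟩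
    obtain ⟨h, hd, h1, h2⟩ := exists_move hx hy (span_pair_ne_top hm v x) (span_pair_ne_top hm v y)
    exact ⟨h.restrictScalars F, S.mem_one hd, h1, h2⟩

/-- Apart from the field with two elements and degree two, there is a transvection or all maps are semilinear. -/
theorem Over.dichotomy_general (S : Over K G) (hex : ¬ (Nat.card F = 2 ∧ finrank F K = 2)) :
    (∀ g ∈ G, Semilin K g) ∨ HasTv G := by
  by_contra hc
  push Not at hc
  obtain ⟨⟨g₀, hg₀, hns⟩, hno⟩ := hc
  rcases S.semilin_or_moved with h | hmoved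
  · exact hns (h g₀ hg₀)
  haveI : Finite K := Module.finite_of_finite F
  obtain ⟨v, hv⟩ : ∃ v : V, v ≠ 0 := by
    haveI : Nontrivial V := Module.nontrivial_of_finrank_pos (R := K) (by have := S.two_le; omega)
    exact exists_ne 0
  obtain ⟨cl, hcl⟩ := S.exists_class hv
  have hb := S.card_bound hv hno cl hcl (hmoved v hv)
  have hr := Nat.card_range_of_injective (algebraMap F K).injective
  have hcard : Nat.card {k : K // k ∉ (algebraMap F K).range} = Nat.card F ^ finrank F K - Nat.card F := by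
    classical
    haveI := Fintype.ofFinite K
    rw [← Module.natCard_eq_pow_finrank (K := F) (V := K), Nat.card_eq_fintype_card, Fintype.card_subtype_compl,
      ← Nat.card_eq_fintype_card, ← Nat.card_eq_fintype_card]
    congr 1
  rw [hcard, Nat.card_units] at hb
  have hq : 2 ≤ Nat.card F := Finite.one_lt_card
  have hr2 := S.prime.two_le
  obtain ⟨a, ha⟩ : ∃ a, Nat.card F = a + 2 := ⟨_, (Nat.sub_add_cancel hq).symm⟩
  obtain ⟨b, hb'⟩ : ∃ b, finrank F K = b + 2 := ⟨_, (Nat.sub_add_cancel hr2).symm⟩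
  rw [ha, hb'] at hb hex
  simp only [Nat.add_succ_sub_one] at hb
  -- `q^r ≥ (1 + r (q - 1))`-type estimate
  have hbern : ∀ n : ℕ, (a + 2) * ((a + 2) + n * (a + 1)) ≤ (a + 2) ^ (n + 2) := by
    intro n
    induction n with
    | zero => simp [sq]
    | succ n ih =>
      calc (a + 2) * ((a + 2) + (n + 1) * (a + 1)) ≤ (a + 2) * ((a + 2) * ((a + 2) + n * (a + 1))) :=
            Nat.mul_le_mul_left _ (by nlinarith [Nat.zero_le (n * a * a), Nat.zero_le (n * a), Nat.zero_le (a * a)])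
        _ ≤ (a + 2) * (a + 2) ^ (n + 2) := Nat.mul_le_mul_left _ ih
        _ = (a + 2) ^ (n + 1 + 2) := by ring
  have h1 := hbern b
  have h2 : (a + 2) * ((a + 2) + b * (a + 1)) ≤ (b + 2) * (a + 1) + (a + 2) := by omega
  apply hex
  have ha0 : a = 0 := by nlinarith [Nat.zero_le (b * a * a), Nat.zero_le (b * a), Nat.zero_le b]
  subst ha0
  omega

end Cfsg.Agent.Lib.ThreeTransp.ExtField
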