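import Cfsg.Agent.Lib.ThreeTransp.ExtFieldMatrix

/-!
Bilinear forms over `F` for which an extension field acts by self-adjoint maps are traces of forms over that field;
semilinear invertible matrices normalise the field.
-/

set_option autoImplicit false

namespace Cfsg.Agent.Lib.ThreeTransp.ExtField

open Module Matrix
open scoped MatrixGroups Matrix

/-- The form over `K` whose trace is a given form for which `K` is self-adjoint. -/
theorem exists_trace_lift {F K V : Type*} [Field F] [Finite F] [Field K] [Algebra F K] [FiniteDimensional F K]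
    [AddCommGroup V] [Module F V] [Module K V] [IsScalarTower F K V] (B : V →ₗ[F] V →ₗ[F] F)
    (hsa : ∀ (k : K) (x y : V), B (k • x) y = B x (k • y)) :
    ∃ Φ : V →ₗ[K] V →ₗ[K] K, ∀ x y, Algebra.trace F K (Φ x y) = B x y := by
  have hnd : (Algebra.traceForm F K).Nondegenerate := traceForm_nondegenerate F K
  let φ : V → V → K := fun x y =>
    ((Algebra.traceForm F K).toDual hnd).symm ((B.flip y) ∘ₗ (LinearMap.toSpanSingleton K V x).restrictScalars F)
  have hφ : ∀ x y (k : K), Algebra.trace F K (φ x y * k) = B (k • x) y := fun x y k =>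
    LinearMap.BilinForm.apply_toDual_symm_apply (hB := hnd) _ k
  have huniq : ∀ a b : K, (∀ k, Algebra.trace F K (a * k) = Algebra.trace F K (b * k)) → a = b := fun a b h =>
    sub_eq_zero.mp (hnd.1 _ fun k => by rw [Algebra.traceForm_apply, sub_mul, map_sub, h, sub_self])
  refine ⟨LinearMap.mk₂ K φ (fun x x' y => huniq _ _ fun k => ?_) (fun c x y => huniq _ _ fun k => ?_)
    (fun x y y' => huniq _ _ fun k => ?_) (fun c x y => huniq _ _ fun k => ?_), fun x y => ?_⟩
  · rw [add_mul, map_add, hφ, hφ, hφ, smul_add, map_add, LinearMap.add_apply]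
  · rw [smul_eq_mul, hφ, mul_comm c, mul_assoc, hφ, smul_smul, mul_comm c]
  · rw [add_mul, map_add, hφ, hφ, hφ, map_add]
  · rw [smul_eq_mul, hφ, mul_comm c, mul_assoc, hφ, ← hsa, smul_smul]
  · rw [LinearMap.mk₂_apply, ← mul_one (φ x y), hφ, one_smul]

universe u

variable {ι : Type} [Fintype ι] [DecidableEq ι] {F : Type u} [Field F] {r : ℕ}
  {K : Subalgebra F (Matrix ι ι F)}

/-- The semilinear maps normalise the field. -/
theorem semilin_mem [Finite F] {L : Type*} [Field L] [Algebra F L] [FiniteDimensional F L] [Module L (ι → F)]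
    (e : L ≃ K) (he : ∀ (k : L) (x : ι → F), k • x = (e k : Matrix ι ι F) *ᵥ x) {g : GL ι F}
    (hs : Semilin L (linOf g)) : g ∈ Cfsg.Geo.subalgebraNormalizer K := by
  obtain ⟨τ, hτ⟩ := hs
  intro k
  have key : ∀ k' : L, (g : Matrix ι ι F) * (e k' : Matrix ι ι F) * ((g⁻¹ : GL ι F) : Matrix ι ι F) =
      (e (τ k') : Matrix ι ι F) := by
    intro k'
    rw [Units.mul_inv_eq_iff_eq_mul]
    refine Matrix.ext_of_mulVec_single fun i => ?_
    rw [← Matrix.mulVec_mulVec, ← Matrix.mulVec_mulVec, ← he, ← he]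
    exact hτ k' _
  refine ⟨fun hk => ?_, fun hk => ?_⟩
  · have e1 := key (e.symm ⟨k, hk⟩)
    rw [e.apply_symm_apply] at e1
    exact e1 ▸ (e _).2
  · haveI : Finite L := Module.finite_of_finite F
    obtain ⟨k', hk'⟩ := (Finite.injective_iff_surjective (α := L)).mp τ.injective (e.symm ⟨_, hk⟩)
    have e1 := key k'
    rw [show τ k' = e.symm ⟨_, hk⟩ from hk', e.apply_symm_apply, Units.mul_left_inj, Units.mul_right_inj] at e1
    exact e1 ▸ (e k').2

/-- An element normalising the field acts semilinearly. -/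
theorem semilin_of_mem {L : Type*} [Field L] [Algebra F L] [Module L (ι → F)] [IsScalarTower F L (ι → F)]
    [FiniteDimensional F L] [FiniteDimensional L (ι → F)] (hm : 2 ≤ finrank L (ι → F))
    (e : L ≃ K) (he : ∀ (k : L) (x : ι → F), k • x = (e k : Matrix ι ι F) *ᵥ x) {g : GL ι F}
    (hg : g ∈ Cfsg.Geo.subalgebraNormalizer K) : Semilin L (linOf g) := by
  refine semilin_of_lines hm _ fun v k => ?_
  have h1 := (hg (e k : Matrix ι ι F)).mp (e k).2
  refine Submodule.mem_span_singleton.mpr ⟨e.symm ⟨_, h1⟩, ?_⟩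
  rw [linOf_apply, linOf_apply, he, he, e.apply_symm_apply]
  show ((g : Matrix ι ι F) * (e k : Matrix ι ι F) * ((g⁻¹ : GL ι F) : Matrix ι ι F)) *ᵥ _ = _
  rw [← Matrix.mulVec_mulVec, ← Matrix.mulVec_mulVec, Matrix.mulVec_mulVec v _ (g : Matrix ι ι F), Units.inv_mul,
    Matrix.one_mulVec]

end Cfsg.Agent.Lib.ThreeTransp.ExtField
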