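import Cfsg.Agent.Lib.ThreeTransp.ExtSympBase

/-!
Groups preserving `tr ∘ Φ`, for a symmetric form `Φ` over an extension field of prime degree, that contain the
commutators of the isometries of `Φ`: singular vectors, Siegel maps and moving singular vectors.
-/

set_option autoImplicit false

namespace Cfsg.Agent.Lib.ThreeTransp.ExtField

open Module

variable {F K V : Type*} [Field F] [Field K] [Algebra F K] [AddCommGroup V] [Module F V] [Module K V]
  [IsScalarTower F K V]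

/-- The setting. -/
structure OrthOver (Φ : V →ₗ[K] V →ₗ[K] K) (G : Subgroup (V ≃ₗ[F] V)) : Prop where
  prime : (finrank F K).Prime
  big : 4 ≤ finrank K V ∨ finrank K V = 3 ∧ 5 ≤ finrank F K ∧ ∀ g ∈ G, LinearMap.det g.toLinearMap = 1
  two : (2 : F) ≠ 0
  symm : ∀ x y, Φ x y = Φ y x
  nondeg : ∀ y, (∀ x, Φ x y = 0) → y = 0
  isom : ∀ g ∈ G, ∀ x y, Algebra.trace F K (Φ (g x) (g y)) = Algebra.trace F K (Φ x y)
  comm : ∀ g h : V ≃ₗ[K] V, (∀ x y, Φ (g x) (g y) = Φ x y) → (∀ x y, Φ (h x) (h y) = Φ x y) →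
    g.restrictScalars F * h.restrictScalars F * (g.restrictScalars F)⁻¹ * (h.restrictScalars F)⁻¹ ∈ G

/-- The Siegel map of `v` and `b`. -/
def siegel (Φ : V →ₗ[K] V →ₗ[K] K) (v b : V) : V →ₗ[K] V :=
  LinearMap.id + (Φ.flip v).smulRight b - (Φ.flip b + (Φ b b / 2) • Φ.flip v).smulRight v

omit [Algebra F K] [Module F V] [IsScalarTower F K V] in
theorem siegel_apply (Φ : V →ₗ[K] V →ₗ[K] K) (v b z : V) :
    siegel Φ v b z = z + Φ z v • b - (Φ z b + Φ b b / 2 * Φ z v) • v := by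
  simp [siegel]

/-- The orthogonal space of two vectors. -/
def perpPair (Φ : V →ₗ[K] V →ₗ[K] K) (v w : V) : Submodule K V :=
  LinearMap.ker (Φ.flip v) ⊓ LinearMap.ker (Φ.flip w)

omit [Algebra F K] [Module F V] [IsScalarTower F K V] in
theorem mem_perpPair {Φ : V →ₗ[K] V →ₗ[K] K} {v w z : V} : z ∈ perpPair Φ v w ↔ Φ z v = 0 ∧ Φ z w = 0 := by
  simp [perpPair]

/-- No vector of the subspace is orthogonal to all of it. -/
def Nd (Φ : V →ₗ[K] V →ₗ[K] K) (W : Submodule K V) : Prop := ∀ y ∈ W, y ≠ 0 → ∃ z ∈ W, Φ y z ≠ 0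

variable {Φ : V →ₗ[K] V →ₗ[K] K} {G : Subgroup (V ≃ₗ[F] V)} {v : V}

theorem finrank_le_inf_ker [FiniteDimensional K V] (W : Submodule K V) (φ : V →ₗ[K] K) :
    finrank K W ≤ finrank K (W ⊓ LinearMap.ker φ : Submodule K V) + 1 := by
  have h1 := (φ.domRestrict W).finrank_range_add_finrank_ker
  have h2 : finrank K (LinearMap.range (φ.domRestrict W)) ≤ 1 :=
    (Submodule.finrank_le _).trans (finrank_self K).le
  have h3 : finrank K (LinearMap.ker (φ.domRestrict W)) ≤ finrank K (W ⊓ LinearMap.ker φ : Submodule K V) := by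
    rw [← Submodule.finrank_map_subtype_eq]
    refine Submodule.finrank_mono ?_
    rintro _ ⟨z, hz, rfl⟩
    exact ⟨z.2, hz⟩
  omega

/-- A binary form `s² + N t²` represents everything. -/
theorem exists_sq_add_mul_sq {L : Type*} [Field L] [Finite L] (h2 : (2 : L) ≠ 0) {N : L} (hN : N ≠ 0) (c : L) :
    ∃ s t : L, s * s + N * (t * t) = c := by
  haveI := Fintype.ofFinite L
  obtain ⟨s, t, hst⟩ := FiniteField.exists_root_sum_quadratic (f := (Polynomial.X ^ 2 : Polynomial L))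
    (g := Polynomial.C N * Polynomial.X ^ 2 - Polynomial.C c) (Polynomial.degree_X_pow 2)
    (by rw [Polynomial.degree_sub_C (by rw [Polynomial.degree_C_mul_X_pow 2 hN]; norm_num),
      Polynomial.degree_C_mul_X_pow 2 hN]; norm_num)
    (FiniteField.odd_card_of_char_ne_two fun h => h2 (by
      have : ((2 : ℕ) : L) = 0 := by rw [← h, ringChar.Nat.cast_ringChar]
      exact_mod_cast this))
  refine ⟨s, t, ?_⟩
  simp at hst
  linear_combination hst

namespace OrthOver

variable (S : OrthOver Φ G)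
include S

theorem twoK : (2 : K) ≠ 0 := by
  rw [← map_ofNat (algebraMap F K)]
  exact (_root_.map_ne_zero _).mpr S.two

theorem three_le : 3 ≤ finrank K V := by
  rcases S.big with h | ⟨h, -⟩ <;> omega

theorem exists_pair (hv : v ≠ 0) : ∃ u, Φ u v = 1 := by
  obtain ⟨x, hx⟩ : ∃ x, Φ x v ≠ 0 := by
    by_contra h
    push Not at h
    exact hv (S.nondeg v h)
  exact ⟨(Φ x v)⁻¹ • x, by rw [map_smul, LinearMap.smul_apply, smul_eq_mul, inv_mul_cancel₀ hx]⟩

/-- A singular partner of a singular vector. -/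
theorem exists_partner (hv : v ≠ 0) (hvv : Φ v v = 0) : ∃ w, Φ w w = 0 ∧ Φ w v = 1 ∧ Φ v w = 1 := by
  obtain ⟨u, hu⟩ := S.exists_pair hv
  have hu' : Φ v u = 1 := by rw [S.symm, hu]
  have h2 := S.twoK
  refine ⟨u - (Φ u u / 2) • v, ?_, by simp [hu, hvv], by simp [hu', hvv]⟩
  simp [hu, hu', hvv]
  field_simp
  ring

theorem exists_perp_ne {x : V} (hx : x ∉ K ∙ v) : ∃ z, Φ z v = 0 ∧ Φ x z ≠ 0 := by
  by_contra h
  push Not at h
  rcases eq_or_ne v 0 with rfl | hv
  · refine hx ?_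
    rw [S.nondeg x fun z => by rw [S.symm, h z (map_zero _)]]
    exact Submodule.zero_mem _
  obtain ⟨u, hu⟩ := S.exists_pair hv
  refine hx (Submodule.mem_span_singleton.mpr ⟨Φ u x, (sub_eq_zero.mp (S.nondeg _ fun z => ?_)).symm⟩)
  have h1 := h (z - Φ z v • u) (by
    rw [map_sub, map_smul, LinearMap.sub_apply, LinearMap.smul_apply, hu, smul_eq_mul, mul_one, sub_self])
  rw [map_sub, map_smul, smul_eq_mul, sub_eq_zero] at h1
  rw [map_sub, map_smul, smul_eq_mul, S.symm z x, h1, S.symm x u]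
  ring

theorem sub_mem_perpPair (hvv : Φ v v = 0) {w : V} (hww : Φ w w = 0) (hwv : Φ w v = 1) (z : V) :
    z - Φ z w • v - Φ z v • w ∈ perpPair Φ v w := by
  have hvw : Φ v w = 1 := by rw [S.symm, hwv]
  rw [mem_perpPair]
  constructor <;> simp [hvv, hww, hwv, hvw]

theorem nd_perpPair (hvv : Φ v v = 0) {w : V} (hww : Φ w w = 0) (hwv : Φ w v = 1) :
    Nd Φ (perpPair Φ v w) := by
  intro y hy hy0
  by_contra h
  push Not at h
  obtain ⟨hyv, hyw⟩ := mem_perpPair.mp hy
  refine hy0 (S.nondeg y fun z => ?_)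
  have h1 := h _ (S.sub_mem_perpPair hvv hww hwv z)
  rw [map_sub, map_sub, map_smul, map_smul, hyv, hyw, smul_zero, smul_zero, sub_zero, sub_zero] at h1
  rw [S.symm, h1]

theorem nd_inf_ker {W : Submodule K V} (hW : Nd Φ W) {a : V} (ha : a ∈ W) (haa : Φ a a ≠ 0) :
    Nd Φ (W ⊓ LinearMap.ker (Φ.flip a)) := by
  intro y hy hy0
  obtain ⟨hyW, hya⟩ := hy
  have hya' : Φ y a = 0 := hya
  obtain ⟨z, hz, hyz⟩ := hW y hyW hy0
  refine ⟨z - (Φ z a / Φ a a) • a, ⟨W.sub_mem hz (W.smul_mem _ ha), ?_⟩, ?_⟩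
  · show Φ (z - (Φ z a / Φ a a) • a) a = 0
    rw [map_sub, map_smul, LinearMap.sub_apply, LinearMap.smul_apply, smul_eq_mul, div_mul_cancel₀ _ haa, sub_self]
  · rwa [map_sub, map_smul, hya', smul_zero, sub_zero]

theorem exists_aniso {W : Submodule K V} (hW : Nd Φ W) (h0 : W ≠ ⊥) : ∃ a ∈ W, Φ a a ≠ 0 := by
  obtain ⟨y, hy, hy0⟩ := Submodule.exists_mem_ne_zero_of_ne_bot h0
  obtain ⟨z, hz, hyz⟩ := hW y hy hy0
  by_contra h
  push Not at h
  have h1 := h _ (W.add_mem hy hz)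
  simp only [map_add, LinearMap.add_apply, h y hy, h z hz, S.symm z y, zero_add, add_zero] at h1
  exact hyz ((mul_eq_zero.mp (show (2 : K) * Φ y z = 0 by linear_combination h1)).resolve_left S.twoK)

theorem exists_aniso_pos [FiniteDimensional K V] {W : Submodule K V} (hW : Nd Φ W) (h : 0 < finrank K W) :
    ∃ a ∈ W, Φ a a ≠ 0 :=
  S.exists_aniso hW fun e => by rw [e, finrank_bot] at h; omega

theorem finrank_perpPair [FiniteDimensional K V] (v w : V) : finrank K V ≤ finrank K (perpPair Φ v w) + 2 := by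
  have h1 := finrank_le_inf_ker (⊤ : Submodule K V) (Φ.flip v)
  rw [top_inf_eq, finrank_top] at h1
  have h2 := finrank_le_inf_ker (LinearMap.ker (Φ.flip v)) (Φ.flip w)
  unfold perpPair
  omega

variable [Finite F] [FiniteDimensional F K] [FiniteDimensional K V]

/-- Three dimensions contain a singular vector. -/
theorem exists_singular {W : Submodule K V} (hW : Nd Φ W) (h3 : 3 ≤ finrank K W) :
    ∃ z ∈ W, z ≠ 0 ∧ Φ z z = 0 := by
  haveI : Finite K := Module.finite_of_finite F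
  obtain ⟨a, ha, haa⟩ := S.exists_aniso_pos hW (by omega)
  have hW₁ := S.nd_inf_ker hW ha haa
  have hd₁ := finrank_le_inf_ker W (Φ.flip a)
  obtain ⟨b, hb, hbb⟩ := S.exists_aniso_pos hW₁ (by omega)
  have hd₂ := finrank_le_inf_ker (W ⊓ LinearMap.ker (Φ.flip a)) (Φ.flip b)
  obtain ⟨c, hc, hc0⟩ := Submodule.exists_mem_ne_zero_of_ne_bot
    (p := W ⊓ LinearMap.ker (Φ.flip a) ⊓ LinearMap.ker (Φ.flip b)) fun e => by rw [e, finrank_bot] at hd₂; omega
  obtain ⟨⟨hcW, hca⟩, hcb⟩ := hc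
  obtain ⟨hbW, hba⟩ := hb
  have hca' : Φ c a = 0 := hca
  have hcb' : Φ c b = 0 := hcb
  have hba' : Φ b a = 0 := hba
  by_cases hcc : Φ c c = 0
  · exact ⟨c, hcW, hc0, hcc⟩
  obtain ⟨s, t, hst⟩ := exists_sq_add_mul_sq S.twoK (div_ne_zero hbb haa) (-(Φ c c / Φ a a))
  refine ⟨s • a + t • b + c, W.add_mem (W.add_mem (W.smul_mem _ ha) (W.smul_mem _ hbW)) hcW, fun e => ?_, ?_⟩
  · have h1 := congrArg (Φ c) e
    rw [map_add, map_add, map_smul, map_smul, hca', hcb', smul_zero, smul_zero, zero_add, zero_add, map_zero] at h1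
    exact hcc h1
  · simp only [map_add, map_smul, LinearMap.add_apply, LinearMap.smul_apply, smul_eq_mul, hca', hcb', hba',
      S.symm a b, S.symm a c, S.symm b c, mul_zero, zero_add, add_zero]
    field_simp at hst
    linear_combination hst

omit [Finite F] [FiniteDimensional F K] in
theorem exists_isom (L : V →ₗ[K] V) (h : ∀ x y, Φ (L x) (L y) = Φ x y) :
    ∃ g : V ≃ₗ[K] V, (∀ x, g x = L x) ∧ ∀ x y, Φ (g x) (g y) = Φ x y :=
  ⟨LinearEquiv.ofInjectiveEndo L ((injective_iff_map_eq_zero L).mpr fun x hx => S.nondeg x fun y => by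
    rw [← h, hx, map_zero]), fun _ => rfl, h⟩

omit [Finite F] [FiniteDimensional F K] [FiniteDimensional K V] in
theorem siegel_isom (hvv : Φ v v = 0) {b : V} (hbv : Φ b v = 0) (x y : V) :
    Φ (siegel Φ v b x) (siegel Φ v b y) = Φ x y := by
  have h2 := S.twoK
  simp only [siegel_apply, map_add, map_sub, map_smul, LinearMap.add_apply, LinearMap.sub_apply,
    LinearMap.smul_apply, smul_eq_mul, hvv, hbv, S.symm v b, S.symm v y, S.symm b y]
  field_simp
  ring

omit [Finite F] [FiniteDimensional F K] [FiniteDimensional K V] in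
theorem siegel_comp (hvv : Φ v v = 0) {b c : V} (hbv : Φ b v = 0) (hcv : Φ c v = 0) (x : V) :
    siegel Φ v b (siegel Φ v c x) = siegel Φ v (b + c) x := by
  have h2 := S.twoK
  simp only [siegel_apply, map_add, map_sub, map_smul, LinearMap.add_apply, LinearMap.sub_apply,
    LinearMap.smul_apply, smul_eq_mul, hvv, hbv, hcv, S.symm v b, S.symm b c]
  match_scalars <;> field_simp <;> ring

omit [Finite F] [FiniteDimensional F K] [FiniteDimensional K V] in
theorem siegel_zero (x : V) : siegel Φ v 0 x = x := by simp [siegel_apply]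

omit [Finite F] [FiniteDimensional F K] in
/-- The Siegel maps lie in the group. -/
theorem exists_siegel (hv : v ≠ 0) (hvv : Φ v v = 0) {b : V} (hbv : Φ b v = 0) :
    ∃ h : V ≃ₗ[K] V, h.restrictScalars F ∈ G ∧ (∀ z, h z = siegel Φ v b z) ∧ ∀ x y, Φ (h x) (h y) = Φ x y := by
  have h2 := S.twoK
  obtain ⟨w, hww, hwv, hvw⟩ := S.exists_partner hv hvv
  set b₁ := -(2 : K)⁻¹ • (b - Φ b w • v) with hb₁
  have hb₁v : Φ b₁ v = 0 := by simp [hb₁, hbv, hvv]
  have hb₁w : Φ b₁ w = 0 := by simp [hb₁, hvw]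
  obtain ⟨D, hD, hDi⟩ := S.exists_isom (LinearMap.id - (2 : K) • (Φ.flip w).smulRight v -
      (2 : K) • (Φ.flip v).smulRight w) fun x y => by
    simp only [LinearMap.sub_apply, LinearMap.id_apply, LinearMap.smul_apply, LinearMap.smulRight_apply,
      LinearMap.flip_apply, map_sub, map_smul, smul_eq_mul, hvv, hww, hwv, hvw, S.symm v y, S.symm w y]
    ring
  obtain ⟨R, hR, hRi⟩ := S.exists_isom (siegel Φ v b₁) (S.siegel_isom hvv hb₁v)
  obtain ⟨E, hE, hEi⟩ := S.exists_isom (siegel Φ v b) (S.siegel_isom hvv hbv)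
  refine ⟨E, ?_, hE, hEi⟩
  have hbm : -b₁ - b₁ = b - Φ b w • v := by
    rw [hb₁]; match_scalars <;> field_simp <;> ring
  have key : ∀ x, D (R (D x)) = siegel Φ v (-b₁) x := fun x => by
    simp only [hD, hR, siegel_apply, LinearMap.sub_apply, LinearMap.id_apply, LinearMap.smul_apply,
      LinearMap.smulRight_apply, LinearMap.flip_apply, map_sub, map_smul, map_add, map_neg, LinearMap.neg_apply,
      smul_eq_mul, hvv, hww, hwv, hvw, hb₁v, hb₁w, S.symm v b₁, S.symm w b₁, LinearMap.add_apply]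
    match_scalars <;> field_simp <;> ring
  have hDD : ∀ x, D (D x) = x := fun x => by
    simp only [hD, LinearMap.sub_apply, LinearMap.id_apply, LinearMap.smul_apply, LinearMap.smulRight_apply,
      LinearMap.flip_apply, map_sub, map_smul, smul_eq_mul, hvv, hww, hwv, hvw]
    module
  have hDinv : (D.restrictScalars F)⁻¹ = D.restrictScalars F :=
    inv_eq_of_mul_eq_one_right (LinearEquiv.ext fun x => hDD x)
  have hR' : ∀ x, (R.restrictScalars F)⁻¹ x = siegel Φ v (-b₁) x := fun x => by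
    show (R.restrictScalars F).symm x = _
    rw [LinearEquiv.symm_apply_eq, LinearEquiv.restrictScalars_apply, hR, S.siegel_comp hvv hb₁v (by simp [hb₁v]),
      add_neg_cancel, S.siegel_zero]
  have h := S.comm D R hDi hRi
  convert h using 1
  refine LinearEquiv.ext fun x => ?_
  rw [hDinv, LinearEquiv.mul_apply, LinearEquiv.mul_apply, LinearEquiv.mul_apply, hR',
    LinearEquiv.restrictScalars_apply, LinearEquiv.restrictScalars_apply, LinearEquiv.restrictScalars_apply,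
    LinearEquiv.restrictScalars_apply, key, S.siegel_comp hvv (by simp [hb₁v]) (by simp [hb₁v]),
    show -b₁ + -b₁ = b - Φ b w • v by rw [← sub_eq_add_neg, hbm], hE]
  simp only [siegel_apply, map_sub, map_smul, LinearMap.sub_apply, LinearMap.smul_apply, smul_eq_mul, hvv, hbv,
    S.symm v b]
  match_scalars <;> field_simp <;> ring

omit [Finite F] [FiniteDimensional F K] in
/-- Two singular vectors with the same non-zero value at a third are conjugate. -/
theorem exists_map_of_eq {u w : V} (hvv : Φ v v = 0) (huu : Φ u u = 0) (hww : Φ w w = 0)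
    (he : Φ v w = Φ u w) (hne : Φ v w ≠ 0) :
    ∃ h : V ≃ₗ[K] V, h.restrictScalars F ∈ G ∧ (∀ x y, Φ (h x) (h y) = Φ x y) ∧ h v = u := by
  set w' := (Φ v w)⁻¹ • w with hw'
  have hvw : Φ v w' = 1 := by rw [hw', map_smul, smul_eq_mul, inv_mul_cancel₀ hne]
  have huw : Φ u w' = 1 := by rw [hw', map_smul, smul_eq_mul, ← he, inv_mul_cancel₀ hne]
  have hw0 : w' ≠ 0 := fun e => by rw [e, map_zero] at hvw; exact zero_ne_one hvw
  have hbw : Φ (u - v) w' = 0 := by rw [map_sub, LinearMap.sub_apply, hvw, huw, sub_self]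
  obtain ⟨h, hh, hz, hi⟩ := S.exists_siegel hw0 (by simp [hw', hww]) hbw
  refine ⟨h, hh, hi, ?_⟩
  have h2 := S.twoK
  rw [hz, siegel_apply, hvw, one_smul]
  simp only [map_sub, LinearMap.sub_apply, hvv, huu, S.symm u v, mul_one]
  rw [show Φ v u - 0 + (0 - Φ v u - (Φ v u - 0)) / 2 = 0 by field_simp; ring, zero_smul, sub_zero, add_sub_cancel]

/-- A singular vector is conjugate to all its multiples. -/
theorem exists_map_smul (hv : v ≠ 0) (hvv : Φ v v = 0) (hfour : 4 ≤ finrank K V) {c : K} (hc : c ≠ 0) :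
    ∃ h : V ≃ₗ[K] V, h.restrictScalars F ∈ G ∧ (∀ x y, Φ (h x) (h y) = Φ x y) ∧ h v = c • v := by
  haveI : Finite K := Module.finite_of_finite F
  have h2 := S.twoK
  obtain ⟨w, hww, hwv, hvw⟩ := S.exists_partner hv hvv
  have hd := S.finrank_perpPair v w
  have hW := S.nd_perpPair hvv hww hwv
  obtain ⟨b, hb, hbb⟩ := S.exists_aniso_pos hW (by omega)
  have hd₁ := finrank_le_inf_ker (perpPair Φ v w) (Φ.flip b)
  obtain ⟨b', hb', hbb'⟩ := S.exists_aniso_pos (S.nd_inf_ker hW hb hbb) (by omega)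
  obtain ⟨hbv, hbw⟩ := mem_perpPair.mp hb
  obtain ⟨hb'W, hb'b⟩ := hb'
  obtain ⟨hb'v, hb'w⟩ := mem_perpPair.mp hb'W
  have hb'b' : Φ b' b = 0 := hb'b
  obtain ⟨s, γ, hsγ⟩ := exists_sq_add_mul_sq h2 (div_ne_zero (mul_ne_zero hbb hbb') (mul_ne_zero h2 h2)) c
  set β := 2 * (s - 1) / Φ b b with hβ
  set z := v + b - (Φ b b / 2) • w with hz
  set w' := -((β * β * Φ b b + γ * γ * Φ b' b') / 2) • v + β • b + γ • b' + w with hw'
  have hzz : Φ z z = 0 := by
    simp only [hz, map_add, map_sub, map_smul, LinearMap.add_apply, LinearMap.sub_apply, LinearMap.smul_apply,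
      smul_eq_mul, hvv, hww, hwv, hvw, hbv, hbw, S.symm v b, S.symm w b]
    field_simp
    ring
  have hzw : Φ z w = 1 := by simp [hz, hvw, hbw, hww]
  have hw'w' : Φ w' w' = 0 := by
    simp only [hw', map_add, map_smul, LinearMap.add_apply, LinearMap.smul_apply, smul_eq_mul, hvv, hww, hwv, hvw,
      hbv, hbw, hb'v, hb'w, hb'b', S.symm v b, S.symm w b, S.symm v b', S.symm w b', S.symm b b']
    field_simp
    ring
  have hvw' : Φ v w' = 1 := by
    simp only [hw', map_add, map_smul, smul_eq_mul, hvv, hvw, hbv, hb'v, S.symm v b, S.symm v b']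
    ring
  have hzw' : Φ z w' = c := by
    simp only [hw', hz, map_add, map_sub, map_smul, LinearMap.add_apply, LinearMap.sub_apply, LinearMap.smul_apply,
      smul_eq_mul, hvv, hww, hwv, hvw, hbv, hbw, hb'v, hb'w, hb'b', S.symm v b, S.symm w b, S.symm v b',
      S.symm w b', S.symm b b']
    rw [← hsγ, hβ]
    field_simp
    ring
  obtain ⟨h₁, m₁, i₁, e₁⟩ := S.exists_map_of_eq (u := z) hvv hzz hww (hvw.trans hzw.symm) (by rw [hvw]; exact one_ne_zero)
  obtain ⟨h₂, m₂, i₂, e₂⟩ := S.exists_map_of_eq (v := z) (u := c • v) (w := w') hzz (by simp [hvv]) hw'w'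
    (by rw [hzw', map_smul, LinearMap.smul_apply, hvw', smul_eq_mul, mul_one]) (by rwa [hzw'])
  exact ⟨h₁.trans h₂, G.mul_mem m₂ m₁, fun x y => by simp [i₁, i₂], by simp [e₁, e₂]⟩

/-- A singular vector is conjugate to its multiples by squares. -/
theorem exists_map_sq (hv : v ≠ 0) (hvv : Φ v v = 0) {s : K} (hs : s ≠ 0) :
    ∃ h : V ≃ₗ[K] V, h.restrictScalars F ∈ G ∧ (∀ x y, Φ (h x) (h y) = Φ x y) ∧ h v = (s * s) • v := by
  haveI : Finite K := Module.finite_of_finite F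
  have h2 := S.twoK
  obtain ⟨w, hww, hwv, hvw⟩ := S.exists_partner hv hvv
  have hd := S.finrank_perpPair v w
  have hfour := S.three_le
  have hW := S.nd_perpPair hvv hww hwv
  obtain ⟨b, hb, hbb⟩ := S.exists_aniso_pos hW (by omega)
  obtain ⟨hbv, hbw⟩ := mem_perpPair.mp hb
  set c := s * s with hsγ
  have hc : c ≠ 0 := mul_ne_zero hs hs
  set β := 2 * (s - 1) / Φ b b with hβ
  set z := v + b - (Φ b b / 2) • w with hz
  set w' := -((β * β * Φ b b) / 2) • v + β • b + w with hw'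
  have hzz : Φ z z = 0 := by
    simp only [hz, map_add, map_sub, map_smul, LinearMap.add_apply, LinearMap.sub_apply, LinearMap.smul_apply,
      smul_eq_mul, hvv, hww, hwv, hvw, hbv, hbw, S.symm v b, S.symm w b]
    field_simp
    ring
  have hzw : Φ z w = 1 := by simp [hz, hvw, hbw, hww]
  have hw'w' : Φ w' w' = 0 := by
    simp only [hw', map_add, map_smul, LinearMap.add_apply, LinearMap.smul_apply, smul_eq_mul, hvv, hww, hwv, hvw,
      hbv, hbw, S.symm v b, S.symm w b]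
    field_simp
    ring
  have hvw' : Φ v w' = 1 := by
    simp only [hw', map_add, map_smul, smul_eq_mul, hvv, hvw, hbv, S.symm v b]
    ring
  have hzw' : Φ z w' = c := by
    simp only [hw', hz, map_add, map_sub, map_smul, LinearMap.add_apply, LinearMap.sub_apply, LinearMap.smul_apply,
      smul_eq_mul, hvv, hww, hwv, hvw, hbv, hbw, S.symm v b, S.symm w b]
    rw [hsγ, hβ]
    field_simp
    ring
  obtain ⟨h₁, m₁, i₁, e₁⟩ := S.exists_map_of_eq (u := z) hvv hzz hww (hvw.trans hzw.symm) (by rw [hvw]; exact one_ne_zero)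
  obtain ⟨h₂, m₂, i₂, e₂⟩ := S.exists_map_of_eq (v := z) (u := c • v) (w := w') hzz (by simp [hvv]) hw'w'
    (by rw [hzw', map_smul, LinearMap.smul_apply, hvw', smul_eq_mul, mul_one]) (by rwa [hzw'])
  exact ⟨h₁.trans h₂, G.mul_mem m₂ m₁, fun x y => by simp [i₁, i₂], by simp [e₁, e₂]⟩

/-- The group is transitive on singular vectors. -/
theorem exists_map {u : V} (hv : v ≠ 0) (hvv : Φ v v = 0) (hu : u ≠ 0) (huu : Φ u u = 0) :
    ∃ h : V ≃ₗ[K] V, ∃ c : K, c ≠ 0 ∧ h.restrictScalars F ∈ G ∧ (∀ x y, Φ (h x) (h y) = Φ x y) ∧ h v = c • u := by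
  by_cases hin : u ∈ K ∙ v
  · obtain ⟨c, rfl⟩ := Submodule.mem_span_singleton.mp hin
    have hc : c ≠ 0 := fun e => hu (by rw [e, zero_smul])
    exact ⟨LinearEquiv.refl K V, c⁻¹, inv_ne_zero hc, G.one_mem, fun _ _ => rfl, (inv_smul_smul₀ hc v).symm⟩
  have h2 := S.twoK
  obtain ⟨w₀, hww, hwv, hvw⟩ := S.exists_partner hv hvv
  obtain ⟨w, hw, hvw', huw⟩ : ∃ w, Φ w w = 0 ∧ Φ v w = 1 ∧ Φ u w ≠ 0 := by
    by_cases h0 : Φ u w₀ = 0
    swap; · exact ⟨w₀, hww, hvw, h0⟩
    have mk : ∀ b ∈ perpPair Φ v w₀, Φ (w₀ + b - (Φ b b / 2) • v) (w₀ + b - (Φ b b / 2) • v) = 0 ∧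
        Φ v (w₀ + b - (Φ b b / 2) • v) = 1 ∧
        Φ u (w₀ + b - (Φ b b / 2) • v) = Φ u b - Φ b b / 2 * Φ u v := by
      intro b hb
      obtain ⟨hbv, hbw⟩ := mem_perpPair.mp hb
      refine ⟨?_, ?_, ?_⟩ <;>
        simp only [map_add, map_sub, map_smul, LinearMap.add_apply, LinearMap.sub_apply, LinearMap.smul_apply,
          smul_eq_mul, hvv, hww, hwv, hvw, hbv, hbw, h0, S.symm v b, S.symm w₀ b]
      · field_simp; ring
      · ring
      · ring
    have hW := S.nd_perpPair hvv hww hwv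
    by_cases huv : Φ u v = 0
    · have hu' : u ∈ perpPair Φ v w₀ := mem_perpPair.mpr ⟨huv, h0⟩
      obtain ⟨b, hb, hub⟩ := hW u hu' hu
      obtain ⟨e1, e2, e3⟩ := mk b hb
      exact ⟨_, e1, e2, by rw [e3, huv, mul_zero, sub_zero]; exact hub⟩
    · have hd := S.finrank_perpPair v w₀
      have hfour := S.three_le
      obtain ⟨b, hb, hbb⟩ := S.exists_aniso_pos hW (by omega)
      obtain ⟨e1, e2, e3⟩ := mk b hb
      by_cases h3 : Φ u b - Φ b b / 2 * Φ u v = 0
      · obtain ⟨f1, f2, f3⟩ := mk (-b) (Submodule.neg_mem _ hb)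
        refine ⟨_, f1, f2, ?_⟩
        rw [f3]
        simp only [map_neg, LinearMap.neg_apply, neg_neg]
        intro h4
        field_simp at h3 h4
        exact mul_ne_zero h2 (mul_ne_zero hbb huv) (by linear_combination -h3 - h4)
      · exact ⟨_, e1, e2, by rw [e3]; exact h3⟩
  have hu' : (Φ u w)⁻¹ • u ≠ 0 := smul_ne_zero (inv_ne_zero huw) hu
  obtain ⟨h₁, m₁, i₁, e₁⟩ := S.exists_map_of_eq (u := (Φ u w)⁻¹ • u) hvv (by simp [huu]) hw
    (by rw [hvw', map_smul, LinearMap.smul_apply, smul_eq_mul, inv_mul_cancel₀ huw]) (by rw [hvw']; exact one_ne_zero)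
  exact ⟨h₁, (Φ u w)⁻¹, inv_ne_zero huw, m₁, i₁, e₁⟩

end OrthOver

end Cfsg.Agent.Lib.ThreeTransp.ExtField
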