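import Cfsg.Agent.Lib.ThreeTransp.ExtOrthRoot

/-!
Groups preserving `tr ∘ Φ` and containing the commutators of the isometries of the symmetric form `Φ` are semilinear
or contain all skew root elements.
-/

set_option autoImplicit false

namespace Cfsg.Agent.Lib.ThreeTransp.ExtField

open Module
open Cfsg.Agent.Lib.ThreeTransp.ExtSym (adj adj_comp adj_mulLeft skewPair skew_component_mem exists_skewPair_apply skew_degree_two
  skew_coef_one ext_coef coef coef_zero eq_alg_of_fixed aut_comm)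

variable {F K V : Type*} [Field F] [Finite F] [Field K] [Algebra F K] [FiniteDimensional F K] [AddCommGroup V]
  [Module F V] [Module K V] [IsScalarTower F K V] [FiniteDimensional K V] [FiniteDimensional F V]
variable {Φ : V →ₗ[K] V →ₗ[K] K} {G : Subgroup (V ≃ₗ[F] V)} {v : V}

namespace OrthOver

variable (S : OrthOver Φ G)
include S

omit [FiniteDimensional F V] in
/-- The root elements at one singular vector give those at all. -/
theorem hasLong_all (hv : v ≠ 0) (hvv : Φ v v = 0) (h : HasLong Φ G v) {u : V} (hu : u ≠ 0) (huu : Φ u u = 0) :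
    HasLong Φ G u := by
  intro l hl
  obtain ⟨g, c, hc, hg, hgi, he⟩ := S.exists_map hv hvv hu huu
  have hl' : adj (LinearMap.mulLeft F c⁻¹ ∘ₗ l ∘ₗ LinearMap.mulLeft F c⁻¹) =
      -(LinearMap.mulLeft F c⁻¹ ∘ₗ l ∘ₗ LinearMap.mulLeft F c⁻¹) := by
    rw [adj_comp, adj_comp, adj_mulLeft, hl]
    exact LinearMap.ext fun x => by simp
  obtain ⟨h0, hm⟩ := h _ hl'
  refine ⟨fun c => by simp [huu], ?_⟩
  convert G.mul_mem (G.mul_mem hg hm) (G.inv_mem hg) using 1
  refine LinearEquiv.ext fun x => ?_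
  show _ = g.restrictScalars F (tv _ v h0 ((g.restrictScalars F).symm x))
  rw [tv_apply, tv_apply, rootFun_apply, rootFun_apply, LinearEquiv.restrictScalars_apply, map_add, g.map_smul,
    show g ((g.restrictScalars F).symm x) = x from g.apply_symm_apply x, he, smul_smul,
    show Φ ((g.restrictScalars F).symm x) v = c * Φ x u by
      rw [← hgi, he, show g ((g.restrictScalars F).symm x) = x from g.apply_symm_apply x, map_smul, smul_eq_mul]]
  congr 2
  simp only [LinearMap.comp_apply, LinearMap.mulLeft_apply]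
  rw [inv_mul_cancel_left₀ hc, mul_comm c⁻¹, mul_assoc, inv_mul_cancel₀ hc, mul_one]

omit [Finite F] [FiniteDimensional F K] [FiniteDimensional F V] in
theorem nd_perp {x : V} (hd : Φ x x ≠ 0) : Nd Φ (LinearMap.ker (Φ.flip x)) := by
  have htop : Nd Φ (⊤ : Submodule K V) := by
    intro y _ hy0
    by_contra h
    push Not at h
    exact hy0 (S.nondeg y fun z => by rw [S.symm]; exact h z trivial)
  have := S.nd_inf_ker htop (a := x) trivial hd
  rwa [top_inf_eq] at this

/-- A singular hyperbolic pair orthogonal to an anisotropic vector. -/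
theorem exists_pair_perp (hfour : 4 ≤ finrank K V) {x : V} (hd : Φ x x ≠ 0) : ∃ v₁ w₁, v₁ ≠ 0 ∧ w₁ ≠ 0 ∧ Φ v₁ v₁ = 0 ∧ Φ w₁ w₁ = 0 ∧
    Φ w₁ v₁ = 1 ∧ Φ v₁ x = 0 ∧ Φ w₁ x = 0 := by
  have h2 := S.twoK
  have hW := S.nd_perp hd
  have hdim := finrank_le_inf_ker (⊤ : Submodule K V) (Φ.flip x)
  rw [top_inf_eq, finrank_top] at hdim
  obtain ⟨v₁, hv₁, hv₁0, hv₁v₁⟩ := S.exists_singular hW (by omega)
  obtain ⟨z, hz, hvz⟩ := hW v₁ hv₁ hv₁0
  set z' := (Φ v₁ z)⁻¹ • z with hz'
  have hv₁z' : Φ v₁ z' = 1 := by rw [hz', map_smul, smul_eq_mul, inv_mul_cancel₀ hvz]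
  have hv₁x : Φ v₁ x = 0 := hv₁
  have hz'x : Φ z' x = 0 := by
    show Φ.flip x z' = 0
    rw [hz', map_smul, LinearMap.mem_ker.mp hz, smul_zero]
  set w₁ := z' - (Φ z' z' / 2) • v₁ with hw₁
  have hww : Φ w₁ w₁ = 0 := by
    simp [hw₁, hv₁v₁, hv₁z', S.symm z' v₁]
    field_simp
    ring
  have hwv : Φ w₁ v₁ = 1 := by simp [hw₁, hv₁v₁, hv₁z', S.symm z' v₁]
  refine ⟨v₁, w₁, hv₁0, fun e => ?_, hv₁v₁, hww, hwv, hv₁x, by simp [hw₁, hz'x, hv₁x]⟩
  rw [e, map_zero] at hwv
  exact zero_ne_one hwv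

/-- Vectors fixed by enough Siegel maps fixing `x`. -/
theorem span_of_fixed (hfour : 4 ≤ finrank K V) {x v₁ w₁ : V} (hd : Φ x x ≠ 0) (hv₁ : v₁ ≠ 0) (h11 : Φ v₁ v₁ = 0) (hww : Φ w₁ w₁ = 0)
    (hwv : Φ w₁ v₁ = 1) (hv₁x : Φ v₁ x = 0) (hw₁x : Φ w₁ x = 0) (hno : ¬ HasLong Φ G v) (hv : v ≠ 0)
    (hvv : Φ v v = 0) {k : V ≃ₗ[F] V} (hk : k ∈ G)
    (hconj : ∀ b, Φ b v₁ = 0 → Φ b w₁ = 0 → Φ b x = 0 → ∀ R : V ≃ₗ[K] V, R.restrictScalars F ∈ G →
      (∀ z, R z = siegel Φ v₁ b z) → k⁻¹ * R.restrictScalars F * k ∈ lineStab K G v)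
    {z : V} (hz : ∀ s ∈ G, (∀ c : K, s (c • v) = c • v) → (∃ b, Φ b v₁ = 0 ∧ Φ b w₁ = 0 ∧ Φ b x = 0 ∧
      ∀ y, k (s (k.symm y)) = siegel Φ v₁ b y) → s z = z) :
    k z = (Φ (k z) x / Φ x x) • x + Φ (k z) w₁ • v₁ := by
  have hv₁w : Φ v₁ w₁ = 1 := by rw [S.symm, hwv]
  set Z := perpPair Φ v₁ w₁ ⊓ LinearMap.ker (Φ.flip x) with hZ
  have hmem : ∀ {b : V}, b ∈ Z ↔ Φ b v₁ = 0 ∧ Φ b w₁ = 0 ∧ Φ b x = 0 := fun {b} => by
    rw [hZ, Submodule.mem_inf, mem_perpPair, and_assoc]; rfl
  haveI : Finite K := Module.finite_of_finite F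
  obtain ⟨ψ, hψ⟩ := S.exists_autHom hv hvv hno
  choose R hR hRz hRi using fun b : Z => S.exists_siegel hv₁ h11 (b := (b : V)) (hmem.mp b.2).1
  have hs : ∀ b : Z, k⁻¹ * (R b).restrictScalars F * k ∈ lineStab K G v := fun b =>
    hconj b (hmem.mp b.2).1 (hmem.mp b.2).2.1 (hmem.mp b.2).2.2 (R b) (hR b) (hRz b)
  let φ : Z → (K ≃ₐ[F] K) := fun b => ψ ⟨_, hs b⟩
  have hφ : ∀ a b, φ (a + b) = φ a * φ b := fun a b => by
    simp only [φ, ← map_mul]
    congr 1
    refine Subtype.ext ?_
    show k⁻¹ * (R (a + b)).restrictScalars F * k = (k⁻¹ * (R a).restrictScalars F * k) * (k⁻¹ * (R b).restrictScalars F * k)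
    rw [show (R (a + b)).restrictScalars F = (R a).restrictScalars F * (R b).restrictScalars F from
      LinearEquiv.ext fun y => by
        rw [LinearEquiv.mul_apply]
        simp only [LinearEquiv.restrictScalars_apply, hRz, Submodule.coe_add]
        exact (S.siegel_comp h11 (hmem.mp a.2).1 (hmem.mp b.2).1 y).symm]
    group
  set y := k z with hy
  have hfix : ∀ b : Z, φ b = 1 → siegel Φ v₁ b y = y := by
    intro b hb
    have h1 := hz _ (hs b).1 (fun c => by
      have h := hψ ⟨_, hs b⟩ c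
      rwa [show ψ ⟨_, hs b⟩ = 1 from hb, AlgEquiv.one_apply] at h)
      ⟨b, (hmem.mp b.2).1, (hmem.mp b.2).2.1, (hmem.mp b.2).2.2, fun u => by
        show k (k.symm (R b (k (k.symm u)))) = _
        rw [LinearEquiv.apply_symm_apply, LinearEquiv.apply_symm_apply, hRz]⟩
    have h2 : k.symm (R b (k z)) = z := h1
    rwa [LinearEquiv.symm_apply_eq, hRz] at h2
  have hdec : ∀ u, u - Φ u w₁ • v₁ - Φ u v₁ • w₁ - (Φ u x / Φ x x) • x ∈ Z := by
    intro u
    refine hmem.mpr ⟨?_, ?_, ?_⟩ <;>
      simp only [map_sub, map_smul, LinearMap.sub_apply, LinearMap.smul_apply, smul_eq_mul, h11, hww, hwv, hv₁w,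
        hv₁x, hw₁x, S.symm x v₁, S.symm x w₁]
    · ring
    · ring
    · field_simp; ring
  -- an anisotropic vector in `Z`
  obtain ⟨a, ha, haa⟩ : ∃ a ∈ Z, Φ a a ≠ 0 := by
    have hnd : Nd Φ Z := by
      have hx : x ∈ perpPair Φ v₁ w₁ :=
        mem_perpPair.mpr ⟨by rw [S.symm, hv₁x], by rw [S.symm, hw₁x]⟩
      exact S.nd_inf_ker (S.nd_perpPair h11 hww hwv) hx hd
    have h1 := S.finrank_perpPair v₁ w₁
    have h2 := finrank_le_inf_ker (perpPair Φ v₁ w₁) (Φ.flip x)
    rw [← hZ] at h2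
    exact S.exists_aniso_pos hnd (by omega)
  have hyv : Φ y v₁ = 0 := by
    by_contra hne
    refine haa (S.kernel_perp Z φ hφ S.card_aut_lt (y := a) (fun b hb => ?_) a ha)
    have h1 := hfix b hb
    rw [siegel_apply, add_sub_assoc, add_eq_left, sub_eq_zero] at h1
    have h3 : (b : V) = ((Φ y v₁)⁻¹ * (Φ y b + Φ (b : V) b / 2 * Φ y v₁)) • v₁ := by
      rw [mul_smul, ← h1, inv_smul_smul₀ hne]
    rw [h3, (Φ a).map_smul, (hmem.mp ha).1, smul_zero]
  have hyZ : ∀ b ∈ Z, Φ y b = 0 := S.kernel_perp Z φ hφ S.card_aut_lt fun b hb => by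
    have h1 := hfix b hb
    rw [siegel_apply, hyv, zero_smul, mul_zero, add_zero, add_zero, sub_eq_self, smul_eq_zero] at h1
    exact h1.resolve_right hv₁
  refine sub_eq_zero.mp (S.nondeg _ fun u => ?_)
  have h3 := hyZ _ (hdec u)
  simp only [map_sub, map_smul, smul_eq_mul, hyv] at h3
  simp only [map_sub, map_add, map_smul, smul_eq_mul, S.symm u y, S.symm u x, S.symm u v₁]
  rw [S.symm v₁ u, S.symm x u]
  linear_combination h3

/-- With root elements at `v`, the stabiliser of `v` stabilises its line. -/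
theorem stab_line (hv : v ≠ 0) (hvv : Φ v v = 0) (hno : ¬ HasLong Φ G v)
    (hW : ∃ l ∈ rootSet Φ G v, l ≠ 0) {g : V ≃ₗ[F] V} (hg : g ∈ G) (hgv : g v = v) :
    ∀ k : K, g (k • v) ∈ K ∙ v := by
  classical
  haveI : Finite K := Module.finite_of_finite F
  obtain ⟨l₀, hl₀, hl₀0⟩ := hW
  have hr : finrank F K ≠ 2 := by
    intro hr
    refine hno fun l hl => ?_
    obtain ⟨t, rfl⟩ := skew_degree_two S.prime S.two hr hl (S.adj_of_root hv hvv hl₀) hl₀0
    obtain ⟨W, hWm, -⟩ := S.exists_rootSpace hv hvv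
    exact (hWm _).mp (W.smul_mem t ((hWm _).mpr hl₀))
  obtain ⟨W, hWm, hO⟩ := S.exists_rootSpace hv hvv
  have hsym : ∀ l ∈ W, adj l = -l := fun l hl => S.adj_of_root hv hvv ((hWm l).mp hl)
  obtain ⟨i, hli⟩ : ∃ i, coef l₀ i ≠ 0 := by
    by_contra hc
    push Not at hc
    exact hl₀0 (ext_coef fun e => by rw [coef_zero, hc])
  have hi : i ≠ 1 := fun h => hli (h ▸ skew_coef_one S.two (S.adj_of_root hv hvv hl₀))
  -- moved scalars are conjugate to their translates
  have hbad : ∀ k : K, g (k • v) ∉ K ∙ v → ∃ σ : K ≃ₐ[F] K, σ k = k + 1 := by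
    intro k hk
    have hkF : k ∉ (algebraMap F K).range := by
      rintro ⟨a, rfl⟩
      refine hk ?_
      rw [algebraMap_smul, map_smul, hgv, ← algebraMap_smul K a v]
      exact Submodule.smul_mem _ _ (Submodule.mem_span_singleton_self v)
    have hkF' : k + 1 ∉ (algebraMap F K).range := fun h => hkF (by
      simpa using RingHom.range (algebraMap F K) |>.sub_mem h (RingHom.range (algebraMap F K)).one_mem)
    have hy' : g ((k + 1) • v) = g (k • v) + v := by rw [add_smul, one_smul, map_add, hgv]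
    set y := g (k • v) with hy
    obtain ⟨e, he, hev, hey⟩ : ∃ e ∈ G, e v = v ∧ e y = y + v := by
      by_cases hc : Φ y v = 0
      · obtain ⟨z, hz, hyz⟩ := S.exists_perp_ne hk
        obtain ⟨R, hR, hRz, -⟩ := S.exists_siegel hv hvv (b := (-(Φ y z)⁻¹) • z) (by simp [hz])
        refine ⟨_, hR, ?_, ?_⟩
        · rw [LinearEquiv.restrictScalars_apply, hRz, siegel_apply]
          simp [hvv, S.symm v z, hz]
        · rw [LinearEquiv.restrictScalars_apply, hRz, siegel_apply, hc, zero_smul, mul_zero, add_zero, add_zero,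
            map_smul, smul_eq_mul, neg_mul, inv_mul_cancel₀ hyz, neg_smul, one_smul, sub_neg_eq_add]
      · obtain ⟨a, ha⟩ := exists_skewPair_apply S.prime hr hi hc (x := (1 : K)) (by
          rw [one_mul]
          have h1 := S.isom g hg (k • v) v
          rw [hgv, Φ.map_smul, LinearMap.smul_apply, hvv, smul_zero, map_zero] at h1
          exact h1)
        obtain ⟨h0, hm⟩ := (hWm _).mp (skew_component_mem S.prime hr W hO hsym hi ((hWm _).mpr hl₀) hli a)
        refine ⟨_, hm, ?_, ?_⟩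
        · rw [tv_apply, rootFun_apply, hvv, map_zero, zero_smul, add_zero]
        · rw [tv_apply, rootFun_apply, ha, one_smul]
    obtain ⟨σ, hσ⟩ := S.conj_of_orbit hv hvv hno hkF hkF' (g := g⁻¹ * e * g)
      (G.mul_mem (G.mul_mem (G.inv_mem hg) he) hg) (by
        show g.symm (e (g v)) = v
        rw [hgv, hev, LinearEquiv.symm_apply_eq, hgv])
      (by
        show g.symm (e (g (k • v))) = (k + 1) • v
        rw [← hy, hey, LinearEquiv.symm_apply_eq, hy'])
    exact ⟨AlgEquiv.ofBijective σ (Algebra.IsAlgebraic.algHom_bijective σ), hσ⟩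
  -- they lie in a proper subspace
  obtain ⟨σ₀, hσ₀⟩ : ∃ σ₀ : K ≃ₐ[F] K, σ₀ ≠ 1 := ⟨i, hi⟩
  let D : K →ₗ[F] K := σ₀.toLinearMap - LinearMap.id
  let Nb : Submodule F K := Submodule.comap D (LinearMap.range (Algebra.linearMap F K))
  have hsub : ∀ k : K, g (k • v) ∉ K ∙ v → k ∈ Nb := by
    intro k hk
    obtain ⟨σ, hσ⟩ := hbad k hk
    have hσ1 : σ ≠ 1 := fun h => one_ne_zero (α := K) (by
      rw [h, AlgEquiv.one_apply] at hσ
      linear_combination -hσ)
    obtain ⟨t, ht⟩ := eq_alg_of_fixed S.prime hσ1 (show σ (D k) = D k by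
      show σ (σ₀ k - k) = σ₀ k - k
      rw [map_sub, ← AlgEquiv.mul_apply, aut_comm S.prime σ σ₀, AlgEquiv.mul_apply, hσ, map_add, map_one]
      ring)
    exact ⟨t, ht⟩
  obtain ⟨k₁, hk₁⟩ : ∃ k₁, k₁ ∉ Nb := by
    by_contra hc
    push Not at hc
    have h1 := D.finrank_range_add_finrank_ker
    have h2 : finrank F (LinearMap.range D) ≤ 1 := by
      refine (Submodule.finrank_mono (show LinearMap.range D ≤ LinearMap.range (Algebra.linearMap F K) by
        rintro _ ⟨k, rfl⟩; exact hc k)).trans ?_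
      exact (LinearMap.finrank_range_le _).trans (finrank_self F).le
    have h3 : finrank F (LinearMap.ker D) ≤ 1 := by
      refine (Submodule.finrank_mono (show LinearMap.ker D ≤ LinearMap.range (Algebra.linearMap F K) by
        intro k hk
        obtain ⟨t, ht⟩ := eq_alg_of_fixed S.prime hσ₀ (sub_eq_zero.mp (LinearMap.mem_ker.mp hk))
        exact ⟨t, ht⟩)).trans ?_
      exact (LinearMap.finrank_range_le _).trans (finrank_self F).le
    have := S.prime.two_le
    omega
  intro k
  by_contra hk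
  have h1 : g (k₁ • v) ∈ K ∙ v := by
    by_contra h
    exact hk₁ (hsub _ h)
  have h2 : g ((k + k₁) • v) ∈ K ∙ v := by
    by_contra h
    refine hk₁ ?_
    simpa using Nb.sub_mem (hsub _ h) (hsub _ hk)
  rw [add_smul, map_add] at h2
  exact hk (by simpa using Submodule.sub_mem _ h2 h1)

/-- If an element takes a singular vector to a non-singular one, all skew root elements lie in the group. -/
theorem hasLong_of_aniso (hfour : 4 ≤ finrank K V) (hv : v ≠ 0) (hvv : Φ v v = 0) {g : V ≃ₗ[F] V} (hg : g ∈ G) (hd : Φ (g v) (g v) ≠ 0) :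
    HasLong Φ G v := by
  classical
  by_contra hno
  haveI : Finite K := Module.finite_of_finite F
  set x := g v with hx
  obtain ⟨v₁, w₁, hv₁, hw₁, h11, hww, hwv, hv₁x, hw₁x⟩ := S.exists_pair_perp hfour hd
  have hv₁w : Φ v₁ w₁ = 1 := by rw [S.symm, hwv]
  obtain ⟨γ, hγ⟩ : ∃ γ : K, Algebra.trace F K (γ * Φ x x) ≠ 0 := by
    by_contra h
    push Not at h
    exact hd (eq_of_trace (F := F) fun d => by rw [h, mul_zero, map_zero])
  -- a Siegel map fixing `x`
  have hRx : ∀ {v₂ : V} {b : V}, Φ v₂ x = 0 → Φ b x = 0 → siegel Φ v₂ b x = x := by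
    intro v₂ b h1 h2
    simp [siegel_apply, S.symm x v₂, S.symm x b, h1, h2]
  by_cases hW : ∀ l ∈ rootSet Φ G v, l = 0
  · obtain ⟨p, hchar⟩ := CharP.exists F
    haveI := hchar
    haveI hpf : Fact p.Prime := ⟨CharP.char_is_prime F p⟩
    obtain ⟨T, hT, -, hTp⟩ := S.exists_radical hv₁ h11
    let T₁ := T ⊓ twoFix G x x
    obtain ⟨j, hj, hjv, hjU⟩ := S.exists_conj_stab (p := p) hv hvv hno
      (U := T₁.map (MulAut.conj g⁻¹).toMonoidHom) (((hTp p hchar).to_le inf_le_left).map _)
      (by rintro _ ⟨t, ht, rfl⟩; exact G.mul_mem (G.mul_mem (G.inv_mem hg) ht.2.1) (G.inv_mem (G.inv_mem hg)))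
      (by
        rintro _ ⟨t, ht, rfl⟩
        show g⁻¹ (t ((g⁻¹)⁻¹ v)) = v
        rw [inv_inv, ← hx, ht.2.2.1, hx]
        exact g.symm_apply_apply v)
    set k := g * j⁻¹ with hk
    have hkG : k ∈ G := G.mul_mem hg (G.inv_mem hj)
    have hkv : k v = x := by
      show g (j.symm v) = x
      rw [show j.symm v = v from (LinearEquiv.symm_apply_eq j).mpr hjv.symm]
    have hconj : ∀ b, Φ b v₁ = 0 → Φ b w₁ = 0 → Φ b x = 0 → ∀ R : V ≃ₗ[K] V, R.restrictScalars F ∈ G →
        (∀ z, R z = siegel Φ v₁ b z) → k⁻¹ * R.restrictScalars F * k ∈ lineStab K G v := by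
      intro b hb _ hbx R hR hRz
      have h1 : R.restrictScalars F ∈ T₁ := ⟨(hT _).mpr ⟨hR, b, hb, hRz⟩, hR,
        by rw [LinearEquiv.restrictScalars_apply, hRz, hRx hv₁x hbx],
        by rw [LinearEquiv.restrictScalars_apply, hRz, hRx hv₁x hbx]⟩
      have h2 := hjU _ ⟨_, h1, rfl⟩
      convert h2 using 1
      simp [hk, MulAut.conj_apply, mul_assoc]
    have hspan := fun z hz => S.span_of_fixed hfour hd hv₁ h11 hww hwv hv₁x hw₁x hno hv hvv hkG hconj (z := z) hz
    have hline : ∀ c : K, k (c • v) = (Φ (k (c • v)) x / Φ x x) • x + Φ (k (c • v)) w₁ • v₁ :=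
      fun c => hspan _ fun s _ hs _ => hs c
    -- the preimage of the line of `v₁` is orthogonal to `v`
    have hperp : ∀ β : K, Φ (k.symm (β • v₁)) v = 0 := fun β => eq_of_trace (F := F) fun c => by
      have h := S.isom k hkG (k.symm (β • v₁)) (c • v)
      rw [LinearEquiv.apply_symm_apply, (Φ (k.symm (β • v₁))).map_smul, smul_eq_mul] at h
      rw [mul_zero, map_zero, ← h, hline c]
      simp [h11, hv₁x]
    have hFix : ∀ β : K, ∀ s ∈ G, (∀ c : K, s (c • v) = c • v) → (∃ b, Φ b v₁ = 0 ∧ Φ b w₁ = 0 ∧ Φ b x = 0 ∧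
        ∀ y, k (s (k.symm y)) = siegel Φ v₁ b y) → s (k.symm (β • v₁)) = k.symm (β • v₁) := by
      rintro β s - - ⟨b, hb, -, -, he⟩
      refine k.injective ?_
      rw [he, LinearEquiv.apply_symm_apply, siegel_apply]
      simp [h11, S.symm v₁ b, hb]
    by_cases hA : ∀ β : K, k.symm (β • v₁) ∈ K ∙ v
    · choose a ha using fun β => Submodule.mem_span_singleton.mp (hA β)
      have hinj : Function.Injective a := fun β β' e => smul_left_injective K hv₁ (k.symm.injective (by
        rw [← ha, ← ha, e]))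
      obtain ⟨β, hβ⟩ := (Finite.injective_iff_surjective.mp hinj) 1
      have h1 := ha β
      rw [hβ, one_smul] at h1
      have h2 : x = β • v₁ := by rw [← hkv]; exact (LinearEquiv.symm_apply_eq k).mp h1.symm |>.symm
      exact hd (by rw [h2]; simp [h11])
    · push Not at hA
      obtain ⟨β₀, hz⟩ := hA
      set z := k.symm (β₀ • v₁) with hzdef
      let L : K × K →ₗ[F] K × K :=
        { toFun := fun q => (Φ (k (q.1 • v + q.2 • z)) x / Φ x x, Φ (k (q.1 • v + q.2 • z)) w₁)
          map_add' := fun q q' => by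
            have : (q + q').1 • v + (q + q').2 • z = (q.1 • v + q.2 • z) + (q'.1 • v + q'.2 • z) := by
              rw [Prod.fst_add, Prod.snd_add]; module
            simp only [this, map_add, LinearMap.add_apply, add_div, Prod.mk_add_mk]
          map_smul' := fun t q => by
            simp only [Prod.smul_fst, Prod.smul_snd, smul_assoc, ← smul_add, map_smul, RingHom.id_apply,
              LinearMap.map_smul_of_tower, LinearMap.smul_apply, Prod.smul_mk]
            congr 1
            rw [Algebra.smul_def, Algebra.smul_def, mul_div_assoc] }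
      have hform : ∀ q : K × K, k (q.1 • v + q.2 • z) = (L q).1 • x + (L q).2 • v₁ := fun q => by
        refine hspan _ fun s hs hsfix hsb => ?_
        have hzs : s z = z := hFix β₀ s hs hsfix hsb
        rw [map_add, hsfix, S.perp_linear hv hvv hW hs hsfix (hperp β₀), hzs]
      have hinj : Function.Injective L := (injective_iff_map_eq_zero L).mpr fun q hq => by
        have h1 := hform q
        rw [hq] at h1
        simp only [Prod.fst_zero, Prod.snd_zero, zero_smul, add_zero] at h1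
        have h2 := (LinearEquiv.map_eq_zero_iff k).mp h1
        by_cases hq2 : q.2 = 0
        · rw [hq2, zero_smul, add_zero, smul_eq_zero] at h2
          exact Prod.ext (h2.resolve_right hv) hq2
        · refine absurd (Submodule.mem_span_singleton.mpr ⟨-(q.2⁻¹ * q.1), ?_⟩) hz
          rw [← inv_smul_smul₀ hq2 z, eq_neg_of_add_eq_zero_right h2]
          module
      obtain ⟨q, hq⟩ := LinearMap.injective_iff_surjective.mp hinj (γ, 0)
      have h1 := hform q
      rw [hq] at h1
      simp only [zero_smul, add_zero] at h1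
      have h2 := S.isom k hkG (q.1 • v + q.2 • z) v
      rw [h1, hkv, Φ.map_smul, LinearMap.smul_apply, smul_eq_mul] at h2
      refine hγ (h2.trans ?_)
      simp [hvv, show Φ z v = 0 from hperp β₀]
  · push Not at hW
    have hstab := fun g' hg' hgv' => S.stab_line hv hvv hno hW (g := g') hg' hgv'
    have hgv : g v = x := rfl
    have hconj : ∀ (v₂ : V), Φ v₂ x = 0 → ∀ b, Φ b x = 0 → ∀ R : V ≃ₗ[K] V, R.restrictScalars F ∈ G →
        (∀ z, R z = siegel Φ v₂ b z) → g⁻¹ * R.restrictScalars F * g ∈ lineStab K G v := by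
      intro v₂ hv₂ b hbx R hR hRz
      have hm : g⁻¹ * R.restrictScalars F * g ∈ G := G.mul_mem (G.mul_mem (G.inv_mem hg) hR) hg
      have hfv : (g⁻¹ * R.restrictScalars F * g) v = v := by
        show g.symm (R (g v)) = v
        rw [hgv, hRz, hRx hv₂ hbx, LinearEquiv.symm_apply_eq]
      exact ⟨hm, hfv, hstab _ hm hfv, hstab _ (G.inv_mem hm) ((LinearEquiv.symm_apply_eq _).mpr hfv.symm)⟩
    have h1 : ∀ c : K, g (c • v) = (Φ (g (c • v)) x / Φ x x) • x := by
      intro c
      have e1 := S.span_of_fixed hfour hd hv₁ h11 hww hwv hv₁x hw₁x hno hv hvv hg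
        (fun b _ _ hbx => hconj v₁ hv₁x b hbx) (z := c • v) fun s _ hs _ => hs c
      have e2 := S.span_of_fixed hfour hd hw₁ hww h11 hv₁w hw₁x hv₁x hno hv hvv hg
        (fun b _ _ hbx => hconj w₁ hw₁x b hbx) (z := c • v) fun s _ hs _ => hs c
      have h0 : Φ (g (c • v)) w₁ = 0 := by
        rw [e2]
        simp [hww, S.symm x w₁, hw₁x]
      rw [h0, zero_smul, add_zero] at e1
      exact e1
    let a : K →ₗ[F] K :=
      { toFun := fun c => Φ (g (c • v)) x / Φ x x
        map_add' := fun c c' => by simp only [add_smul, map_add, LinearMap.add_apply, add_div]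
        map_smul' := fun t c => by
          simp only [smul_assoc, map_smul, RingHom.id_apply, LinearMap.map_smul_of_tower, LinearMap.smul_apply]
          rw [Algebra.smul_def, Algebra.smul_def, mul_div_assoc] }
    have hinj : Function.Injective a := fun c c' e => smul_left_injective K hv (g.injective (by
      rw [h1 c, h1 c', show Φ (g (c • v)) x / Φ x x = Φ (g (c' • v)) x / Φ x x from e]))
    obtain ⟨c, hc⟩ := LinearMap.injective_iff_surjective.mp hinj γ
    have h2 := S.isom g hg (c • v) v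
    rw [h1, hgv, show Φ (g (c • v)) x / Φ x x = γ from hc, Φ.map_smul, LinearMap.smul_apply, smul_eq_mul] at h2
    refine hγ (h2.trans ?_)
    simp [hvv]

omit [FiniteDimensional F V] in
/-- A group preserving the singular vectors is semilinear. -/
theorem semilin_of_singular (hS0 : ∀ g ∈ G, ∀ u, Φ u u = 0 → Φ (g u) (g u) = 0) {g : V ≃ₗ[F] V} (hg : g ∈ G) :
    Semilin K g := by
  classical
  haveI : Finite K := Module.finite_of_finite F
  have h2 := S.twoK
  have hfour := S.three_le
  have horth1 : ∀ g ∈ G, ∀ u u', Φ u u = 0 → Φ u' u' = 0 → Φ u u' = 0 → Φ (g u) (g u') = 0 := by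
    intro g hg u u' hu hu' h
    have h1 := hS0 g hg (u + u') (by simp [hu, hu', h, S.symm u' u])
    simp only [map_add, LinearMap.add_apply, hS0 g hg u hu, hS0 g hg u' hu', S.symm (g u') (g u), zero_add,
      add_zero] at h1
    exact (mul_eq_zero.mp (show (2 : K) * Φ (g u) (g u') = 0 by linear_combination h1)).resolve_left h2
  have horth : ∀ u u', Φ u u = 0 → Φ u' u' = 0 → Φ (g u) (g u') = 0 → Φ u u' = 0 := fun u u' hu hu' h => by
    have := horth1 g⁻¹ (G.inv_mem hg) _ _ (hS0 g hg u hu) (hS0 g hg u' hu') h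
    rwa [show g⁻¹ (g u) = u from g.symm_apply_apply u, show g⁻¹ (g u') = u' from g.symm_apply_apply u'] at this
  -- singular lines go to lines
  have hlines : ∀ u, Φ u u = 0 → ∀ k : K, g (k • u) ∈ K ∙ g u := by
    intro u hu k
    by_contra hn
    obtain ⟨z, hz, hne⟩ := S.exists_perp_ne hn
    have hku : Φ (k • u) (k • u) = 0 := by simp [hu]
    have hgu := hS0 g hg _ hku
    have hgg : Φ (g (k • u)) (g u) = 0 := horth1 g hg _ _ hku hu (by simp [hu])
    set z' := (Φ (g (k • u)) z)⁻¹ • z with hz'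
    have hz1 : Φ (g (k • u)) z' = 1 := by rw [hz', map_smul, smul_eq_mul, inv_mul_cancel₀ hne]
    set z'' := z' - (Φ z' z' / 2) • g (k • u) with hz''
    have hzz : Φ z'' z'' = 0 := by
      simp [hz'', hgu, hz1, S.symm z' (g (k • u))]
      field_simp
      ring
    have hzu : Φ z'' (g u) = 0 := by simp [hz'', hgg, hz', hz]
    have hzk : Φ (g (k • u)) z'' = 1 := by simp [hz'', hz1, hgu]
    have hw := hS0 g⁻¹ (G.inv_mem hg) _ hzz
    have h3 : Φ (g⁻¹ z'') u = 0 := horth _ _ hw hu (by
      rwa [show g (g⁻¹ z'') = z'' from g.apply_symm_apply z''])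
    have h4 := horth1 g hg _ _ hw hku (by rw [(Φ (g⁻¹ z'')).map_smul, h3, smul_zero])
    rw [show g (g⁻¹ z'') = z'' from g.apply_symm_apply z'', S.symm, hzk] at h4
    exact one_ne_zero h4
  let Acts : (K →ₐ[F] K) → V → Prop := fun τ u => ∀ k : K, g (k • u) = τ k • g u
  -- partners act by the same automorphism
  have hpair : ∀ u u', Φ u u = 0 → Φ u' u' = 0 → Φ u u' ≠ 0 → ∃ τ, Acts τ u ∧ Acts τ u' := by
    intro u u' hu hu' hne
    have hu0 : u ≠ 0 := fun e => hne (by rw [e, map_zero, LinearMap.zero_apply])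
    have hgu0 : g u ≠ 0 := g.map_ne_zero_iff.mpr hu0
    set w := (Φ u u')⁻¹ • u' with hw
    have hww : Φ w w = 0 := by simp [hw, hu']
    have huw : Φ u w = 1 := by rw [hw, map_smul, smul_eq_mul, inv_mul_cancel₀ hne]
    have hwu : Φ w u = 1 := by rw [S.symm, huw]
    have hd := S.finrank_perpPair u w
    obtain ⟨b, hb, hbb⟩ := S.exists_aniso_pos (S.nd_perpPair hu hww hwu) (by omega)
    obtain ⟨hbu, hbw⟩ := mem_perpPair.mp hb
    choose a ha using fun k => Submodule.mem_span_singleton.mp (hlines u hu k)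
    set w₀ := (Φ b b / 2) • w with hw₀
    have hsame : ∀ t : K, t ≠ 0 → ∀ k : K, g (k • (t * t) • w₀) = a k • g ((t * t) • w₀) := by
      intro t ht k
      set z := (t * t) • w₀ with hz
      have hzz : Φ z z = 0 := by simp [hz, hw₀, hww]
      have huz : Φ u z ≠ 0 := by
        simp [hz, hw₀, huw, ht, hbb, h2]
      have hs : ∀ e : K, e * e = t * t → Φ (u + e • b - z) (u + e • b - z) = 0 ∧
          Φ (u + e • b - z) u ≠ 0 ∧ Φ (u + e • b - z) z ≠ 0 := by
        intro e he
        have hzu : Φ z u = Φ u z := S.symm z u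
        have hzb : Φ z b = 0 := by simp [hz, hw₀, S.symm w b, hbw]
        have hbz : Φ b z = 0 := by rw [S.symm, hzb]
        refine ⟨?_, ?_, ?_⟩ <;>
          simp only [map_add, map_sub, map_smul, LinearMap.add_apply, LinearMap.sub_apply, LinearMap.smul_apply,
            smul_eq_mul, hu, hbu, S.symm u b, hzz, hzu, hzb, hbz, mul_zero, add_zero, zero_add, sub_zero, zero_sub]
        · simp only [hz, hw₀, map_smul, smul_eq_mul, huw, mul_one]
          rw [← mul_assoc, he]
          field_simp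
          ring
        · exact neg_ne_zero.mpr huz
        · exact huz
      obtain ⟨hp, hpu, hpz⟩ := hs t rfl
      obtain ⟨hm, -, -⟩ := hs (-t) (by ring)
      obtain ⟨α, hα⟩ := Submodule.mem_span_singleton.mp (hlines _ hp k)
      obtain ⟨β, hβ⟩ := Submodule.mem_span_singleton.mp (hlines _ hm k)
      obtain ⟨γ, hγ⟩ := Submodule.mem_span_singleton.mp (hlines _ hzz k)
      have e0 : g (u + t • b - z) + g (u + (-t) • b - z) = g u + g u - g z - g z := by
        rw [← map_add, ← map_add g u, ← map_sub, ← map_sub]; congr 1; module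
      have e1 : g (k • (u + t • b - z)) + g (k • (u + (-t) • b - z)) =
          g (k • u) + g (k • u) - g (k • z) - g (k • z) := by
        rw [← map_add, ← map_add g (k • u), ← map_sub, ← map_sub]; congr 1; module
      rw [← hα, ← hβ, ← hγ, ← ha] at e1
      have e2 : (α - β) • g (u + t • b - z) = (a k - β + (a k - β)) • g u - (γ - β + (γ - β)) • g z := by
        linear_combination (norm := module) e1 - β • e0
      have hgg : Φ (g u) (g z) ≠ 0 := fun h => huz (horth _ _ hu hzz h)
      have hab : α = β := by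
        by_contra hne'
        have hq : g (u + t • b - z) ∈ Submodule.span K {g u, g z} := by
          rw [← inv_smul_smul₀ (sub_ne_zero.mpr hne') (g (u + t • b - z)), e2]
          exact Submodule.smul_mem _ _ (Submodule.sub_mem _
            (Submodule.smul_mem _ _ (Submodule.subset_span (by simp)))
            (Submodule.smul_mem _ _ (Submodule.subset_span (by simp))))
        obtain ⟨p, q, hpq⟩ := Submodule.mem_span_pair.mp hq
        have hsing := hS0 g hg _ hp
        rw [← hpq] at hsing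
        simp only [map_add, map_smul, LinearMap.add_apply, LinearMap.smul_apply, smul_eq_mul, hS0 g hg u hu,
          hS0 g hg z hzz, S.symm (g z) (g u), mul_zero, zero_add, add_zero] at hsing
        have hpq0 : (2 : K) * (p * q) * Φ (g u) (g z) = 0 := by linear_combination hsing
        rcases mul_eq_zero.mp hpq0 with h | h
        swap; · exact hgg h
        rcases mul_eq_zero.mp ((mul_eq_zero.mp h).resolve_left h2) with rfl | rfl
        · refine hpz (horth _ _ hp hzz ?_)
          rw [← hpq]; simp [hS0 g hg z hzz]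
        · refine hpu (horth _ _ hp hu ?_)
          rw [← hpq]; simp [hS0 g hg u hu]
      rw [hab, sub_self, zero_smul] at e2
      have h5 := congrArg (fun y => Φ y (g u)) e2
      simp only [map_sub, map_smul, map_zero, LinearMap.zero_apply, LinearMap.sub_apply, LinearMap.smul_apply,
        smul_eq_mul, hS0 g hg u hu, S.symm (g z) (g u), mul_zero, zero_sub] at h5
      have h6 := congrArg (fun y => Φ y (g z)) e2
      simp only [map_sub, map_smul, map_zero, LinearMap.zero_apply, LinearMap.sub_apply, LinearMap.smul_apply,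
        smul_eq_mul, hS0 g hg z hzz, mul_zero, sub_zero] at h6
      have h7 : (2 : K) * (γ - β) = 0 := (mul_eq_zero.mp (show (2 : K) * (γ - β) * Φ (g u) (g z) = 0 by
        linear_combination h5)).resolve_right hgg
      have h8 : (2 : K) * (a k - β) = 0 := (mul_eq_zero.mp (show (2 : K) * (a k - β) * Φ (g u) (g z) = 0 by
        linear_combination -h6)).resolve_right hgg
      rw [← hγ]
      congr 1
      linear_combination (mul_eq_zero.mp h7).resolve_left h2 - (mul_eq_zero.mp h8).resolve_left h2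
    have hw₀0 : w₀ ≠ 0 := by
      intro e
      have := congrArg (Φ u) e
      simp [hw₀, huw, hbb, h2] at this
    have hgw₀ : g w₀ ≠ 0 := g.map_ne_zero_iff.mpr hw₀0
    have hw₀' : ∀ k : K, g (k • w₀) = a k • g w₀ := fun k => by simpa using hsame 1 one_ne_zero k
    have hsq : ∀ k t : K, a (k * (t * t)) = a k * a (t * t) := by
      intro k t
      rcases eq_or_ne t 0 with rfl | ht
      · have h0 : a 0 = 0 := smul_left_injective K hgu0 (by
          show a 0 • g u = (0 : K) • g u
          rw [ha, zero_smul, map_zero, zero_smul])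
        simp [h0]
      refine smul_left_injective K hgw₀ ?_
      show a (k * (t * t)) • g w₀ = (a k * a (t * t)) • g w₀
      rw [← hw₀', mul_smul, hsame t ht, hw₀', smul_smul]
    have hadd : ∀ k k', a (k + k') = a k + a k' := fun k k' => smul_left_injective K hgu0 (by
      show a (k + k') • g u = (a k + a k') • g u
      rw [add_smul (a k), ha, ha, ha, add_smul, map_add])
    have hmul : ∀ k k', a (k * k') = a k * a k' := fun k k' => by
      obtain ⟨s, t, rfl⟩ := exists_sq_add_sq k'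
      rw [mul_add, hadd, hsq, hsq, hadd, mul_add]
    let τ : K →ₐ[F] K := AlgHom.ofLinearMap
      { toFun := a
        map_add' := hadd
        map_smul' := fun t x => smul_left_injective K hgu0 (by
          show a (t • x) • g u = (t • a x) • g u
          rw [smul_assoc, ha, ha, smul_assoc, map_smul]) }
      (smul_left_injective K hgu0 (show a 1 • g u = (1 : K) • g u by rw [ha, one_smul, one_smul])) hmul
    refine ⟨τ, fun k => (ha k).symm, fun k => ?_⟩
    obtain ⟨s, hs⟩ : ∃ s : K, u' = s • w₀ := ⟨Φ u u' * (2 / Φ b b), by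
      rw [hw₀, hw, smul_smul, smul_smul]
      rw [show Φ u u' * (2 / Φ b b) * (Φ b b / 2) * (Φ u u')⁻¹ = 1 by field_simp, one_smul]⟩
    rw [hs, smul_smul, hw₀', hw₀' s, smul_smul]
    show a (k * s) • g w₀ = (a k * a s) • g w₀
    rw [hmul]
  -- one automorphism for all singular vectors
  obtain ⟨v, -, hv0, hvv⟩ := S.exists_singular (W := (⊤ : Submodule K V)) (fun y _ hy0 => by
    by_contra h
    push Not at h
    exact hy0 (S.nondeg y fun z => by rw [S.symm]; exact h z trivial)) (by rw [finrank_top]; omega)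
  obtain ⟨w₁, hww₁, hwv₁, hvw₁⟩ := S.exists_partner hv0 hvv
  obtain ⟨τ, hτv, hτw₁⟩ := hpair v w₁ hvv hww₁ (by rw [hvw₁]; exact one_ne_zero)
  have huniq : ∀ u τ', u ≠ 0 → Acts τ' u → Acts τ u → τ' = τ := fun u τ' hu h h' =>
    AlgHom.ext fun k => smul_left_injective K (g.map_ne_zero_iff.mpr hu) ((h k).symm.trans (h' k))
  have hnorth : ∀ u u', Φ u u = 0 → Φ u' u' = 0 → Φ u u' ≠ 0 → Acts τ u → Acts τ u' := by
    intro u u' hu hu' hne h
    obtain ⟨τ', h1, h2⟩ := hpair u u' hu hu' hne
    rwa [huniq u τ' (fun e => hne (by rw [e, map_zero, LinearMap.zero_apply])) h1 h] at h2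
  have hall : ∀ u, Φ u u = 0 → Acts τ u := by
    intro u hu
    rcases eq_or_ne u 0 with rfl | hu0
    · intro k; simp
    by_cases h1 : Φ v u = 0
    swap; · exact hnorth v u hvv hu h1 hτv
    by_cases h3 : Φ w₁ u = 0
    swap; · exact hnorth w₁ u hww₁ hu h3 hτw₁
    have huW : u ∈ perpPair Φ v w₁ := mem_perpPair.mpr ⟨by rw [S.symm, h1], by rw [S.symm, h3]⟩
    obtain ⟨b, hb, hub⟩ := S.nd_perpPair hvv hww₁ hwv₁ u huW hu0
    obtain ⟨hbv, hbw⟩ := mem_perpPair.mp hb
    set w := w₁ + b - (Φ b b / 2) • v with hw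
    have hww : Φ w w = 0 := by
      simp only [hw, map_add, map_sub, map_smul, LinearMap.add_apply, LinearMap.sub_apply, LinearMap.smul_apply,
        smul_eq_mul, hvv, hww₁, hwv₁, hvw₁, hbv, hbw, S.symm v b, S.symm w₁ b]
      field_simp
      ring
    have hvw : Φ v w = 1 := by simp [hw, hvw₁, hvv, S.symm v b, hbv]
    refine hnorth w u hww hu ?_ (hnorth v w hvv hww (by rw [hvw]; exact one_ne_zero) hτv)
    rw [S.symm, hw, map_sub, map_add, map_smul, S.symm u w₁, h3, S.symm u v, h1, smul_zero, sub_zero, zero_add]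
    exact hub
  let M : Submodule K V :=
    { carrier := {y | Acts τ y}
      add_mem' := fun {y y'} h h' k => by rw [smul_add, map_add, h, h', map_add, smul_add]
      zero_mem' := fun k => by simp
      smul_mem' := fun c y h k => by rw [smul_smul, h, h, smul_smul, map_mul] }
  refine ⟨τ, fun k y => (?_ : y ∈ M) k⟩
  have hsingM : ∀ u, Φ u u = 0 → u ∈ M := hall
  have hbM : y - Φ y w₁ • v - Φ y v • w₁ ∈ M := by
    set b := y - Φ y w₁ • v - Φ y v • w₁ with hb
    obtain ⟨hbv, hbw⟩ := mem_perpPair.mp (show b ∈ perpPair Φ v w₁ from S.sub_mem_perpPair hvv hww₁ hwv₁ y)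
    have hq : ∀ e : K, e * e = 1 → Φ (v + e • b - (Φ b b / 2) • w₁) (v + e • b - (Φ b b / 2) • w₁) = 0 := by
      intro e he
      simp only [map_add, map_sub, map_smul, LinearMap.add_apply, LinearMap.sub_apply, LinearMap.smul_apply,
        smul_eq_mul, hvv, hww₁, hwv₁, hvw₁, hbv, hbw, S.symm v b, S.symm w₁ b]
      simp only [mul_zero, add_zero, zero_add, sub_zero]
      rw [← mul_assoc, he]
      field_simp
      ring
    have h3 := M.sub_mem (hsingM _ (hq 1 (one_mul 1))) (hsingM _ (hq (-1) (by ring)))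
    rw [show v + (1 : K) • b - (Φ b b / 2) • w₁ - (v + (-1 : K) • b - (Φ b b / 2) • w₁) = (2 : K) • b by module] at h3
    simpa [h2] using M.smul_mem (2 : K)⁻¹ h3
  rw [show y = (y - Φ y w₁ • v - Φ y v • w₁) + Φ y w₁ • v + Φ y v • w₁ by abel]
  exact M.add_mem (M.add_mem hbM (M.smul_mem _ (hsingM v hvv))) (M.smul_mem _ (hsingM w₁ hww₁))

/-- The dichotomy. -/
theorem dichotomy (hfour : 4 ≤ finrank K V) : (∀ g ∈ G, Semilin K g) ∨ ∀ u, u ≠ 0 → Φ u u = 0 → HasLong Φ G u := by
  by_cases hS0 : ∀ g ∈ G, ∀ u, Φ u u = 0 → Φ (g u) (g u) = 0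
  · exact Or.inl fun g hg => S.semilin_of_singular hS0 hg
  push Not at hS0
  obtain ⟨g, hg, u, hu, hd⟩ := hS0
  have hu0 : u ≠ 0 := fun e => hd (by rw [e, map_zero, map_zero])
  exact Or.inr fun u' hu' hu'' => S.hasLong_all hu0 hu (S.hasLong_of_aniso hfour hu0 hu hg hd) hu' hu''

end OrthOver

end Cfsg.Agent.Lib.ThreeTransp.ExtField
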