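import Cfsg.Agent.Lib.ThreeTransp.ExtOrthRot

/-!
In dimension three, an element taking a singular vector to an anisotropic one gives all skew root elements: the
stabiliser of the vector has a transfer to the field, and a rotation of prime order in it has a small normaliser.
-/

set_option autoImplicit false

namespace Cfsg.Agent.Lib.ThreeTransp.ExtField

open Module
open Cfsg.Agent.Lib.ThreeTransp.ExtSym (adj)

variable {F K V : Type*} [Field F] [Field K] [Algebra F K] [AddCommGroup V] [Module F V] [Module K V]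
  [IsScalarTower F K V]
variable {Φ : V →ₗ[K] V →ₗ[K] K} {G : Subgroup (V ≃ₗ[F] V)} {v : V}
variable [Finite F] [FiniteDimensional F K] [FiniteDimensional K V]

namespace OrthOver

variable (S : OrthOver Φ G)
include S

/-- A frame at a singular vector whose middle vector has norm in the small field. -/
theorem exists_frame (h3 : finrank K V = 3) (h5 : 5 ≤ finrank F K) (hv : v ≠ 0) (hvv : Φ v v = 0) :
    ∃ (w b₀ : V) (e : F), Φ w w = 0 ∧ Φ w v = 1 ∧ Φ v w = 1 ∧ Φ b₀ v = 0 ∧ Φ b₀ w = 0 ∧ e ≠ 0 ∧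
      Φ b₀ b₀ = algebraMap F K e ∧
      ∀ z, z = Φ z w • v + (Φ z b₀ / algebraMap F K e) • b₀ + Φ z v • w := by
  haveI : Finite K := Module.finite_of_finite F
  haveI := Fintype.ofFinite K
  haveI := Fintype.ofFinite F
  obtain ⟨w, hww, hwv, hvw⟩ := S.exists_partner hv hvv
  have hd := S.finrank_perpPair v w
  obtain ⟨a, ha, haa⟩ := S.exists_aniso_pos (S.nd_perpPair hvv hww hwv) (by omega)
  obtain ⟨hav, haw⟩ := mem_perpPair.mp ha
  -- scale the norm into `F`
  set q := Fintype.card F with hq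
  set N := ∑ i ∈ Finset.range (finrank F K), q ^ i with hN
  have hqodd : Odd q := by
    refine Nat.odd_iff.mpr (FiniteField.odd_card_of_char_ne_two fun h => S.two ?_)
    have : ((2 : ℕ) : F) = 0 := by rw [← h, ringChar.Nat.cast_ringChar]
    exact_mod_cast this
  obtain ⟨n, hn⟩ : Odd N := by
    rw [hN, Finset.odd_sum_iff_odd_card_odd, Finset.filter_true_of_mem fun i _ => hqodd.pow, Finset.card_range]
    exact S.prime.odd_of_ne_two (by omega)
  have hNe : Φ a a * (Φ a a ^ n * Φ a a ^ n) = Φ a a ^ N := by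
    rw [← pow_add, ← pow_succ', hn]; congr 1; ring
  obtain ⟨e, he⟩ := mem_range_of_pow_card (K := F) (x := Φ a a ^ N) (by
    rw [← pow_mul]
    have h1 : N * Fintype.card F + 1 = N + Fintype.card K := by
      rw [Module.card_eq_pow_finrank (K := F) (V := K), hN, ← hq, Finset.sum_mul,
        Finset.sum_congr rfl fun i (_ : i ∈ Finset.range (finrank F K)) => (pow_succ q i).symm,
        ← Finset.sum_range_succ (fun i => q ^ i), Finset.sum_range_succ']
      simp
    refine mul_right_cancel₀ haa ?_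
    rw [← pow_succ, h1, pow_add, FiniteField.pow_card])
  set b₀ := Φ a a ^ n • a with hb₀
  have hbb : Φ b₀ b₀ = algebraMap F K e := by
    rw [he, ← hNe, hb₀]
    simp only [map_smul, LinearMap.smul_apply, smul_eq_mul]
    ring
  have he0 : e ≠ 0 := fun e0 => by
    rw [e0, map_zero] at he
    exact pow_ne_zero N haa he.symm
  have heK : algebraMap F K e ≠ 0 := (_root_.map_ne_zero _).mpr he0
  have hb₀v : Φ b₀ v = 0 := by simp [hb₀, hav]
  have hb₀w : Φ b₀ w = 0 := by simp [hb₀, haw]
  have hvb : Φ v b₀ = 0 := by rw [S.symm, hb₀v]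
  have hwb : Φ w b₀ = 0 := by rw [S.symm, hb₀w]
  refine ⟨w, b₀, e, hww, hwv, hvw, hb₀v, hb₀w, he0, hbb, fun z => ?_⟩
  have hli : LinearIndependent K ![v, b₀, w] := by
    rw [Fintype.linearIndependent_iff]
    intro g hg
    simp only [Fin.sum_univ_three, Matrix.cons_val_zero, Matrix.cons_val_one, Matrix.cons_val] at hg
    have e0 := congrArg (fun v => Φ v w) hg
    have e1 := congrArg (fun v => Φ v b₀) hg
    have e2 := congrArg (fun u => Φ u v) hg
    simp [hvw, hb₀w, hww] at e0
    simp [hvb, hbb, hwb, heK, he0] at e1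
    simp [hvv, hb₀v, hwv] at e2
    intro i
    fin_cases i
    · exact e0
    · exact e1
    · exact e2
  have htop := hli.span_eq_top_of_card_eq_finrank (by rw [Fintype.card_fin, h3])
  have hz : z ∈ Submodule.span K (Set.range ![v, b₀, w]) := htop ▸ Submodule.mem_top
  obtain ⟨g, hg⟩ := (Submodule.mem_span_range_iff_exists_fun K).mp hz
  simp only [Fin.sum_univ_three, Matrix.cons_val_zero, Matrix.cons_val_one, Matrix.cons_val] at hg
  rw [← hg]
  simp [hvv, hvw, hwv, hww, hb₀v, hb₀w, hvb, hwb, hbb, heK, he0]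

/-- The fixed vectors of a non-trivial Siegel map. -/
theorem siegel_fixed (h3 : finrank K V = 3) (h5 : 5 ≤ finrank F K) (hv : v ≠ 0) (hvv : Φ v v = 0) {b : V}
    (hbv : Φ b v = 0) (hb : b ∉ K ∙ v) {z : V} (hz : siegel Φ v b z = z) : z ∈ K ∙ v := by
  obtain ⟨w, b₀, e, hww, hwv, hvw, hb₀v, hb₀w, he0, hbb, hco⟩ := S.exists_frame h3 h5 hv hvv
  have hzv : Φ z v = 0 := by
    by_contra hne
    rw [siegel_apply, add_sub_assoc, add_eq_left, sub_eq_zero] at hz
    refine hb (Submodule.mem_span_singleton.mpr ⟨(Φ z v)⁻¹ * (Φ z b + Φ b b / 2 * Φ z v), ?_⟩)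
    rw [mul_smul, ← hz, inv_smul_smul₀ hne]
  rw [siegel_apply, hzv, zero_smul, mul_zero, add_zero, add_zero, sub_eq_self, smul_eq_zero] at hz
  have hzb : Φ z b = 0 := hz.resolve_right hv
  rw [hco z, hzv, zero_smul, add_zero]
  have h1 : Φ b b₀ ≠ 0 := fun h => hb (by
    rw [hco b, hbv, h, zero_smul, zero_div, zero_smul, add_zero, add_zero]
    exact Submodule.smul_mem _ _ (Submodule.mem_span_singleton_self v))
  have h2 : Φ z b₀ = 0 := by
    rw [hco b, hbv, zero_smul, add_zero, map_add, map_smul, map_smul, hzv, smul_zero, zero_add, smul_eq_mul,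
      mul_eq_zero, div_eq_zero_iff] at hzb
    exact hzb.resolve_left fun h => h.elim h1 ((_root_.map_ne_zero _).mpr he0)
  rw [h2, zero_div, zero_smul, add_zero]
  exact Submodule.smul_mem _ _ (Submodule.mem_span_singleton_self v)

omit [Finite F] [FiniteDimensional F K] [FiniteDimensional K V] in
theorem siegel_cube (hvv : Φ v v = 0) {b : V} (hbv : Φ b v = 0) (z : V) :
    siegel Φ v b (siegel Φ v b (siegel Φ v b z)) - (3 : K) • siegel Φ v b (siegel Φ v b z) +
      (3 : K) • siegel Φ v b z - z = 0 := by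
  have h2 := S.twoK
  rw [S.siegel_comp hvv hbv hbv, S.siegel_comp hvv hbv (by simp [hbv])]
  simp only [siegel_apply, map_add, map_sub, map_smul, LinearMap.add_apply, LinearMap.sub_apply,
    LinearMap.smul_apply, smul_eq_mul, hvv, hbv, S.symm v b]
  match_scalars <;> field_simp <;> ring

omit [FiniteDimensional K V] in
/-- Conjugates of Siegel maps act trivially on fixed lines. -/
theorem line_of_conj (hv : v ≠ 0) (hvv : Φ v v = 0) (h5 : 5 ≤ finrank F K) {b : V} (hbv : Φ b v = 0) {u : V}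
    (hu : u ≠ 0) {g k : V ≃ₗ[F] V} (hgk : ∀ z, k (g z) = siegel Φ v b (k z)) {θ : K ≃ₐ[F] K}
    (hθ : ∀ c : K, g (c • u) = θ c • u) : θ = 1 := by
  refine auto_eq_id_of_cube S.prime h5 (y₀ := u) (y₁ := u) (y₂ := u) (y₃ := u) (fun c => k.injective ?_) hu
  have hk3 : ∀ y : V, k ((3 : K) • y) = (3 : K) • k y := fun y => by
    rw [show (3 : K) = algebraMap F K 3 from (map_ofNat _ 3).symm, algebraMap_smul, map_smul, algebraMap_smul]
  rw [← hθ, ← hθ, ← hθ, map_zero, map_sub, map_add, map_sub, hk3, hk3, hgk, hgk, hgk]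
  exact S.siegel_cube hvv hbv _

variable [FiniteDimensional F V]

/-- Without root elements, an element fixing a singular line pointwise is a Siegel map. -/
theorem siegel_of_fix (h3 : finrank K V = 3) (h5 : 5 ≤ finrank F K) (hdet : ∀ g ∈ G, LinearMap.det g.toLinearMap = 1)
    (hv : v ≠ 0) (hvv : Φ v v = 0) (hW : ∀ l ∈ rootSet Φ G v, l = 0) {g : V ≃ₗ[F] V} (hg : g ∈ G)
    (hfix : ∀ c : K, g (c • v) = c • v) : ∃ b, Φ b v = 0 ∧ ∀ z, g z = siegel Φ v b z := by
  haveI : Finite K := Module.finite_of_finite F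
  obtain ⟨w, b₀, e, hww, hwv, hvw, hb₀v, hb₀w, he0, hbb, hco⟩ := S.exists_frame h3 h5 hv hvv
  have h2 := S.twoK
  have heK : algebraMap F K e ≠ 0 := (_root_.map_ne_zero _).mpr he0
  have hvb : Φ v b₀ = 0 := by rw [S.symm, hb₀v]
  have hval : ∀ z, Φ (g z) v = Φ z v := S.value_fix hg hfix
  set ε := Φ (g b₀) b₀ / algebraMap F K e with hε
  have hgb : g b₀ = ε • b₀ + Φ (g b₀) w • v := by
    conv_lhs => rw [hco (g b₀), hval, hb₀v, zero_smul, add_zero]
    rw [add_comm]
  have hεsq : ε * ε = 1 := by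
    have key : ∀ a : K, Algebra.trace F K (a * a * ((ε * ε - 1) * algebraMap F K e)) = 0 := fun a => by
      have h := S.isom g hg (a • b₀) (a • b₀)
      rw [S.perp_linear hv hvv hW hg hfix hb₀v, hgb] at h
      simp only [map_add, map_smul, LinearMap.add_apply, LinearMap.smul_apply, smul_eq_mul, hbb, hb₀v, hvb, hvv,
        mul_zero, add_zero] at h
      rw [show a * a * ((ε * ε - 1) * algebraMap F K e) =
        a * (ε * (a * (ε * algebraMap F K e))) - a * (a * algebraMap F K e) by ring, map_sub]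
      rw [h, sub_self]
    have h0 : (ε * ε - 1) * algebraMap F K e = 0 := eq_of_trace (F := F) fun d => by
      obtain ⟨s, t, rfl⟩ := exists_sq_add_sq d
      rw [add_mul, map_add, key, key, add_zero, mul_zero, map_zero]
    exact sub_eq_zero.mp ((mul_eq_zero.mp h0).resolve_right heK)
  have hε1 : ε = 1 := by
    rcases mul_self_eq_one_iff.mp hεsq with h | h
    · exact h
    exfalso
    obtain ⟨p, hchar⟩ := CharP.exists F
    haveI := hchar
    haveI hpf : Fact p.Prime := ⟨CharP.char_is_prime F p⟩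
    -- the reflection in `b₀`
    obtain ⟨ρ, hρ, -⟩ := S.exists_isom (LinearMap.id - (2 / algebraMap F K e) • (Φ.flip b₀).smulRight b₀) fun x y => by
      simp only [LinearMap.sub_apply, LinearMap.id_apply, LinearMap.smul_apply, LinearMap.smulRight_apply,
        LinearMap.flip_apply, map_sub, map_smul, smul_eq_mul, hbb, S.symm b₀ y]
      field_simp
      ring
    have hρv : ρ v = v := by simp [hρ, hvb]
    have hρw : ρ w = w := by simp [hρ, S.symm w b₀, hb₀w]
    have hρb : ρ b₀ = -b₀ := by simp [hρ, hbb, heK]; match_scalars; field_simp; ring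
    have hρdet : LinearMap.det ρ.toLinearMap = -1 := by
      have hli : LinearIndependent K ![v, b₀, w] := by
        rw [Fintype.linearIndependent_iff]
        intro c hc
        simp only [Fin.sum_univ_three, Matrix.cons_val_zero, Matrix.cons_val_one, Matrix.cons_val] at hc
        have e0 := congrArg (fun v => Φ v w) hc
        have e1 := congrArg (fun v => Φ v b₀) hc
        have e2 := congrArg (fun u => Φ u v) hc
        simp [hvw, hb₀w, hww] at e0
        simp [hvb, hbb, S.symm w b₀, hb₀w, heK, he0] at e1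
        simp [hvv, hb₀v, hwv] at e2
        intro i
        fin_cases i
        · exact e0
        · exact e1
        · exact e2
      let B := basisOfLinearIndependentOfCardEqFinrank hli (by rw [Fintype.card_fin, h3])
      have hB : (⇑B : Fin 3 → V) = ![v, b₀, w] := coe_basisOfLinearIndependentOfCardEqFinrank hli _
      rw [← LinearMap.det_toMatrix B, show LinearMap.toMatrix B B ρ.toLinearMap = Matrix.diagonal ![1, -1, 1] by
        ext i j
        rw [LinearMap.toMatrix_apply]
        have hj : ρ.toLinearMap (B j) = (![1, -1, 1] : Fin 3 → K) j • B j := by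
          rw [hB]
          fin_cases j <;> simp [hρv, hρw, hρb]
        rw [hj, map_smul, Finsupp.smul_apply, B.repr_self, Finsupp.single_apply, Matrix.diagonal_apply]
        by_cases hij : i = j
        · subst hij; simp
        · simp [hij, Ne.symm hij], Matrix.det_diagonal, Fin.prod_univ_three]
      simp
    set f : V ≃ₗ[F] V := g * ρ.restrictScalars F with hf
    have hf1 : ∀ c : K, f (c • v) = c • v := fun c => by
      show g (ρ (c • v)) = _
      rw [map_smul, hρv, hfix]
    have hf2 : ∀ z, Φ (f z) v = Φ z v := fun z => by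
      show Φ (g (ρ z)) v = _
      rw [hval, hρ]
      simp [hb₀v]
    have hf3 : ∀ z, Φ z v = 0 → f z - z ∈ K ∙ v := fun z hz => by
      show g (ρ z) - z ∈ _
      rw [hco z, hz, zero_smul, add_zero, map_add, map_add, ρ.map_smul, ρ.map_smul, hρv, hρb, hfix,
        S.perp_linear hv hvv hW hg hfix (by simp [hb₀v]), map_neg, hgb, h]
      rw [Submodule.mem_span_singleton]
      exact ⟨-(Φ z b₀ / algebraMap F K e * Φ (g b₀) w), by module⟩
    let E : Module.End F V := f.toLinearMap - 1
    have hE3 : E ^ 3 = 0 := LinearMap.ext fun z => by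
      show E (E (E z)) = 0
      have e1 : Φ (E z) v = 0 := by
        show Φ (f z - z) v = 0
        rw [map_sub, LinearMap.sub_apply, hf2, sub_self]
      obtain ⟨c, hc⟩ := Submodule.mem_span_singleton.mp (hf3 _ e1)
      show E (f (E z) - E z) = 0
      rw [← hc]
      show f (c • v) - c • v = 0
      rw [hf1, sub_self]
    haveI : CharP (Module.End F V) p := by
      haveI : Nontrivial V := ⟨⟨v, 0, hv⟩⟩
      exact charP_of_injective_algebraMap (algebraMap F (Module.End F V)).injective p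
    have hfp : LinearMap.det f.toLinearMap = 1 := by
      have h3p : 3 ≤ p := by
        rcases hpf.out.eq_two_or_odd' with rfl | h'
        · exact absurd (by exact_mod_cast CharP.cast_eq_zero F 2) S.two
        · rcases h' with ⟨k, rfl⟩
          have := hpf.out.two_le
          omega
      have e1 : (f.toLinearMap : Module.End F V) ^ p = 1 := by
        have e2 : E ^ p = 0 := by rw [← Nat.sub_add_cancel h3p, pow_add, hE3, mul_zero]
        rw [sub_pow_char_of_commute p (Commute.one_right _), one_pow, sub_eq_zero] at e2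
        exact e2
      have e3 := congrArg LinearMap.det e1
      rw [map_pow, map_one] at e3
      exact frobenius_inj F p (by rw [frobenius_def, frobenius_def, e3, one_pow])
    rw [hf, show (g * ρ.restrictScalars F).toLinearMap = g.toLinearMap * ρ.toLinearMap.restrictScalars F from rfl,
      map_mul, hdet g hg, one_mul, LinearMap.det_restrictScalars, hρdet,
      show (-1 : K) = algebraMap F K (-1) by rw [map_neg, map_one], Algebra.norm_algebraMap,
      (S.prime.odd_of_ne_two (by omega)).neg_one_pow] at hfp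
    exact S.two (by linear_combination -hfp)
  refine S.exists_siegel_eq hv hvv hW hg hfix fun z hz => ?_
  have hz' : z = Φ z w • v + (Φ z b₀ / algebraMap F K e) • b₀ := by
    have := hco z
    rwa [hz, zero_smul, add_zero] at this
  generalize Φ z w = α, Φ z b₀ / algebraMap F K e = β at hz'
  subst hz'
  rw [map_add, hfix, S.perp_linear hv hvv hW hg hfix hb₀v, hgb, hε1, Submodule.mem_span_singleton]
  exact ⟨β * Φ (g b₀) w, by module⟩

/-- Without root elements, the stabiliser of a line moves the middle vector of a frame inside its coset. -/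
theorem line_middle (h3 : finrank K V = 3) (h5 : 5 ≤ finrank F K) (hdet : ∀ g ∈ G, LinearMap.det g.toLinearMap = 1)
    (hv : v ≠ 0) (hvv : Φ v v = 0) (hW : ∀ l ∈ rootSet Φ G v, l = 0) {g : V ≃ₗ[F] V} (hg : g ∈ G)
    {θ : K ≃ₐ[F] K} (hθ : ∀ c : K, g (c • v) = θ c • v) {w b₀ : V} {e : F} (hwv : Φ w v = 1) (hb₀v : Φ b₀ v = 0)
    (hb₀w : Φ b₀ w = 0) (he0 : e ≠ 0) (hbb : Φ b₀ b₀ = algebraMap F K e)
    (hco : ∀ z, z = Φ z w • v + (Φ z b₀ / algebraMap F K e) • b₀ + Φ z v • w) :
    g b₀ = b₀ + Φ (g b₀) w • v := by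
  haveI : Finite K := Module.finite_of_finite F
  have heK : algebraMap F K e ≠ 0 := (_root_.map_ne_zero _).mpr he0
  have hvb : Φ v b₀ = 0 := by rw [S.symm, hb₀v]
  have hperp : ∀ a : K, Φ (g (a • b₀)) v = 0 := fun a =>
    S.perp_image hg (α := θ.toLinearEquiv) hθ (by simp [hb₀v])
  let π : K → K := fun a => Φ (g (a • b₀)) b₀ / algebraMap F K e
  have hπ : ∀ a, g (a • b₀) = π a • b₀ + Φ (g (a • b₀)) w • v := fun a => by
    conv_lhs => rw [hco (g (a • b₀)), hperp, zero_smul, add_zero]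
    rw [add_comm]
  obtain ⟨b', hb'v, hb'⟩ := S.conj_siegel hv hvv hW hg (α := θ.toLinearEquiv) hθ (b := b₀) hb₀v
  have hfun : ∀ a : K, θ a * algebraMap F K e = π a * Φ b' b₀ := fun a => by
    have h1 := hb' (a • b₀)
    rw [siegel_apply, siegel_apply, hperp] at h1
    simp only [map_smul, LinearMap.smul_apply, hb₀v, smul_zero, zero_smul, mul_zero, add_zero, smul_eq_mul, hbb,
      map_sub, hθ, sub_right_inj] at h1
    have h2 := smul_left_injective K hv h1
    rw [map_mul, AlgEquiv.commutes, hπ, map_add, map_smul, map_smul, LinearMap.add_apply, LinearMap.smul_apply,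
      LinearMap.smul_apply, S.symm v b', hb'v, smul_zero, add_zero, S.symm b₀ b', smul_eq_mul] at h2
    exact h2
  have hlin : ∀ a, π a = θ a * π 1 := fun a => by
    have h1 := hfun 1
    rw [map_one, one_mul] at h1
    have hne : Φ b' b₀ ≠ 0 := fun h => heK (by rw [h1, h, mul_zero])
    refine mul_right_cancel₀ hne ?_
    rw [mul_assoc, ← h1, hfun]
  have hsq : π 1 * π 1 = 1 := by
    have key : ∀ a : K, Algebra.trace F K (θ a * θ a * ((π 1 * π 1 - 1) * algebraMap F K e)) = 0 := fun a => by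
      have h := S.isom g hg (a • b₀) (a • b₀)
      rw [hπ, hlin] at h
      simp only [map_add, map_smul, LinearMap.add_apply, LinearMap.smul_apply, smul_eq_mul, hbb, hb₀v, hvb, hvv,
        mul_zero, add_zero] at h
      rw [← Algebra.trace_eq_of_algEquiv θ (a * (a * algebraMap F K e)),
        show θ (a * (a * algebraMap F K e)) = θ a * (θ a * algebraMap F K e) by simp] at h
      rw [show θ a * θ a * ((π 1 * π 1 - 1) * algebraMap F K e) = θ a * π 1 * (θ a * π 1 * algebraMap F K e) -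
        θ a * (θ a * algebraMap F K e) by ring, map_sub, h, sub_self]
    have h0 : (π 1 * π 1 - 1) * algebraMap F K e = 0 := eq_of_trace (F := F) fun d => by
      obtain ⟨s, t, rfl⟩ := exists_sq_add_sq d
      obtain ⟨s, rfl⟩ := θ.surjective s
      obtain ⟨t, rfl⟩ := θ.surjective t
      rw [add_mul, map_add, key, key, add_zero, mul_zero, map_zero]
    exact sub_eq_zero.mp ((mul_eq_zero.mp h0).resolve_right heK)
  suffices h1 : π 1 = 1 by
    simpa [h1] using hπ 1
  rcases mul_self_eq_one_iff.mp hsq with h1 | h1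
  · exact h1
  exfalso
  -- an odd power fixes the line
  have hgv : g v = v := by simpa using hθ 1
  have hpow : ∀ n : ℕ, (∀ c : K, (g ^ n) (c • v) = (θ ^ n) c • v) ∧
      Φ ((g ^ n) b₀) b₀ = (-1) ^ n * algebraMap F K e ∧ Φ ((g ^ n) b₀) v = 0 := fun n => by
    induction n with
    | zero => exact ⟨fun c => rfl, by simpa using hbb, hb₀v⟩
    | succ n ih =>
      obtain ⟨i1, i2, i3⟩ := ih
      have hd : (g ^ n) b₀ = ((-1 : K) ^ n) • b₀ + Φ ((g ^ n) b₀) w • v := by
        conv_lhs => rw [hco ((g ^ n) b₀), i2, i3, zero_smul, add_zero, mul_div_cancel_right₀ _ heK]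
        rw [add_comm]
      have hd' : (g ^ (n + 1)) b₀ = ((-1 : K) ^ (n + 1)) • b₀ +
          ((-1 : K) ^ n * Φ (g b₀) w + θ (Φ ((g ^ n) b₀) w)) • v := by
        rw [pow_succ', LinearEquiv.mul_apply]
        conv_lhs => rw [hd]
        have hs : ((-1 : K) ^ n) = algebraMap F K ((-1) ^ n) := by simp
        rw [map_add, hθ, hs, algebraMap_smul, map_smul, ← algebraMap_smul K ((-1 : F) ^ n), ← hs]
        have h2 := hπ 1
        rw [h1, one_smul] at h2
        conv_lhs => rw [h2]
        module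
      refine ⟨fun c => ?_, ?_, ?_⟩
      · rw [pow_succ', pow_succ', LinearEquiv.mul_apply, AlgEquiv.mul_apply, i1, hθ]
      · rw [hd']; simp [hbb, hvb]
      · rw [hd']; simp [hb₀v, hvv]
  obtain ⟨i1, i2, -⟩ := hpow (finrank F K)
  have hθr : θ ^ finrank F K = 1 := by
    rw [← IsGalois.card_aut_eq_finrank F K]
    exact pow_card_eq_one'
  obtain ⟨b, hbv, hbz⟩ := S.siegel_of_fix h3 h5 hdet hv hvv hW (G.pow_mem hg (finrank F K))
    (fun c => by rw [i1, hθr]; rfl)
  rw [hbz, siegel_apply, hb₀v, zero_smul, mul_zero, add_zero, add_zero, map_sub, map_smul, LinearMap.sub_apply,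
    LinearMap.smul_apply, hvb, smul_zero, sub_zero, hbb, (S.prime.odd_of_ne_two (by omega)).neg_one_pow] at i2
  exact S.twoK (mul_right_cancel₀ heK (by linear_combination i2))

/-- In dimension three, an element taking a singular vector to an anisotropic one gives all skew root elements. -/
theorem hasLong_of_aniso_three (h3 : finrank K V = 3) (h5 : 5 ≤ finrank F K)
    (hdet : ∀ g ∈ G, LinearMap.det g.toLinearMap = 1) (hv : v ≠ 0) (hvv : Φ v v = 0) {g : V ≃ₗ[F] V} (hg : g ∈ G)
    (hd : Φ (g v) (g v) ≠ 0) : HasLong Φ G v := by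
  classical
  by_contra hno
  haveI : Finite K := Module.finite_of_finite F
  haveI : Finite V := Module.finite_of_finite F
  haveI : Finite (V ≃ₗ[F] V) := DFunLike.finite _
  obtain ⟨p, hchar⟩ := CharP.exists F
  haveI := hchar
  haveI hpf : Fact p.Prime := ⟨CharP.char_is_prime F p⟩
  set x := g v with hx
  have hgix : g.symm x = v := g.symm_apply_apply v
  obtain ⟨s, ℓ, τ, lam, R, hsG, hτ, hℓr, hq0, hq⟩ := S.exists_rotation h3 h5 hd
  haveI := Fact.mk R.prime
  have hℓp : ℓ ≠ p := by
    rintro rfl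
    refine hq0 ((ZMod.natCast_eq_zero_iff _ _).mpr ?_)
    haveI := Fintype.ofFinite F
    obtain ⟨n, -, hn⟩ := FiniteField.card F ℓ
    rw [Nat.card_eq_fintype_card, hn]
    exact dvd_pow_self ℓ n.ne_zero
  set sF : V ≃ₗ[F] V := s.restrictScalars F with hsF
  set s' := g⁻¹ * sF * g with hs'
  have hs'G : s' ∈ G := G.mul_mem (G.mul_mem (G.inv_mem hg) hsG) hg
  have hs'v : s' v = v := by
    show g.symm (s (g v)) = v
    rw [← hx, R.fix, hgix]
  have hs'l : s' ^ ℓ = 1 := by
    rw [hs', show g⁻¹ * sF * g = MulAut.conj g⁻¹ sF by simp, ← map_pow,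
      show sF ^ ℓ = 1 from LinearEquiv.ext fun z => by rw [hsF, restrict_pow_apply, R.pow_eq_one]; rfl, map_one]
  obtain ⟨ψ, hψ⟩ := S.exists_autHom hv hvv hno
  have hautr : ∀ θ : K ≃ₐ[F] K, θ ^ finrank F K = 1 := fun θ => by
    rw [← IsGalois.card_aut_eq_finrank F K]
    exact pow_card_eq_one'
  have hψℓ : ∀ a : lineStab K G v, (a : V ≃ₗ[F] V) ^ ℓ = 1 → ψ a = 1 := fun a ha => by
    have h1 : ψ a ^ Nat.gcd ℓ (finrank F K) = 1 := pow_gcd_eq_one.mpr ⟨by
      rw [← map_pow, show a ^ ℓ = 1 from Subtype.ext (by rw [SubmonoidClass.coe_pow]; exact ha), map_one], hautr _⟩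
    rwa [(Nat.coprime_primes R.prime S.prime).mpr hℓr, pow_one] at h1
  by_cases hW : ∀ l ∈ rootSet Φ G v, l = 0
  swap
  · -- with root elements the rotation fixes the whole line
    push Not at hW
    have hst : ∀ k, s' (k • v) ∈ K ∙ v := S.stab_line hv hvv hno hW hs'G hs'v
    have hst' : ∀ k, s'.symm (k • v) ∈ K ∙ v :=
      S.stab_line hv hvv hno hW (G.inv_mem hs'G) ((LinearEquiv.symm_apply_eq s').mpr hs'v.symm)
    have hθ := hψℓ ⟨s', hs'G, hs'v, hst, hst'⟩ hs'l
    have hfix : ∀ c : K, g (c • v) ∈ K ∙ x := fun c => by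
      refine R.fixed_mem ?_
      have h1 := hψ ⟨s', hs'G, hs'v, hst, hst'⟩ c
      rw [hθ] at h1
      exact (LinearEquiv.symm_apply_eq g).mp h1
    obtain ⟨α, hα⟩ : ∃ α : K → K, ∀ c, g (c • v) = α c • x := by
      choose α hα using fun c => Submodule.mem_span_singleton.mp (hfix c)
      exact ⟨α, fun c => (hα c).symm⟩
    have hinj : Function.Injective α := fun c c' e => smul_left_injective K hv (g.injective (by rw [hα, hα, e]))
    obtain ⟨γ, hγ⟩ : ∃ γ : K, Algebra.trace F K (γ * Φ x x) ≠ 0 := by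
      by_contra h
      push Not at h
      exact hd (eq_of_trace (F := F) fun d => by rw [h, mul_zero, map_zero])
    obtain ⟨c, rfl⟩ := (Finite.injective_iff_surjective.mp hinj) γ
    have h2 := S.isom g hg (c • v) v
    rw [hα, ← hx, Φ.map_smul, Φ.map_smul, LinearMap.smul_apply, LinearMap.smul_apply, smul_eq_mul, smul_eq_mul] at h2
    exact hγ (h2.trans (by simp [hvv]))
  -- without root elements: the transfer to the field
  obtain ⟨w, b₀, e, hww, hwv, hvw, hb₀v, hb₀w, he0, hbb, hco⟩ := S.exists_frame h3 h5 hv hvv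
  have heK : algebraMap F K e ≠ 0 := (_root_.map_ne_zero _).mpr he0
  have hvb : Φ v b₀ = 0 := by rw [S.symm, hb₀v]
  set J := twoFix G v v with hJ
  set H := (lineStab K G v).subgroupOf J with hH
  let χ : H →* Multiplicative F := MonoidHom.mk'
    (fun a => Multiplicative.ofAdd (Algebra.trace F K (Φ (((a : J) : V ≃ₗ[F] V) b₀) w))) fun a a' => by
      have ha : ((a : J) : V ≃ₗ[F] V) ∈ lineStab K G v := a.2
      have ha' : ((a' : J) : V ≃ₗ[F] V) ∈ lineStab K G v := a'.2
      obtain ⟨θ, hθ⟩ := S.exists_auto hv hvv hno ha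
      obtain ⟨θ', hθ'⟩ := S.exists_auto hv hvv hno ha'
      have e1 := S.line_middle h3 h5 hdet hv hvv hW ha.1 hθ hwv hb₀v hb₀w he0 hbb hco
      have e2 := S.line_middle h3 h5 hdet hv hvv hW ha'.1 hθ' hwv hb₀v hb₀w he0 hbb hco
      rw [← ofAdd_add]
      congr 1
      show Algebra.trace F K (Φ (((a : J) : V ≃ₗ[F] V) (((a' : J) : V ≃ₗ[F] V) b₀)) w) = _
      rw [e2, map_add, hθ, e1]
      simp only [map_add, map_smul, LinearMap.add_apply, LinearMap.smul_apply, smul_eq_mul, hvw, hb₀w, mul_one,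
        zero_add]
      rw [Algebra.trace_eq_of_algEquiv θ]
  obtain ⟨c₁, hc₁⟩ := Algebra.trace_surjective F K 1
  obtain ⟨E, hE, hEz, -⟩ := S.exists_siegel hv hvv (b := c₁ • b₀) (by simp [hb₀v])
  set t := E.restrictScalars F with ht
  have hbT : c₁ • b₀ ∉ K ∙ v := by
    intro h
    obtain ⟨a, ha⟩ := Submodule.mem_span_singleton.mp h
    have := congrArg (fun y => Φ y b₀) ha
    simp [hvb, hbb, heK, he0] at this
    rw [this, map_zero] at hc₁
    exact zero_ne_one hc₁
  have htfix : ∀ c : K, t (c • v) = c • v := fun c => by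
    show E (c • v) = c • v
    rw [hEz, siegel_apply]
    simp [hvv, hvb]
  have htv : t v = v := by simpa using htfix 1
  have htS : t ∈ lineStab K G v := ⟨hE, htv, fun c => by
    rw [htfix]; exact Submodule.smul_mem _ _ (Submodule.mem_span_singleton_self v), fun c => by
    rw [show t.symm (c • v) = c • v from (LinearEquiv.symm_apply_eq t).mpr (htfix c).symm]
    exact Submodule.smul_mem _ _ (Submodule.mem_span_singleton_self v)⟩
  -- exponent `p`
  have hsp : ∀ (u : V ≃ₗ[F] V) (b : V), Φ b v = 0 → (∀ z, u z = siegel Φ v b z) → u ^ p = 1 := by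
    intro u b hb hu
    haveI : CharP K p := charP_of_injective_algebraMap (algebraMap F K).injective p
    have hn : ∀ n : ℕ, ∀ z, (u ^ n) z = siegel Φ v ((n : K) • b) z := fun n => by
      induction n with
      | zero => intro z; simp [S.siegel_zero]
      | succ n ih =>
        intro z
        rw [pow_succ, LinearEquiv.mul_apply, hu, ih, S.siegel_comp hvv (by simp [hb]) hb, Nat.cast_succ, add_smul,
          one_smul]
    refine LinearEquiv.ext fun z => ?_
    rw [hn, CharP.cast_eq_zero, zero_smul, S.siegel_zero]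
    rfl
  have htp : t ^ p = 1 := hsp t (c₁ • b₀) (by simp [hb₀v]) hEz
  set tJ : J := ⟨t, hE, htv, htv⟩ with htJ
  haveI : H.FiniteIndex := inferInstance
  haveI := Fintype.ofFinite (Quotient (MulAction.orbitRel (Subgroup.zpowers tJ) (J ⧸ H)))
  let T := MonoidHom.transfer χ
  have hχt : χ ⟨tJ, htS⟩ ≠ 1 := by
    show Multiplicative.ofAdd _ ≠ 1
    rw [Ne, ofAdd_eq_one]
    show Algebra.trace F K (Φ (E b₀) w) ≠ 0
    rw [hEz, siegel_apply]
    simp only [hb₀v, zero_smul, mul_zero, add_zero, map_sub, map_smul, LinearMap.sub_apply, LinearMap.smul_apply,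
      smul_eq_mul, hbb, hvw, hb₀w, mul_one, zero_sub, map_neg, neg_ne_zero]
    rw [mul_comm c₁, ← Algebra.smul_def, map_smul, hc₁, smul_eq_mul, mul_one]
    exact he0
  have hTt : T tJ = χ ⟨tJ, htS⟩ := by
    show MonoidHom.transfer χ tJ = _
    rw [MonoidHom.transfer_eq_prod_quotient_orbitRel_zpowers_quot]
    -- a fixed coset is the coset of the line stabiliser
    have hTI : ∀ k : J, k⁻¹ * tJ * k ∈ H → k ∈ H := by
      intro k hk
      have hk' : (k : V ≃ₗ[F] V)⁻¹ * t * k ∈ lineStab K G v := hk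
      obtain ⟨θ, hθ⟩ := S.exists_auto hv hvv hno hk'
      have hθ1 := S.line_of_conj hv hvv h5 (b := c₁ • b₀) (by simp [hb₀v]) hv
        (g := (k : V ≃ₗ[F] V)⁻¹ * t * k) (k := (k : V ≃ₗ[F] V)) (fun z => by
          show (k : V ≃ₗ[F] V) ((k : V ≃ₗ[F] V).symm (E ((k : V ≃ₗ[F] V) z))) = _
          rw [LinearEquiv.apply_symm_apply, hEz]) hθ
      have hline : ∀ c : K, (k : V ≃ₗ[F] V) (c • v) ∈ K ∙ v := fun c => by
        refine S.siegel_fixed h3 h5 hv hvv (by simp [hb₀v]) hbT ?_
        have h1 := hθ c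
        rw [hθ1] at h1
        have h4 : (k : V ≃ₗ[F] V).symm (E ((k : V ≃ₗ[F] V) (c • v))) = c • v := h1
        rw [LinearEquiv.symm_apply_eq, hEz] at h4
        exact h4
      obtain ⟨α, hα⟩ := exists_line_equiv hv hline
      exact ⟨k.2.1, k.2.2.1, hline, fun c => by
        show (k : V ≃ₗ[F] V).symm (c • v) ∈ K ∙ v
        rw [show (k : V ≃ₗ[F] V).symm (c • v) = α.symm c • v from (LinearEquiv.symm_apply_eq _).mpr (by
          rw [hα, LinearEquiv.apply_symm_apply])]
        exact Submodule.smul_mem _ _ (Submodule.mem_span_singleton_self v)⟩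
    have hfix1 : tJ • ((1 : J) : J ⧸ H) = ((1 : J) : J ⧸ H) := by
      rw [MulAction.Quotient.smul_coe, smul_eq_mul, mul_one]
      exact QuotientGroup.eq.mpr (by rw [mul_one]; exact H.inv_mem htS)
    have hP : ∀ q : J ⧸ H, Function.minimalPeriod (tJ • ·) q = 1 ∨ Function.minimalPeriod (tJ • ·) q = p := by
      intro q
      refine hpf.out.eq_one_or_self_of_dvd _ (Function.IsPeriodicPt.minimalPeriod_dvd ?_)
      show (tJ • ·)^[p] q = q
      rw [smul_iterate]
      show tJ ^ p • q = q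
      rw [show tJ ^ p = 1 from Subtype.ext (by rw [SubmonoidClass.coe_pow]; exact htp), one_smul]
    rw [Finset.prod_eq_single (Quotient.mk'' ((1 : J) : J ⧸ H))]
    · set q₀ : Quotient (MulAction.orbitRel (Subgroup.zpowers tJ) (J ⧸ H)) := Quotient.mk'' ((1 : J) : J ⧸ H)
      have hout : q₀.out = ((1 : J) : J ⧸ H) := by
        obtain ⟨⟨a, n, rfl⟩, hn⟩ := MulAction.orbitRel_apply.mp (Quotient.eq''.mp (Quotient.out_eq' q₀))
        rw [← hn]
        exact MulAction.mem_stabilizer_iff.mp (zpow_mem (MulAction.mem_stabilizer_iff.mpr hfix1) n)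
      have hmp : Function.minimalPeriod (tJ • ·) q₀.out = 1 := by
        rw [hout, Function.minimalPeriod_eq_one_iff_isFixedPt]; exact hfix1
      have hk : q₀.out.out ∈ H := by
        have h1 := QuotientGroup.eq.mp ((QuotientGroup.out_eq' q₀.out).trans hout)
        simpa using H.inv_mem h1
      rw [show (⟨q₀.out.out⁻¹ * tJ ^ Function.minimalPeriod (tJ • ·) q₀.out * q₀.out.out,
          QuotientGroup.out_conj_pow_minimalPeriod_mem H tJ q₀.out⟩ : H) =
          (⟨q₀.out.out, hk⟩ : H)⁻¹ * ⟨tJ, htS⟩ * ⟨q₀.out.out, hk⟩ from Subtype.ext (by simp [hmp]),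
        map_mul, map_mul, map_inv, mul_comm, mul_inv_cancel_left]
    · intro q _ hq
      have hconj := QuotientGroup.out_conj_pow_minimalPeriod_mem H tJ q.out
      rcases hP q.out with h | h
      · exfalso
        rw [h, pow_one] at hconj
        refine hq (((Quotient.out_eq' q).symm.trans ?_))
        congr 1
        rw [← QuotientGroup.out_eq' q.out]
        exact QuotientGroup.eq.mpr (by rw [mul_one]; exact H.inv_mem (hTI _ hconj))
      · rw [show (⟨q.out.out⁻¹ * tJ ^ Function.minimalPeriod (tJ • ·) q.out * q.out.out, hconj⟩ : H) = 1 from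
          Subtype.ext (by
            show q.out.out⁻¹ * tJ ^ Function.minimalPeriod (tJ • ·) q.out * q.out.out = 1
            rw [h, show tJ ^ p = 1 from Subtype.ext (by rw [SubmonoidClass.coe_pow]; exact htp)]
            simp), map_one]
    · intro h; exact absurd (Finset.mem_univ _) h
  -- the rotation lies in the kernel
  set sJ : J := ⟨s', hs'G, hs'v, hs'v⟩ with hsJ
  have hexp : ∀ (a : Multiplicative F) (n : ℕ), a ^ n = 1 → ¬ p ∣ n → a = 1 := fun a n ha hn => by
    have h1 : (n : F) * Multiplicative.toAdd a = 0 := by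
      rw [← nsmul_eq_mul, ← toAdd_pow, ha, toAdd_one]
    exact (mul_eq_zero.mp h1).resolve_left fun h => hn ((CharP.cast_eq_zero_iff F p n).mp h)
  have hTs : T sJ = 1 := hexp _ ℓ (by
    rw [← map_pow, show sJ ^ ℓ = 1 from Subtype.ext (by rw [SubmonoidClass.coe_pow]; exact hs'l), map_one])
    fun h => hℓp ((Nat.prime_dvd_prime_iff_eq hpf.out R.prime).mp h).symm
  -- a Sylow subgroup of the kernel through the rotation
  set N := T.ker with hN
  set sN : N := ⟨sJ, hTs⟩ with hsN
  have hsNl : sN ^ ℓ = 1 := Subtype.ext (Subtype.ext (by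
    rw [SubmonoidClass.coe_pow, SubmonoidClass.coe_pow]; exact hs'l))
  obtain ⟨L, hL⟩ := (show IsPGroup ℓ (Subgroup.zpowers sN) from fun a => ⟨1, by
    obtain ⟨a, n, rfl⟩ := a
    refine Subtype.ext ?_
    rw [SubmonoidClass.coe_pow, pow_one, ← zpow_natCast, ← zpow_mul, mul_comm, zpow_mul, zpow_natCast, hsNl, one_zpow]
    rfl⟩).exists_le_sylow
  have hsL : sN ∈ L := hL (Subgroup.mem_zpowers _)
  have hsi : ∀ (i : ℕ) z, (s' ^ i) z = g.symm ((s ^ i) (g z)) := fun i z => by
    rw [hs', show g⁻¹ * sF * g = MulAut.conj g⁻¹ sF by simp, ← map_pow]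
    show g.symm ((sF ^ i) (g z)) = _
    rw [hsF, restrict_pow_apply]
  have hrank : ∀ d : J, d ^ ℓ = 1 → d * sJ = sJ * d → ∃ i, d = sJ ^ i := by
    intro d hdl hds
    have hds' : ∀ z, (d : V ≃ₗ[F] V) (g.symm (s (g z))) = g.symm (s (g ((d : V ≃ₗ[F] V) z))) := fun z =>
      LinearEquiv.congr_fun (Subtype.ext_iff.mp hds) z
    obtain ⟨i, hi⟩ := S.rot_rank_one R hτ hq0 hq (d := g * (d : V ≃ₗ[F] V) * g⁻¹)
      (G.mul_mem (G.mul_mem hg d.2.1) (G.inv_mem hg))
      (by
        show g ((d : V ≃ₗ[F] V) (g.symm x)) = x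
        rw [hgix, d.2.2.1, hx])
      (fun z => by
        show g ((d : V ≃ₗ[F] V) (g.symm (s z))) = s (g ((d : V ≃ₗ[F] V) (g.symm z)))
        have h1 := hds' (g.symm z)
        rw [LinearEquiv.apply_symm_apply] at h1
        rw [h1, LinearEquiv.apply_symm_apply])
      (by
        rw [show g * (d : V ≃ₗ[F] V) * g⁻¹ = MulAut.conj g d from rfl, ← map_pow,
          show (d : V ≃ₗ[F] V) ^ ℓ = 1 by rw [← SubmonoidClass.coe_pow, hdl]; rfl, map_one])
    refine ⟨i, Subtype.ext (LinearEquiv.ext fun z => g.injective ?_)⟩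
    rw [SubmonoidClass.coe_pow, hsi, LinearEquiv.apply_symm_apply, ← hi]
    show _ = g ((d : V ≃ₗ[F] V) (g.symm (g z)))
    rw [LinearEquiv.symm_apply_apply]
  have hs1 : sJ ≠ 1 := fun h => by
    obtain ⟨y, -, hind, -⟩ := R.gen
    have h1 : s y = y := by
      have h2 := LinearEquiv.congr_fun (Subtype.ext_iff.mp h) (g.symm y)
      have h4 : g.symm (s (g (g.symm y))) = g.symm y := h2
      rw [LinearEquiv.apply_symm_apply] at h4
      exact g.symm.injective h4
    exact one_ne_zero (hind 1 (-1) (by rw [h1]; module)).1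
  have hsJl : sJ ^ ℓ = 1 := Subtype.ext (by rw [SubmonoidClass.coe_pow]; exact hs'l)
  have hcentral : ∀ a ∈ L, a * sN = sN * a := by
    haveI : Nontrivial L := ⟨⟨⟨sN, hsL⟩, 1, fun h => hs1 (congrArg (fun y : L => ((y : N) : J)) h)⟩⟩
    haveI := L.2.center_nontrivial
    obtain ⟨⟨z, hz⟩, hz1⟩ := exists_prime_orderOf_dvd_card' ℓ
      (((L.2.to_subgroup (Subgroup.center L)).card_eq_or_dvd).resolve_left Finite.one_lt_card.ne')
    have hzl : z ^ ℓ = 1 := by
      have := pow_orderOf_eq_one (⟨z, hz⟩ : Subgroup.center L)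
      rw [hz1] at this
      exact congrArg Subtype.val this
    obtain ⟨i, hi⟩ := hrank ((z : N) : J)
      (by rw [← SubmonoidClass.coe_pow, ← SubmonoidClass.coe_pow, hzl]; rfl)
      (congrArg (fun y : L => ((y : N) : J)) (Subgroup.mem_center_iff.mp hz ⟨sN, hsL⟩).symm)
    have hzi : (z : N) = sN ^ i := Subtype.ext hi
    have hni : ¬ ℓ ∣ i := fun ⟨m, hm⟩ => by
      rw [hm, pow_mul, hsNl, one_pow] at hzi
      have : (⟨z, hz⟩ : Subgroup.center L) = 1 := Subtype.ext (Subtype.ext hzi)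
      rw [this, orderOf_one] at hz1
      exact R.prime.one_lt.ne hz1
    obtain ⟨m, -, hm⟩ := Nat.exists_mul_mod_eq_one_of_coprime ((R.prime.coprime_iff_not_dvd.mpr hni).symm) R.prime.one_lt
    have hsz : sN = (z : N) ^ m := by
      rw [hzi, ← pow_mul, ← Nat.mod_add_div (i * m) ℓ, hm, pow_add, pow_mul, hsNl, one_pow, mul_one, pow_one]
    intro a ha
    rw [hsz]
    exact Commute.pow_right (congrArg Subtype.val (Subgroup.mem_center_iff.mp hz ⟨a, ha⟩)) m
  -- the normaliser of the Sylow subgroup covers the image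
  obtain ⟨n, hn, m, hm, hnm⟩ := Subgroup.mem_sup_of_normal_right.mp
    (show tJ ∈ Subgroup.normalizer ((L : Subgroup N).map N.subtype : Set J) ⊔ N by
      rw [Sylow.normalizer_sup_eq_top L]; trivial)
  have hTn : T n ≠ 1 := fun h => hχt (by rw [← hTt, ← hnm, map_mul, h, hm, one_mul])
  obtain ⟨a, m', hm'p, hord⟩ : ∃ a m', ¬ p ∣ m' ∧ orderOf n = p ^ a * m' :=
    Nat.exists_eq_pow_mul_and_not_dvd (orderOf_pos n).ne' p hpf.out.ne_one
  set u := n ^ m' with hu
  have hua : u ^ (p ^ a) = 1 := by rw [hu, ← pow_mul, mul_comm, ← hord, pow_orderOf_eq_one]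
  have hTu : T u ≠ 1 := fun h => hTn (hexp _ m' (by rw [← map_pow, ← hu, h]) hm'p)
  have hun : u ∈ Subgroup.normalizer ((L : Subgroup N).map N.subtype : Set J) := pow_mem hn m'
  obtain ⟨k, hk⟩ : ∃ k, u * sJ * u⁻¹ = sJ ^ k := by
    obtain ⟨y, hy, hye⟩ := (Subgroup.mem_normalizer_iff.mp hun sJ).mp ⟨sN, hsL, rfl⟩
    have hye' : (y : J) = u * sJ * u⁻¹ := hye
    refine hrank _ ?_ ?_
    · rw [conj_pow, hsJl, mul_one, mul_inv_cancel]
    · rw [← hye']
      exact congrArg Subtype.val (hcentral y hy)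
  have hkℓ : ¬ ℓ ∣ k := fun ⟨i, hi⟩ => hs1 (by
    rw [hi, pow_mul, hsJl, one_pow, conj_eq_one_iff] at hk
    exact hk)
  -- the corresponding element at the anisotropic vector
  set ux : V ≃ₗ[F] V := g * (u : V ≃ₗ[F] V) * g⁻¹ with hux
  have huxG : ux ∈ G := G.mul_mem (G.mul_mem hg u.2.1) (G.inv_mem hg)
  have huxx : ux x = x := by
    show g ((u : V ≃ₗ[F] V) (g.symm x)) = x
    rw [hgix, u.2.2.1, hx]
  have huk : ∀ z, ux (s z) = (s ^ k) (ux z) := fun z => by
    have h1 : (u : V ≃ₗ[F] V) * s' = s' ^ k * u := by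
      have := congrArg (fun y : J => (y : V ≃ₗ[F] V)) (mul_inv_eq_iff_eq_mul.mp hk)
      simpa using this
    have h2 := LinearEquiv.congr_fun h1 (g.symm z)
    have h4 : (u : V ≃ₗ[F] V) (g.symm (s (g (g.symm z)))) = (s' ^ k) ((u : V ≃ₗ[F] V) (g.symm z)) := h2
    rw [hsi, LinearEquiv.apply_symm_apply] at h4
    show g ((u : V ≃ₗ[F] V) (g.symm (s z))) = (s ^ k) (g ((u : V ≃ₗ[F] V) (g.symm z)))
    rw [h4, LinearEquiv.apply_symm_apply]
  have huxa : ux ^ (p ^ a) = 1 := by
    rw [show ux = MulAut.conj g u from rfl, ← map_pow, ← SubmonoidClass.coe_pow, hua]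
    simp
  -- conjugate into the stabiliser of the line
  have hua' : (u : V ≃ₗ[F] V) ^ (p ^ a) = 1 := by rw [← SubmonoidClass.coe_pow, hua]; rfl
  obtain ⟨j, hjG, hjv, hjU⟩ := S.exists_conj_stab (p := p) hv hvv hno (U := Subgroup.zpowers (u : V ≃ₗ[F] V))
    (fun y => ⟨a, by
      obtain ⟨y, i, rfl⟩ := y
      refine Subtype.ext ?_
      rw [SubmonoidClass.coe_pow, ← zpow_natCast, ← zpow_mul, mul_comm, zpow_mul, zpow_natCast, hua', one_zpow]
      rfl⟩)
    (Subgroup.zpowers_le.mpr u.2.1)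
    (fun y hy => by
      obtain ⟨i, rfl⟩ := hy
      exact MulAction.mem_stabilizer_iff.mp (zpow_mem (MulAction.mem_stabilizer_iff.mpr (show (u : V ≃ₗ[F] V) • v = v from u.2.2.1)) i))
  have hu'S := hjU _ (Subgroup.mem_zpowers _)
  set u' : V ≃ₗ[F] V := j * u * j⁻¹ with hu'
  set θ := ψ ⟨u', hu'S⟩ with hθdef
  have hju : ∀ z, (g * j⁻¹)⁻¹ (ux ((g * j⁻¹) z)) = u' z := fun z => by
    show ((g * j⁻¹)⁻¹ * ux * (g * j⁻¹)) z = u' z
    congr 1
    rw [hux, hu']; group
  by_cases hθ1 : θ = 1
  · -- Siegel type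
    obtain ⟨b, hbv, hbz⟩ := S.siegel_of_fix h3 h5 hdet hv hvv hW hu'S.1 fun c => by
      have := hψ ⟨u', hu'S⟩ c
      rwa [← hθdef, hθ1, AlgEquiv.one_apply] at this
    have hb : b ∉ K ∙ v := by
      intro h
      obtain ⟨c, rfl⟩ := Submodule.mem_span_singleton.mp h
      refine hTu ?_
      have h1 : u' = 1 := LinearEquiv.ext fun z => by
        rw [hbz, siegel_apply]
        simp [hvv, smul_smul, mul_comm c]
      have h2 : (u : V ≃ₗ[F] V) = 1 := by rw [hu', conj_eq_one_iff] at h1; exact h1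
      rw [show u = 1 from Subtype.ext h2, map_one]
    obtain ⟨θx, hθx, hθτ⟩ := S.exists_theta R hτ huxG hkℓ huk
    have hθx1 : θx = 1 := by
      obtain ⟨y, hy, hind, -⟩ := R.gen
      have hy0 : y ≠ 0 := fun e => one_ne_zero (hind 0 1 (by rw [e]; simp)).2
      have hperp := fun {y} => S.rot_perp R huxG hkℓ huk (y := y)
      refine auto_eq_id_of_cube S.prime h5 (y₀ := y) (y₁ := ux y) (y₂ := ux (ux y)) (y₃ := ux (ux (ux y)))
        (fun c => (g * j⁻¹)⁻¹.injective ?_) hy0
      have hk3 : ∀ (f : V ≃ₗ[F] V) (y : V), f ((3 : K) • y) = (3 : K) • f y := fun f y => by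
        rw [show (3 : K) = algebraMap F K 3 from (map_ofNat _ 3).symm, algebraMap_smul, map_smul, algebraMap_smul]
      rw [← hθx _ _ (hperp (hperp hy)), ← hθx _ _ (hperp hy), ← hθx _ _ hy]
      obtain ⟨z, hz⟩ := (g * j⁻¹).surjective (c • y)
      rw [← hz, map_zero, map_sub, map_add, map_sub, hk3, hk3]
      simp only [hju, show ∀ z, (g * j⁻¹)⁻¹ (ux z) = u' ((g * j⁻¹)⁻¹ z) from fun z => by
        rw [← hju, show (g * j⁻¹) ((g * j⁻¹)⁻¹ z) = z from (g * j⁻¹).apply_symm_apply z],
        show (g * j⁻¹)⁻¹ ((g * j⁻¹) z) = z from (g * j⁻¹).symm_apply_apply z, hbz]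
      exact S.siegel_cube hvv hbv z
    have hcomm := S.rot_commute R huk (by rw [← hθτ, hθx1]; rfl)
      (Odd.pow (hpf.out.odd_of_ne_two fun e => S.two (by subst e; exact_mod_cast CharP.cast_eq_zero F 2))) huxa
    set s'' := j * s' * j⁻¹ with hs''
    have hs''G : s'' ∈ G := G.mul_mem (G.mul_mem hjG hs'G) (G.inv_mem hjG)
    have hs''v : s'' v = v := by
      show j (s' (j.symm v)) = v
      rw [show j.symm v = v from (LinearEquiv.symm_apply_eq j).mpr hjv.symm, hs'v, hjv]
    have hc : ∀ z, u' (s'' z) = s'' (u' z) := by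
      have h1 : ux * sF = sF * ux := LinearEquiv.ext fun z => hcomm z
      have h2 : u' * s'' = s'' * u' := by
        rw [show u' = (g * j⁻¹)⁻¹ * ux * (g * j⁻¹) by rw [hux, hu']; group,
          show s'' = (g * j⁻¹)⁻¹ * sF * (g * j⁻¹) by rw [hs'', hs']; group]
        calc _ = (g * j⁻¹)⁻¹ * (ux * sF) * (g * j⁻¹) := by group
          _ = (g * j⁻¹)⁻¹ * (sF * ux) * (g * j⁻¹) := by rw [h1]
          _ = _ := by group
      exact fun z => LinearEquiv.congr_fun h2 z
    have hline : ∀ c : K, s'' (c • v) ∈ K ∙ v := fun c => by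
      refine S.siegel_fixed h3 h5 hv hvv hbv hb ?_
      rw [← hbz, hc]
      congr 1
      rw [hbz, siegel_apply]
      simp [hvv, S.symm v b, hbv]
    obtain ⟨α, hα⟩ := exists_line_equiv hv hline
    have hs''S : s'' ∈ lineStab K G v := ⟨hs''G, hs''v, hline, fun c => by
      rw [show s''.symm (c • v) = α.symm c • v from (LinearEquiv.symm_apply_eq s'').mpr (by
        rw [hα, LinearEquiv.apply_symm_apply])]
      exact Submodule.smul_mem _ _ (Submodule.mem_span_singleton_self v)⟩
    have hs''l : s'' ^ ℓ = 1 := by rw [hs'', conj_pow, hs'l, mul_one, mul_inv_cancel]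
    obtain ⟨b', hb'v, hb'z⟩ := S.siegel_of_fix h3 h5 hdet hv hvv hW hs''G fun c => by
      have := hψ ⟨s'', hs''S⟩ c
      rwa [hψℓ ⟨s'', hs''S⟩ hs''l, AlgEquiv.one_apply] at this
    have h1 : s'' = 1 := by
      have := pow_gcd_eq_one.mpr ⟨hsp s'' b' hb'v hb'z, hs''l⟩
      rwa [(Nat.coprime_primes hpf.out R.prime).mpr (Ne.symm hℓp), pow_one] at this
    refine hs1 (Subtype.ext ?_)
    rw [hs'', conj_eq_one_iff] at h1
    exact h1
  · -- a field automorphism
    have hrp : finrank F K = p := by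
      have h1 : θ ^ (p ^ a) = 1 := by
        rw [hθdef, ← map_pow, show (⟨u', hu'S⟩ : lineStab K G v) ^ (p ^ a) = 1 from Subtype.ext (by
          rw [SubmonoidClass.coe_pow]
          show u' ^ (p ^ a) = 1
          rw [hu', conj_pow, hua', mul_one, mul_inv_cancel]), map_one]
      have h2 : orderOf θ = finrank F K := haveI := Fact.mk S.prime; orderOf_eq_prime (hautr θ) hθ1
      exact (Nat.prime_dvd_prime_iff_eq S.prime hpf.out).mp (S.prime.dvd_of_dvd_pow (h2 ▸ orderOf_dvd_of_pow_eq_one h1))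
    refine S.no_auto hd hpf.out hrp huxG (fun c => S.rot_line R hkℓ huk c)
      (fun y hy => S.rot_perp R huxG hkℓ huk hy) huxx huxa (j := j * g⁻¹) (G.mul_mem hjG (G.inv_mem hg)) ?_ hv hvv hθ1
      fun c => ?_
    · show j (g.symm x) = v
      rw [hgix, hjv]
    · have := hψ ⟨u', hu'S⟩ c
      show ((j * g⁻¹) * ux * (j * g⁻¹)⁻¹) (c • v) = θ c • v
      rw [show (j * g⁻¹) * ux * (j * g⁻¹)⁻¹ = u' by rw [hux, hu']; group]
      exact this

end OrthOver

end Cfsg.Agent.Lib.ThreeTransp.ExtField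

namespace Cfsg.Agent.Lib.ThreeTransp.ExtField

open Module

variable {F K V : Type*} [Field F] [Field K] [Algebra F K] [AddCommGroup V] [Module F V] [Module K V]
  [IsScalarTower F K V] [Finite F] [FiniteDimensional F K] [FiniteDimensional K V] [FiniteDimensional F V]
variable {Φ : V →ₗ[K] V →ₗ[K] K} {G : Subgroup (V ≃ₗ[F] V)}

/-- The dichotomy in every dimension at least three. -/
theorem OrthOver.dichotomy_all (S : OrthOver Φ G) :
    (∀ g ∈ G, Semilin K g) ∨ ∀ u, u ≠ 0 → Φ u u = 0 → HasLong Φ G u := by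
  rcases S.big with h4 | ⟨h3, h5, hdet⟩
  · exact S.dichotomy h4
  by_cases hS0 : ∀ g ∈ G, ∀ u, Φ u u = 0 → Φ (g u) (g u) = 0
  · exact Or.inl fun g hg => S.semilin_of_singular hS0 hg
  push Not at hS0
  obtain ⟨g, hg, u, hu, hd⟩ := hS0
  have hu0 : u ≠ 0 := fun e => hd (by simp [e])
  exact Or.inr fun u' hu' hu'' => S.hasLong_all hu0 hu (S.hasLong_of_aniso_three h3 h5 hdet hu0 hu hg hd) hu' hu''

end Cfsg.Agent.Lib.ThreeTransp.ExtField
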