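import Cfsg.Agent.Lib.ThreeTransp.ExtOrthRoots
import Cfsg.Agent.Lib.ThreeTransp.ExtOrthThree

/-!
The normaliser of an extension field inside the commutator subgroup of an orthogonal group.
-/

set_option autoImplicit false

namespace Cfsg.Agent.Lib.ThreeTransp.ExtField

open Module Matrix QuadraticMap
open Cfsg.Agent.Lib.MaxSub.OrthSplit (InE)
open Cfsg.Agent.Lib.MaxSub.Orth (Root omega_le omegaGL_le_isometry iso_quad iso_polar eichGL eichGL_mulVec eichGL_mem_omega)
open Cfsg.Agent.Lib.Geometry (quad_polar_self quad_polar_comm)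
open scoped MatrixGroups Matrix commutatorElement

attribute [-simp] QuadraticMap.polarBilin_apply_apply

universe u

variable {ι : Type} [Fintype ι] [DecidableEq ι] {F : Type u} [Field F] [Finite F]

namespace LongSetup

variable {L : Type u} [Field L] [Algebra F L] [FiniteDimensional F L] [Module L (ι → F)]
  [IsScalarTower F L (ι → F)] [FiniteDimensional L (ι → F)] {Q : QuadraticForm F (ι → F)} {M : Subgroup (GL ι F)}
  {Φ : (ι → F) →ₗ[L] (ι → F) →ₗ[L] L} (S : LongSetup Q M Φ)
include S

/-- All Eichler elements with a given singular centre. -/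
theorem root {v : ι → F} (hv : v ≠ 0) (hvv : Φ v v = 0) (h7 : finrank F L = 2 → 7 ≤ finrank L (ι → F)) :
    Root Q M v := by
  classical
  haveI : Finite L := Module.finite_of_finite F
  have h2 := S.ov.twoK
  obtain ⟨w, hww, hwv, hvw⟩ := S.ov.exists_partner hv hvv
  have hw0 : w ≠ 0 := fun e => by rw [e, map_zero] at hvw; exact zero_ne_one hvw
  have h0 := InE_zero_of (S.line hvv hv 1)
  -- the two remaining kinds of vectors
  suffices hU : (∀ b, Φ b v = 0 → Φ b w = 0 → InE Q M v b) ∧
      ∀ z : L, Algebra.trace F L z = 0 → InE Q M v (z • w) by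
    refine ⟨S.quad_zero hvv, fun x hx => ?_⟩
    have hmem := S.ov.sub_mem_perpPair hvv hww hwv x
    obtain ⟨hbv, hbw⟩ := mem_perpPair.mp hmem
    have htr : Algebra.trace F L (Φ x v) = 0 := by rw [S.form, quad_polar_comm, hx]
    have h := InE_add_of (InE_add_of (hU.1 _ hbv hbw) (S.line hvv hv (Φ x w))) (hU.2 _ htr)
    rw [show x - Φ x w • v - Φ x v • w + Φ x w • v + Φ x v • w = x by abel] at h
    obtain ⟨_, _, hm⟩ := h
    exact hm
  by_cases hr : finrank F L = 2
  · have hW := S.ov.nd_perpPair hvv hww hwv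
    have hd := S.ov.finrank_perpPair v w
    have h7' := h7 hr
    obtain ⟨b₁, hb₁, hb₁0, hb₁₁⟩ := S.ov.exists_singular hW (by omega)
    obtain ⟨z, hz, hbz⟩ := hW b₁ hb₁ hb₁0
    set z' := (Φ b₁ z)⁻¹ • z with hz'
    have hb₁z' : Φ b₁ z' = 1 := by rw [hz', map_smul, smul_eq_mul, inv_mul_cancel₀ hbz]
    set b₂ := z' - (Φ z' z' / 2) • b₁ with hb₂
    have hb₂m : b₂ ∈ perpPair Φ v w :=
      Submodule.sub_mem _ (Submodule.smul_mem _ _ hz) (Submodule.smul_mem _ _ hb₁)
    have hb₁₂ : Φ b₁ b₂ = 1 := by simp [hb₂, hb₁z', hb₁₁]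
    have hb₂₁ : Φ b₂ b₁ = 1 := by rw [S.ov.symm, hb₁₂]
    have hb₂₂ : Φ b₂ b₂ = 0 := by
      simp [hb₂, hb₁z', hb₁₁, S.ov.symm z' b₁]
      field_simp
      ring
    obtain ⟨h1v, h1w⟩ := mem_perpPair.mp hb₁
    obtain ⟨h2v, h2w⟩ := mem_perpPair.mp hb₂m
    have hsing : ∀ b, Φ b b = 0 → Φ b v = 0 → InE Q M v b := fun b hb hbv => S.perp_singular hvv hv hb hbv hr
    constructor
    · intro b hbv hbw
      set b' := b - Φ b b₂ • b₁ - Φ b b₁ • b₂ with hb'
      have h1 : Φ b' b₁ = 0 := by simp [hb', hb₁₁, hb₂₁]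
      have h2' : Φ b' b₂ = 0 := by simp [hb', hb₁₂, hb₂₂]
      have h3 : Φ b' v = 0 := by simp [hb', hbv, h1v, h2v]
      have hs : ∀ e : L, e * e = 1 → Φ (b₁ + (e / 2) • b' - (Φ b' b' / 8) • b₂) (b₁ + (e / 2) • b' - (Φ b' b' / 8) • b₂) = 0 := by
        intro e he
        have h8 : (8 : L) ≠ 0 := by
          rw [show (8 : L) = 2 * 2 * 2 by norm_num]
          exact mul_ne_zero (mul_ne_zero h2 h2) h2
        simp only [map_add, map_sub, map_smul, LinearMap.add_apply, LinearMap.sub_apply, LinearMap.smul_apply,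
          smul_eq_mul, hb₁₁, hb₂₂, hb₁₂, hb₂₁, h1, h2', S.ov.symm b₁ b', S.ov.symm b₂ b', mul_zero, add_zero,
          zero_add, sub_zero, mul_one]
        field_simp
        linear_combination (8 * Φ b' b') * he
      have hp : InE Q M v (b₁ + ((1 : L) / 2) • b' - (Φ b' b' / 8) • b₂) :=
        hsing _ (hs 1 (one_mul 1)) (by simp [h1v, h2v, h3])
      have hm : InE Q M v (b₁ + ((-1 : L) / 2) • b' - (Φ b' b' / 8) • b₂) :=
        hsing _ (hs (-1) (by ring)) (by simp [h1v, h2v, h3])
      have h4 := InE_add_of (InE_add_of (hp.sub hm) (hsing (Φ b b₂ • b₁) (by simp [hb₁₁]) (by simp [h1v])))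
        (hsing (Φ b b₁ • b₂) (by simp [hb₂₂]) (by simp [h2v]))
      convert h4 using 1
      rw [hb']
      match_scalars <;> field_simp <;> ring
    · intro t ht
      rcases eq_or_ne t 0 with rfl | ht0
      · rwa [zero_smul]
      set u := (t / 2) • w with hu
      have hu0 : u ≠ 0 := smul_ne_zero (div_ne_zero ht0 h2) hw0
      have huu : Φ u u = 0 := by simp [hu, hww]
      have hub : Φ b₁ u = 0 := by simp [hu, h1w]
      obtain ⟨g, hg, hge⟩ := S.eich_mem (InE_swap (S.quad_zero hb₁₁) (S.perp_singular huu hu0 hb₁₁ hub hr))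
      have hgv : (g : Matrix ι ι F) *ᵥ v = v := by
        rw [hge, S.quad_zero huu, zero_mul, add_zero, ← S.form, ← S.form, hu, (Φ v).map_smul, S.ov.symm v b₁, h1v,
          hvw, map_zero, smul_eq_mul, mul_one,
          show Algebra.trace F L (t / 2) = 0 by
            rw [show t / 2 = ((2 : F)⁻¹) • t by rw [Algebra.smul_def, map_inv₀, map_ofNat, div_eq_inv_mul],
              map_smul, ht, smul_zero],
          zero_smul, zero_smul, add_zero, sub_zero]
      have h1 := (S.conj_fix (hsing b₂ hb₂₂ h2v) hg hgv).sub (hsing b₂ hb₂₂ h2v)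
      rw [hge, S.quad_zero huu, zero_mul, add_zero, ← S.form, ← S.form, hb₂₁, hu, (Φ b₂).map_smul, h2w, smul_zero,
        map_zero, zero_smul, sub_zero, add_sub_cancel_left, ← map_one (algebraMap F L), Algebra.trace_algebraMap, hr,
        nsmul_eq_mul, mul_one, Nat.cast_ofNat, ← algebraMap_smul L (2 : F), map_ofNat, smul_smul,
        mul_div_cancel₀ _ h2] at h1
      exact h1
  · have hr3 : 3 ≤ finrank F L := by have := S.ov.prime.two_le; omega
    have hcross : ∀ z : L, Algebra.trace F L z = 0 → ∀ b, Φ b v = 0 → Φ b w = 0 →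
        InE Q M v (z • (w + b - (Φ b b / 2) • v)) := by
      intro z hz b hbv hbw
      refine S.cross hvv hv ?_ ?_ hr3 ?_
      · simp only [map_add, map_sub, map_smul, LinearMap.add_apply, LinearMap.sub_apply, LinearMap.smul_apply,
          smul_eq_mul, hvv, hww, hwv, hvw, hbv, hbw, S.ov.symm v b, S.ov.symm w b]
        field_simp
        ring
      · simp [hvw, hvv, S.ov.symm v b, hbv]
      · simp [hvw, hvv, S.ov.symm v b, hbv, hz]
    constructor
    · intro b hbv hbw
      obtain ⟨z, hz, hz0⟩ : ∃ z : L, Algebra.trace F L z = 0 ∧ z ≠ 0 := by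
        have h1 := (Algebra.trace F L).finrank_range_add_finrank_ker
        have h3 : finrank F (LinearMap.range (Algebra.trace F L)) ≤ 1 :=
          (Submodule.finrank_le _).trans (finrank_self F).le
        obtain ⟨k, hk, hk0⟩ := Submodule.exists_mem_ne_zero_of_ne_bot (p := LinearMap.ker (Algebra.trace F L))
          fun e => by rw [e, finrank_bot] at h1; omega
        exact ⟨k, hk, hk0⟩
      have hp := hcross z hz ((2 * z)⁻¹ • b) (by simp [hbv]) (by simp [hbw])
      have hm := hcross z hz (-((2 * z)⁻¹ • b)) (by simp [hbv]) (by simp [hbw])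
      convert hp.sub hm using 1
      simp only [map_neg, LinearMap.neg_apply, neg_neg]
      match_scalars <;> field_simp <;> ring
    · intro z hz
      simpa using hcross z hz 0 (by simp) (by simp)

end LongSetup

/-- A group between the normaliser and `omegaGL` is one of the two. -/
theorem orth_ext_maximal {Q : QuadraticForm F (ι → F)} (hN : (polarBilin Q).Nondegenerate) {r : ℕ}
    {K : Subalgebra F (Matrix ι ι F)} (h7 : 7 ≤ Fintype.card ι) (h2 : (2 : F) ≠ 0) (hr : r.Prime)
    (hK : Cfsg.Geo.IsFieldSubalgebra r K) (hsa : Cfsg.Geo.IsSelfAdjointFor (QuadraticMap.polar ⇑Q) K)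
    (h3r : 3 * r ≤ Fintype.card ι) (h3eq : Fintype.card ι = 3 * r → 5 ≤ r) (h14 : r = 2 → 14 ≤ Fintype.card ι) :
    Cfsg.Geo.IsMaximalIn (Cfsg.Geo.omegaGL ⇑Q) (Cfsg.Geo.subalgebraNormalizer K ⊓ Cfsg.Geo.omegaGL ⇑Q) := by
  classical
  obtain ⟨L, _, _, _, _, _, e, hrk, he⟩ := exists_field hK hr.ne_zero
  haveI : FiniteDimensional L (ι → F) := Module.Finite.of_restrictScalars_finite F L (ι → F)
  have hdim : r * finrank L (ι → F) = Fintype.card ι := by
    rw [← hrk, finrank_mul_finrank F L (ι → F), Module.finrank_pi]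
  have hm : 3 ≤ finrank L (ι → F) :=
    Nat.le_of_mul_le_mul_left (by rw [hdim, mul_comm]; exact h3r) hr.pos
  have hsaL : ∀ (k : L) (x y : ι → F), polarBilin Q (k • x) y = polarBilin Q x (k • y) :=
    fun k x y => by rw [QuadraticMap.polarBilin_apply_apply, QuadraticMap.polarBilin_apply_apply, he, he]; exact hsa _ (e k).2 x y
  obtain ⟨Φ, hΦ⟩ := exists_trace_lift (polarBilin Q) hsaL
  have symm : ∀ x y, Φ x y = Φ y x := fun x y => eq_of_trace (F := F) fun d => by
    rw [← smul_eq_mul, ← LinearMap.smul_apply, ← map_smul, hΦ, ← smul_eq_mul, ← map_smul, hΦ, quad_polar_comm]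
  have nondeg : ∀ y, (∀ x, Φ x y = 0) → y = 0 := fun y h => hN.2 y fun x => by rw [← hΦ, h, map_zero]
  have hiso : ∀ g : GL ι F, g ∈ Cfsg.isometryGroup F ⇑Q →
      ∀ x y, Algebra.trace F L (Φ (linOf g x) (linOf g y)) = Algebra.trace F L (Φ x y) := fun g hg x y => by
    rw [hΦ, hΦ, linOf_apply, linOf_apply, iso_polar hg]
  have hcomm : ∀ g h : (ι → F) ≃ₗ[L] (ι → F), (∀ x y, Φ (g x) (g y) = Φ x y) → (∀ x y, Φ (h x) (h y) = Φ x y) →
      ∃ c ∈ Cfsg.Geo.subalgebraNormalizer K ⊓ Cfsg.Geo.omegaGL ⇑Q,
        linOf c = g.restrictScalars F * h.restrictScalars F * (g.restrictScalars F)⁻¹ * (h.restrictScalars F)⁻¹ := by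
    intro g h hg hh
    have mk : ∀ g : (ι → F) ≃ₗ[L] (ι → F), (∀ x y, Φ (g x) (g y) = Φ x y) →
        (linOf (ι := ι) (F := F)).symm (g.restrictScalars F) ∈ Cfsg.isometryGroup F ⇑Q ⊓ Cfsg.Geo.subalgebraNormalizer K := by
      intro g hg
      set g' := (linOf (ι := ι) (F := F)).symm (g.restrictScalars F) with hg'
      have e1 : linOf g' = g.restrictScalars F := (linOf (ι := ι) (F := F)).apply_symm_apply _
      refine ⟨fun x _ => ?_, linear_mem e he fun k x => by rw [e1]; exact g.map_smul k x⟩
      show Q ((g' : Matrix ι ι F) *ᵥ x) = Q x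
      refine mul_left_cancel₀ h2 ?_
      rw [← quad_polar_self, ← quad_polar_self, ← hΦ, ← hΦ, ← linOf_apply, e1, LinearEquiv.restrictScalars_apply, hg]
    obtain ⟨gi, gn⟩ := mk g hg
    obtain ⟨hi, hn⟩ := mk h hh
    set g' := (linOf (ι := ι) (F := F)).symm (g.restrictScalars F) with hg'
    set h' := (linOf (ι := ι) (F := F)).symm (h.restrictScalars F) with hh'
    refine ⟨g' * h' * g'⁻¹ * h'⁻¹, ⟨?_, ?_⟩, by simp [g', h']⟩
    · exact Subgroup.mul_mem _ (Subgroup.mul_mem _ (Subgroup.mul_mem _ gn hn) (Subgroup.inv_mem _ gn))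
        (Subgroup.inv_mem _ hn)
    · exact ⟨⁅(⟨g', gi⟩ : Cfsg.isometryGroup F ⇑Q), ⟨h', hi⟩⁆,
        Subgroup.commutator_mem_commutator (Subgroup.mem_top _) (Subgroup.mem_top _), rfl⟩
  have hover : ∀ M : Subgroup (GL ι F), Cfsg.Geo.subalgebraNormalizer K ⊓ Cfsg.Geo.omegaGL ⇑Q ≤ M →
      M ≤ Cfsg.Geo.omegaGL ⇑Q → OrthOver Φ (M.map (linOf (ι := ι) (F := F)).toMonoidHom) := by
    intro M h1 h3
    refine ⟨hrk.symm ▸ hr, ?_, h2, symm, nondeg, ?_, fun g h hg hh => ?_⟩
    · rcases Nat.lt_or_ge 3 (finrank L (ι → F)) with h4 | h4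
      · exact Or.inl h4
      · have h3e : finrank L (ι → F) = 3 := le_antisymm h4 hm
        refine Or.inr ⟨h3e, by rw [hrk]; exact h3eq (by rw [← hdim, h3e, mul_comm]), ?_⟩
        rintro _ ⟨g, hg, rfl⟩
        obtain ⟨c, hc, rfl⟩ := h3 hg
        have h0 := Abelianization.commutator_subset_ker
          (Matrix.GeneralLinearGroup.det.comp (Cfsg.isometryGroup F ⇑Q).subtype) hc
        rw [MonoidHom.mem_ker, MonoidHom.comp_apply] at h0
        have h1 := congrArg Units.val h0
        rw [Units.val_one, Matrix.GeneralLinearGroup.val_det_apply] at h1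
        rw [← h1, ← LinearMap.det_toLin']
        rfl
    · rintro _ ⟨g, hg, rfl⟩ x y
      exact hiso g (omegaGL_le_isometry (h3 hg)) x y
    · obtain ⟨c, hc, hce⟩ := hcomm g h hg hh
      exact ⟨c, h1 hc, hce⟩
  refine ⟨SetLike.lt_iff_le_and_exists.mpr ⟨inf_le_right, ?_⟩, fun M h1 h3 => ?_⟩
  · -- an Eichler element outside the normaliser
    have S := hover _ le_rfl inf_le_right
    obtain ⟨v, -, hv, hvv⟩ := S.exists_singular (W := (⊤ : Submodule L (ι → F))) (fun y _ hy0 => by
      by_contra h
      push Not at h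
      exact hy0 (nondeg y fun z => by rw [symm]; exact h z trivial)) (by rw [finrank_top]; omega)
    obtain ⟨k, hk⟩ : ∃ k : L, k ∉ (algebraMap F L).range := by
      by_contra hc
      push Not at hc
      have : finrank F L ≤ 1 := finrank_le_one (1 : L) fun c => by
        obtain ⟨a, ha⟩ := hc c; exact ⟨a, by rw [← ha, Algebra.algebraMap_eq_smul_one]⟩
      have := hr.two_le
      omega
    obtain ⟨w, hww, hwv, hvw⟩ := S.exists_partner hv hvv
    have hQ : ∀ x, Φ x x = 0 → Q x = 0 := fun x hx => mul_left_cancel₀ h2 (by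
      rw [← quad_polar_self, ← hΦ, hx, map_zero, mul_zero])
    have hp : polarBilin Q v (k • v) = 0 := by rw [← hΦ]; simp [hvv]
    refine ⟨eichGL Q v (k • v) (hQ v hvv) hp, eichGL_mem_omega hN h7 _ _, fun hmem => ?_⟩
    obtain ⟨τ, hτ⟩ := semilin_of_mem (by omega) e he hmem.1
    have hg : ∀ y, linOf (eichGL Q v (k • v) (hQ v hvv) hp) y =
        y + Algebra.trace F L (Φ y v) • (k • v) - Algebra.trace F L (k * Φ y v) • v := fun y => by
      rw [linOf_apply, eichGL_mulVec, ← hΦ, ← hΦ, hQ (k • v) (by simp [hvv]), zero_mul, add_zero, map_smul,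
        smul_eq_mul]
    have hτid : ∀ c : L, τ c = c := fun c => smul_left_injective L hv (by
      have := hτ c v
      rw [hg, hg] at this
      simpa [hvv] using this.symm)
    -- linearity fails at the partner
    have key : ∀ c : L, algebraMap F L (Algebra.trace F L c) * k - algebraMap F L (Algebra.trace F L (k * c)) =
        c * (algebraMap F L (Algebra.trace F L 1) * k - algebraMap F L (Algebra.trace F L k)) := fun c => by
      have h5 := hτ c w
      rw [hg, hg, hτid, map_smul, LinearMap.smul_apply, hwv, smul_eq_mul, mul_one, mul_one,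
        ← algebraMap_smul L (Algebra.trace F L c), ← algebraMap_smul L (Algebra.trace F L (k * c)),
        ← algebraMap_smul L (Algebra.trace F L 1), ← algebraMap_smul L (Algebra.trace F L k)] at h5
      refine smul_left_injective L hv ?_
      show _ • v = _ • v
      linear_combination (norm := module) h5
    set p := algebraMap F L (Algebra.trace F L 1) * k - algebraMap F L (Algebra.trace F L k) with hp'
    obtain ⟨c, hc⟩ := Algebra.trace_surjective F L 1
    rcases eq_or_ne p 0 with h0 | h0
    · have h5 := key c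
      rw [h0, mul_zero, hc, map_one, one_mul, sub_eq_zero] at h5
      exact hk ⟨_, h5.symm⟩
    · obtain ⟨σ, hσ⟩ : ∃ σ : L ≃ₐ[F] L, σ ≠ 1 := by
        haveI : Finite L := Module.finite_of_finite F
        haveI : Nontrivial (L ≃ₐ[F] L) := Finite.one_lt_card_iff_nontrivial.mp (by
          rw [IsGalois.card_aut_eq_finrank, hrk]; exact hr.one_lt)
        exact exists_ne 1
      -- all of `L` would lie in the span of `1` and `k`, so `r = 2`, and then the trace kernel is missed
      let φ : L →ₗ[F] L := (Algebra.linearMap F L ∘ₗ Algebra.trace F L).smulRight k -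
        Algebra.linearMap F L ∘ₗ Algebra.trace F L ∘ₗ LinearMap.mulLeft F k
      have hφ : ∀ c, φ c = c * p := fun c => by
        rw [← key c]
        simp [φ, Algebra.smul_def]
      have hle : LinearMap.range φ ≤ Submodule.span F {1, k} := by
        rintro _ ⟨c, rfl⟩
        rw [Submodule.mem_span_pair]
        exact ⟨-Algebra.trace F L (k * c), Algebra.trace F L c, by simp [φ, Algebra.smul_def]; ring⟩
      have hsur : LinearMap.range φ = ⊤ := LinearMap.range_eq_top.mpr fun y => ⟨y * p⁻¹, by
        rw [hφ, inv_mul_cancel_right₀ h0]⟩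
      have h5 : finrank F L ≤ 2 := by
        have h6 := Submodule.finrank_mono hle
        rw [hsur, finrank_top] at h6
        refine h6.trans ?_
        have h7 := finrank_span_finset_le_card (R := F) ({1, k} : Finset L)
        rw [Set.finrank, Finset.coe_insert, Finset.coe_singleton] at h7
        exact h7.trans Finset.card_le_two
      have hr2 : finrank F L = 2 := le_antisymm h5 (hrk.symm ▸ hr.two_le)
      -- skew and multiplication at once
      have hskew : Algebra.trace F L (p * 1) = 0 := by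
        rw [mul_one, hp', map_sub, ← Algebra.smul_def, map_smul, Algebra.trace_algebraMap, hr2, ← map_one (algebraMap F L),
          Algebra.trace_algebraMap, hr2]
        simp only [nsmul_eq_mul, Nat.cast_ofNat, mul_one, smul_eq_mul]
        ring
      have hskew2 : ∀ c, Algebra.trace F L (φ c * c) = 0 := fun c => by
        simp only [φ, LinearMap.sub_apply, LinearMap.smulRight_apply, LinearMap.comp_apply, Algebra.linearMap_apply,
          LinearMap.mulLeft_apply, smul_eq_mul, sub_mul, map_sub, ← Algebra.smul_def, smul_mul_assoc, map_smul]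
        ring
      have hzero : ∀ c d : L, Algebra.trace F L (p * (c * d)) = 0 := fun c d => by
        have e1 := hskew2 (c + d)
        have e2 := hskew2 c
        have e3 := hskew2 d
        rw [hφ, mul_comm c p, mul_assoc] at e2
        rw [hφ, mul_comm d p, mul_assoc] at e3
        rw [hφ, mul_comm (c + d) p, mul_assoc, show (c + d) * (c + d) = c * c + d * d + (c * d + c * d) by ring,
          mul_add, mul_add, mul_add, map_add, map_add, map_add, e2, e3, zero_add, zero_add] at e1
        exact (mul_eq_zero.mp (show (2 : F) * Algebra.trace F L (p * (c * d)) = 0 by linear_combination e1)).resolve_left h2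
      exact h0 (eq_of_trace (F := F) fun d => by rw [mul_zero, map_zero, mul_comm, ← one_mul d]; exact hzero 1 d)
  · have S := hover M h1 h3
    rcases S.dichotomy_all with hs | hs
    · exact Or.inl (le_antisymm (le_inf (fun g hg => semilin_mem e he (hs _ ⟨g, hg, rfl⟩)) h3) h1)
    · refine Or.inr (le_antisymm h3 (omega_le hN h7 ?_))
      have T : LongSetup Q M Φ := ⟨S, hΦ, h3.trans omegaGL_le_isometry, hs⟩
      obtain ⟨v, -, hv, hvv⟩ := S.exists_singular (W := (⊤ : Submodule L (ι → F))) (fun y _ hy0 => by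
        by_contra h
        push Not at h
        exact hy0 (nondeg y fun z => by rw [symm]; exact h z trivial)) (by rw [finrank_top]; omega)
      obtain ⟨w, hww, hwv, hvw⟩ := S.exists_partner hv hvv
      -- a scalar of non-zero trace
      obtain ⟨c, hc⟩ := Algebra.trace_surjective F L 1
      have h7' : finrank F L = 2 → 7 ≤ finrank L (ι → F) := fun h => by
        rw [hrk] at h
        have := h14 h
        rw [h] at hdim
        omega
      have hvc : Φ v (c • w) = c := by simp [hvw]
      refine fun z hz => (T.root hv hvv h7').all hN (T.root (v := c • w) (fun e => ?_) (by simp [hww]) h7') ?_ z hz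
      · rw [e, map_zero] at hvc
        rw [← hvc, map_zero] at hc
        exact zero_ne_one hc
      · rw [← hΦ, hvc, hc]
        exact one_ne_zero

end Cfsg.Agent.Lib.ThreeTransp.ExtField
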