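import Mathlib

/-!
A prime number and a root of unity for rotations over an extension of prime degree.
-/

set_option autoImplicit false

namespace Cfsg.Agent.Lib.ThreeTransp.ExtField

open Module Finset

/-- A prime dividing `(a ^ r - 1) / (a - 1)` other than `r`. -/
theorem exists_prime_order {a : ℤ} (ha : 3 ≤ a.natAbs) (hodd : Odd a) {r : ℕ} (hr : r.Prime) (h5 : 5 ≤ r) :
    ∃ ℓ : ℕ, ℓ.Prime ∧ 2 < ℓ ∧ ℓ ≠ r ∧ (a : ZMod ℓ) ^ r = 1 ∧ (a : ZMod ℓ) ≠ 1 := by
  haveI := Fact.mk hr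
  set N := ∑ i ∈ range r, a ^ i with hN
  have hgeom : N * (a - 1) = a ^ r - 1 := geom_sum_mul a r
  have hr2 : r % 2 = 1 := Nat.odd_iff.mp (hr.odd_of_ne_two (by omega))
  have h2 : ¬ (2 : ℤ) ∣ N := by
    intro h
    have h1 := (ZMod.intCast_zmod_eq_zero_iff_dvd N 2).mpr h
    have ha2 : (a : ZMod 2) = 1 := by
      obtain ⟨k, rfl⟩ := hodd
      push_cast
      rw [show (2 : ZMod 2) = 0 from rfl, zero_mul, zero_add]
    rw [hN, Int.cast_sum] at h1
    simp only [Int.cast_pow, ha2, one_pow, sum_const, card_range, nsmul_eq_mul, mul_one] at h1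
    rw [ZMod.natCast_eq_zero_iff_even] at h1
    exact Nat.not_even_iff.mpr hr2 h1
  -- `N` is too large to be `1` or `r`
  have hbig : r < N.natAbs := by
    have h1 : (a ^ r - 1).natAbs = N.natAbs * (a - 1).natAbs := by rw [← hgeom, Int.natAbs_mul]
    have h3 : (a - 1).natAbs ≤ a.natAbs + 1 := (Int.natAbs_sub_le a 1).trans (by simp)
    have h4 : a.natAbs ^ r ≤ (a ^ r - 1).natAbs + 1 := by
      rw [← Int.natAbs_pow]
      exact (Int.natAbs_add_le (a ^ r - 1) 1).trans' (by rw [sub_add_cancel])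
    have h6 : ∀ n, 4 ≤ n → 2 * n + 3 ≤ 3 ^ n := by
      intro n hn
      induction n, hn using Nat.le_induction with
      | base => norm_num
      | succ n _ ih => rw [pow_succ]; omega
    obtain ⟨n, rfl⟩ : ∃ n, r = n + 1 := ⟨r - 1, by omega⟩
    have h7 : 2 * n + 3 ≤ a.natAbs ^ n := (h6 n (by omega)).trans (Nat.pow_le_pow_left ha n)
    by_contra hc
    push Not at hc
    have h8 : (a ^ (n + 1) - 1).natAbs ≤ (n + 1) * (a.natAbs + 1) := h1 ▸ Nat.mul_le_mul hc h3
    rw [pow_succ] at h4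
    nlinarith
  -- `r * r` does not divide it
  have hrr : ¬ ((r * r : ℕ) : ℤ) ∣ N := by
    intro h
    have hrd : (r : ℤ) ∣ N := dvd_trans (by rw [Nat.cast_mul]; exact dvd_mul_right _ _) h
    have h1 := (ZMod.intCast_zmod_eq_zero_iff_dvd N r).mpr hrd
    have h3 := congrArg (fun x : ℤ => (x : ZMod r)) hgeom
    simp only [Int.cast_mul, h1, zero_mul, Int.cast_sub, Int.cast_pow, Int.cast_one, ZMod.pow_card] at h3
    obtain ⟨m, hm⟩ : (r : ℤ) ∣ a - 1 := (ZMod.intCast_zmod_eq_zero_iff_dvd _ r).mp (by push_cast; exact h3.symm)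
    have hsq : ((r : ZMod (r * r)) * (m : ZMod (r * r))) * ((r : ZMod (r * r)) * (m : ZMod (r * r))) = 0 := by
      rw [mul_mul_mul_comm, ← Nat.cast_mul, ZMod.natCast_self, zero_mul]
    have hpow : ∀ i : ℕ, (a : ZMod (r * r)) ^ i = 1 + (i : ZMod (r * r)) * ((r : ZMod (r * r)) * m) := by
      intro i
      induction i with
      | zero => simp
      | succ i ih =>
        rw [pow_succ, ih, show (a : ZMod (r * r)) = 1 + (r : ZMod (r * r)) * m by
          rw [show a = 1 + (r : ℤ) * m by linarith]; push_cast; rfl, Nat.cast_succ]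
        linear_combination (i : ZMod (r * r)) * hsq
    have h9 := (ZMod.intCast_zmod_eq_zero_iff_dvd N (r * r)).mpr h
    rw [hN, Int.cast_sum] at h9
    simp only [Int.cast_pow, hpow, sum_add_distrib, ← sum_mul, sum_const, card_range, nsmul_eq_mul, mul_one] at h9
    obtain ⟨k, hk⟩ : r ∣ ∑ i ∈ range r, i := by
      rw [sum_range_id]
      exact (Nat.dvd_mul_right r ((r - 1) / 2)).trans (dvd_of_eq (Nat.mul_div_assoc r (by omega)).symm)
    rw [← Nat.cast_sum, hk, Nat.cast_mul,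
      show (r : ZMod (r * r)) * (k : ZMod (r * r)) * ((r : ZMod (r * r)) * m) = 0 by
        rw [mul_mul_mul_comm, ← Nat.cast_mul, ZMod.natCast_self, zero_mul], add_zero,
      ZMod.natCast_eq_zero_iff] at h9
    exact absurd (Nat.le_of_dvd hr.pos h9) (by nlinarith)
  -- a prime other than `r`
  obtain ⟨ℓ, hℓ, hℓN, hℓr⟩ : ∃ ℓ : ℕ, ℓ.Prime ∧ ℓ ∣ N.natAbs ∧ ℓ ≠ r := by
    by_contra h
    push Not at h
    have hN0 : N.natAbs ≠ 0 := by omega
    have h1 := Nat.eq_prime_pow_of_unique_prime_dvd hN0 (p := r) fun {d} hd hdN => h d hd hdN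
    rcases Nat.lt_or_ge (N.natAbs.primeFactorsList.length) 2 with h2 | h2
    · have : N.natAbs ≤ r ^ 1 := h1 ▸ Nat.pow_le_pow_right hr.pos (by omega)
      rw [pow_one] at this
      omega
    · refine hrr (Int.natCast_dvd.mpr ?_)
      rw [h1, ← pow_two]
      exact pow_dvd_pow r h2
  have hℓN' : (ℓ : ℤ) ∣ N := Int.natCast_dvd.mpr hℓN
  have hne2 : ℓ ≠ 2 := fun e => h2 (by subst e; exact_mod_cast hℓN')
  have hN' := (ZMod.intCast_zmod_eq_zero_iff_dvd N ℓ).mpr hℓN'
  refine ⟨ℓ, hℓ, by have := hℓ.two_le; omega, hℓr, ?_, fun h1 => ?_⟩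
  · have h3 := congrArg (fun x : ℤ => (x : ZMod ℓ)) hgeom
    simp only [Int.cast_mul, hN', zero_mul, Int.cast_sub, Int.cast_pow, Int.cast_one] at h3
    exact sub_eq_zero.mp h3.symm
  · rw [hN, Int.cast_sum] at hN'
    simp only [Int.cast_pow, h1, one_pow, sum_const, card_range, nsmul_eq_mul, mul_one, ZMod.natCast_eq_zero_iff] at hN'
    exact hℓr ((Nat.prime_dvd_prime_iff_eq hℓ hr).mp hN')

/-- An element of an algebraic closure fixed by the Frobenius map of a finite field lies in the field. -/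
theorem mem_range_of_pow_card {K A : Type*} [Field K] [Fintype K] [Field A] [Algebra K A] {x : A}
    (hx : x ^ Fintype.card K = x) : ∃ k : K, algebraMap K A k = x := by
  classical
  by_contra h
  push Not at h
  set s : Finset A := insert x (univ.image (algebraMap K A)) with hs
  have h1 : s.card = Fintype.card K + 1 := by
    rw [hs, card_insert_of_notMem (by simpa using h), card_image_of_injective _ (algebraMap K A).injective, card_univ]
  have h2 : s.card ≤ (Polynomial.X ^ Fintype.card K - Polynomial.X : Polynomial A).natDegree :=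
    Polynomial.card_le_degree_of_subset_roots fun y hy => by
      rw [Polynomial.mem_roots (FiniteField.X_pow_card_sub_X_ne_zero A Fintype.one_lt_card), Polynomial.IsRoot.def]
      simp only [Polynomial.eval_sub, Polynomial.eval_pow, Polynomial.eval_X, sub_eq_zero]
      rcases mem_insert.mp (mem_def.mp hy) with rfl | hy
      · exact hx
      · obtain ⟨k, -, rfl⟩ := mem_image.mp hy
        rw [← map_pow, FiniteField.pow_card]
  rw [h1, FiniteField.X_pow_card_sub_X_natDegree_eq A Fintype.one_lt_card] at h2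
  omega

/-- The data of a rotation of prime order. -/
theorem exists_rotation_data {F K : Type*} [Field F] [Field K] [Algebra F K] [Finite F] [FiniteDimensional F K]
    (hp : (finrank F K).Prime) (h5 : 5 ≤ finrank F K) (h2 : (2 : F) ≠ 0) {δ : K} (hδ : δ ≠ 0) :
    ∃ (ℓ : ℕ) (σ c : K) (μ : AlgebraicClosure K), ℓ.Prime ∧ 2 < ℓ ∧ ℓ ≠ finrank F K ∧ IsPrimitiveRoot μ ℓ ∧
      μ + μ⁻¹ = algebraMap K _ σ ∧ c ≠ 0 ∧ σ / 2 * (σ / 2) - δ * (c * c) = 1 ∧
      σ * σ - 2 ∉ (algebraMap F K).range ∧ ((Nat.card F : ℕ) : ZMod ℓ) ≠ 0 ∧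
      ∀ j, 0 < j → j < finrank F K → ((Nat.card F : ℕ) : ZMod ℓ) ^ j ≠ 1 := by
  classical
  haveI : Finite K := Module.finite_of_finite F
  haveI := Fintype.ofFinite K
  haveI := Fintype.ofFinite F
  set r := finrank F K with hr
  set q := Fintype.card F with hq
  have hQ : Fintype.card K = q ^ r := Module.card_eq_pow_finrank (K := F) (V := K)
  have h2K : (2 : K) ≠ 0 := by rw [← map_ofNat (algebraMap F K)]; exact (_root_.map_ne_zero _).mpr h2
  have h2A : (2 : (AlgebraicClosure K)) ≠ 0 := by rw [← map_ofNat (algebraMap K (AlgebraicClosure K))]; exact (_root_.map_ne_zero _).mpr h2K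
  have hchar : ringChar K ≠ 2 := fun e => h2K (by
    have : ((2 : ℕ) : K) = 0 := by rw [← e, ringChar.Nat.cast_ringChar]
    exact_mod_cast this)
  have hcharF : ringChar F ≠ 2 := fun e => h2 (by
    have : ((2 : ℕ) : F) = 0 := by rw [← e, ringChar.Nat.cast_ringChar]
    exact_mod_cast this)
  have hqodd : Odd q := Nat.odd_iff.mpr (FiniteField.odd_card_of_char_ne_two hcharF)
  have hq3 : 3 ≤ q := by
    obtain ⟨k, hk⟩ := hqodd
    have := Fintype.one_lt_card (α := F)
    omega
  -- the sign is given by the square class of `δ`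
  set neg : Prop := ¬ IsSquare δ
  set a : ℤ := if IsSquare δ then (q : ℤ) else -(q : ℤ) with ha
  have hrodd : Odd r := hp.odd_of_ne_two (by omega)
  obtain ⟨ℓ, hℓ, hℓ2, hℓr, har, ha1⟩ := exists_prime_order (a := a)
    (by rw [ha]; split <;> simp <;> omega)
    (by rw [ha]; split <;> [skip; rw [odd_neg]] <;> exact_mod_cast hqodd) hp h5
  haveI := Fact.mk hℓ
  have hord : orderOf (a : ZMod ℓ) = r := haveI := Fact.mk hp; orderOf_eq_prime har ha1
  have hsq2 : (q : ZMod ℓ) * (q : ZMod ℓ) = (a : ZMod ℓ) * a := by rw [ha]; split <;> simp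
  have hord' : ∀ j, 0 < j → j < r → (q : ZMod ℓ) ^ j ≠ 1 := by
    intro j hj hjr h
    have h1 : (a : ZMod ℓ) ^ (2 * j) = 1 := by
      rw [pow_mul, sq, ← hsq2, mul_pow, h, one_mul]
    have h3 := hord ▸ orderOf_dvd_of_pow_eq_one h1
    rcases hp.dvd_mul.mp h3 with h4 | h4
    · have := Nat.le_of_dvd (by norm_num) h4; omega
    · have := Nat.le_of_dvd hj h4; omega
  have hℓK : (ℓ : (AlgebraicClosure K)) ≠ 0 := by
    intro e
    have e' : (ℓ : K) = 0 := (algebraMap K (AlgebraicClosure K)).injective (by rw [map_natCast, e, map_zero])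
    have h1 : ℓ ∣ Fintype.card K := by
      obtain ⟨p, hpc⟩ := CharP.exists K
      obtain ⟨n, hpp, hn⟩ := FiniteField.card K p
      rw [hn, ← (Nat.prime_dvd_prime_iff_eq hpp hℓ).mp ((CharP.cast_eq_zero_iff K p ℓ).mp e')]
      exact dvd_pow_self p n.ne_zero
    have h3 : (q : ZMod ℓ) = 0 := by
      have := (ZMod.natCast_eq_zero_iff _ _).mpr h1
      rw [hQ, Nat.cast_pow] at this
      exact pow_eq_zero_iff hp.ne_zero |>.mp this
    have h4 : (a : ZMod ℓ) = 0 := by rw [ha]; split <;> simp [h3]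
    rw [h4, zero_pow hp.ne_zero] at har
    exact zero_ne_one har
  haveI : NeZero (ℓ : (AlgebraicClosure K)) := ⟨hℓK⟩
  obtain ⟨μ, hμ⟩ := HasEnoughRootsOfUnity.exists_primitiveRoot (AlgebraicClosure K) ℓ
  have hμ0 : μ ≠ 0 := hμ.ne_zero hℓ.ne_zero
  let φ : (AlgebraicClosure K) →ₐ[K] (AlgebraicClosure K) := FiniteField.frobeniusAlgHom K (AlgebraicClosure K)
  have hφ : ∀ x : (AlgebraicClosure K), φ x = x ^ Fintype.card K := fun x => rfl
  -- how the Frobenius map moves `μ`
  have hμQ : φ μ = if IsSquare δ then μ else μ⁻¹ := by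
    have h1 : ((Fintype.card K : ℤ) : ZMod ℓ) = if IsSquare δ then 1 else -1 := by
      rw [hQ]
      push_cast
      rw [ha] at har
      split <;> rename_i hs
      · rw [if_pos hs] at har; exact_mod_cast har
      · rw [if_neg hs] at har
        push_cast at har
        rw [hrodd.neg_pow] at har
        exact neg_eq_iff_eq_neg.mp har
    split <;> rename_i hs <;> simp only [hs, if_true, if_false] at h1
    · obtain ⟨t, ht⟩ := (ZMod.intCast_eq_intCast_iff_dvd_sub (1 : ℤ) (Fintype.card K : ℤ) ℓ).mp (by rw [h1]; simp)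
      rw [hφ, ← zpow_natCast, show (Fintype.card K : ℤ) = 1 + (ℓ : ℤ) * t by linarith, zpow_add₀ hμ0, zpow_mul,
        zpow_natCast, hμ.pow_eq_one, one_zpow, mul_one, zpow_one]
    · obtain ⟨t, ht⟩ := (ZMod.intCast_eq_intCast_iff_dvd_sub (-1 : ℤ) (Fintype.card K : ℤ) ℓ).mp (by rw [h1]; simp)
      rw [hφ, ← zpow_natCast, show (Fintype.card K : ℤ) = -1 + (ℓ : ℤ) * t by linarith, zpow_add₀ hμ0, zpow_mul,
        zpow_natCast, hμ.pow_eq_one, one_zpow, mul_one, zpow_neg_one]
  obtain ⟨d, hd⟩ := IsAlgClosed.exists_eq_mul_self (algebraMap K (AlgebraicClosure K) δ)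
  have hd0 : d ≠ 0 := fun e => hδ ((algebraMap K (AlgebraicClosure K)).injective (by rw [hd, e, mul_zero, map_zero]))
  have hdQ : φ d = if IsSquare δ then d else -d := by
    obtain ⟨n, hn⟩ : Odd (Fintype.card K) := hQ ▸ hqodd.pow
    have hn' : Fintype.card K / 2 = n := by omega
    rw [hφ, hn, pow_succ, pow_mul, sq, ← hd, ← map_pow, ← hn']
    split <;> rename_i hs
    · rw [(FiniteField.isSquare_iff hchar hδ).mp hs, map_one, one_mul]
    · rw [(FiniteField.pow_dichotomy hchar hδ).resolve_left fun e => hs ((FiniteField.isSquare_iff hchar hδ).mpr e),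
        map_neg, map_one, neg_one_mul]
  obtain ⟨σ, hσ⟩ := mem_range_of_pow_card (K := K) (x := μ + μ⁻¹) (by
    rw [← hφ, map_add, map_inv₀, hμQ]
    split <;> simp [add_comm])
  obtain ⟨c, hc⟩ := mem_range_of_pow_card (K := K) (x := (μ - μ⁻¹) / (2 * d)) (by
    rw [← hφ, map_div₀, map_sub, map_inv₀, map_mul, map_ofNat, hμQ, hdQ]
    split
    · rfl
    · rw [inv_inv, mul_neg, div_neg, ← neg_div, neg_sub])
  have hμne : μ - μ⁻¹ ≠ 0 := fun e => by
    have h1 : μ * μ = 1 := by
      rw [sub_eq_zero] at e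
      nth_rw 2 [e]
      exact mul_inv_cancel₀ hμ0
    have := Nat.le_of_dvd (by norm_num) ((hμ.pow_eq_one_iff_dvd 2).mp (by rw [sq, h1]))
    omega
  refine ⟨ℓ, σ, c, μ, hℓ, hℓ2, hℓr, hμ, hσ.symm, fun e => ?_, (algebraMap K (AlgebraicClosure K)).injective ?_, ?_, ?_, ?_⟩
  · rw [e, map_zero] at hc
    exact div_ne_zero hμne (mul_ne_zero h2A hd0) hc.symm
  · rw [map_sub, map_mul, map_mul, map_mul, map_div₀, map_ofNat, hσ, hc, hd, map_one]
    field_simp
    ring
  · rintro ⟨t, ht⟩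
    -- then a power of `μ` is fixed by `x ↦ x ^ q`
    have h1 : algebraMap K (AlgebraicClosure K) (σ * σ - 2) = μ ^ 2 + (μ ^ 2)⁻¹ := by
      rw [map_sub, map_mul, map_ofNat, hσ]
      field_simp
      ring
    let ψ : (AlgebraicClosure K) →ₐ[F] (AlgebraicClosure K) := FiniteField.frobeniusAlgHom F (AlgebraicClosure K)
    have h3 : ψ (algebraMap K (AlgebraicClosure K) (σ * σ - 2)) = algebraMap K (AlgebraicClosure K) (σ * σ - 2) := by
      rw [← ht, ← IsScalarTower.algebraMap_apply, AlgHom.commutes]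
    rw [h1, map_add, map_inv₀, show ψ (μ ^ 2) = (μ ^ 2) ^ q from rfl] at h3
    set L := μ ^ 2 with hL
    have hL0 : L ≠ 0 := pow_ne_zero 2 hμ0
    have h4 : (L ^ q - L) * (L ^ q * L - 1) = 0 := by
      field_simp at h3
      linear_combination h3
    have h5 : L ^ (q * q) = L := by
      rcases mul_eq_zero.mp h4 with h4 | h4
      · rw [pow_mul, sub_eq_zero.mp h4, sub_eq_zero.mp h4]
      · rw [pow_mul, eq_inv_of_mul_eq_one_left (sub_eq_zero.mp h4), inv_pow,
          eq_inv_of_mul_eq_one_left (sub_eq_zero.mp h4), inv_inv]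
    obtain ⟨n, hn⟩ : ∃ n, q * q = n + 1 := ⟨q * q - 1, (Nat.sub_add_cancel (by nlinarith)).symm⟩
    rw [hn, pow_succ] at h5
    have h6 : μ ^ (2 * n) = 1 := by
      rw [pow_mul, ← hL]
      exact (mul_eq_right₀ hL0).mp h5
    have h7 := (hμ.pow_eq_one_iff_dvd _).mp h6
    rcases hℓ.dvd_mul.mp h7 with h8 | h8
    · have := Nat.le_of_dvd (by norm_num) h8; omega
    · refine hord' 2 two_pos (by omega) ?_
      rw [sq, ← Nat.cast_mul, hn, Nat.cast_succ, (ZMod.natCast_eq_zero_iff _ _).mpr h8, zero_add]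
  · intro h
    rw [Nat.card_eq_fintype_card, ← hq] at h
    refine ha1 ?_
    have h4 : (a : ZMod ℓ) = 0 := by rw [ha]; split <;> simp [h]
    rw [h4, zero_pow hp.ne_zero] at har
    exact absurd har zero_ne_one
  · intro j hj hjr
    rw [Nat.card_eq_fintype_card]
    exact hord' j hj hjr

end Cfsg.Agent.Lib.ThreeTransp.ExtField
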