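import Mathlib

/-!
An additive family of maps invariant under sandwiching by squares is invariant under all sandwiches.
-/

set_option autoImplicit false

namespace Cfsg.Agent.Lib.ThreeTransp.ExtField

open Module

variable {K : Type*} [Field K] [Finite K]

/-- Fourth powers span a finite field of odd characteristic with more than 25 elements. -/
theorem closure_fourth_eq_top (hK : 25 < Nat.card K) :
    AddSubgroup.closure (Set.range fun a : K => a ^ 4) = ⊤ := by
  classical
  haveI := Fintype.ofFinite K
  let M : Submonoid K := MonoidHom.mrange (powMonoidHom (α := K) 4)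
  have hM : (M : Set K) = Set.range fun a : K => a ^ 4 := by ext; simp [M]
  let R : Subring K := Subring.closure (M : Set K)
  have hR : ∀ x, x ∈ R ↔ x ∈ AddSubgroup.closure (Set.range fun a : K => a ^ 4) := fun x => by
    rw [← hM, Subring.mem_closure_iff, Submonoid.closure_eq]
  let E : Subfield K := { R with
    inv_mem' := fun x hx => by
      rcases eq_or_ne x 0 with rfl | hx0
      · rw [inv_zero]; exact R.zero_mem
      · rw [inv_eq_of_mul_eq_one_right (b := x ^ (Fintype.card K - 2)) (by
          rw [← pow_succ', show Fintype.card K - 2 + 1 = Fintype.card K - 1 by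
            have := Fintype.one_lt_card (α := K); omega, FiniteField.pow_card_sub_one_eq_one x hx0])]
        exact R.pow_mem hx _ }
  suffices h : E = ⊤ by
    refine (AddSubgroup.eq_top_iff' _).mpr fun x => (hR x).mp ?_
    have : x ∈ E := h ▸ Subfield.mem_top x
    exact this
  have hd : finrank E K ≤ 1 := by
    by_contra hc
    push Not at hc
    have h1 := Module.natCard_eq_pow_finrank (K := E) (V := K)
    have h2 : Nat.card E ^ 2 ≤ Nat.card K := h1 ▸ Nat.pow_le_pow_right Nat.card_pos hc
    -- at least a quarter of the non-zero elements are fourth powers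
    let f : Kˣ →* Kˣ := powMonoidHom 4
    have h3 : Nat.card f.ker ≤ 4 := by
      rw [show f.ker = rootsOfUnity 4 K from Subgroup.ext fun u => by simp [f, mem_rootsOfUnity]]
      exact card_rootsOfUnity K 4
    have h4 : Nat.card f.range ≤ Nat.card E := by
      refine Nat.card_le_card_of_injective (fun u => (⟨((u : Kˣ) : K), ?_⟩ : E)) fun u v e =>
        Subtype.ext (Units.ext (Subtype.ext_iff.mp e))
      obtain ⟨a, ha⟩ := u.2
      refine Subring.subset_closure ⟨(a : K), ?_⟩
      rw [← ha]; simp [f]
    have h5 := f.ker.card_mul_index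
    rw [Subgroup.index_ker, Nat.card_units] at h5
    have h6 : Nat.card K - 1 ≤ 4 * Nat.card E := h5 ▸ Nat.mul_le_mul h3 h4
    have : 25 < Nat.card E ^ 2 ∨ Nat.card E < 6 := by
      by_cases h : Nat.card E < 6
      · exact Or.inr h
      · exact Or.inl (by push Not at h; nlinarith)
    rcases this with h | h
    · nlinarith [Nat.sub_add_cancel (Finite.one_lt_card (α := K)).le]
    · omega
  refine Subfield.ext fun x => ⟨fun _ => trivial, fun _ => ?_⟩
  obtain ⟨v, hv⟩ := finrank_le_one_iff.mp hd
  obtain ⟨a, ha⟩ := hv x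
  obtain ⟨b, hb⟩ := hv 1
  have hb' : (b : K) * v = 1 := hb
  have ha' : (a : K) * v = x := ha
  rw [← ha', show v = (b : K)⁻¹ from eq_inv_of_mul_eq_one_right hb']
  exact E.mul_mem a.2 (E.inv_mem b.2)

variable {A : Type*} [AddCommGroup A]

/-- A symmetric biadditive map vanishing at pairs of equal squares vanishes at all equal pairs. -/
theorem diag_mem (W : AddSubgroup A) (hK : 25 < Nat.card K) {p : ℕ} (hp : Odd p) (hA : ∀ x : A, p • x = 0)
    (C : K →+ K →+ A) (hC : ∀ a : K, C (a * a) (a * a) ∈ W) (c : K) : C c c ∈ W := by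
  have half : ∀ y : A, 2 • y ∈ W → y ∈ W := fun y h => by
    have h7 := W.nsmul_mem h ((p + 1) / 2)
    rwa [← mul_nsmul', Nat.div_mul_cancel (by obtain ⟨k, rfl⟩ := hp; exact ⟨k + 1, by ring⟩), add_nsmul, hA, zero_add,
      one_nsmul] at h7
  have hB : ∀ a : K, C (a * a) 1 + C 1 (a * a) + 4 • C a a ∈ W := by
    intro a
    have h1 := hC (a + 1)
    have h2 := hC (a - 1)
    have h3 := hC 1
    rw [one_mul] at h3
    have h4 := hC a
    have h5 := W.sub_mem (W.sub_mem (W.add_mem h1 h2) (W.add_mem h3 h4)) (W.add_mem h3 h4)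
    have e1 : (a + 1) * (a + 1) = a * a + 1 + (a + a) := by ring
    have e2 : (a - 1) * (a - 1) = a * a + 1 - (a + a) := by ring
    rw [e1, e2] at h5
    simp only [map_add, map_sub, AddMonoidHom.add_apply, AddMonoidHom.sub_apply] at h5
    have h6 : 2 • (C (a * a) 1 + C 1 (a * a) + 4 • C a a) ∈ W := by
      convert h5 using 1
      abel
    exact half _ h6
  let L : K →+ A := C.flip 1 + C 1
  have h4 : AddSubgroup.closure (Set.range fun a : K => a ^ 4) ≤ W.comap L := by
    rw [AddSubgroup.closure_le]
    rintro _ ⟨a, rfl⟩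
    show C.flip 1 (a ^ 4) + C 1 (a ^ 4) ∈ W
    have h := W.sub_mem (hB (a * a)) (W.nsmul_mem (hC a) 4)
    rw [add_sub_cancel_right, ← show a ^ 4 = a * a * (a * a) by ring] at h
    exact h
  rw [closure_fourth_eq_top hK] at h4
  have h := W.sub_mem (hB c) (h4 (AddSubgroup.mem_top (c * c)))
  change C (c * c) 1 + C 1 (c * c) + 4 • C c c - (C (c * c) 1 + C 1 (c * c)) ∈ W at h
  rw [add_sub_cancel_left] at h
  exact half _ (half _ (by rwa [← mul_nsmul']))

end Cfsg.Agent.Lib.ThreeTransp.ExtField
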