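import Cfsg.Agent.Lib.ThreeTransp.ExtSymAlg

/-!
Spaces of skew endomorphisms of a finite field `K` of odd prime degree over `F`, stable under the symmetrised action
of `K`: they are zero, everything, or their Lie stabiliser consists of the multiplications.
-/

set_option autoImplicit false

namespace Cfsg.Agent.Lib.ThreeTransp.ExtSym

open Module Polynomial

variable {F K : Type*} [Field F] [Finite F] [Field K] [Algebra F K] [FiniteDimensional F K]

/-- The skew endomorphism with coefficient `c` at `i`. -/
def skewPair (i : K ≃ₐ[F] K) (c : K) : K →ₗ[F] K := single c i - single (i⁻¹ c) i⁻¹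

theorem adj_skewPair (i : K ≃ₐ[F] K) (c : K) : adj (skewPair i c) = -skewPair i c := by
  rw [skewPair, adj_sub, adj_single, adj_single, inv_inv, show i (i⁻¹ c) = c from i.apply_symm_apply c, neg_sub]

theorem coef_neg (x : K →ₗ[F] K) (e : K ≃ₐ[F] K) : coef (-x) e = -coef x e := by simp [coef]

theorem skew_coef {l : K →ₗ[F] K} (hl : adj l = -l) (e : K ≃ₐ[F] K) : coef l e = -e (coef l e⁻¹) := by
  rw [← coef_adj, hl, coef_neg, neg_neg]

theorem skew_coef_one (h2 : (2 : F) ≠ 0) {l : K →ₗ[F] K} (hl : adj l = -l) : coef l 1 = 0 := by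
  have h := skew_coef hl 1
  rw [inv_one, AlgEquiv.one_apply] at h
  have h' : algebraMap F K 2 * coef l 1 = 0 := by rw [map_ofNat]; linear_combination h
  exact (mul_eq_zero.mp h').resolve_left ((_root_.map_ne_zero _).mpr h2)

variable (hp : (finrank F K).Prime)
include hp

/-- In degree two all skew endomorphisms are multiples of a non-zero one. -/
theorem skew_degree_two (h2 : (2 : F) ≠ 0) (hr : finrank F K = 2) {l l₀ : K →ₗ[F] K} (hl : adj l = -l)
    (hl₀ : adj l₀ = -l₀) (h0 : l₀ ≠ 0) : ∃ t : F, l = t • l₀ := by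
  classical
  haveI : Finite K := Module.finite_of_finite F
  have hcard : Nat.card (K ≃ₐ[F] K) = 2 := by rw [IsGalois.card_aut_eq_finrank, hr]
  obtain ⟨i, hi, hall⟩ : ∃ i : K ≃ₐ[F] K, i ≠ 1 ∧ ∀ e, e = 1 ∨ e = i := by
    haveI : Nontrivial (K ≃ₐ[F] K) := Finite.one_lt_card_iff_nontrivial.mp (by omega)
    obtain ⟨i, hi⟩ := exists_ne (1 : K ≃ₐ[F] K)
    refine ⟨i, hi, fun e => ?_⟩
    by_contra h
    push Not at h
    have : Finset.card ({1, i, e} : Finset (K ≃ₐ[F] K)) ≤ Fintype.card (K ≃ₐ[F] K) := Finset.card_le_univ _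
    rw [Finset.card_eq_three.mpr ⟨1, i, e, Ne.symm hi, Ne.symm h.1, Ne.symm h.2, rfl⟩,
      ← Nat.card_eq_fintype_card, hcard] at this
    omega
  have hii : i⁻¹ = i := (hall i⁻¹).resolve_left (by simpa using hi)
  have hne : coef l₀ i ≠ 0 := fun h => h0 (ext_coef fun e => by
    rcases hall e with rfl | rfl
    · rw [skew_coef_one h2 hl₀, coef_zero]
    · rw [h, coef_zero])
  have hfix : i (coef l i / coef l₀ i) = coef l i / coef l₀ i := by
    conv_rhs => rw [skew_coef hl, skew_coef hl₀, hii]
    rw [map_div₀, neg_div_neg_eq]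
  obtain ⟨t, ht⟩ := eq_alg_of_fixed hp hi hfix
  refine ⟨t, ext_coef fun e => ?_⟩
  have hs : ∀ e, coef (t • l₀) e = algebraMap F K t * coef l₀ e := fun e => by
    rw [coef, ← algebraMap_smul K t l₀, map_smul]; rfl
  rcases hall e with rfl | rfl
  · rw [hs, skew_coef_one h2 hl, skew_coef_one h2 hl₀, mul_zero]
  · rw [hs, ht, div_mul_cancel₀ _ hne]

variable (hr2 : finrank F K ≠ 2)
include hr2

theorem ne_inv {i : K ≃ₐ[F] K} (hi : i ≠ 1) : i ≠ i⁻¹ := by
  intro h
  haveI : Finite K := Module.finite_of_finite F
  have h1 : i ^ 2 = 1 := by rw [sq]; nth_rw 2 [h]; exact mul_inv_cancel i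
  have h3 : orderOf i = 2 := (orderOf_eq_prime h1 hi)
  have h4 := orderOf_dvd_natCard i
  rw [h3, IsGalois.card_aut_eq_finrank] at h4
  exact hr2 ((Nat.prime_dvd_prime_iff_eq Nat.prime_two hp).mp h4).symm

/-- A skew endomorphism supported on `{i, i⁻¹}`. -/
theorem exists_skewPair {i : K ≃ₐ[F] K} (hi : i ≠ 1) {l : K →ₗ[F] K} (hl : adj l = -l)
    (hs : ∀ e, e ≠ i → e ≠ i⁻¹ → coef l e = 0) : ∃ c, l = skewPair i c := by
  classical
  refine ⟨coef l i, ext_coef fun e => ?_⟩
  have h2 := ne_inv hp hr2 hi
  rw [skewPair, coef_sub, coef_single, coef_single]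
  by_cases he : e = i
  · rw [he, if_pos rfl, if_neg h2, sub_zero]
  by_cases he' : e = i⁻¹
  · rw [he', if_neg fun h => h2 h.symm, if_pos rfl, zero_sub, skew_coef hl, inv_inv]
  · rw [if_neg he, if_neg he', sub_zero, hs e he he']

/-- The endomorphism `skewPair i` takes every value of trace zero at a given point. -/
theorem exists_skewPair_apply {i : K ≃ₐ[F] K} (hi : i ≠ 1) {c x : K} (hc : c ≠ 0)
    (hx : Algebra.trace F K (x * c) = 0) : ∃ a, skewPair i a c = x := by
  classical
  haveI : Finite K := Module.finite_of_finite F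
  let L : K →ₗ[F] K := LinearMap.id - (i⁻¹ : K ≃ₐ[F] K).toLinearMap
  have hker : LinearMap.ker L = LinearMap.range (Algebra.linearMap F K) := by
    ext z
    rw [LinearMap.mem_ker, LinearMap.mem_range]
    refine ⟨fun h => ?_, ?_⟩
    · obtain ⟨t, ht⟩ := eq_alg_of_fixed hp (show i⁻¹ ≠ 1 by simpa using hi) (sub_eq_zero.mp h).symm
      exact ⟨t, ht⟩
    · rintro ⟨t, rfl⟩
      simp [L]
  have hrange : LinearMap.range L = LinearMap.ker (Algebra.trace F K) := by
    refine Submodule.eq_of_le_of_finrank_le ?_ ?_
    · rintro _ ⟨z, rfl⟩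
      simp [L, Algebra.trace_eq_of_algEquiv]
    · have h1 := L.finrank_range_add_finrank_ker
      rw [hker, LinearMap.finrank_range_of_inj (f := Algebra.linearMap F K) (algebraMap F K).injective, finrank_self] at h1
      have h2 := (Algebra.trace F K).finrank_range_add_finrank_ker
      rw [LinearMap.range_eq_top.mpr (Algebra.trace_surjective F K), finrank_top, finrank_self] at h2
      omega
  obtain ⟨z, hz⟩ := (hrange.symm ▸ hx : x * c ∈ LinearMap.range L)
  refine ⟨z / (c * i c), mul_right_cancel₀ hc ?_⟩
  rw [← hz]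
  simp only [skewPair, LinearMap.sub_apply, single_apply, L, LinearMap.id_apply]
  show _ = z - i⁻¹ z
  rw [map_div₀, map_mul, show i⁻¹ (i c) = c from i.symm_apply_apply c]
  have hic : i c ≠ 0 := (_root_.map_ne_zero _).mpr hc
  have hic' : i⁻¹ c ≠ 0 := (_root_.map_ne_zero _).mpr hc
  field_simp

variable (W : Submodule F (K →ₗ[F] K))
  (hO : ∀ c, ∀ l ∈ W, LinearMap.mulLeft F c ∘ₗ l + l ∘ₗ LinearMap.mulLeft F c ∈ W)
  (hsym : ∀ l ∈ W, adj l = -l)
include hO hsym

/-- A non-zero coefficient at `i` gives the whole component. -/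
theorem skew_component_mem {i : K ≃ₐ[F] K} (hi : i ≠ 1) {l : K →ₗ[F] K} (hl : l ∈ W) (hli : coef l i ≠ 0) :
    ∀ c, skewPair i c ∈ W := by
  classical
  haveI : Finite K := Module.finite_of_finite F
  obtain ⟨a, ha⟩ := exists_linearIndependent_algEquiv_apply F K
  let s : (K ≃ₐ[F] K) → K := fun e => a + e a
  let O : Module.End F (K →ₗ[F] K) :=
    { toFun := fun y => LinearMap.mulLeft F a ∘ₗ y + y ∘ₗ LinearMap.mulLeft F a
      map_add' := fun x y => by simp [LinearMap.comp_add, LinearMap.add_comp]; abel
      map_smul' := fun t x => by simp [LinearMap.comp_smul, LinearMap.smul_comp] }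
  have hOc : ∀ y e, coef (O y) e = s e * coef y e := fun y e => by
    show coef (LinearMap.mulLeft F a ∘ₗ y + y ∘ₗ LinearMap.mulLeft F a) e = _
    rw [coef_add, show LinearMap.mulLeft F a = single a (1 : K ≃ₐ[F] K) from rfl, coef_single_comp, coef_comp_single]
    simp only [inv_one, one_mul, mul_one, AlgEquiv.one_apply, s]
    ring
  have hPc : ∀ (P : F[X]) y e, coef (aeval O P y) e = aeval (s e) P * coef y e := by
    intro P y e
    induction P using Polynomial.induction_on' with
    | add p q hp hq => rw [map_add, map_add, LinearMap.add_apply, coef_add, hp, hq, add_mul]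
    | monomial n t =>
      rw [aeval_monomial, aeval_monomial, Module.End.mul_apply, Module.algebraMap_end_apply]
      have hn : ∀ n : ℕ, coef ((O ^ n) y) e = s e ^ n * coef y e := by
        intro n
        induction n with
        | zero => simp
        | succ n ih => rw [pow_succ', Module.End.mul_apply, hOc, ih, pow_succ', mul_assoc]
      rw [← algebraMap_smul K t ((O ^ n) y), coef, map_smul, Finsupp.smul_apply, smul_eq_mul, mul_assoc]
      exact congrArg _ (hn n)
  have hPW : ∀ (P : F[X]), ∀ y ∈ W, aeval O P y ∈ W := by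
    intro P y hy
    induction P using Polynomial.induction_on' with
    | add p q hp hq => rw [map_add, LinearMap.add_apply]; exact W.add_mem hp hq
    | monomial n t =>
      rw [aeval_monomial, Module.End.mul_apply, Module.algebraMap_end_apply]
      refine W.smul_mem t ?_
      induction n with
      | zero => simpa using hy
      | succ n ih => rw [pow_succ', Module.End.mul_apply]; exact hO a _ ih
  -- the values at different pairs are not conjugate
  have hne : ∀ (e τ : K ≃ₐ[F] K), τ (s e) = s i → τ = 1 ∧ e = i ∨ τ = i ∧ e = i⁻¹ := by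
    intro e τ h
    simp only [s, map_add] at h
    rw [← AlgEquiv.mul_apply τ e] at h
    obtain ⟨B, hB⟩ : ∃ B : Basis (K ≃ₐ[F] K) F K, ∀ σ, B σ = σ a :=
      ⟨basisOfLinearIndependentOfCardEqFinrank ha (by rw [Fintype.card_eq_nat_card, IsGalois.card_aut_eq_finrank]),
        fun σ => by simp⟩
    have key : ∀ σ : K ≃ₐ[F] K, ((if τ = σ then 1 else 0) + if τ * e = σ then 1 else 0 : F) =
        (if 1 = σ then 1 else 0) + if i = σ then 1 else 0 := fun σ => by
      have h0 : B τ + B (τ * e) = B 1 + B i := by rw [hB, hB, hB, hB, AlgEquiv.one_apply, h]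
      have h1 := congrArg (fun z => B.repr z σ) h0
      simpa only [map_add, Basis.repr_self, Finsupp.add_apply, Finsupp.single_apply] using h1
    have k1 := key 1
    by_cases h1 : τ = 1
    · subst h1
      refine Or.inl ⟨rfl, ?_⟩
      rw [one_mul] at k1
      have k2 := key i
      rw [one_mul] at k2
      by_contra hei
      simp [Ne.symm hi, hei] at k2
    · have h2 : τ * e = 1 := by
        by_contra h2
        simp [h1, h2, hi] at k1
      refine Or.inr ⟨?_, ?_⟩
      · by_contra h3
        have k2 := key i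
        simp [h2, h3, Ne.symm hi] at k2
      · have h3 : τ = i := by
          by_contra h3
          have k2 := key i
          simp [h2, h3, Ne.symm hi] at k2
        rw [← h3]; exact eq_inv_of_mul_eq_one_right h2
  let P : F[X] := ∏ e ∈ Finset.univ.filter (fun e => e ≠ i ∧ e ≠ i⁻¹), minpoly F (s e)
  have hPi : aeval (s i) P ≠ 0 := by
    simp only [P, map_prod, ne_eq, Finset.prod_eq_zero_iff, not_exists, not_and, Finset.mem_filter,
      Finset.mem_univ, true_and]
    intro e he h0
    have hint : IsIntegral F (s e) := Algebra.IsIntegral.isIntegral _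
    obtain ⟨τ, hτ⟩ := (Normal.minpoly_eq_iff_mem_orbit K).mp
      (minpoly.eq_of_irreducible_of_monic (minpoly.irreducible hint) h0 (minpoly.monic hint)).symm
    rcases hne e τ hτ with ⟨-, h⟩ | ⟨-, h⟩
    · exact he.1 h
    · exact he.2 h
  set μ := aeval O P l with hμ
  have hμW : μ ∈ W := hPW P l hl
  obtain ⟨c₀, hc₀⟩ := exists_skewPair hp hr2 hi (hsym μ hμW) fun e he he' => by
    rw [hμ, hPc, show aeval (s e) P = 0 from ?_, zero_mul]
    rw [map_prod]
    exact Finset.prod_eq_zero (Finset.mem_filter.mpr ⟨Finset.mem_univ e, he, he'⟩) (minpoly.aeval F (s e))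
  let D : Submodule F K :=
    { carrier := {c | skewPair i c ∈ W}
      add_mem' := fun {x y} hx hy => by
        show skewPair i (x + y) ∈ W
        convert W.add_mem hx hy using 1
        exact LinearMap.ext fun k => by simp [skewPair, single_apply, add_mul]; ring
      zero_mem' := by
        show skewPair i 0 ∈ W
        convert W.zero_mem using 1
        exact LinearMap.ext fun k => by simp [skewPair, single_apply]
      smul_mem' := fun t x hx => by
        show skewPair i (t • x) ∈ W
        convert W.smul_mem t hx using 1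
        exact LinearMap.ext fun k => by simp [skewPair, single_apply, smul_sub] }
  have hc₀D : c₀ ∈ D := by
    show skewPair i c₀ ∈ W
    rw [← hc₀]; exact hμW
  have hDs : ∀ x ∈ D, s i * x ∈ D := fun x hx => by
    show skewPair i (s i * x) ∈ W
    convert hO a _ hx using 1
    refine LinearMap.ext fun k => ?_
    simp only [skewPair, single_apply, LinearMap.add_apply, LinearMap.sub_apply, LinearMap.comp_apply, LinearMap.mulLeft_apply, map_mul,
      map_add, s]
    rw [show i⁻¹ (i a) = a from i.symm_apply_apply a]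
    ring
  have hμi : coef μ i ≠ 0 := by rw [hμ, hPc]; exact mul_ne_zero hPi hli
  haveI := Subalgebra.isSimpleOrder_of_finrank_prime F K hp
  let M : Subalgebra F K :=
    { carrier := {z | ∀ x ∈ D, z * x ∈ D}
      mul_mem' := fun {x y} hx hy z hz => by rw [mul_assoc]; exact hx _ (hy _ hz)
      add_mem' := fun {x y} hx hy z hz => by rw [add_mul]; exact D.add_mem (hx _ hz) (hy _ hz)
      algebraMap_mem' := fun t z hz => by rw [← Algebra.smul_def]; exact D.smul_mem t hz }
  have hc₀0 : c₀ ≠ 0 := fun h => hμi (by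
    rw [hc₀, h, show skewPair i (0 : K) = 0 from LinearMap.ext fun k => by simp [skewPair, single_apply], coef_zero])
  rcases eq_bot_or_eq_top M with hM | hM
  · -- the value at `i` would lie in `F`
    intro c
    have hsM : s i ∈ M := hDs
    rw [hM] at hsM
    obtain ⟨t, ht⟩ := Algebra.mem_bot.mp hsM
    rcases hne i i (by rw [← ht, AlgEquiv.commutes]) with ⟨h, -⟩ | ⟨-, h⟩
    · exact absurd h hi
    · exact absurd h (ne_inv hp hr2 hi)
  · intro c
    have h := (hM ▸ trivial : c * c₀⁻¹ ∈ M) c₀ hc₀D
    rwa [inv_mul_cancel_right₀ hc₀0] at h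

/-- **The dichotomy.** -/
theorem skew_all_or_scalar (h2 : (2 : F) ≠ 0) {l₀ : K →ₗ[F] K} (hl₀ : l₀ ∈ W) (h0 : l₀ ≠ 0) :
    (∀ l, adj l = -l → l ∈ W) ∨
    ∀ x : K →ₗ[F] K, (∀ l ∈ W, x ∘ₗ l + l ∘ₗ adj x ∈ W) → ∀ k, x k = x 1 * k := by
  classical
  haveI : Finite K := Module.finite_of_finite F
  by_cases hall : ∀ i : K ≃ₐ[F] K, i ≠ 1 → ∀ c, skewPair i c ∈ W
  · left
    suffices ∀ (n : ℕ) l, adj l = -l → (Finset.univ.filter fun e => coef l e ≠ 0).card ≤ n → l ∈ W from
      fun l hl => this _ l hl le_rfl
    intro n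
    induction n with
    | zero =>
      intro l _ h0
      rw [show l = 0 from ext_coef fun e => by
        rw [coef_zero]
        by_contra h
        rw [Nat.le_zero, Finset.card_eq_zero, Finset.filter_eq_empty_iff] at h0
        exact h0 (Finset.mem_univ e) h]
      exact W.zero_mem
    | succ n ih =>
      intro l hl hcard
      by_cases hex : ∃ e, coef l e ≠ 0
      · obtain ⟨i, hli⟩ := hex
        have hi : i ≠ 1 := fun h => hli (h ▸ skew_coef_one h2 hl)
        have hii := ne_inv hp hr2 hi
        have hpc : ∀ e, coef (skewPair i (coef l i)) e = if e = i ∨ e = i⁻¹ then coef l e else 0 := fun e => by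
          rw [skewPair, coef_sub, coef_single, coef_single]
          by_cases he : e = i
          · simp [he, hii]
          by_cases he' : e = i⁻¹
          · rw [he', if_neg fun h => hii h.symm, if_pos rfl, zero_sub, if_pos (Or.inr rfl)]
            conv_rhs => rw [skew_coef hl, inv_inv]
          · simp [he, he']
        have hrest : l - skewPair i (coef l i) ∈ W := by
          refine ih _ (by rw [adj_sub, hl, adj_skewPair]; abel) (Nat.le_of_lt_succ (lt_of_lt_of_le ?_ hcard))
          refine Finset.card_lt_card (Finset.ssubset_iff_subset_ne.mpr ⟨fun e he => ?_, fun h => ?_⟩)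
          · simp only [Finset.mem_filter, Finset.mem_univ, true_and, coef_sub, hpc] at he ⊢
            intro h0; apply he; rw [h0]; simp
          · have h1 : i ∈ Finset.univ.filter fun e => coef (l - skewPair i (coef l i)) e ≠ 0 :=
              h ▸ Finset.mem_filter.mpr ⟨Finset.mem_univ _, hli⟩
            simp [coef_sub, hpc] at h1
        rw [← sub_add_cancel l (skewPair i (coef l i))]
        exact W.add_mem hrest (hall i hi _)
      · push Not at hex
        rw [show l = 0 from ext_coef fun e => by rw [coef_zero, hex]]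
        exact W.zero_mem
  · right
    intro x hx
    by_contra hns
    obtain ⟨j, hj, hxj⟩ : ∃ j, j ≠ 1 ∧ coef x j ≠ 0 := by
      by_contra hc
      push Not at hc
      apply hns
      intro k
      have e : x = LinearMap.mulLeft F (coef x 1) := ext_coef fun e => by
        rw [coef_mulLeft]
        by_cases he : e = 1 <;> simp [he, hc]
      rw [e]; simp
    let J : (K ≃ₐ[F] K) → Prop := fun i => i ≠ 1 → ∀ c, skewPair i c ∈ W
    have hinv : ∀ i, J i → J i⁻¹ := fun i h hi c => by
      have h1 := W.neg_mem (h (by simpa using hi) (i c))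
      convert h1 using 1
      rw [skewPair, skewPair, inv_inv, show i⁻¹ (i c) = c from i.symm_apply_apply c, neg_sub]
    have hstep : ∀ i, i ≠ 1 → J i → J (i * j) := by
      intro i hi1 hi hij
      let g : K →ₗ[F] K := single (coef x j) j - single (coef x (i * j * i)) (i * j) +
        single (i (coef (adj x) j)) 1 - single (i⁻¹ (coef (adj x) (i * (i * j)))) i⁻¹
      obtain ⟨c, hc⟩ : ∃ c, g c ≠ 0 := by
        by_contra hc
        push Not at hc
        have : g = 0 := LinearMap.ext hc
        have h1 := congrArg (coef · j) this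
        have e1 : j ≠ i * j := fun h => hi1 (by simpa using h)
        have e2 : j ≠ i⁻¹ := fun h => hij (by rw [h]; exact mul_inv_cancel i)
        simp only [g, coef_add, coef_sub, coef_single, coef_zero, if_true, if_neg e1, if_neg hj, if_neg e2,
          add_zero, sub_zero] at h1
        exact hxj h1
      refine skew_component_mem hp hr2 W hO hsym hij (hx _ (hi hi1 c)) ?_
      have e1 : i * j * i⁻¹ = j := by rw [aut_comm hp i j]; group
      have e2 : i⁻¹ * (i * j) = j := by group
      rw [skewPair, LinearMap.comp_sub, LinearMap.sub_comp, coef_add, coef_sub, coef_sub, coef_comp_single,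
        coef_comp_single, coef_single_comp, coef_single_comp, inv_inv, e1, e2]
      have e3 : (i * j * i) (i⁻¹ c) = (i * j) c := by
        rw [← AlgEquiv.mul_apply, mul_inv_cancel_right]
      rw [e3]
      convert hc using 1
      simp only [g, LinearMap.add_apply, LinearMap.sub_apply, single_apply, AlgEquiv.one_apply]
      ring
    obtain ⟨i₁, hi₁, hJ₁⟩ : ∃ i, i ≠ 1 ∧ J i := by
      obtain ⟨e, he⟩ : ∃ e, coef l₀ e ≠ 0 := by
        by_contra hc
        push Not at hc
        exact h0 (ext_coef fun e => by rw [coef_zero, hc])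
      have he1 : e ≠ 1 := fun h => he (h ▸ skew_coef_one h2 (hsym _ hl₀))
      exact ⟨e, he1, fun _ => skew_component_mem hp hr2 W hO hsym he1 hl₀ he⟩
    have hmem : ∀ i : K ≃ₐ[F] K, ∃ n : ℕ, j ^ n = i := fun i =>
      (IsOfFinOrder.mem_powers_iff_mem_zpowers (isOfFinOrder_of_finite j)).mpr
        (show i ∈ Subgroup.zpowers j by rw [zpowers_eq_top hp hj]; trivial)
    have hJj : J j := by
      have hex : ∃ n : ℕ, i₁ * j ^ n = 1 := by
        obtain ⟨n, hn⟩ := hmem i₁⁻¹
        exact ⟨n, by rw [hn, mul_inv_cancel]⟩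
      have hup : ∀ n, n < Nat.find hex → J (i₁ * j ^ n) := by
        intro n
        induction n with
        | zero => intro _; rwa [pow_zero, mul_one]
        | succ n ih =>
          intro hn
          rw [pow_succ, ← mul_assoc]
          exact hstep _ (Nat.find_min hex (by omega)) (ih (by omega))
      obtain ⟨m, hm⟩ : ∃ m, Nat.find hex = m + 1 := Nat.exists_eq_add_one.mpr (Nat.pos_of_ne_zero fun h => by
        have := Nat.find_spec hex
        rw [h, pow_zero, mul_one] at this
        exact hi₁ this)
      have h1 := hup m (by omega)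
      have h2 := Nat.find_spec hex
      rw [hm, pow_succ, ← mul_assoc, mul_eq_one_iff_eq_inv] at h2
      rw [h2] at h1
      simpa using hinv _ h1
    have hpow : ∀ n : ℕ, J (j ^ n) := by
      intro n
      induction n with
      | zero => intro h; simp at h
      | succ n ih =>
        rw [pow_succ]
        by_cases h : j ^ n = 1
        · rwa [h, one_mul]
        · exact hstep _ h ih
    apply hall
    intro i hi
    obtain ⟨n, rfl⟩ := hmem i
    exact hpow n hi

end Cfsg.Agent.Lib.ThreeTransp.ExtSym
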