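import Cfsg.Agent.Lib.ThreeTransp.ExtOrthBase
import Cfsg.Agent.Lib.ThreeTransp.ExtSkewAlg
import Cfsg.Agent.Lib.ThreeTransp.ExtOrthSq

/-!
Root elements at a singular vector, the action of line stabilisers, and `p`-subgroups of vector stabilisers.
-/

set_option autoImplicit false

namespace Cfsg.Agent.Lib.ThreeTransp.ExtField

open Module
open Cfsg.Agent.Lib.ThreeTransp.ExtSym (adj adj_unique trace_adj adj_comp adj_mulLeft skew_all_or_scalar
  skew_degree_two)

variable {F K V : Type*} [Field F] [Field K] [Algebra F K] [AddCommGroup V] [Module F V] [Module K V]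
  [IsScalarTower F K V]
variable {Φ : V →ₗ[K] V →ₗ[K] K} {G : Subgroup (V ≃ₗ[F] V)} {v : V}

/-- The stabiliser in `G` of `v` and of its `K`-line, with the action on the line bijective. -/
def lineStab (K : Type*) [Field K] [Algebra F K] [Module K V] (G : Subgroup (V ≃ₗ[F] V)) (v : V) :
    Subgroup (V ≃ₗ[F] V) where
  carrier := {g | g ∈ G ∧ g v = v ∧ (∀ c : K, g (c • v) ∈ K ∙ v) ∧ ∀ c : K, g.symm (c • v) ∈ K ∙ v}
  one_mem' := ⟨G.one_mem, rfl, fun c => Submodule.smul_mem _ c (Submodule.mem_span_singleton_self v),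
    fun c => Submodule.smul_mem _ c (Submodule.mem_span_singleton_self v)⟩
  mul_mem' := fun {a b} ha hb => by
    refine ⟨G.mul_mem ha.1 hb.1, by rw [LinearEquiv.mul_apply, hb.2.1, ha.2.1], fun c => ?_, fun c => ?_⟩
    · obtain ⟨d, hd⟩ := Submodule.mem_span_singleton.mp (hb.2.2.1 c)
      show a (b (c • v)) ∈ _
      rw [← hd]; exact ha.2.2.1 d
    · obtain ⟨d, hd⟩ := Submodule.mem_span_singleton.mp (ha.2.2.2 c)
      show b.symm (a.symm (c • v)) ∈ _
      rw [← hd]; exact hb.2.2.2 d
  inv_mem' := fun {a} ha => ⟨G.inv_mem ha.1, (LinearEquiv.symm_apply_eq a).mpr ha.2.1.symm, ha.2.2.2, ha.2.2.1⟩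

variable [Finite F] [FiniteDimensional F K] [FiniteDimensional K V]

/-- All skew root elements at `v` lie in `G`. -/
def HasLong (Φ : V →ₗ[K] V →ₗ[K] K) (G : Subgroup (V ≃ₗ[F] V)) (v : V) : Prop :=
  ∀ l : K →ₗ[F] K, adj l = -l → l ∈ rootSet Φ G v

omit [FiniteDimensional K V] in
theorem eq_of_trace {a b : K} (h : ∀ d, Algebra.trace F K (d * a) = Algebra.trace F K (d * b)) : a = b :=
  sub_eq_zero.mp ((traceForm_nondegenerate F K).1 _ fun d => by
    rw [Algebra.traceForm_apply, sub_mul, map_sub, mul_comm a, mul_comm b, h, sub_self])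

omit [FiniteDimensional K V] in
theorem exists_line_equiv (hv : v ≠ 0) {g : V ≃ₗ[F] V} (hline : ∀ c : K, g (c • v) ∈ K ∙ v) :
    ∃ α : K ≃ₗ[F] K, ∀ c : K, g (c • v) = α c • v := by
  choose a ha using fun c => Submodule.mem_span_singleton.mp (hline c)
  let a' : K →ₗ[F] K :=
    { toFun := a
      map_add' := fun x y => smul_left_injective K hv (by simp only [ha, add_smul, map_add])
      map_smul' := fun t x => smul_left_injective K hv (by simp only [ha, RingHom.id_apply, smul_assoc, map_smul]) }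
  have hinj : Function.Injective a' := fun x y e => smul_left_injective K hv (g.injective (by
    rw [← ha, ← ha, show a x = a y from e]))
  exact ⟨LinearEquiv.ofInjectiveEndo a' hinj, fun c => (ha c).symm⟩

namespace OrthOver

variable (S : OrthOver Φ G)
include S

omit [Finite F] [FiniteDimensional F K] [FiniteDimensional K V] in
theorem trace_line {g : V ≃ₗ[F] V} (hg : g ∈ G) {α : K ≃ₗ[F] K} (hα : ∀ c : K, g (c • v) = α c • v) (z : V) (d : K) :
    Algebra.trace F K (α d * Φ (g z) v) = Algebra.trace F K (d * Φ z v) := by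
  have h := S.isom g hg z (d • v)
  rwa [hα, (Φ (g z)).map_smul, (Φ z).map_smul] at h

omit [FiniteDimensional K V] in
theorem perp_image {g : V ≃ₗ[F] V} (hg : g ∈ G) {α : K ≃ₗ[F] K} (hα : ∀ c : K, g (c • v) = α c • v) {z : V}
    (hz : Φ z v = 0) : Φ (g z) v = 0 := by
  refine eq_of_trace (F := F) fun d => ?_
  obtain ⟨e, rfl⟩ := α.surjective d
  rw [S.trace_line hg hα, hz, mul_zero, mul_zero]

omit [FiniteDimensional K V] in
theorem value_fix {g : V ≃ₗ[F] V} (hg : g ∈ G) (hfix : ∀ c : K, g (c • v) = c • v) (z : V) : Φ (g z) v = Φ z v :=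
  eq_of_trace (F := F) fun d => S.trace_line hg (α := LinearEquiv.refl F K) hfix z d

omit [FiniteDimensional K V] in
/-- An element fixing `v^⊥` pointwise is a root element. -/
theorem exists_root_of_fix {w : V} (hvv : Φ v v = 0) (hww : Φ w w = 0) (hwv : Φ w v = 1) {g : V ≃ₗ[F] V}
    (hg : g ∈ G) (hfix : ∀ z, Φ z v = 0 → g z = z) :
    ∃ l ∈ rootSet Φ G v, ∀ z, g z = z + l (Φ z v) • v := by
  have hline : ∀ c : K, g (c • v) = c • v := fun c => hfix _ (by simp [hvv])
  have hD : ∀ c : K, g (c • w) - c • w ∈ K ∙ v := by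
    intro c
    by_contra hn
    obtain ⟨y, hy, hne⟩ := S.exists_perp_ne hn
    apply hne
    refine eq_of_trace (F := F) fun d => ?_
    have h1 := S.isom g hg (c • w) (d • y)
    rw [hfix (d • y) (by simp [hy]), (Φ (g (c • w))).map_smul, (Φ (c • w)).map_smul, smul_eq_mul, smul_eq_mul] at h1
    rw [mul_zero, map_zero, map_sub, LinearMap.sub_apply, mul_sub, map_sub, h1, sub_self]
  let l : K →ₗ[F] K :=
    { toFun := fun c => Φ (g (c • w) - c • w) w
      map_add' := fun x y => by simp only [add_smul, map_add, map_sub, LinearMap.add_apply, LinearMap.sub_apply]; ring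
      map_smul' := fun t x => by
        rw [RingHom.id_apply, smul_assoc, map_smul, ← smul_sub, ← algebraMap_smul K t (g (x • w) - x • w),
          Φ.map_smul, LinearMap.smul_apply, algebraMap_smul] }
  have hvw : Φ v w = 1 := by rw [S.symm, hwv]
  have hl : ∀ c : K, g (c • w) = c • w + l c • v := fun c => by
    obtain ⟨d, hd⟩ := Submodule.mem_span_singleton.mp (hD c)
    show _ = c • w + Φ (g (c • w) - c • w) w • v
    rw [← hd, Φ.map_smul, LinearMap.smul_apply, hvw, smul_eq_mul, mul_one, hd, add_sub_cancel]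
  have hall : ∀ z, g z = z + l (Φ z v) • v := fun z => by
    have h1 := hfix (z - Φ z v • w) (by simp [hwv])
    rw [map_sub, hl] at h1
    linear_combination (norm := module) h1
  have h0 : ∀ c : K, rootFun Φ v l (c • v) = 0 := fun c => by simp [hvv]
  refine ⟨l, ⟨h0, ?_⟩, hall⟩
  convert hg using 1
  exact LinearEquiv.ext fun z => by rw [tv_apply, rootFun_apply, hall]

omit [FiniteDimensional K V] in
theorem adj_of_root (hv : v ≠ 0) (hvv : Φ v v = 0) {l : K →ₗ[F] K} (hl : l ∈ rootSet Φ G v) : adj l = -l := by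
  obtain ⟨h, hm⟩ := hl
  obtain ⟨u, hu⟩ := S.exists_pair hv
  refine adj_unique fun a b => ?_
  have h1 := S.isom _ hm (a • u) (b • u)
  simp only [tv_apply, rootFun_apply, map_smul, LinearMap.smul_apply, map_add, LinearMap.add_apply, hu, hvv,
    smul_eq_mul, mul_one, mul_zero, add_zero, S.symm v u] at h1
  rw [mul_add b, map_add] at h1
  rw [LinearMap.neg_apply, neg_mul, map_neg, mul_comm (l a) b, mul_comm a (l b)]
  linear_combination -h1

omit [FiniteDimensional K V] in
theorem root_conj {l : K →ₗ[F] K} (hl : l ∈ rootSet Φ G v) {g : V ≃ₗ[F] V} (hg : g ∈ G) (α : K ≃ₗ[F] K)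
    (hα : ∀ c : K, g (c • v) = α c • v) :
    α.toLinearMap ∘ₗ l ∘ₗ adj α.toLinearMap ∈ rootSet Φ G v := by
  show InT G v _
  convert InT.conj hl hg α hα using 1
  refine LinearMap.ext fun x => ?_
  simp only [rootFun_apply, LinearMap.comp_apply, LinearEquiv.coe_coe]
  congr 2
  refine eq_of_trace (F := F) fun d => ?_
  have h1 := S.isom g hg (g.symm x) (d • v)
  rw [LinearEquiv.apply_symm_apply, hα, (Φ x).map_smul, (Φ (g.symm x)).map_smul, smul_eq_mul, smul_eq_mul] at h1
  rw [mul_comm d, trace_adj, mul_comm (Φ x v)]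
  exact h1

theorem root_sandwich (hv : v ≠ 0) (hvv : Φ v v = 0) (c : K) {l : K →ₗ[F] K} (hl : l ∈ rootSet Φ G v) :
    LinearMap.mulLeft F c ∘ₗ l ∘ₗ LinearMap.mulLeft F c ∈ rootSet Φ G v := by
  rcases eq_or_ne c 0 with rfl | hc
  · rw [show LinearMap.mulLeft F (0 : K) = 0 from LinearMap.ext fun x => by simp, LinearMap.zero_comp]
    exact zero_mem _
  have hsq : ∀ a : K, a ≠ 0 → (∃ h : V ≃ₗ[K] V, h.restrictScalars F ∈ G ∧ h v = a • v) →
      LinearMap.mulLeft F a ∘ₗ l ∘ₗ LinearMap.mulLeft F a ∈ rootSet Φ G v := by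
    rintro a ha ⟨h, hh, he⟩
    have := S.root_conj hl hh (DistribMulAction.toLinearEquiv F K (Units.mk0 a ha)) fun d => by
      rw [LinearEquiv.restrictScalars_apply, map_smul, he, smul_smul, mul_comm]
      rfl
    rw [show (DistribMulAction.toLinearEquiv F K (Units.mk0 a ha)).toLinearMap = LinearMap.mulLeft F a from rfl,
      adj_mulLeft] at this
    exact this
  rcases S.big with h4 | ⟨-, hr, -⟩
  · obtain ⟨h, hh, -, he⟩ := S.exists_map_smul hv hvv h4 hc
    exact hsq c hc ⟨h, hh, he⟩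
  -- otherwise only the squares are available
  haveI : Finite K := Module.finite_of_finite F
  let C : K →+ K →+ (K →ₗ[F] K) := AddMonoidHom.mk' (fun a => AddMonoidHom.mk' (fun b =>
      LinearMap.mulLeft F a ∘ₗ l ∘ₗ LinearMap.mulLeft F b) fun x y => by
        refine LinearMap.ext fun k => ?_
        simp [add_mul, map_add, mul_add])
    fun x y => by
      refine AddMonoidHom.ext fun b => LinearMap.ext fun k => ?_
      simp [add_mul]
  obtain ⟨p, hchar⟩ := CharP.exists F
  haveI := hchar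
  have hp : p.Prime := CharP.char_is_prime F p
  refine diag_mem (W := rootSet Φ G v) ?_ (p := p) ?_ (fun x => ?_) C (fun a => ?_) c
  · rw [Module.natCard_eq_pow_finrank (K := F) (V := K)]
    calc 25 < 2 ^ 5 := by norm_num
      _ ≤ 2 ^ finrank F K := Nat.pow_le_pow_right (by norm_num) hr
      _ ≤ Nat.card F ^ finrank F K := Nat.pow_le_pow_left Finite.one_lt_card _
  · exact hp.odd_of_ne_two fun e => S.two (by
      subst e
      exact_mod_cast CharP.cast_eq_zero F 2)
  · rw [← Nat.cast_smul_eq_nsmul F, CharP.cast_eq_zero, zero_smul]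
  · show LinearMap.mulLeft F (a * a) ∘ₗ l ∘ₗ LinearMap.mulLeft F (a * a) ∈ rootSet Φ G v
    rcases eq_or_ne a 0 with rfl | ha
    · rw [mul_zero, show LinearMap.mulLeft F (0 : K) = 0 from LinearMap.ext fun x => by simp, LinearMap.zero_comp]
      exact zero_mem _
    obtain ⟨h, hh, -, he⟩ := S.exists_map_sq hv hvv ha
    exact hsq _ (mul_ne_zero ha ha) ⟨h, hh, he⟩

theorem exists_rootSpace (hv : v ≠ 0) (hvv : Φ v v = 0) :
    ∃ W : Submodule F (K →ₗ[F] K), (∀ l, l ∈ W ↔ l ∈ rootSet Φ G v) ∧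
      ∀ c, ∀ l ∈ W, LinearMap.mulLeft F c ∘ₗ l + l ∘ₗ LinearMap.mulLeft F c ∈ W := by
  refine ⟨{ toAddSubmonoid := (rootSet Φ G v).toAddSubmonoid, smul_mem' := fun t l hl => ?_ }, fun l => Iff.rfl,
    fun c l hl => ?_⟩
  · have hsq : ∀ s : F, (s * s) • l ∈ rootSet Φ G v := fun s => by
      convert S.root_sandwich hv hvv (algebraMap F K s) hl using 1
      refine LinearMap.ext fun k => ?_
      simp only [LinearMap.smul_apply, LinearMap.comp_apply, LinearMap.mulLeft_apply, ← Algebra.smul_def, map_smul,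
        smul_smul]
    obtain ⟨s, s', rfl⟩ := exists_sq_add_sq t
    show (s * s + s' * s') • l ∈ rootSet Φ G v
    rw [add_smul]
    exact add_mem (hsq s) (hsq s')
  · show _ ∈ rootSet Φ G v
    convert sub_mem (sub_mem (S.root_sandwich hv hvv (c + 1) hl) (S.root_sandwich hv hvv c hl)) hl using 1
    refine LinearMap.ext fun k => ?_
    simp [add_mul, mul_add, map_add]
    abel

/-- Without root elements at `v`, a unipotent element at `v` is a Siegel map. -/
theorem exists_siegel_eq (hv : v ≠ 0) (hvv : Φ v v = 0) (hW : ∀ l ∈ rootSet Φ G v, l = 0) {h : V ≃ₗ[F] V}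
    (hh : h ∈ G) (hfix : ∀ c : K, h (c • v) = c • v) (hmod : ∀ z, Φ z v = 0 → h z - z ∈ K ∙ v) :
    ∃ b, Φ b v = 0 ∧ ∀ z, h z = siegel Φ v b z := by
  have h2 := S.twoK
  obtain ⟨w, hww, hwv, hvw⟩ := S.exists_partner hv hvv
  have hone : ∀ k ∈ G, (∀ z, Φ z v = 0 → k z = z) → ∀ z, k z = z := by
    intro k hk hkf z
    obtain ⟨l, hl, e⟩ := S.exists_root_of_fix hvv hww hwv hk hkf
    rw [e, hW l hl]; simp
  have hval : ∀ z, Φ (h z) v = Φ z v := S.value_fix hh hfix
  set d := h w - w with hd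
  have hdv : Φ d v = 0 := by rw [hd, map_sub, LinearMap.sub_apply, hval, sub_self]
  -- `h` commutes with the Siegel maps orthogonal to `w`
  have hb : ∀ b, Φ b v = 0 → Φ b w = 0 → h b = b - Φ d b • v := by
    intro b hbv hbw
    obtain ⟨R, hR, hRz, -⟩ := S.exists_siegel hv hvv hbv
    have hcomm := hone ((h * R.restrictScalars F)⁻¹ * (R.restrictScalars F * h))
      (G.mul_mem (G.inv_mem (G.mul_mem hh hR)) (G.mul_mem hR hh)) fun z hz => by
        show (h * R.restrictScalars F).symm (R (h z)) = z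
        rw [LinearEquiv.symm_apply_eq, LinearEquiv.mul_apply, LinearEquiv.restrictScalars_apply, hRz, hRz,
          siegel_apply, siegel_apply, hval, hz, zero_smul, mul_zero, add_zero, add_zero, add_zero, map_sub, hfix]
        obtain ⟨t, ht⟩ := Submodule.mem_span_singleton.mp (hmod z hz)
        rw [show h z = z + t • v by rw [ht, add_sub_cancel], map_add, LinearMap.add_apply, map_smul,
          LinearMap.smul_apply, S.symm v b, hbv, smul_zero, add_zero]
    have h1 : R (h w) = h (R w) := (LinearEquiv.symm_apply_eq (h * R.restrictScalars F)).mp (hcomm w)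
    rw [hRz, hRz, siegel_apply, siegel_apply, hval, hwv, S.symm w b, hbw, one_smul, mul_one, map_sub, map_add,
      hfix, show h w = w + d by rw [hd, add_sub_cancel], map_add, LinearMap.add_apply, S.symm w b, hbw] at h1
    linear_combination (norm := module) -h1
  refine ⟨d, hdv, fun z => ?_⟩
  obtain ⟨E, hE, hEz, -⟩ := S.exists_siegel hv hvv hdv
  have hperp : ∀ z, Φ z v = 0 → h z = siegel Φ v d z := by
    intro z hz
    have h1 := hb (z - Φ z w • v) (by simp [hz, hvv]) (by simp [hvw])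
    rw [map_sub, hfix, map_sub, map_smul, hdv, smul_zero, sub_zero] at h1
    rw [siegel_apply, hz, zero_smul, mul_zero, add_zero, add_zero, S.symm z d]
    linear_combination (norm := module) h1
  have h1 := hone ((E.restrictScalars F)⁻¹ * h) (G.mul_mem (G.inv_mem hE) hh) (fun z hz => by
    show (E.restrictScalars F).symm (h z) = z
    rw [LinearEquiv.symm_apply_eq, LinearEquiv.restrictScalars_apply, hEz, hperp z hz]) z
  have h2 := (LinearEquiv.symm_apply_eq (E.restrictScalars F)).mp h1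
  exact h2.trans (hEz z)

/-- Without root elements at `v`, the stabiliser of the line normalises the Siegel maps. -/
theorem conj_siegel (hv : v ≠ 0) (hvv : Φ v v = 0) (hW : ∀ l ∈ rootSet Φ G v, l = 0) {g : V ≃ₗ[F] V} (hg : g ∈ G)
    {α : K ≃ₗ[F] K} (hα : ∀ c : K, g (c • v) = α c • v) {b : V} (hb : Φ b v = 0) :
    ∃ b', Φ b' v = 0 ∧ ∀ x, g (siegel Φ v b x) = siegel Φ v b' (g x) := by
  obtain ⟨R, hR, hRz, -⟩ := S.exists_siegel hv hvv hb
  have hgi : ∀ z, Φ z v = 0 → Φ (g.symm z) v = 0 := fun z hz =>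
    S.perp_image (α := α.symm) (G.inv_mem hg) (fun c => by
      show g.symm _ = _
      rw [LinearEquiv.symm_apply_eq, hα, LinearEquiv.apply_symm_apply]) hz
  obtain ⟨b', hb', e⟩ := S.exists_siegel_eq hv hvv hW (h := g * R.restrictScalars F * g⁻¹)
    (G.mul_mem (G.mul_mem hg hR) (G.inv_mem hg)) (fun c => by
      show g (R (g.symm (c • v))) = c • v
      rw [show g.symm (c • v) = α.symm c • v by rw [LinearEquiv.symm_apply_eq, hα, LinearEquiv.apply_symm_apply],
        hRz, siegel_apply]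
      simp [hvv, hb, S.symm v b, hα])
    (fun z hz => by
      show g (R (g.symm z)) - z ∈ K ∙ v
      rw [hRz, siegel_apply, hgi z hz, zero_smul, mul_zero, add_zero, add_zero, map_sub,
        LinearEquiv.apply_symm_apply, hα, sub_sub_cancel_left]
      exact Submodule.neg_mem _ (Submodule.smul_mem _ _ (Submodule.mem_span_singleton_self v)))
  refine ⟨b', hb', fun x => ?_⟩
  rw [← e, ← hRz]
  show g (R x) = g (R (g.symm (g x)))
  rw [LinearEquiv.symm_apply_apply]

/-- Without root elements at `v`, an element fixing the line pointwise is linear on `v^⊥`. -/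
theorem perp_linear (hv : v ≠ 0) (hvv : Φ v v = 0) (hW : ∀ l ∈ rootSet Φ G v, l = 0) {g : V ≃ₗ[F] V} (hg : g ∈ G)
    (hfix : ∀ c : K, g (c • v) = c • v) {z : V} (hz : Φ z v = 0) (c : K) : g (c • z) = c • g z := by
  have h2 := S.twoK
  obtain ⟨w, hww, hwv, hvw⟩ := S.exists_partner hv hvv
  have hval : ∀ z, Φ (g z) v = Φ z v := S.value_fix hg hfix
  have hA : ∀ (t : K) (x : V), g (x + t • v) = g x + t • v := fun t x => by rw [map_add, hfix]
  have key : ∀ b, Φ b v = 0 → Φ b w = 0 → ∃ b', Φ b' v = 0 ∧ (∀ y, Φ y v = 0 → Φ (g y) b' = Φ y b) ∧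
      ∀ c : K, g (c • b) = c • b' + (c * (Φ b b / 2) - (Φ (g (c • w)) b' + c * (Φ b b / 2))) • v := by
    intro b hbv hbw
    obtain ⟨b', hb', e⟩ := S.conj_siegel hv hvv hW hg (α := LinearEquiv.refl F K) hfix hbv
    have hyb : ∀ y, Φ y v = 0 → Φ (g y) b' = Φ y b := fun y hy => by
      have h1 := e y
      rw [siegel_apply, siegel_apply, hval, hy, zero_smul, zero_smul, mul_zero, mul_zero, add_zero, add_zero,
        add_zero, add_zero, map_sub, hfix, sub_right_inj] at h1
      exact (smul_left_injective K hv h1).symm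
    have he : ∀ c : K, g (c • b) = c • b' + (c * (Φ b b / 2) - (Φ (g (c • w)) b' + c * (Φ b' b' / 2))) • v :=
      fun c => by
        have h1 := e (c • w)
        rw [siegel_apply, siegel_apply, hval] at h1
        simp only [map_smul, LinearMap.smul_apply, smul_eq_mul, hwv, mul_one, S.symm w b, hbw, mul_zero, zero_add]
          at h1
        rw [map_sub, map_add, hfix] at h1
        linear_combination (norm := module) h1
    refine ⟨b', hb', hyb, fun c => ?_⟩
    have h1 := he 1
    simp only [one_smul, one_mul] at h1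
    have h3 := hyb b hbv
    rw [h1, map_add, map_smul, LinearMap.add_apply, LinearMap.smul_apply, S.symm v b', hb', smul_zero, add_zero] at h3
    rw [he c, h3]
  have hbase : ∀ b, Φ b v = 0 → Φ b w = 0 → ∀ c : K, g (c • b) = c • g b := by
    intro b hbv hbw c
    obtain ⟨b', hb', hyb, hB⟩ := key b hbv hbw
    set D := g (c • w) - c • g w with hD
    have hDv : Φ D v = 0 := by
      rw [hD, map_sub, Φ.map_smul, LinearMap.sub_apply, LinearMap.smul_apply, hval, hval, Φ.map_smul,
        LinearMap.smul_apply, sub_self]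
    suffices h0 : Φ D b' = 0 by
      have h1 := hB 1
      simp only [one_smul, one_mul] at h1
      rw [hB c, h1]
      have h3 : Φ (g (c • w)) b' = c * Φ (g w) b' := by
        rw [hD, map_sub, Φ.map_smul, LinearMap.sub_apply, LinearMap.smul_apply, smul_eq_mul, sub_eq_zero] at h0
        exact h0
      rw [h3]
      module
    refine eq_of_trace (F := F) fun d => ?_
    rw [mul_zero, map_zero]
    obtain ⟨b'', hb'', hyb'', hB''⟩ := key (d • b) (by simp [hbv]) (by simp [hbw])
    have hrel : ∀ y, Φ y v = 0 → Φ y b'' = Φ y (d • b') := fun y hy => by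
      have hy' : Φ (g.symm y) v = 0 := by rw [← hval, LinearEquiv.apply_symm_apply, hy]
      have e1 := hyb'' _ hy'
      have e2 := hyb _ hy'
      rw [LinearEquiv.apply_symm_apply] at e1 e2
      rw [e1, (Φ (g.symm y)).map_smul, ← e2, (Φ y).map_smul]
    have e0 := S.isom g hg (c • w) (d • b)
    have e1 := S.isom g hg w (c • d • b)
    have E0 : Φ (g (c • w)) (g (d • b)) = Φ (g (c • w)) b'' - c * Φ (g w) b'' := by
      have h1 := hB'' 1
      simp only [one_smul, one_mul] at h1
      simp only [h1, map_add, map_smul, LinearMap.smul_apply, smul_eq_mul, hval, hwv, mul_one]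
      ring
    rw [E0, (Φ (c • w)).map_smul, Φ.map_smul, LinearMap.smul_apply, S.symm w b, hbw, smul_zero, smul_zero, map_zero] at e0
    rw [← e0]
    congr 1
    have h4 := hrel D hDv
    rw [(Φ D).map_smul, smul_eq_mul] at h4
    rw [← h4, hD, map_sub, Φ.map_smul, LinearMap.sub_apply, LinearMap.smul_apply, smul_eq_mul]
  have h1 := hbase (z - Φ z w • v) (by simp [hz, hvv]) (by simp [hvw]) c
  rw [smul_sub, map_sub, map_sub, smul_smul, hfix, hfix, smul_sub, smul_smul] at h1
  exact sub_left_injective h1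

/-- Without all skew root elements, line stabilisers act on lines by field automorphisms. -/
theorem line_algHom (hv : v ≠ 0) (hvv : Φ v v = 0) (hno : ¬ HasLong Φ G v) {g : V ≃ₗ[F] V} (hg : g ∈ G)
    (hgv : g v = v) (hline : ∀ c : K, g (c • v) ∈ K ∙ v) :
    ∃ τ : K →ₐ[F] K, ∀ c : K, g (c • v) = τ c • v := by
  classical
  obtain ⟨α, hα⟩ := exists_line_equiv hv hline
  have hα1 : α 1 = 1 := smul_left_injective K hv (show α 1 • v = (1 : K) • v by rw [← hα, one_smul, hgv])
  suffices hmul : ∀ c d : K, α (c * d) = α c * α d from ⟨AlgHom.ofLinearMap α.toLinearMap hα1 hmul, hα⟩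
  by_cases hW : ∀ l ∈ rootSet Φ G v, l = 0
  · -- through the Siegel maps
    obtain ⟨w, hww, hwv, hvw⟩ := S.exists_partner hv hvv
    have hd := S.finrank_perpPair v w
    have hfour := S.three_le
    obtain ⟨a, ha, haa⟩ := S.exists_aniso_pos (S.nd_perpPair hvv hww hwv) (by omega)
    obtain ⟨hav, -⟩ := mem_perpPair.mp ha
    set b := (Φ a a)⁻¹ • a with hb
    have hbv : Φ b v = 0 := by simp [hb, hav]
    have hab : Φ a b = 1 := by simp [hb, haa]
    -- the functional at `e b` is the image of the conjugated Siegel map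
    have key : ∀ e : K, ∃ b' : V, ∀ y, Φ y v = 0 → α (e * Φ y b) = Φ (g y) b' := fun e => by
      obtain ⟨b', -, he⟩ := S.conj_siegel hv hvv hW hg hα (b := e • b) (by simp [hbv])
      refine ⟨b', fun y hy => ?_⟩
      have h1 := he y
      rw [siegel_apply, siegel_apply, hy, S.perp_image hg hα hy, zero_smul, zero_smul, mul_zero, mul_zero,
        add_zero, add_zero, add_zero, add_zero, map_sub, hα, sub_right_inj, (Φ y).map_smul, smul_eq_mul] at h1
      exact smul_left_injective K hv h1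
    have hsc : ∀ c : K, ∃ E : K, ∀ e, α (e * E) = c * α e := fun c => by
      refine ⟨Φ (g.symm (c • g a)) b, fun e => ?_⟩
      have hga : Φ (g a) v = 0 := S.perp_image hg hα hav
      have hy : Φ (g.symm (c • g a)) v = 0 := S.perp_image (α := α.symm) (G.inv_mem hg) (fun d => by
        show g.symm _ = _
        rw [LinearEquiv.symm_apply_eq, hα, LinearEquiv.apply_symm_apply]) (by simp [hga])
      obtain ⟨b', hb'⟩ := key e
      have h1 := hb' _ hy
      have h3 := hb' a hav
      rw [hab, mul_one] at h3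
      rw [h1, LinearEquiv.apply_symm_apply, map_smul, LinearMap.smul_apply, smul_eq_mul, h3]
    intro x y
    obtain ⟨E, hE⟩ := hsc (α y)
    have h1 := hE 1
    rw [one_mul, hα1, mul_one] at h1
    rw [← α.injective h1, hE x, mul_comm]
    rw [α.injective h1]
  · push Not at hW
    obtain ⟨l₀, hl₀, hl₀0⟩ := hW
    obtain ⟨W, hWm, hO⟩ := S.exists_rootSpace hv hvv
    have hsym : ∀ l ∈ W, adj l = -l := fun l hl => S.adj_of_root hv hvv ((hWm l).mp hl)
    by_cases hr : finrank F K = 2
    · exfalso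
      refine hno fun l hl => ?_
      obtain ⟨t, rfl⟩ := skew_degree_two S.prime S.two hr hl (S.adj_of_root hv hvv hl₀) hl₀0
      exact (hWm _).mp (W.smul_mem t ((hWm _).mpr hl₀))
    rcases skew_all_or_scalar S.prime hr W hO hsym S.two ((hWm _).mpr hl₀) hl₀0 with h | h
    · exact absurd (fun l hl => (hWm l).mp (h l hl)) hno
    intro c d
    have hs : ∀ c : K, g⁻¹ (c • v) = α.symm c • v := fun c => by
      show g.symm _ = _
      rw [LinearEquiv.symm_apply_eq, hα, LinearEquiv.apply_symm_apply]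
    have hx : ∀ l ∈ W, (α.toLinearMap ∘ₗ LinearMap.mulLeft F c ∘ₗ α.symm.toLinearMap) ∘ₗ l +
        l ∘ₗ adj (α.toLinearMap ∘ₗ LinearMap.mulLeft F c ∘ₗ α.symm.toLinearMap) ∈ W := by
      intro l hl
      have h1 := S.root_conj ((hWm _).mp hl) (G.inv_mem hg) α.symm hs
      have h2 := (hWm _).mp (hO c _ ((hWm _).mpr h1))
      have h3 := (hWm _).mpr (S.root_conj h2 hg α hα)
      have hid : α.toLinearMap ∘ₗ α.symm.toLinearMap = LinearMap.id :=
        LinearMap.ext fun k => α.apply_symm_apply k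
      have hadj : adj α.symm.toLinearMap ∘ₗ adj α.toLinearMap = LinearMap.id := by
        rw [← adj_comp, hid]
        exact adj_unique fun a b => rfl
      convert h3 using 1
      rw [adj_comp, adj_comp, adj_mulLeft]
      refine LinearMap.ext fun k => ?_
      have e1 := LinearMap.congr_fun hadj k
      simp only [LinearMap.comp_apply, LinearMap.id_apply, LinearEquiv.coe_coe] at e1
      simp only [LinearMap.add_apply, LinearMap.comp_apply, LinearEquiv.coe_coe, map_add, e1,
        LinearEquiv.apply_symm_apply]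
    have e1 := h _ hx (α d)
    simp only [LinearMap.comp_apply, LinearEquiv.coe_coe, LinearEquiv.symm_apply_apply, LinearMap.mulLeft_apply] at e1
    rw [← hα1, LinearEquiv.symm_apply_apply, mul_one] at e1
    exact e1

theorem exists_auto (hv : v ≠ 0) (hvv : Φ v v = 0) (hno : ¬ HasLong Φ G v) {g : V ≃ₗ[F] V}
    (hg : g ∈ lineStab K G v) : ∃ τ : K ≃ₐ[F] K, ∀ c : K, g (c • v) = τ c • v := by
  obtain ⟨τ, hτ⟩ := S.line_algHom hv hvv hno hg.1 hg.2.1 hg.2.2.1
  exact ⟨AlgEquiv.ofBijective τ (Algebra.IsAlgebraic.algHom_bijective τ), hτ⟩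

/-- The action on the line as a homomorphism. -/
theorem exists_autHom (hv : v ≠ 0) (hvv : Φ v v = 0) (hno : ¬ HasLong Φ G v) :
    ∃ ψ : lineStab K G v →* (K ≃ₐ[F] K), ∀ (g : lineStab K G v) (c : K), (g : V ≃ₗ[F] V) (c • v) = ψ g c • v := by
  choose τ hτ using fun g : lineStab K G v => S.exists_auto hv hvv hno g.2
  refine ⟨MonoidHom.mk' τ fun a b => AlgEquiv.ext fun c => smul_left_injective K hv ?_, hτ⟩
  show τ (a * b) c • v = τ a (τ b c) • v
  rw [← hτ, ← hτ, Subgroup.coe_mul, LinearEquiv.mul_apply, hτ]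

omit [FiniteDimensional K V] in
/-- A homomorphism into a small group cannot have its kernel in a hyperplane. -/
theorem kernel_perp (Z : Submodule K V) {Γ : Type*} [Group Γ] [Finite Γ] (φ : Z → Γ)
    (hφ : ∀ a b : Z, φ (a + b) = φ a * φ b) (hcard : Nat.card Γ < Nat.card K) {y : V}
    (h : ∀ b : Z, φ b = 1 → Φ y b = 0) : ∀ b ∈ Z, Φ y b = 0 := by
  intro b hb
  by_contra hne
  have hinj : Function.Injective fun k : K => φ (k • ⟨b, hb⟩) := fun k k' e => by
    have h1 := hφ ((k - k') • ⟨b, hb⟩) (k' • ⟨b, hb⟩)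
    rw [← add_smul, sub_add_cancel, show φ (k • _) = φ (k' • _) from e] at h1
    have h2 := h _ (mul_eq_right.mp h1.symm)
    rw [Submodule.coe_smul, (Φ y).map_smul, smul_eq_mul, mul_eq_zero] at h2
    exact sub_eq_zero.mp (h2.resolve_right hne)
  haveI : Finite K := Module.finite_of_finite F
  exact absurd (Nat.card_le_card_of_injective _ hinj) (not_le.mpr hcard)

omit [FiniteDimensional K V] in
theorem card_aut_lt : Nat.card (K ≃ₐ[F] K) < Nat.card K := by
  haveI : Finite K := Module.finite_of_finite F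
  rw [IsGalois.card_aut_eq_finrank, Module.natCard_eq_pow_finrank (K := F) (V := K)]
  exact Nat.lt_pow_self Finite.one_lt_card

/-- A vector fixed by the Siegel maps in such a kernel lies on the line. -/
theorem mem_line_of_fixed (hv : v ≠ 0) (hvv : Φ v v = 0) {Γ : Type*} [Group Γ] [Finite Γ]
    (φ : LinearMap.ker (Φ.flip v) → Γ) (hφ : ∀ a b, φ (a + b) = φ a * φ b) (hcard : Nat.card Γ < Nat.card K) {x : V}
    (hx : ∀ b : LinearMap.ker (Φ.flip v), φ b = 1 → siegel Φ v b x = x) : x ∈ K ∙ v := by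
  have hmem : ∀ {b : V}, b ∈ LinearMap.ker (Φ.flip v) → Φ b v = 0 := fun h => h
  obtain ⟨w, hww, hwv, hvw⟩ := S.exists_partner hv hvv
  have hd := S.finrank_perpPair v w
  have hfour := S.three_le
  obtain ⟨a, ha, haa⟩ := S.exists_aniso_pos (S.nd_perpPair hvv hww hwv) (by omega)
  obtain ⟨hav, -⟩ := mem_perpPair.mp ha
  have hxv : Φ x v = 0 := by
    by_contra hne
    refine haa (S.kernel_perp _ φ hφ hcard (y := a) (fun b hb => ?_) a hav)
    have h1 := hx b hb
    rw [siegel_apply, add_sub_assoc, add_eq_left, sub_eq_zero] at h1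
    have h3 : (b : V) = ((Φ x v)⁻¹ * (Φ x b + Φ (b : V) b / 2 * Φ x v)) • v := by
      rw [mul_smul, ← h1, inv_smul_smul₀ hne]
    rw [h3, (Φ a).map_smul, hav, smul_zero]
  by_contra hn
  obtain ⟨z, hz, hxz⟩ := S.exists_perp_ne hn
  refine hxz (S.kernel_perp _ φ hφ hcard (y := x) (fun b hb => ?_) z hz)
  have h1 := hx b hb
  rw [siegel_apply, hxv, zero_smul, mul_zero, add_zero, add_zero, sub_eq_self, smul_eq_zero] at h1
  exact h1.resolve_right hv

variable [FiniteDimensional F V]

/-- The group of Siegel maps at `v`. -/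
theorem exists_radical (hv : v ≠ 0) (hvv : Φ v v = 0) : ∃ T : Subgroup (V ≃ₗ[F] V),
    (∀ t, t ∈ T ↔ t ∈ G ∧ ∃ b, Φ b v = 0 ∧ ∀ z, t z = siegel Φ v b z) ∧ T ≤ lineFix K G v ∧
    ∀ p : ℕ, CharP F p → IsPGroup p T := by
  have hfix : ∀ {t : V ≃ₗ[F] V} {b : V}, Φ b v = 0 → (∀ z, t z = siegel Φ v b z) → ∀ c : K, t (c • v) = c • v := by
    intro t b hb e c
    simp [e, siegel_apply, hvv, S.symm v b, hb]
  refine ⟨{ carrier := {t | t ∈ G ∧ ∃ b, Φ b v = 0 ∧ ∀ z, t z = siegel Φ v b z}
            one_mem' := ⟨G.one_mem, 0, by simp, fun z => (S.siegel_zero z).symm⟩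
            mul_mem' := by
              rintro t₁ t₂ ⟨m₁, b₁, h₁, e₁⟩ ⟨m₂, b₂, h₂, e₂⟩
              exact ⟨G.mul_mem m₁ m₂, b₁ + b₂, by simp [h₁, h₂], fun z => by
                rw [LinearEquiv.mul_apply, e₂, e₁, S.siegel_comp hvv h₁ h₂]⟩
            inv_mem' := by
              rintro t ⟨m, b, h, e⟩
              refine ⟨G.inv_mem m, -b, by simp [h], fun z => ?_⟩
              show t.symm z = _
              rw [LinearEquiv.symm_apply_eq, e, S.siegel_comp hvv h (by simp [h]), add_neg_cancel, S.siegel_zero] },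
    fun t => Iff.rfl, fun t ht => ⟨ht.1, ?_⟩, fun p hp => ?_⟩
  · obtain ⟨b, hb, e⟩ := ht.2
    exact hfix hb e
  · rintro ⟨t, -, b, hb, e⟩
    haveI : CharP K p := charP_of_injective_algebraMap (algebraMap F K).injective p
    have hn : ∀ n : ℕ, ∀ z, (t ^ n) z = siegel Φ v ((n : K) • b) z := by
      intro n
      induction n with
      | zero => intro z; simp [S.siegel_zero]
      | succ n ih =>
        intro z
        rw [pow_succ, LinearEquiv.mul_apply, e, ih, S.siegel_comp hvv (by simp [hb]) hb, Nat.cast_succ, add_smul,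
          one_smul]
    refine ⟨1, Subtype.ext (LinearEquiv.ext fun x => ?_)⟩
    rw [SubmonoidClass.coe_pow, pow_one, hn p x, CharP.cast_eq_zero, zero_smul, S.siegel_zero]
    rfl

/-- Every `p`-subgroup fixing `v` is conjugate into the stabiliser of the line. -/
theorem exists_conj_stab {p : ℕ} [Fact p.Prime] [CharP F p] (hv : v ≠ 0) (hvv : Φ v v = 0) (hno : ¬ HasLong Φ G v)
    {U : Subgroup (V ≃ₗ[F] V)} (hU : IsPGroup p U) (hUG : U ≤ G) (hUv : ∀ u ∈ U, u v = v) :
    ∃ j ∈ G, j v = v ∧ ∀ u ∈ U, j * u * j⁻¹ ∈ lineStab K G v := by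
  classical
  haveI : Finite V := Module.finite_of_finite F
  haveI : Finite (V ≃ₗ[F] V) := DFunLike.finite _
  haveI : Finite K := Module.finite_of_finite F
  obtain ⟨T, hT, hTfix, hTp⟩ := S.exists_radical hv hvv
  set J := twoFix G v v with hJ
  have hTJ : T ≤ J := fun t ht => ⟨((hT t).mp ht).1, by simpa using (hTfix ht).2 1, by simpa using (hTfix ht).2 1⟩
  have hUJ : U ≤ J := fun u hu => ⟨hUG hu, hUv u hu, hUv u hu⟩
  obtain ⟨P, hP⟩ := ((hTp p inferInstance).comap_subtype (K := J)).exists_le_sylow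
  obtain ⟨P', hP'⟩ := (hU.comap_subtype (K := J)).exists_le_sylow
  set Q := (P : Subgroup J).map J.subtype with hQ
  have hQJ : Q ≤ J := Subgroup.map_subtype_le _
  have hTQ : T ≤ Q := fun t ht => ⟨⟨t, hTJ ht⟩, hP ht, rfl⟩
  obtain ⟨ψ, hψ⟩ := S.exists_autHom hv hvv hno
  have hQS : Q ≤ lineStab K G v := by
    haveI := (P.isPGroup'.map J.subtype : IsPGroup p Q).isNilpotent
    by_contra hne
    have hlt : (lineStab K G v ⊓ Q).subgroupOf Q < ⊤ := lt_top_iff_ne_top.mpr fun e => hne fun x hx =>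
      (Subgroup.subgroupOf_eq_top.mp e hx).1
    obtain ⟨⟨y, hyQ⟩, hyN, hyS⟩ := SetLike.exists_of_lt (Group.normalizerCondition_of_isNilpotent _ hlt)
    rw [Subgroup.mem_normalizer_iff''] at hyN
    have hyv : y v = v := (hQJ hyQ).2.1
    have hTS : ∀ t ∈ T, t ∈ lineStab K G v ⊓ Q := fun t ht => ⟨⟨((hT t).mp ht).1, (hTJ ht).2.1,
      fun c => by rw [(hTfix ht).2]; exact Submodule.smul_mem _ _ (Submodule.mem_span_singleton_self v),
      fun c => by
        rw [show t.symm (c • v) = c • v from (LinearEquiv.symm_apply_eq t).mpr ((hTfix ht).2 c).symm]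
        exact Submodule.smul_mem _ _ (Submodule.mem_span_singleton_self v)⟩, hTQ ht⟩
    choose R hR hRz hRi using fun b : LinearMap.ker (Φ.flip v) => S.exists_siegel hv hvv (b := (b : V)) b.2
    have hRT : ∀ b, (R b).restrictScalars F ∈ T := fun b => (hT _).mpr ⟨hR b, b, b.2, hRz b⟩
    have hconj : ∀ b, y⁻¹ * (R b).restrictScalars F * y ∈ lineStab K G v := fun b =>
      ((hyN ⟨_, hTQ (hRT b)⟩).mp (hTS _ (hRT b))).1
    let φ : LinearMap.ker (Φ.flip v) → (K ≃ₐ[F] K) := fun b => ψ ⟨_, hconj b⟩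
    have hφ : ∀ a b, φ (a + b) = φ a * φ b := fun a b => by
      simp only [φ, ← map_mul]
      congr 1
      refine Subtype.ext ?_
      show y⁻¹ * (R (a + b)).restrictScalars F * y = (y⁻¹ * (R a).restrictScalars F * y) * (y⁻¹ * (R b).restrictScalars F * y)
      rw [show (R (a + b)).restrictScalars F = (R a).restrictScalars F * (R b).restrictScalars F from
        LinearEquiv.ext fun z => by
          rw [LinearEquiv.mul_apply]
          simp only [LinearEquiv.restrictScalars_apply, hRz, Submodule.coe_add]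
          exact (S.siegel_comp hvv a.2 b.2 z).symm]
      group
    have hyline : ∀ c : K, y (c • v) ∈ K ∙ v := fun c =>
      S.mem_line_of_fixed hv hvv φ hφ S.card_aut_lt fun b hb => by
        have h1 := hψ ⟨_, hconj b⟩ c
        rw [show ψ ⟨_, hconj b⟩ = 1 from hb, AlgEquiv.one_apply] at h1
        have h2 : y.symm ((R b).restrictScalars F (y (c • v))) = c • v := h1
        rw [LinearEquiv.symm_apply_eq, LinearEquiv.restrictScalars_apply, hRz] at h2
        exact h2
    refine hyS (show y ∈ lineStab K G v ⊓ Q from ⟨⟨(hQJ hyQ).1, hyv, hyline, fun c => ?_⟩, hyQ⟩)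
    obtain ⟨α, hα⟩ := exists_line_equiv hv hyline
    rw [show y.symm (c • v) = α.symm c • v from (LinearEquiv.symm_apply_eq y).mpr (by
      rw [hα, LinearEquiv.apply_symm_apply])]
    exact Submodule.smul_mem _ _ (Submodule.mem_span_singleton_self v)
  obtain ⟨j, hj⟩ := MulAction.exists_smul_eq J P' P
  refine ⟨j, j.2.1, j.2.2.1, fun u hu => hQS ⟨j * ⟨u, hUJ hu⟩ * j⁻¹, ?_, rfl⟩⟩
  rw [← hj, Sylow.coe_subgroup_smul]
  exact ⟨⟨u, hUJ hu⟩, hP' hu, rfl⟩

/-- Scalars with conjugate multiples of `v` in the stabiliser of `v` are conjugate. -/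
theorem conj_of_orbit (hv : v ≠ 0) (hvv : Φ v v = 0) (hno : ¬ HasLong Φ G v) {k k' : K}
    (hk : k ∉ (algebraMap F K).range) (hk' : k' ∉ (algebraMap F K).range) {g : V ≃ₗ[F] V} (hg : g ∈ G)
    (hgv : g v = v) (hgk : g (k • v) = k' • v) : ∃ τ : K →ₐ[F] K, τ k = k' := by
  obtain ⟨p, hchar⟩ := CharP.exists F
  haveI := hchar
  haveI hpf : Fact p.Prime := ⟨CharP.char_is_prime F p⟩
  obtain ⟨T, hT, hTfix, hTp⟩ := S.exists_radical hv hvv
  refine conj_core S.prime hv (hTp p hchar) hTfix (fun x hx => ?_)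
    (fun g hg hgv hl => S.line_algHom hv hvv hno hg hgv hl) hk hk' hg hgv hgk
  haveI : Finite K := Module.finite_of_finite F
  refine S.mem_line_of_fixed hv hvv (Γ := Unit) (fun _ => 1) (fun _ _ => rfl)
    (by rw [Nat.card_unique]; exact Finite.one_lt_card) fun b _ => ?_
  obtain ⟨R, hR, hRz, -⟩ := S.exists_siegel hv hvv b.2
  have h1 := hx _ ((hT _).mpr ⟨hR, b, b.2, hRz⟩)
  rwa [LinearEquiv.restrictScalars_apply, hRz] at h1

end OrthOver

end Cfsg.Agent.Lib.ThreeTransp.ExtField
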