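import Cfsg.Agent.Lib.ThreeTransp.ExtOrthMain
import Cfsg.Agent.Lib.ThreeTransp.ExtFormField
import Cfsg.Agent.Lib.MaxSub.OrthSplit

/-!
From the skew root elements of an extension field to all Eichler elements.
-/

set_option autoImplicit false

namespace Cfsg.Agent.Lib.ThreeTransp.ExtField

open Module Matrix QuadraticMap
open Cfsg.Agent.Lib.MaxSub (Orth.eichGL_mulVec)
open Cfsg.Agent.Lib.MaxSub.OrthSplit (InE)
open Cfsg.Agent.Lib.Geometry (quad_polar_self quad_polar_comm)
open Cfsg.Agent.Lib.ThreeTransp.ExtSym (adj_unique)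
open scoped MatrixGroups Matrix

attribute [-simp] QuadraticMap.polarBilin_apply_apply

universe u

variable {ι : Type} [Fintype ι] [DecidableEq ι] {F : Type u} [Field F] [Finite F] {L : Type u} [Field L] [Algebra F L]
  [FiniteDimensional F L] [Module L (ι → F)] [IsScalarTower F L (ι → F)] [FiniteDimensional L (ι → F)]
  {Q : QuadraticForm F (ι → F)} {M : Subgroup (GL ι F)} {Φ : (ι → F) →ₗ[L] (ι → F) →ₗ[L] L}

omit [Finite F] in
theorem InE_zero_of {u x : ι → F} (h : InE Q M u x) : InE Q M u 0 := by simpa using h.sub h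

omit [Finite F] in
theorem InE_add_of {u x y : ι → F} (h : InE Q M u x) (h' : InE Q M u y) : InE Q M u (x + y) := by
  simpa using h.sub ((InE_zero_of h').sub h')

omit [Finite F] in
theorem InE_swap {u x : ι → F} (hx : Q x = 0) (h : InE Q M u x) : InE Q M x u := by
  obtain ⟨hu, hux, hm⟩ := h
  have hxu : polarBilin Q x u = 0 := by rw [quad_polar_comm, hux]
  refine ⟨hx, hxu, ?_⟩
  convert M.inv_mem hm using 1
  refine eq_inv_of_mul_eq_one_left (Units.ext (Matrix.ext_of_mulVec_single fun j => ?_))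
  have huu : polarBilin Q u u = 0 := by rw [quad_polar_self, hu, mul_zero]
  have hxx : polarBilin Q x x = 0 := by rw [quad_polar_self, hx, mul_zero]
  rw [Units.val_mul, ← Matrix.mulVec_mulVec, Units.val_one, Matrix.one_mulVec, Orth.eichGL_mulVec, Orth.eichGL_mulVec]
  simp only [map_add, map_sub, map_smul, LinearMap.add_apply, LinearMap.sub_apply, LinearMap.smul_apply, smul_eq_mul,
    hu, hx, huu, hxx, hux, hxu]
  module

/-- The Eichler elements from the skew root elements. -/
structure LongSetup (Q : QuadraticForm F (ι → F)) (M : Subgroup (GL ι F)) (Φ : (ι → F) →ₗ[L] (ι → F) →ₗ[L] L) :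
    Prop where
  ov : OrthOver Φ (M.map (linOf (ι := ι) (F := F)).toMonoidHom)
  form : ∀ x y, Algebra.trace F L (Φ x y) = polarBilin Q x y
  iso : M ≤ Cfsg.isometryGroup F ⇑Q
  long : ∀ v, v ≠ 0 → Φ v v = 0 → HasLong Φ (M.map (linOf (ι := ι) (F := F)).toMonoidHom) v

namespace LongSetup

variable (S : LongSetup Q M Φ)
include S

theorem quad_eq (x : ι → F) : 2 * Q x = Algebra.trace F L (Φ x x) := by rw [S.form, quad_polar_self]

theorem quad_zero {x : ι → F} (h : Φ x x = 0) : Q x = 0 := by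
  have := S.quad_eq x
  rw [h, map_zero] at this
  exact (mul_eq_zero.mp this).resolve_left S.ov.two

theorem polar_smul (a : L) (x y : ι → F) : polarBilin Q x (a • y) = Algebra.trace F L (a * Φ x y) := by
  rw [← S.form, map_smul, smul_eq_mul]

/-- The long root elements inside a singular line. -/
theorem pair {v : ι → F} (hvv : Φ v v = 0) (a b : L) (hv : v ≠ 0) : InE Q M (a • v) (b • v) := by
  let l : L →ₗ[F] L := ((Algebra.trace F L) ∘ₗ LinearMap.mulLeft F a).smulRight b -
    ((Algebra.trace F L) ∘ₗ LinearMap.mulLeft F b).smulRight a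
  have hl : ExtSym.adj l = -l := adj_unique fun x y => by
    simp only [l, LinearMap.neg_apply, LinearMap.sub_apply, LinearMap.smulRight_apply, LinearMap.comp_apply,
      LinearMap.mulLeft_apply, neg_mul, sub_mul, mul_sub, map_neg, map_sub, smul_mul_assoc, mul_smul_comm, map_smul,
      smul_eq_mul, mul_comm x a, mul_comm x b]
    ring
  obtain ⟨h0, g, hg, he⟩ := S.long v hv hvv l hl
  have hav : Φ (a • v) (a • v) = 0 := by simp [hvv]
  have hbv : Φ (b • v) (b • v) = 0 := by simp [hvv]
  have hab : polarBilin Q (a • v) (b • v) = 0 := by rw [← S.form]; simp [hvv]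
  refine ⟨S.quad_zero hav, hab, ?_⟩
  have hg' : g ∈ M := hg
  convert hg' using 1
  refine Units.ext (Matrix.ext_of_mulVec_single fun j => ?_)
  generalize (Pi.single j (1 : F) : ι → F) = y
  have h1 : linOf g y = tv (rootFun Φ v l) v h0 y := LinearEquiv.congr_fun he y
  rw [linOf_apply] at h1
  rw [Orth.eichGL_mulVec, h1, tv_apply, rootFun_apply, S.quad_zero hbv, zero_mul, add_zero, S.polar_smul,
    S.polar_smul]
  simp only [l, LinearMap.sub_apply, LinearMap.smulRight_apply, LinearMap.comp_apply, LinearMap.mulLeft_apply,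
    sub_smul, smul_assoc]
  rw [← add_sub_assoc]

theorem line {v : ι → F} (hvv : Φ v v = 0) (hv : v ≠ 0) (k : L) : InE Q M v (k • v) := by
  simpa using S.pair hvv (1 : L) k hv

theorem conj_fix {v x : ι → F} (h : InE Q M v x) {g : GL ι F} (hg : g ∈ M) (hgv : (g : Matrix ι ι F) *ᵥ v = v) :
    InE Q M v ((g : Matrix ι ι F) *ᵥ x) := by
  have := h.conj hg (S.iso hg)
  rwa [hgv] at this

theorem eich_mem {u x : ι → F} (h : InE Q M u x) : ∃ g ∈ M, ∀ y, (g : Matrix ι ι F) *ᵥ y =
    y + polarBilin Q y u • x - (polarBilin Q y x + Q x * polarBilin Q y u) • u := by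
  obtain ⟨hu, hx, hm⟩ := h
  exact ⟨_, hm, Orth.eichGL_mulVec Q hu hx⟩

/-- For degree at least three: singular vectors off the orthogonal space of `v`. -/
theorem cross {v u : ι → F} (hvv : Φ v v = 0) (hv : v ≠ 0) (huu : Φ u u = 0) (hc : Φ v u ≠ 0)
    (hr : 3 ≤ finrank F L) {z : L} (hz : Algebra.trace F L (z * Φ v u) = 0) : InE Q M v (z • u) := by
  have hu : u ≠ 0 := fun e => hc (by rw [e, map_zero])
  rcases eq_or_ne z 0 with rfl | hz0
  · rw [zero_smul]; exact InE_zero_of (S.line hvv hv 1)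
  obtain ⟨a, ha, haz⟩ : ∃ a : L, Algebra.trace F L (a * Φ v u) = 0 ∧ a ∉ F ∙ z := by
    by_contra h
    push Not at h
    let φ : L →ₗ[F] F := Algebra.trace F L ∘ₗ LinearMap.mulRight F (Φ v u)
    have h1 := φ.finrank_range_add_finrank_ker
    have h2 : finrank F (LinearMap.ker φ) ≤ 1 :=
      (Submodule.finrank_mono (show LinearMap.ker φ ≤ F ∙ z from fun a ha => h a ha)).trans
        (finrank_span_singleton hz0).le
    have h3 : finrank F (LinearMap.range φ) ≤ 1 := (Submodule.finrank_le _).trans (finrank_self F).le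
    omega
  obtain ⟨f, hfa, hfz⟩ := Submodule.exists_le_ker_of_notMem haz
  obtain ⟨y, hy⟩ : ∃ y : L, ∀ e, Algebra.trace F L (e * y) = f e :=
    ⟨((Algebra.traceForm F L).toDual (traceForm_nondegenerate F L)).symm f, fun e => by
      rw [mul_comm]
      exact LinearMap.BilinForm.apply_toDual_symm_apply (hB := traceForm_nondegenerate F L) f e⟩
  have hfz' : f z = 0 := hfz (Submodule.mem_span_singleton_self z)
  obtain ⟨g, hg, hge⟩ := S.eich_mem (S.pair huu a z hu)
  have hzu : Φ (z • u) (z • u) = 0 := by simp [huu]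
  have hgv : (g : Matrix ι ι F) *ᵥ v = v := by
    rw [hge, S.polar_smul, S.polar_smul, ha, hz, mul_zero, add_zero, zero_smul, zero_smul, add_zero, sub_zero]
  set k := (f a)⁻¹ • (y / Φ v u) with hk
  have e1 : ∀ e : L, polarBilin Q (k • v) (e • u) = (f a)⁻¹ * f e := fun e => by
    rw [S.polar_smul, map_smul, LinearMap.smul_apply, smul_eq_mul, hk, smul_mul_assoc, div_mul_cancel₀ _ hc,
      mul_smul_comm, map_smul, smul_eq_mul, hy]
  have h1 := (S.conj_fix (S.line hvv hv k) hg hgv).sub (S.line hvv hv k)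
  rw [hge, e1, e1, hfz', mul_zero, inv_mul_cancel₀ hfa, one_smul, S.quad_zero hzu, zero_mul, zero_add, zero_smul,
    sub_zero, add_sub_cancel_left] at h1
  exact h1

/-- In degree two, singular vectors orthogonal to the line. -/
theorem perp_singular {v b : ι → F} (hvv : Φ v v = 0) (hv : v ≠ 0) (hbb : Φ b b = 0) (hbv : Φ b v = 0)
    (hr : finrank F L = 2) : InE Q M v b := by
  classical
  haveI : Finite L := Module.finite_of_finite F
  rcases eq_or_ne b 0 with rfl | hb0
  · exact InE_zero_of (S.line hvv hv 1)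
  obtain ⟨k, hk0, hk⟩ : ∃ k : L, k ≠ 0 ∧ Algebra.trace F L k = 0 := by
    have h1 := (Algebra.trace F L).finrank_range_add_finrank_ker
    have h3 : finrank F (LinearMap.range (Algebra.trace F L)) ≤ 1 := (Submodule.finrank_le _).trans (finrank_self F).le
    obtain ⟨k, hk, hk0⟩ := Submodule.exists_mem_ne_zero_of_ne_bot (p := LinearMap.ker (Algebra.trace F L))
      fun e => by rw [e, finrank_bot] at h1; omega
    exact ⟨k, hk0, hk⟩
  have h2 := S.ov.twoK
  set b' := (2 * k)⁻¹ • b with hb'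
  have hb'b' : Φ b' b' = 0 := by simp [hb', hbb]
  have hb'v : Φ b' v = 0 := by simp [hb', hbv]
  have hvb' : Φ v b' = 0 := by rw [S.ov.symm, hb'v]
  by_cases hvb : v + b' = 0
  · have h1 : b = (-(2 * k)) • v := by
      rw [neg_smul, ← smul_neg, ← eq_neg_of_add_eq_zero_right hvb, hb', smul_inv_smul₀ (mul_ne_zero h2 hk0)]
    rw [h1]
    exact S.line hvv hv _
  have hsum : v + b' ≠ 0 ∧ Φ (v + b') (v + b') = 0 := ⟨hvb, by simp [hvv, hb'b', hb'v, hvb']⟩
  have b'0 : b' ≠ 0 := by simp [hb', hk0, h2, hb0]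
  obtain ⟨g₁, hg₁, e₁⟩ := S.eich_mem (S.line hsum.2 hsum.1 k)
  obtain ⟨g₂, hg₂, e₂⟩ := S.eich_mem (S.line hvv hv (-k))
  obtain ⟨g₃, hg₃, e₃⟩ := S.eich_mem (S.line hb'b' b'0 (-k))
  obtain ⟨R, hR, hRz, -⟩ := S.ov.exists_siegel hv hvv (b := (2 * k) • b') (by simp [hb'v])
  obtain ⟨g₄, hg₄', e₄⟩ := hR
  have hg₄ : g₄ ∈ M := hg₄'
  have hQv : Q v = 0 := S.quad_zero hvv
  have hQb : Q b = 0 := S.quad_zero hbb
  have hkv : Q ((-k) • v) = 0 := S.quad_zero (by simp [hvv])
  have hkb : Q ((-k) • b') = 0 := S.quad_zero (by simp [hb'b'])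
  have hks : Q (k • (v + b')) = 0 := S.quad_zero (by simp [hvv, hb'b', hb'v, hvb'])
  -- the expansion of `Φ` along `1` and `k`
  have hexp : ∀ p : L, 2 * k * p = k * algebraMap F L (Algebra.trace F L p) +
      algebraMap F L (Algebra.trace F L (k * p)) := fun p => by
    obtain ⟨σ, hσ⟩ : ∃ σ : L ≃ₐ[F] L, σ ≠ 1 := by
      haveI : Nontrivial (L ≃ₐ[F] L) := Finite.one_lt_card_iff_nontrivial.mp (by
        rw [IsGalois.card_aut_eq_finrank, hr]; norm_num)
      exact exists_ne 1
    have hall : (Finset.univ : Finset (L ≃ₐ[F] L)) = {1, σ} := by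
      refine (Finset.eq_of_subset_of_card_le (Finset.subset_univ _) ?_).symm
      rw [Finset.card_pair (Ne.symm hσ), Finset.card_univ, ← Nat.card_eq_fintype_card, IsGalois.card_aut_eq_finrank, hr]
    have htr : ∀ q : L, algebraMap F L (Algebra.trace F L q) = q + σ q := fun q => by
      rw [trace_eq_sum_automorphisms, hall, Finset.sum_pair (Ne.symm hσ)]
      rfl
    have hσk : σ k = -k := eq_neg_of_add_eq_zero_right (by rw [← htr, hk, map_zero])
    rw [htr, htr, map_mul, hσk]
    ring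
  have h4 : ∀ y, (g₄ : Matrix ι ι F) *ᵥ y = y + polarBilin Q y v • (k • b') + polarBilin Q y (k • v) • b' -
      polarBilin Q y b' • (k • v) - polarBilin Q y (k • b') • v := fun y => by
    have h5 : linOf g₄ y = R y := LinearEquiv.congr_fun e₄ y
    rw [linOf_apply, hRz, siegel_apply] at h5
    rw [h5]
    simp only [map_smul, LinearMap.smul_apply, smul_eq_mul, hb'b', mul_zero, zero_div, zero_mul, add_zero]
    rw [smul_smul, mul_comm (Φ y v) (2 * k), hexp, hexp, add_smul, add_smul, mul_smul, mul_smul, algebraMap_smul,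
      algebraMap_smul, algebraMap_smul, algebraMap_smul, S.form, S.form, ← S.polar_smul, ← S.polar_smul]
    module
  have hmem : InE Q M v b := by
    refine ⟨hQv, by rw [← S.form, S.ov.symm, hbv, map_zero], ?_⟩
    convert M.mul_mem (M.mul_mem (M.mul_mem hg₁ hg₂) hg₃) hg₄ using 1
    refine Units.ext (Matrix.ext_of_mulVec_single fun j => ?_)
    generalize (Pi.single j (1 : F) : ι → F) = y
    have hb2 : b = (2 : L) • (k • b') := by
      rw [hb', smul_smul, smul_smul, mul_inv_cancel₀ (mul_ne_zero h2 hk0), one_smul]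
    rw [Units.val_mul, Units.val_mul, Units.val_mul, ← Matrix.mulVec_mulVec, ← Matrix.mulVec_mulVec,
      ← Matrix.mulVec_mulVec, e₁, e₂, e₃, h4, Orth.eichGL_mulVec, hQb, hkv, hkb, hks]
    have hbil : ∀ (p q : L) (x₁ x₂ : ι → F), Φ x₁ x₂ = 0 → polarBilin Q (p • x₁) (q • x₂) = 0 := by
      intro p q x₁ x₂ h
      rw [← S.form]; simp [h]
    have z1 := hbil 1 1 v v hvv
    have z2 := hbil 1 1 b' b' hb'b'
    have z3 := hbil 1 1 b' v hb'v
    have z4 := hbil 1 1 v b' hvb'
    have z5 := hbil 1 k v v hvv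
    have z6 := hbil 1 k b' b' hb'b'
    have z7 := hbil 1 k b' v hb'v
    have z8 := hbil 1 k v b' hvb'
    have z9 := hbil k 1 v v hvv
    have z10 := hbil k 1 b' b' hb'b'
    have z11 := hbil k 1 b' v hb'v
    have z12 := hbil k 1 v b' hvb'
    have z13 := hbil k k v v hvv
    have z14 := hbil k k b' b' hb'b'
    have z15 := hbil k k b' v hb'v
    have z16 := hbil k k v b' hvb'
    simp only [one_smul] at z1 z2 z3 z4 z5 z6 z7 z8 z9 z10 z11 z12
    simp only [hb2, two_smul, neg_smul, smul_add, map_add, map_sub, map_neg, map_smul, LinearMap.add_apply,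
      LinearMap.sub_apply, LinearMap.neg_apply, LinearMap.smul_apply, smul_eq_mul, z1, z2, z3, z4, z5, z6, z7, z8,
      z9, z10, z11, z12, z13, z14, z15, z16]
    module
  exact hmem

end LongSetup

end Cfsg.Agent.Lib.ThreeTransp.ExtField
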