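import Cfsg.Agent.Lib.ThreeTransp.ExtOrthMain
import Cfsg.Agent.Lib.ThreeTransp.ExtOrthPrime

/-!
Rotations of prime order about an anisotropic vector of a three-dimensional orthogonal space, and their normalisers.
-/

set_option autoImplicit false

namespace Cfsg.Agent.Lib.ThreeTransp.ExtField

open Module

variable {F K V : Type*} [Field F] [Field K] [Algebra F K] [AddCommGroup V] [Module F V] [Module K V]
  [IsScalarTower F K V]
variable {Φ : V →ₗ[K] V →ₗ[K] K} {G : Subgroup (V ≃ₗ[F] V)}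

/-- A rotation about `x` of prime order `ℓ` with trace `τ` on the orthogonal plane. -/
structure IsRotation (Φ : V →ₗ[K] V →ₗ[K] K) (x : V) (s : V ≃ₗ[K] V) (ℓ : ℕ) (τ : K) (lam : AlgebraicClosure K) :
    Prop where
  prime : ℓ.Prime
  two_lt : 2 < ℓ
  aniso : Φ x x ≠ 0
  root : IsPrimitiveRoot lam ℓ
  trace : lam + lam⁻¹ = algebraMap K _ τ
  fix : s x = x
  isom : ∀ a b, Φ (s a) (s b) = Φ a b
  quad : ∀ y, Φ y x = 0 → s (s y) = τ • s y - y
  gen : ∃ y, Φ y x = 0 ∧ (∀ a b : K, a • s y + b • y = 0 → a = 0 ∧ b = 0) ∧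
    ∀ z, Φ z x = 0 → ∃ a b : K, z = a • s y + b • y

namespace IsRotation

variable {x : V} {s : V ≃ₗ[K] V} {ℓ : ℕ} {τ : K} {lam : AlgebraicClosure K} (R : IsRotation Φ x s ℓ τ lam)
include R

omit [Algebra F K] [Module F V] [IsScalarTower F K V]

theorem lam_ne_zero : lam ≠ 0 := R.root.ne_zero R.prime.ne_zero

theorem lam_sub_ne : lam - lam⁻¹ ≠ 0 := fun e => by
  rw [sub_eq_zero] at e
  have h1 : lam ^ 2 = 1 := by
    rw [sq]; nth_rw 2 [e]
    exact mul_inv_cancel₀ R.lam_ne_zero
  have := Nat.le_of_dvd (by norm_num) ((R.root.pow_eq_one_iff_dvd 2).mp h1)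
  have := R.two_lt
  omega

theorem perp_map {y : V} (hy : Φ y x = 0) : Φ (s y) x = 0 := by
  rw [← R.fix, R.isom, hy]

/-- Powers of a map acting on the plane as `a • s + b`. -/
theorem pow_formula (d : V ≃ₗ[K] V) (a b : K) (hd : ∀ y, Φ y x = 0 → d y = a • s y + b • y) (n : ℕ) :
    ∃ A B : K, (∀ y, Φ y x = 0 → (d ^ n) y = A • s y + B • y) ∧
      (algebraMap K _ a * lam + algebraMap K _ b) ^ n = algebraMap K _ A * lam + algebraMap K _ B ∧
      (algebraMap K _ a * lam⁻¹ + algebraMap K _ b) ^ n = algebraMap K _ A * lam⁻¹ + algebraMap K _ B := by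
  induction n with
  | zero => exact ⟨0, 1, fun y _ => by simp, by simp, by simp⟩
  | succ n ih =>
    obtain ⟨A, B, h1, h2, h3⟩ := ih
    have hl := R.lam_ne_zero
    refine ⟨A * a * τ + A * b + B * a, B * b - A * a, fun y hy => ?_, ?_, ?_⟩
    · rw [pow_succ, LinearEquiv.mul_apply, hd y hy, map_add, map_smul, map_smul, h1 _ (R.perp_map hy), h1 y hy,
        R.quad y hy]
      module
    · rw [pow_succ, h2]
      simp only [map_add, map_sub, map_mul, ← R.trace]
      field_simp
      ring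
    · rw [pow_succ, h3]
      simp only [map_add, map_sub, map_mul, ← R.trace]
      field_simp
      ring

theorem eq_of_eval {A B A' B' : K}
    (h1 : algebraMap K _ A * lam + algebraMap K _ B = algebraMap K _ A' * lam + algebraMap K _ B')
    (h2 : algebraMap K _ A * lam⁻¹ + algebraMap K _ B = algebraMap K _ A' * lam⁻¹ + algebraMap K _ B') :
    A = A' ∧ B = B' := by
  have h3 : (algebraMap K (AlgebraicClosure K) A - algebraMap K _ A') * (lam - lam⁻¹) = 0 := by
    linear_combination h1 - h2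
  have hA := (algebraMap K (AlgebraicClosure K)).injective (sub_eq_zero.mp ((mul_eq_zero.mp h3).resolve_right R.lam_sub_ne))
  subst hA
  exact ⟨rfl, (algebraMap K (AlgebraicClosure K)).injective (by linear_combination h1)⟩

omit R in
theorem decomp (hx : Φ x x ≠ 0) (z : V) : Φ (z - (Φ z x / Φ x x) • x) x = 0 := by
  rw [map_sub, map_smul, LinearMap.sub_apply, LinearMap.smul_apply, smul_eq_mul, div_mul_cancel₀ _ hx, sub_self]

theorem fix_smul (c : K) : s (c • x) = c • x := by rw [map_smul, R.fix]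

theorem pow_fix (n : ℕ) (c : K) : (s ^ n) (c • x) = c • x := by
  induction n with
  | zero => rfl
  | succ n ih => rw [pow_succ, LinearEquiv.mul_apply, R.fix_smul, ih]

/-- A map agreeing with `d` on `x` and on the plane agrees everywhere. -/
theorem pow_eq_one : s ^ ℓ = 1 := by
  refine LinearEquiv.ext fun z => ?_
  obtain ⟨A, B, h1, h2, h3⟩ := R.pow_formula s 1 0 (fun y _ => by rw [one_smul, zero_smul, add_zero]) ℓ
  simp only [map_one, map_zero, one_mul, add_zero, R.root.pow_eq_one, inv_pow, inv_one] at h2 h3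
  obtain ⟨rfl, rfl⟩ := R.eq_of_eval (A' := 0) (B' := 1) (by rw [← h2]; simp) (by rw [← h3]; simp)
  have h4 := h1 _ (decomp R.aniso z)
  rw [zero_smul, zero_add, one_smul, map_sub, R.pow_fix, sub_left_inj] at h4
  exact h4

theorem fixed_mem {z : V} (hz : s z = z) : z ∈ K ∙ x := by
  obtain ⟨y, hy, hind, hgen⟩ := R.gen
  obtain ⟨a, b, hab⟩ := hgen _ (decomp R.aniso z)
  have h1 := congrArg s hab
  rw [map_sub, hz, R.fix_smul, hab, map_add, map_smul, map_smul, R.quad y hy] at h1
  obtain ⟨e1, e2⟩ := hind (a * τ + b - a) (-a - b) (by linear_combination (norm := module) -h1)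
  have ha : a * (τ - 2) = 0 := by linear_combination e1 + e2
  have hτ : τ - 2 ≠ 0 := fun e => by
    have h2 : lam + lam⁻¹ = 2 := by rw [R.trace, sub_eq_zero.mp e, map_ofNat]
    have hl := R.lam_ne_zero
    field_simp at h2
    have h3 : (lam - 1) * (lam - 1) = 0 := by linear_combination h2
    have h4 := R.root.ne_one R.prime.one_lt
    exact h4 (sub_eq_zero.mp ((mul_eq_zero.mp h3).elim id id))
  have ha0 := (mul_eq_zero.mp ha).resolve_right hτ
  rw [ha0, show b = 0 by linear_combination (-1 : K) * e2 - ha0, zero_smul, zero_smul, add_zero, sub_eq_zero] at hab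
  exact hab ▸ Submodule.smul_mem _ _ (Submodule.mem_span_singleton_self x)

theorem fixed_mem_pow {k : ℕ} (hk : ¬ ℓ ∣ k) {z : V} (hz : (s ^ k) z = z) : z ∈ K ∙ x := by
  refine R.fixed_mem ?_
  obtain ⟨m, hm⟩ : ∃ m, k * m % ℓ = 1 := by
    obtain ⟨m, -, hm⟩ := Nat.exists_mul_mod_eq_one_of_coprime ((R.prime.coprime_iff_not_dvd.mpr hk).symm) R.prime.one_lt
    exact ⟨m, hm⟩
  have h1 : ∀ m, ((s ^ k) ^ m) z = z := fun m => by
    induction m with
    | zero => rfl
    | succ m ih => rw [pow_succ, LinearEquiv.mul_apply, hz, ih]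
  have h2 := h1 m
  rwa [← pow_mul, ← Nat.mod_add_div (k * m) ℓ, hm, pow_add, pow_mul, R.pow_eq_one, one_pow, mul_one, pow_one] at h2

end IsRotation

variable [Finite F] [FiniteDimensional F K] [FiniteDimensional K V]

namespace OrthOver

variable (S : OrthOver Φ G)
include S

/-- Rotations of prime order exist about every anisotropic vector in dimension three. -/
theorem exists_rotation (h3 : finrank K V = 3) (h5 : 5 ≤ finrank F K) {x : V} (hx : Φ x x ≠ 0) :
    ∃ (s : V ≃ₗ[K] V) (ℓ : ℕ) (τ : K) (lam : AlgebraicClosure K), IsRotation Φ x s ℓ τ lam ∧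
      s.restrictScalars F ∈ G ∧ τ ∉ (algebraMap F K).range ∧ ℓ ≠ finrank F K ∧
      ((Nat.card F : ℕ) : ZMod ℓ) ≠ 0 ∧ ∀ j, 0 < j → j < finrank F K → ((Nat.card F : ℕ) : ZMod ℓ) ^ j ≠ 1 := by
  have h2 := S.twoK
  have hW := S.nd_perp hx
  have hdim := finrank_le_inf_ker (⊤ : Submodule K V) (Φ.flip x)
  rw [top_inf_eq, finrank_top] at hdim
  obtain ⟨b₁, hb₁, h11⟩ := S.exists_aniso_pos hW (by omega)
  have hdim' := finrank_le_inf_ker (LinearMap.ker (Φ.flip x)) (Φ.flip b₁)
  obtain ⟨b₂, hb₂', h22⟩ := S.exists_aniso_pos (S.nd_inf_ker hW hb₁ h11) (by omega)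
  have hb₁x : Φ b₁ x = 0 := hb₁
  have hxb₁ : Φ x b₁ = 0 := by rw [S.symm, hb₁x]
  have hb₂x : Φ b₂ x = 0 := hb₂'.1
  have hxb₂ : Φ x b₂ = 0 := by rw [S.symm, hb₂x]
  have h21 : Φ b₂ b₁ = 0 := hb₂'.2
  have h12 : Φ b₁ b₂ = 0 := by rw [S.symm, h21]
  set d₁ := Φ b₁ b₁ with hd₁
  set d₂ := Φ b₂ b₂ with hd₂
  -- coordinates
  have hco : ∀ z, z = (Φ z x / Φ x x) • x + (Φ z b₁ / d₁) • b₁ + (Φ z b₂ / d₂) • b₂ := by
    intro z
    have hli : LinearIndependent K ![x, b₁, b₂] := by
      rw [Fintype.linearIndependent_iff]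
      intro g hg
      simp only [Fin.sum_univ_three, Matrix.cons_val_zero, Matrix.cons_val_one, Matrix.cons_val] at hg
      have e0 := congrArg (fun v => Φ v x) hg
      have e1 := congrArg (fun v => Φ v b₁) hg
      have e2 := congrArg (fun v => Φ v b₂) hg
      simp [hb₁x, hb₂x, hx] at e0
      simp [hxb₁, h21, ← hd₁, h11] at e1
      simp [hxb₂, h12, ← hd₂, h22] at e2
      intro i
      fin_cases i
      · exact e0
      · exact e1
      · exact e2
    have htop := hli.span_eq_top_of_card_eq_finrank (by rw [Fintype.card_fin, h3])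
    have hz : z ∈ Submodule.span K (Set.range ![x, b₁, b₂]) := htop ▸ Submodule.mem_top
    obtain ⟨g, hg⟩ := (Submodule.mem_span_range_iff_exists_fun K).mp hz
    simp only [Fin.sum_univ_three, Matrix.cons_val_zero, Matrix.cons_val_one, Matrix.cons_val] at hg
    rw [← hg]
    simp [hb₁x, hb₂x, hxb₁, hxb₂, h12, h21, ← hd₁, ← hd₂, hx, h11, h22]
  obtain ⟨ℓ, σ, c, μ, hℓ, hℓ2, hℓr, hμ, hσ, hc, hac, hτ, hq0, hq⟩ :=
    exists_rotation_data (F := F) S.prime h5 S.two (δ := -(d₂ / d₁)) (by simp [h11, h22])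
  set a := σ / 2 with ha
  obtain ⟨h, hh, hhi⟩ := S.exists_isom (LinearMap.id +
      (d₁⁻¹ • Φ.flip b₁).smulRight ((a - 1) • b₁ + c • b₂) +
      (d₂⁻¹ • Φ.flip b₂).smulRight (-(c * d₂ / d₁) • b₁ + (a - 1) • b₂)) fun u v => by
    simp only [LinearMap.add_apply, LinearMap.id_apply, LinearMap.smulRight_apply, LinearMap.smul_apply,
      LinearMap.flip_apply, map_add, map_smul, smul_eq_mul, h12, h21, ← hd₁, ← hd₂, S.symm b₁ v, S.symm b₂ v]
    field_simp at hac ⊢
    linear_combination (Φ u b₁ * Φ v b₁ * d₂ + Φ u b₂ * Φ v b₂ * d₁) * hac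
  have hhx : h x = x := by simp [hh, hxb₁, hxb₂]
  have hh1 : h b₁ = a • b₁ + c • b₂ := by
    simp [hh, h12, ← hd₁, h11]
    module
  have hh2 : h b₂ = -(c * d₂ / d₁) • b₁ + a • b₂ := by
    simp [hh, h21, ← hd₂, h22]
    module
  obtain ⟨ρ, hρ, hρi⟩ := S.exists_isom (LinearMap.id - (2 * d₁⁻¹) • (Φ.flip b₁).smulRight b₁) fun u v => by
    simp only [LinearMap.sub_apply, LinearMap.id_apply, LinearMap.smul_apply, LinearMap.smulRight_apply,
      LinearMap.flip_apply, map_sub, map_smul, smul_eq_mul, ← hd₁, S.symm b₁ v]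
    field_simp
    ring
  have hρx : ρ x = x := by simp [hρ, hxb₁]
  have hρ1 : ρ b₁ = -b₁ := by simp [hρ, ← hd₁, h11]; match_scalars; field_simp; ring
  have hρ2 : ρ b₂ = b₂ := by simp [hρ, h21]
  have hac' : a * a + c * c * (d₂ / d₁) = 1 := by linear_combination hac
  have key : ∀ z, h (ρ (h (ρ z))) = z := by
    intro z
    conv_rhs => rw [hco z]
    conv_lhs => rw [hco z]
    simp only [map_add, map_smul, map_neg, hρx, hρ1, hρ2, hhx, hh1, hh2, smul_neg]
    match_scalars
    · ring
    · linear_combination (Φ z b₁ / d₁) * hac'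
    · linear_combination (Φ z b₂ / d₂) * hac'
  have hs : (h * h).restrictScalars F ∈ G := by
    convert S.comm h ρ hhi hρi using 1
    refine LinearEquiv.ext fun z => ?_
    show h (h z) = h (ρ ((h.restrictScalars F).symm ((ρ.restrictScalars F).symm z)))
    obtain ⟨w, rfl⟩ := ρ.surjective z
    obtain ⟨w', rfl⟩ := h.surjective w
    rw [show (ρ.restrictScalars F).symm (ρ (h w')) = h w' from ρ.symm_apply_apply _,
      show (h.restrictScalars F).symm (h w') = w' from h.symm_apply_apply _]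
    have := key (ρ w')
    rw [show ρ (ρ w') = w' by rw [hρ, hρ]; simp [← hd₁]; field_simp; module] at this
    rw [this]
  have hμ0 := hμ.ne_zero hℓ.ne_zero
  have hσ0 : a ≠ 0 := fun e0 => by
    have hσ' : σ = 0 := by
      rw [ha, div_eq_zero_iff] at e0; exact e0.resolve_right h2
    rw [hσ', map_zero] at hσ
    field_simp at hσ
    have h4 : μ ^ 4 = 1 := by linear_combination (μ ^ 2 - 1) * hσ
    have h5 := (hμ.pow_eq_one_iff_dvd 4).mp h4
    have h6 : ℓ ∣ 2 ^ 2 := h5
    have := Nat.le_of_dvd two_pos (hℓ.dvd_of_dvd_pow h6)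
    omega
  refine ⟨h * h, ℓ, σ * σ - 2, μ ^ 2, ⟨hℓ, hℓ2, hx, ?_, ?_, ?_, ?_, ?_, ?_⟩, hs, hτ, hℓr, hq0, hq⟩
  · exact hμ.pow_of_coprime 2 (Nat.coprime_primes Nat.prime_two hℓ |>.mpr (by omega))
  · rw [map_sub, map_mul, map_ofNat, ← hσ]
    field_simp
    ring
  · rw [LinearEquiv.mul_apply, hhx, hhx]
  · intro u v; rw [LinearEquiv.mul_apply, LinearEquiv.mul_apply, hhi, hhi]
  · intro y hy
    have hcy := hco y
    rw [hy, zero_div, zero_smul, zero_add] at hcy
    have hq2 : ∀ e : V, (∃ β γ : K, e = β • b₁ + γ • b₂) → h (h e) = σ • h e - e := by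
      rintro e ⟨β, γ, rfl⟩
      have hσa : σ = 2 * a := by rw [ha]; field_simp
      simp only [map_add, map_smul, map_neg, hh1, hh2, hσa]
      match_scalars
      · linear_combination -β * hac'
      · linear_combination -γ * hac'
    have h1 := hq2 y ⟨_, _, hcy⟩
    show h (h (h (h y))) = (σ * σ - 2) • h (h y) - y
    have h2' : h (h (h y)) = σ • h (h y) - h y := by rw [h1, map_sub, map_smul, h1]
    rw [h2', map_sub, map_smul, h2', h1]
    module
  · refine ⟨b₁, hb₁x, fun α β e => ?_, fun z hz => ?_⟩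
    · rw [LinearEquiv.mul_apply, hh1, map_add, map_smul, map_smul, hh1, hh2] at e
      have e1 := congrArg (fun v => Φ v b₂) e
      simp [h12, ← hd₂] at e1
      have hα : α = 0 := (mul_eq_zero.mp (show α * (2 * a * c * d₂) = 0 by linear_combination e1)).resolve_right
        (mul_ne_zero (mul_ne_zero (mul_ne_zero h2 hσ0) hc) h22)
      subst hα
      rw [zero_smul, zero_add, smul_eq_zero] at e
      exact ⟨rfl, e.resolve_right fun e0 => h11 (by simp [hd₁, e0])⟩
    · have hcz := hco z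
      rw [hz, zero_div, zero_smul, zero_add] at hcz
      have hσ1 : a * c + c * a ≠ 0 := fun e0 =>
        mul_ne_zero (mul_ne_zero h2 hσ0) hc (by linear_combination e0)
      refine ⟨Φ z b₂ / d₂ / (2 * a * c), Φ z b₁ / d₁ - Φ z b₂ / d₂ / (2 * a * c) * (a * a + c * (-(c * d₂ / d₁))), ?_⟩
      conv_lhs => rw [hcz]
      rw [LinearEquiv.mul_apply, hh1, map_add, map_smul, map_smul, hh1, hh2]
      match_scalars <;> field_simp <;> ring

end OrthOver

omit [Finite F] [FiniteDimensional F K] [FiniteDimensional K V] [IsScalarTower F K V] in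
theorem restrict_pow_apply (s : V ≃ₗ[K] V) [LinearMap.CompatibleSMul V V F K] (n : ℕ) (z : V) :
    ((s.restrictScalars F) ^ n) z = (s ^ n) z := by
  induction n generalizing z with
  | zero => rfl
  | succ n ih => rw [pow_succ, pow_succ, LinearEquiv.mul_apply, LinearEquiv.mul_apply, ih]; rfl

omit [FiniteDimensional K V] in
/-- A field automorphism killed by a cube of a unipotent semilinear map is trivial. -/
theorem auto_eq_id_of_cube (hp : (finrank F K).Prime) (h5 : 5 ≤ finrank F K) {θ : K ≃ₐ[F] K} {y₀ y₁ y₂ y₃ : V}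
    (h : ∀ c : K, θ (θ (θ c)) • y₃ - (3 : K) • θ (θ c) • y₂ + (3 : K) • θ c • y₁ - c • y₀ = 0) (hy : y₀ ≠ 0) :
    θ = 1 := by
  classical
  by_contra hne
  haveI : Finite K := Module.finite_of_finite F
  have hord : orderOf θ = finrank F K := by
    haveI := Fact.mk hp
    refine orderOf_eq_prime ?_ hne
    rw [← IsGalois.card_aut_eq_finrank F K]
    exact pow_card_eq_one'
  obtain ⟨f, hf⟩ : ∃ f : V →ₗ[K] K, f y₀ ≠ 0 := by
    by_contra hc
    push Not at hc
    exact hy (Module.forall_dual_apply_eq_zero_iff K y₀ |>.mp hc)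
  let χ : Fin 4 → (K →* K) := fun i => ((θ ^ (i : ℕ) : K ≃ₐ[F] K) : K →+* K).toMonoidHom
  have hχ : Function.Injective χ := by
    intro i j e
    have h1 : θ ^ (i : ℕ) = θ ^ (j : ℕ) := AlgEquiv.ext fun c => DFunLike.congr_fun e c
    exact Fin.ext (pow_injOn_Iio_orderOf (by rw [Set.mem_Iio, hord]; have := i.2; omega)
      (by rw [Set.mem_Iio, hord]; have := j.2; omega) h1)
  have hli := (linearIndependent_monoidHom K K).comp χ hχ
  rw [Fintype.linearIndependent_iff] at hli
  refine hf (neg_eq_zero.mp (hli ![-f y₀, 3 * f y₁, -(3 * f y₂), f y₃] ?_ 0))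
  funext c
  have h1 := congrArg f (h c)
  simp only [map_add, map_sub, map_smul, map_zero, smul_eq_mul] at h1
  simp [Fin.sum_univ_four, χ, pow_succ, AlgEquiv.mul_apply]
  linear_combination h1

namespace OrthOver

variable (S : OrthOver Φ G)
include S

omit [FiniteDimensional K V] in
/-- An element normalising a rotation preserves the axis. -/
theorem rot_line {x : V} {s : V ≃ₗ[K] V} {ℓ : ℕ} {τ : K} {lam : AlgebraicClosure K} (R : IsRotation Φ x s ℓ τ lam)
    {u : V ≃ₗ[F] V} {k : ℕ} (hk : ¬ ℓ ∣ k) (huk : ∀ z, u (s z) = (s ^ k) (u z)) (c : K) : u (c • x) ∈ K ∙ x := by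
  refine R.fixed_mem_pow hk ?_
  rw [← huk, R.fix_smul]

omit [FiniteDimensional K V] in
/-- It preserves the plane. -/
theorem rot_perp {x : V} {s : V ≃ₗ[K] V} {ℓ : ℕ} {τ : K} {lam : AlgebraicClosure K} (R : IsRotation Φ x s ℓ τ lam)
    {u : V ≃ₗ[F] V} (hu : u ∈ G) {k : ℕ} (hk : ¬ ℓ ∣ k) (huk : ∀ z, u (s z) = (s ^ k) (u z)) {y : V}
    (hy : Φ y x = 0) : Φ (u y) x = 0 := by
  have hx0 : x ≠ 0 := fun e => R.aniso (by simp [e])
  obtain ⟨α, hα⟩ := exists_line_equiv hx0 (fun c => S.rot_line R hk huk c)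
  exact S.perp_image hu hα hy

/-- It acts semilinearly on the plane. -/
theorem exists_theta {x : V} {s : V ≃ₗ[K] V} {ℓ : ℕ} {τ : K} {lam : AlgebraicClosure K}
    (R : IsRotation Φ x s ℓ τ lam) (hτ : τ ∉ (algebraMap F K).range)
    {u : V ≃ₗ[F] V} (hu : u ∈ G) {k : ℕ} (hk : ¬ ℓ ∣ k) (huk : ∀ z, u (s z) = (s ^ k) (u z)) :
    ∃ θ : K ≃ₐ[F] K, (∀ c y, Φ y x = 0 → u (c • y) = θ c • u y) ∧
      algebraMap K (AlgebraicClosure K) (θ τ) = lam ^ k + lam⁻¹ ^ k := by
  classical
  obtain ⟨y₀, hy₀, hind, -⟩ := R.gen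
  have hy₀0 : y₀ ≠ 0 := fun e => one_ne_zero (hind 0 1 (by rw [e]; simp)).2
  have hinv : ∀ y, Φ y x = 0 → s⁻¹ y = (-1 : K) • s y + τ • y := fun y hy => by
    show s.symm y = _
    rw [LinearEquiv.symm_apply_eq, map_add, map_smul, map_smul, R.quad y hy]
    module
  obtain ⟨A, B, h1, h2, h3⟩ := R.pow_formula s 1 0 (fun y _ => by rw [one_smul, zero_smul, add_zero]) k
  obtain ⟨A', B', h1', h2', h3'⟩ := R.pow_formula s⁻¹ (-1) τ hinv k
  simp only [map_one, map_zero, one_mul, add_zero, map_neg] at h2 h3 h2' h3'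
  rw [← R.trace, show -1 * lam + (lam + lam⁻¹) = lam⁻¹ by ring] at h2'
  rw [← R.trace, show -1 * lam⁻¹ + (lam + lam⁻¹) = lam by ring] at h3'
  obtain ⟨hA, -⟩ := R.eq_of_eval (A := A + A') (B := B + B') (A' := 0) (B' := B + B')
    (by
      have e : (algebraMap K (AlgebraicClosure K) A + algebraMap K _ A') * (lam - lam⁻¹) = 0 := by
        linear_combination -h2 - h2' + h3 + h3'
      rw [map_add, (mul_eq_zero.mp e).resolve_right R.lam_sub_ne, map_zero])
    (by
      have e : (algebraMap K (AlgebraicClosure K) A + algebraMap K _ A') * (lam - lam⁻¹) = 0 := by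
        linear_combination -h2 - h2' + h3 + h3'
      rw [map_add, (mul_eq_zero.mp e).resolve_right R.lam_sub_ne, map_zero])
  have hτy : ∀ y, Φ y x = 0 → u (τ • y) = (B + B') • u y := fun y hy => by
    have huy := S.rot_perp R hu hk huk hy
    have huinv : ∀ z, u (s⁻¹ z) = ((s ^ k)⁻¹) (u z) := fun z => by
      show _ = (s ^ k).symm (u z)
      rw [eq_comm, LinearEquiv.symm_apply_eq, ← huk]
      exact congrArg u (s.apply_symm_apply z).symm
    rw [show τ • y = s y + s⁻¹ y by rw [hinv y hy]; module, map_add, huk, huinv, h1 _ huy, ← inv_pow, h1' _ huy,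
      show A' = -A by linear_combination hA]
    module
  let Acts : K → Prop := fun c => ∃ c' : K, ∀ y, Φ y x = 0 → u (c • y) = c' • u y
  have hperp : ∀ (c : K) {y : V}, Φ y x = 0 → Φ (c • y) x = 0 := fun c y hy => by simp [hy]
  let M : Subalgebra F K :=
    { carrier := {c | Acts c}
      one_mem' := ⟨1, fun y _ => by simp⟩
      mul_mem' := fun {a b} ⟨a', ha⟩ ⟨b', hb⟩ => ⟨a' * b', fun y hy => by
        rw [mul_smul, ha _ (hperp b hy), hb y hy, smul_smul]⟩
      zero_mem' := ⟨0, fun y _ => by simp⟩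
      add_mem' := fun {a b} ⟨a', ha⟩ ⟨b', hb⟩ => ⟨a' + b', fun y hy => by
        rw [add_smul, map_add, ha y hy, hb y hy, add_smul]⟩
      algebraMap_mem' := fun t => ⟨algebraMap F K t, fun y _ => by rw [algebraMap_smul, map_smul, algebraMap_smul]⟩ }
  have htop : ∀ c, Acts c := fun c => by
    haveI := Subalgebra.isSimpleOrder_of_finrank_prime F K S.prime
    rcases eq_bot_or_eq_top M with h | h
    · refine absurd ?_ hτ
      have hm : τ ∈ M := ⟨_, hτy⟩
      rw [h] at hm
      exact Algebra.mem_bot.mp hm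
    · have hm : c ∈ M := h ▸ trivial
      exact hm
  choose θ hθ using htop
  have huy₀ : u y₀ ≠ 0 := u.map_ne_zero_iff.mpr hy₀0
  have huniq : ∀ c d, u (c • y₀) = d • u y₀ → θ c = d := fun c d e =>
    smul_left_injective K huy₀ ((hθ c y₀ hy₀).symm.trans e)
  let θ' : K →ₐ[F] K :=
    { toFun := θ
      map_one' := huniq 1 1 (by simp)
      map_mul' := fun a b => huniq _ _ (by rw [mul_smul, hθ a _ (hperp b hy₀), hθ b y₀ hy₀, smul_smul])
      map_zero' := huniq 0 0 (by simp)
      map_add' := fun a b => huniq _ _ (by rw [add_smul, map_add, hθ a y₀ hy₀, hθ b y₀ hy₀, add_smul])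
      commutes' := fun t => huniq _ _ (by rw [algebraMap_smul, map_smul, algebraMap_smul]) }
  refine ⟨AlgEquiv.ofBijective θ' (Algebra.IsAlgebraic.algHom_bijective θ'), hθ, ?_⟩
  show algebraMap K _ (θ τ) = _
  rw [huniq τ (B + B') (hτy y₀ hy₀), map_add, h2, h2', show A' = -A by linear_combination hA, map_neg]
  ring

omit [Finite F] [FiniteDimensional F K] [FiniteDimensional K V] in
theorem theta_iterate {x : V} {u : V ≃ₗ[F] V} {θ : K ≃ₐ[F] K} (hperp : ∀ y, Φ y x = 0 → Φ (u y) x = 0)
    (h : ∀ c y, Φ y x = 0 → u (c • y) = θ c • u y) (n : ℕ) :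
    ∀ c y, Φ y x = 0 → (u ^ n) (c • y) = (θ ^ n) c • (u ^ n) y := by
  induction n with
  | zero => intro c y _; rfl
  | succ n ih =>
    intro c y hy
    rw [pow_succ, pow_succ, LinearEquiv.mul_apply, LinearEquiv.mul_apply, h c y hy, ih _ _ (hperp y hy),
      AlgEquiv.mul_apply]

omit [FiniteDimensional K V] in
/-- A linear element of odd order normalising the rotation centralises it. -/
theorem rot_commute {x : V} {s : V ≃ₗ[K] V} {ℓ : ℕ} {τ : K} {lam : AlgebraicClosure K}
    (R : IsRotation Φ x s ℓ τ lam) {u : V ≃ₗ[F] V} {k : ℕ} (huk : ∀ z, u (s z) = (s ^ k) (u z))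
    (hk : algebraMap K (AlgebraicClosure K) τ = lam ^ k + lam⁻¹ ^ k) {n : ℕ} (hn : Odd n) (hun : u ^ n = 1) :
    ∀ z, u (s z) = s (u z) := by
  have hl := R.lam_ne_zero
  have hsk : ∀ m, m % ℓ = k % ℓ → s ^ m = s ^ k := fun m hm => by
    rw [← Nat.mod_add_div m ℓ, ← Nat.mod_add_div k ℓ, pow_add, pow_add, pow_mul, pow_mul, R.pow_eq_one, one_pow,
      one_pow, hm]
  have h1 : (lam ^ k - lam) * (lam ^ k * lam - 1) = 0 := by
    rw [← R.trace, inv_pow] at hk
    field_simp at hk
    linear_combination -hk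
  rcases mul_eq_zero.mp h1 with h | h
  · intro z
    have h2 : lam ^ k = lam ^ 1 := by rw [pow_one]; exact sub_eq_zero.mp h
    have h3 : lam ^ (k % ℓ) = lam ^ 1 := by
      rwa [← Nat.mod_add_div k ℓ, pow_add, pow_mul, R.root.pow_eq_one, one_pow, mul_one] at h2
    have h4 := R.root.pow_inj (Nat.mod_lt _ R.prime.pos) R.prime.one_lt h3
    rw [huk, ← hsk 1 (by rw [h4, Nat.mod_eq_of_lt R.prime.one_lt]), pow_one]
  · -- `u` inverts `s`
    exfalso
    have h2 : lam ^ (k + 1) = 1 := by rw [pow_succ]; exact sub_eq_zero.mp h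
    obtain ⟨t, ht⟩ := (R.root.pow_eq_one_iff_dvd _).mp h2
    have hk1 : s ^ k = s⁻¹ := eq_inv_of_mul_eq_one_left (by rw [← pow_succ, ht, pow_mul, R.pow_eq_one, one_pow])
    have h3 : ∀ z, u (s⁻¹ z) = s (u z) := fun z => by
      have e := huk (s⁻¹ z)
      rw [hk1, show s (s⁻¹ z) = z from s.apply_symm_apply z] at e
      show u (s⁻¹ z) = _
      exact (LinearEquiv.symm_apply_eq s).mp e.symm
    have h4 : ∀ m, ∀ z, (u ^ (2 * m)) (s z) = s ((u ^ (2 * m)) z) := fun m => by
      induction m with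
      | zero => intro z; rfl
      | succ m ih =>
        intro z
        rw [show 2 * (m + 1) = 2 * m + 1 + 1 by ring, pow_succ, pow_succ, LinearEquiv.mul_apply, LinearEquiv.mul_apply,
          huk, hk1, h3, ih]
        rfl
    obtain ⟨m, rfl⟩ := hn
    have h5 : ∀ z, s⁻¹ z = s z := fun z => by
      have e := h4 m (u z)
      rw [← LinearEquiv.mul_apply, ← pow_succ, hun, LinearEquiv.coe_one, id] at e
      have e2 : (u ^ (2 * m)) (u (s⁻¹ z)) = s z := by rw [h3]; exact (h4 m (u z)).trans (by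
        rw [← LinearEquiv.mul_apply, ← pow_succ, hun]; rfl)
      rw [← LinearEquiv.mul_apply, ← pow_succ, hun] at e2
      exact e2
    obtain ⟨y, hy, hind, -⟩ := R.gen
    have h6 := h5 y
    rw [show s⁻¹ y = s.symm y from rfl, LinearEquiv.symm_apply_eq, R.quad y hy] at h6
    obtain ⟨e1, e2⟩ := hind τ (-2) (by linear_combination (norm := module) -h6)
    exact S.twoK (neg_eq_zero.mp e2)

omit [FiniteDimensional K V] in
/-- The only elements of order `ℓ` centralising the rotation are its powers. -/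
theorem rot_rank_one {x : V} {s : V ≃ₗ[K] V} {ℓ : ℕ} {τ : K} {lam : AlgebraicClosure K}
    (R : IsRotation Φ x s ℓ τ lam) (hτ : τ ∉ (algebraMap F K).range) (hq0 : ((Nat.card F : ℕ) : ZMod ℓ) ≠ 0)
    (hq : ∀ j, 0 < j → j < finrank F K → ((Nat.card F : ℕ) : ZMod ℓ) ^ j ≠ 1) [FiniteDimensional K V]
    {d : V ≃ₗ[F] V} (hd : d ∈ G) (hdx : d x = x) (hds : ∀ z, d (s z) = s (d z)) (hdl : d ^ ℓ = 1) :
    ∃ i, ∀ z, d z = (s ^ i) z := by
  classical
  haveI := Fact.mk R.prime
  haveI : Finite K := Module.finite_of_finite F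
  have h1k : ¬ ℓ ∣ 1 := fun h => R.prime.one_lt.ne' (Nat.eq_one_of_dvd_one h)
  have huk : ∀ z, d (s z) = (s ^ 1) (d z) := fun z => by rw [pow_one, hds]
  have hperp := fun {y} => S.rot_perp R hd h1k huk (y := y)
  have hx0 : x ≠ 0 := fun e => R.aniso (by simp [e])
  -- trivial on the axis
  obtain ⟨α, hα⟩ := exists_line_equiv hx0 (fun c => S.rot_line R h1k huk c)
  have hαpow : ∀ n c, (d ^ n) (c • x) = (α ^ n) c • x := fun n => by
    induction n with
    | zero => intro c; rfl
    | succ n ih => intro c; rw [pow_succ, pow_succ, LinearEquiv.mul_apply, LinearEquiv.mul_apply, hα, ih]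
  have hα1 : ∀ c, α c = c := by
    have hαl : α ^ ℓ = 1 := LinearEquiv.ext fun c => smul_left_injective K hx0 (by
      show (α ^ ℓ) c • x = c • x
      rw [← hαpow, hdl]; rfl)
    let P := Subgroup.zpowers α
    have hP : IsPGroup ℓ P := fun g => ⟨1, by
      obtain ⟨g, n, rfl⟩ := g
      refine Subtype.ext ?_
      rw [SubmonoidClass.coe_pow, pow_one, ← zpow_natCast, ← zpow_mul, mul_comm, zpow_mul, zpow_natCast, hαl, one_zpow]
      rfl⟩
    have hmod := hP.card_modEq_card_fixedPoints K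
    let W : Submodule F K := LinearMap.ker (α.toLinearMap - LinearMap.id)
    have hfix : MulAction.fixedPoints P K = (W : Set K) := by
      ext c
      simp only [MulAction.mem_fixedPoints, SetLike.mem_coe, W, LinearMap.mem_ker, LinearMap.sub_apply,
        LinearMap.id_apply, LinearEquiv.coe_coe, sub_eq_zero]
      refine ⟨fun h => h ⟨α, Subgroup.mem_zpowers α⟩, fun h g => ?_⟩
      obtain ⟨g, n, rfl⟩ := g
      show (α ^ n) c = c
      have hs : α ∈ MulAction.stabilizer (K ≃ₗ[F] K) c := h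
      exact zpow_mem hs n
    rw [hfix, Nat.card_coe_set_eq, ← Nat.card_coe_set_eq] at hmod
    have hW1 : (1 : K) ∈ W := by
      show α 1 - 1 = 0
      rw [sub_eq_zero]
      exact smul_left_injective K hx0 (show α 1 • x = (1 : K) • x by rw [← hα, one_smul, hdx])
    have hWpos : 0 < finrank F W := Module.finrank_pos_iff_exists_ne_zero.mpr ⟨⟨1, hW1⟩, by simp⟩
    have hWn : W = ⊤ := by
      refine Submodule.eq_top_of_finrank_eq (le_antisymm (Submodule.finrank_le W) ?_)
      by_contra hlt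
      push Not at hlt
      have e1 : Nat.card K = Nat.card F ^ finrank F K := Module.natCard_eq_pow_finrank
      have e2 : Nat.card W = Nat.card F ^ finrank F W := Module.natCard_eq_pow_finrank
      rw [SetLike.coe_sort_coe, e1, e2, ← ZMod.natCast_eq_natCast_iff] at hmod
      push_cast at hmod
      refine hq (finrank F K - finrank F W) (by omega) (by omega) ?_
      refine (mul_eq_right₀ (pow_ne_zero (finrank F W) hq0)).mp ?_
      rw [← pow_add, Nat.sub_add_cancel hlt.le, hmod]
    intro c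
    have hc : c ∈ W := hWn ▸ trivial
    exact sub_eq_zero.mp hc
  -- linear on the plane
  obtain ⟨θ, hθ, hθτ⟩ := S.exists_theta R hτ hd h1k huk
  have hθ1 : θ = 1 := by
    refine AlgEquiv.ext fun c => ?_
    haveI := Subalgebra.isSimpleOrder_of_finrank_prime F K S.prime
    rcases eq_bot_or_eq_top (AlgHom.equalizer (θ : K →ₐ[F] K) (AlgHom.id F K)) with h | h
    · refine absurd ?_ hτ
      have hm : τ ∈ AlgHom.equalizer (θ : K →ₐ[F] K) (AlgHom.id F K) :=
        (algebraMap K (AlgebraicClosure K)).injective (show algebraMap K _ (θ τ) = algebraMap K _ τ by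
          rw [hθτ, pow_one, pow_one, R.trace])
      rw [h] at hm
      exact Algebra.mem_bot.mp hm
    · have hm : c ∈ AlgHom.equalizer (θ : K →ₐ[F] K) (AlgHom.id F K) := h ▸ trivial
      exact hm
  have hlin : ∀ (c : K) z, d (c • z) = c • d z := by
    intro c z
    rw [← sub_add_cancel z ((Φ z x / Φ x x) • x), smul_add, map_add, map_add, hθ c _ (IsRotation.decomp R.aniso z),
      hθ1, smul_smul, hα, hα1, smul_add, hα, hα1, smul_smul]
    rfl
  let dK : V ≃ₗ[K] V := { d with map_smul' := hlin }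
  obtain ⟨y, hy, hind, hgen⟩ := R.gen
  obtain ⟨a, b, hab⟩ := hgen _ (hperp hy)
  have hdE : ∀ z, Φ z x = 0 → dK z = a • s z + b • z := by
    intro z hz
    obtain ⟨a', b', rfl⟩ := hgen z hz
    show d _ = _
    rw [map_add, hlin, hlin, hds, hab]
    simp only [map_add, map_smul, R.quad y hy]
    module
  obtain ⟨A, B, h1, h2, h3⟩ := R.pow_formula dK a b hdE ℓ
  have hdKp : ∀ n z, (dK ^ n) z = (d ^ n) z := fun n => by
    induction n with
    | zero => intro z; rfl
    | succ n ih => intro z; rw [pow_succ, pow_succ, LinearEquiv.mul_apply, LinearEquiv.mul_apply, ih]; rfl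
  have hy1 := h1 y hy
  rw [hdKp, hdl, LinearEquiv.coe_one, id] at hy1
  obtain ⟨hA, hB⟩ := hind A (B - 1) (by linear_combination (norm := module) -hy1)
  rw [hA, sub_eq_zero.mp hB, map_zero, map_one, zero_mul, zero_add] at h2 h3
  -- the isometry condition
  have hsy : 2 * Φ (s y) y = τ * Φ y y := by
    have e := R.isom (s y) y
    rw [R.quad y hy, map_sub, map_smul, LinearMap.sub_apply, LinearMap.smul_apply, smul_eq_mul, R.isom,
      S.symm y (s y)] at e
    have e' := S.symm y (s y)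
    linear_combination -e
  have hyy : Φ y y ≠ 0 := by
    intro e
    have e1 : Φ (s y) y = 0 := (mul_eq_zero.mp (show (2 : K) * Φ (s y) y = 0 by rw [hsy, e, mul_zero])).resolve_left S.twoK
    have e2 : Φ (s y) (s y) = 0 := by rw [R.isom, e]
    obtain ⟨z, hz, hne⟩ := S.nd_perp R.aniso y hy (fun e0 => one_ne_zero (hind 0 1 (by rw [e0]; simp)).2)
    obtain ⟨a', b', rfl⟩ := hgen z hz
    exact hne (by simp [S.symm y (s y), e1, e])
  have hiso : a * a + a * b * τ + b * b = 1 := by
    have e : Φ (dK y) (dK y) = Φ y y := by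
      refine eq_of_trace (F := F) fun c => ?_
      have := S.isom d hd (c • y) y
      rw [hlin, Φ.map_smul, LinearMap.smul_apply, Φ.map_smul, LinearMap.smul_apply] at this
      exact this
    rw [hdE y hy] at e
    simp only [map_add, map_smul, LinearMap.add_apply, LinearMap.smul_apply, smul_eq_mul, R.isom, S.symm y (s y)] at e
    refine mul_right_cancel₀ hyy ?_
    linear_combination e - a * b * hsy
  have hprod : (algebraMap K (AlgebraicClosure K) a * lam + algebraMap K _ b) *
      (algebraMap K (AlgebraicClosure K) a * lam⁻¹ + algebraMap K _ b) = 1 := by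
    rw [← map_one (algebraMap K (AlgebraicClosure K)), ← hiso]
    simp only [map_add, map_mul, ← R.trace]
    have := R.lam_ne_zero
    field_simp
    ring
  haveI : NeZero ℓ := ⟨R.prime.ne_zero⟩
  obtain ⟨i, -, hi⟩ := R.root.eq_pow_of_pow_eq_one h2
  obtain ⟨A', B', h1', h2', h3'⟩ := R.pow_formula s 1 0 (fun y _ => by rw [one_smul, zero_smul, add_zero]) i
  simp only [map_one, map_zero, one_mul, add_zero] at h2' h3'
  obtain ⟨rfl, rfl⟩ := R.eq_of_eval (hi.symm.trans h2') (by
    rw [← h3', inv_pow, hi]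
    exact eq_inv_of_mul_eq_one_right hprod)
  refine ⟨i, fun z => ?_⟩
  have e := hdE _ (IsRotation.decomp R.aniso z)
  have e' := h1' _ (IsRotation.decomp R.aniso z)
  rw [← e] at e'
  simp only [map_sub, R.pow_fix, show dK ((Φ z x / Φ x x) • x) = (Φ z x / Φ x x) • x by
    show d _ = _
    rw [hα, hα1], sub_left_inj] at e'
  exact e'.symm

/-- A unipotent field automorphism on a singular line cannot come from a map fixing an anisotropic vector and its line. -/
theorem no_auto {v x : V} (hx : Φ x x ≠ 0) {p n : ℕ} [CharP F p] (hp : p.Prime) (hpr : finrank F K = p)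
    {u : V ≃ₗ[F] V} (hu : u ∈ G) (hline : ∀ c : K, u (c • x) ∈ K ∙ x) (hperp : ∀ y, Φ y x = 0 → Φ (u y) x = 0)
    (hux : u x = x) (hun : u ^ (p ^ n) = 1) {j : V ≃ₗ[F] V} (hj : j ∈ G) (hjx : j x = v) (hv : v ≠ 0)
    (hvv : Φ v v = 0) {θ : K ≃ₐ[F] K} (hθ : θ ≠ 1) (hju : ∀ c : K, j (u (j.symm (c • v))) = θ c • v) : False := by
  classical
  haveI := Fact.mk hp
  haveI : Finite K := Module.finite_of_finite F
  haveI : CharP K p := charP_of_injective_algebraMap (algebraMap F K).injective p
  have hx0 : x ≠ 0 := fun e => hx (by simp [e])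
  obtain ⟨α, hα⟩ := exists_line_equiv hx0 hline
  -- a scalar taken to `1` by the maximal power of `θ - 1`
  let D : Module.End F K := θ.toLinearMap - 1
  have hker : ∀ i, finrank F (LinearMap.ker (D ^ i)) ≤ i := by
    have h1 : finrank F (LinearMap.ker D) ≤ 1 := by
      refine (Submodule.finrank_mono (show LinearMap.ker D ≤ LinearMap.range (Algebra.linearMap F K) by
        intro k hk
        obtain ⟨t, ht⟩ := ExtSym.eq_alg_of_fixed S.prime hθ (sub_eq_zero.mp (LinearMap.mem_ker.mp hk))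
        exact ⟨t, ht⟩)).trans ?_
      exact (LinearMap.finrank_range_le _).trans (finrank_self F).le
    intro i
    induction i with
    | zero => rw [pow_zero, Module.End.one_eq_id, LinearMap.ker_id, finrank_bot]
    | succ i ih =>
      let φ := D.domRestrict (LinearMap.ker (D ^ (i + 1)))
      have h2 := φ.finrank_range_add_finrank_ker
      have h3 : finrank F (LinearMap.range φ) ≤ finrank F (LinearMap.ker (D ^ i)) := Submodule.finrank_mono (by
        rintro _ ⟨⟨z, hz⟩, rfl⟩
        show (D ^ i) (D z) = 0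
        rw [← Module.End.mul_apply, ← pow_succ]
        exact hz)
      have h4 : finrank F (LinearMap.ker φ) ≤ finrank F (LinearMap.ker D) := by
        rw [← Submodule.finrank_map_subtype_eq]
        refine Submodule.finrank_mono ?_
        rintro _ ⟨z, hz, rfl⟩
        exact hz
      omega
  have hθp : θ ^ p = 1 := by
    rw [← hpr, ← IsGalois.card_aut_eq_finrank F K]
    exact pow_card_eq_one'
  have hθend : ∀ m, (θ.toLinearMap : Module.End F K) ^ m = (θ ^ m).toLinearMap := fun m => by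
    induction m with
    | zero => rfl
    | succ m ih => rw [pow_succ, ih, pow_succ]; rfl
  haveI : CharP (Module.End F K) p := charP_of_injective_algebraMap (algebraMap F (Module.End F K)).injective p
  have hDp : D ^ p = 0 := by
    rw [sub_pow_char_of_commute p (Commute.one_right _), one_pow, hθend, hθp, sub_eq_zero]
    rfl
  obtain ⟨c₀, hc₀⟩ : ∃ c₀, (D ^ (p - 1)) c₀ ≠ 0 := by
    by_contra hc
    push Not at hc
    have h1 := hker (p - 1)
    rw [show LinearMap.ker (D ^ (p - 1)) = ⊤ from (Submodule.eq_top_iff' (p := _)).mpr hc, finrank_top, hpr] at h1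
    have := hp.two_le
    omega
  obtain ⟨t, ht⟩ : ∃ t : F, algebraMap F K t = (D ^ (p - 1)) c₀ := by
    refine ExtSym.eq_alg_of_fixed S.prime hθ (sub_eq_zero.mp ?_) |>.imp fun t ht => ht
    show D ((D ^ (p - 1)) c₀) = 0
    rw [← Module.End.mul_apply, ← pow_succ', Nat.sub_add_cancel hp.one_le, hDp]
    rfl
  have ht0 : t ≠ 0 := fun e => hc₀ (by rw [← ht, e, map_zero])
  set c := t⁻¹ • c₀ with hc
  have hc1 : (D ^ (p - 1)) c = 1 := by
    rw [hc, map_smul, ← ht, Algebra.algebraMap_eq_smul_one, smul_smul, inv_mul_cancel₀ ht0, one_smul]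
  -- transported to the line of `x`
  let U : Module.End F V := u.toLinearMap - 1
  set z := j.symm (c • v) with hz
  have hUj : ∀ m, j ((U ^ m) z) = (D ^ m) c • v := fun m => by
    induction m with
    | zero => show j z = _; rw [hz, LinearEquiv.apply_symm_apply]; rfl
    | succ m ih =>
      rw [pow_succ', pow_succ', Module.End.mul_apply, Module.End.mul_apply]
      show j (u ((U ^ m) z) - (U ^ m) z) = (θ ((D ^ m) c) - (D ^ m) c) • v
      rw [map_sub, ih, sub_smul, ← hju, ← ih, LinearEquiv.symm_apply_apply]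
  have hUz : (U ^ (p - 1)) z = x := j.injective (by rw [hUj, hc1, one_smul, hjx])
  set d := Φ z x / Φ x x with hd
  set e := z - d • x with he
  have hex : Φ e x = 0 := IsRotation.decomp hx z
  let T : Module.End F K := α.toLinearMap - 1
  have hUx : ∀ m b, (U ^ m) (b • x) = (T ^ m) b • x := fun m => by
    induction m with
    | zero => intro b; rfl
    | succ m ih =>
      intro b
      rw [pow_succ, pow_succ, Module.End.mul_apply, Module.End.mul_apply]
      show (U ^ m) (u (b • x) - b • x) = (T ^ m) (α b - b) • x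
      rw [hα, ← sub_smul, ih]
  have hUe : ∀ m, Φ ((U ^ m) e) x = 0 := fun m => by
    induction m with
    | zero => exact hex
    | succ m ih =>
      rw [pow_succ', Module.End.mul_apply]
      show Φ (u ((U ^ m) e) - (U ^ m) e) x = 0
      rw [map_sub, LinearMap.sub_apply, hperp _ ih, ih, sub_zero]
  have hTd : (T ^ (p - 1)) d = 1 := by
    have e1 : (U ^ (p - 1)) (d • x) + (U ^ (p - 1)) e = x := by rw [← map_add, he, add_sub_cancel, hUz]
    have e2 := congrArg (fun y => Φ y x) e1
    simp only [map_add, LinearMap.add_apply, hUe, add_zero, hUx, map_smul, LinearMap.smul_apply, smul_eq_mul] at e2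
    exact (mul_eq_right₀ hx).mp e2
  -- but `d` lies in an invariant hyperplane
  let φ : K →ₗ[F] F := Algebra.trace F K ∘ₗ LinearMap.mulRight F (Φ x x)
  have hφ : ∀ b, φ (T b) = 0 := fun b => by
    have h1 := S.isom u hu (b • x) x
    rw [hα, hux, Φ.map_smul, Φ.map_smul, LinearMap.smul_apply, LinearMap.smul_apply, smul_eq_mul, smul_eq_mul] at h1
    show Algebra.trace F K ((α b - b) * Φ x x) = 0
    rw [sub_mul, map_sub, h1, sub_self]
  have hd0 : φ d = 0 := by
    show Algebra.trace F K (d * Φ x x) = 0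
    rw [hd, div_mul_cancel₀ _ hx]
    have h1 := S.isom j hj z x
    rw [hz, LinearEquiv.apply_symm_apply, hjx, Φ.map_smul, LinearMap.smul_apply, smul_eq_mul, hvv, mul_zero,
      map_zero] at h1
    exact h1.symm
  let H : Submodule F K := LinearMap.ker φ
  have hHT : ∀ b ∈ H, T b ∈ H := fun b _ => hφ b
  let TH : Module.End F H := T.restrict hHT
  have hαn : α ^ (p ^ n) = 1 := LinearEquiv.ext fun b => smul_left_injective K hx0 (by
    have hm : ∀ m b, (u ^ m) (b • x) = (α ^ m) b • x := fun m => by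
      induction m with
      | zero => intro b; rfl
      | succ m ih => intro b; rw [pow_succ, pow_succ, LinearEquiv.mul_apply, LinearEquiv.mul_apply, hα, ih]
    show (α ^ (p ^ n)) b • x = b • x
    rw [← hm, hun]
    rfl)
  have hTn : T ^ (p ^ n) = 0 := by
    rw [sub_pow_char_pow_of_commute p n (Commute.one_right _), one_pow,
      show (α.toLinearMap : Module.End F K) ^ (p ^ n) = (α ^ (p ^ n)).toLinearMap from
        (map_pow (LinearEquiv.automorphismGroup.toLinearMapMonoidHom : (K ≃ₗ[F] K) →* Module.End F K) α _).symm,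
      hαn, sub_eq_zero]
    rfl
  have hTH : ∀ m (b : H), ((TH ^ m) b : K) = (T ^ m) b := fun m => by
    induction m with
    | zero => intro b; rfl
    | succ m ih => intro b; rw [pow_succ, pow_succ, Module.End.mul_apply, Module.End.mul_apply, ih]; rfl
  have hH : finrank F H ≤ p - 1 := by
    have h1 : φ ≠ 0 := fun e0 => hx (eq_of_trace (F := F) fun b => by
      rw [mul_zero, map_zero]; exact LinearMap.congr_fun e0 b)
    have h2 := φ.finrank_range_add_finrank_ker
    have h3 : 0 < finrank F (LinearMap.range φ) := by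
      rw [Nat.pos_iff_ne_zero, Ne, Submodule.finrank_eq_zero, LinearMap.range_eq_bot]
      exact h1
    rw [hpr] at h2
    show finrank F (LinearMap.ker φ) ≤ p - 1
    omega
  have hnil : TH ^ (p - 1) = 0 := by
    have h0 : TH ^ (p ^ n) = 0 := LinearMap.ext fun b => Subtype.ext (by rw [hTH, hTn]; rfl)
    refine LinearMap.ker_eq_top.mp (top_le_iff.mp ?_)
    have h1 : LinearMap.ker (TH ^ (p ^ n)) = ⊤ := by rw [h0, LinearMap.ker_zero]
    rw [Module.End.ker_pow_eq_ker_pow_finrank_of_le (f := TH) hH]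
    exact h1.symm.le.trans (Module.End.ker_pow_le_ker_pow_finrank TH _)
  have h1 := hTH (p - 1) ⟨d, hd0⟩
  rw [hnil, hTd] at h1
  exact zero_ne_one h1

end OrthOver

end Cfsg.Agent.Lib.ThreeTransp.ExtField
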