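import Mathlib

/-!
Spaces of self-adjoint endomorphisms of a finite field `K`, over a subfield `F` of prime index, that are stable under
the symmetrised action of `K`: either everything, or the Lie stabiliser consists of the multiplications.
-/

set_option autoImplicit false

namespace Cfsg.Agent.Lib.ThreeTransp.ExtSym

open Module Polynomial

variable {F K : Type*} [Field F] [Finite F] [Field K] [Algebra F K] [FiniteDimensional F K]

/-- The basis of automorphisms of the endomorphisms. -/
noncomputable def autBasis : Basis (K ≃ₐ[F] K) K (K →ₗ[F] K) :=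
  haveI : Finite K := Module.finite_of_finite F
  basisOfLinearIndependentOfCardEqFinrank
    ((linearIndependent_algHom_toLinearMap F K K).comp _ AlgEquiv.coe_toAlgHom_injective)
    (by rw [Fintype.card_eq_nat_card, IsGalois.card_aut_eq_finrank, Module.finrank_linearMap_self])

/-- The coefficient of an endomorphism at an automorphism. -/
noncomputable def coef (x : K →ₗ[F] K) (e : K ≃ₐ[F] K) : K := autBasis.repr x e

/-- The endomorphism `k ↦ c τ(k)`. -/
def single (c : K) (τ : K ≃ₐ[F] K) : K →ₗ[F] K := c • τ.toLinearMap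

omit [Finite F] [FiniteDimensional F K] in
theorem single_apply (c k : K) (τ : K ≃ₐ[F] K) : single c τ k = c * τ k := rfl

theorem autBasis_apply (τ : K ≃ₐ[F] K) : autBasis τ = single 1 τ := by
  rw [autBasis, coe_basisOfLinearIndependentOfCardEqFinrank]
  exact LinearMap.ext fun k => by simp [single_apply]

theorem coef_single [DecidableEq (K ≃ₐ[F] K)] (c : K) (τ e : K ≃ₐ[F] K) :
    coef (single c τ) e = if e = τ then c else 0 := by
  have : single c τ = c • autBasis τ := by
    rw [autBasis_apply]; exact LinearMap.ext fun k => by simp [single_apply]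
  rw [coef, this, map_smul, Basis.repr_self, Finsupp.smul_single, smul_eq_mul, mul_one, Finsupp.single_apply]
  exact if_congr eq_comm rfl rfl

theorem coef_add (x y : K →ₗ[F] K) (e : K ≃ₐ[F] K) : coef (x + y) e = coef x e + coef y e := by
  simp [coef]

theorem coef_sum {ι : Type*} (s : Finset ι) (f : ι → K →ₗ[F] K) (e : K ≃ₐ[F] K) :
    coef (∑ i ∈ s, f i) e = ∑ i ∈ s, coef (f i) e := by
  simp [coef, map_sum, Finsupp.finsetSum_apply]

theorem coef_zero (e : K ≃ₐ[F] K) : coef (0 : K →ₗ[F] K) e = 0 := by simp [coef]

theorem coef_sub (x y : K →ₗ[F] K) (e : K ≃ₐ[F] K) : coef (x - y) e = coef x e - coef y e := by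
  simp [coef]

theorem sum_single (x : K →ₗ[F] K) : ∑ τ, single (coef x τ) τ = x := by
  conv_rhs => rw [← autBasis.sum_repr x]
  exact Finset.sum_congr rfl fun τ _ => by
    rw [autBasis_apply]; exact LinearMap.ext fun k => by simp [single_apply, coef]

theorem ext_coef {x y : K →ₗ[F] K} (h : ∀ e, coef x e = coef y e) : x = y :=
  autBasis.repr.injective (Finsupp.ext h)

theorem coef_comp_single (x : K →ₗ[F] K) (c : K) (ρ e : K ≃ₐ[F] K) :
    coef (x ∘ₗ single c ρ) e = coef x (e * ρ⁻¹) * (e * ρ⁻¹) c := by
  classical
  have h : x ∘ₗ single c ρ = ∑ τ, single (coef x τ * τ c) (τ * ρ) := LinearMap.ext fun k => by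
    conv_lhs => rw [LinearMap.comp_apply, ← sum_single x]
    simp only [LinearMap.sum_apply, single_apply, AlgEquiv.mul_apply, map_mul, mul_assoc]
  rw [h, coef_sum, Finset.sum_eq_single (e * ρ⁻¹)]
  · rw [coef_single, if_pos (by group)]
  · intro τ _ hne
    rw [coef_single, if_neg fun he => hne (by rw [he]; group)]
  · exact fun h => absurd (Finset.mem_univ _) h

theorem coef_single_comp (x : K →ₗ[F] K) (c : K) (ρ e : K ≃ₐ[F] K) :
    coef (single c ρ ∘ₗ x) e = c * ρ (coef x (ρ⁻¹ * e)) := by
  classical
  have h : single c ρ ∘ₗ x = ∑ τ, single (c * ρ (coef x τ)) (ρ * τ) := LinearMap.ext fun k => by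
    conv_lhs => rw [LinearMap.comp_apply, ← sum_single x]
    simp only [LinearMap.sum_apply, single_apply, AlgEquiv.mul_apply, map_mul, map_sum, Finset.mul_sum, mul_assoc]
  rw [h, coef_sum, Finset.sum_eq_single (ρ⁻¹ * e)]
  · rw [coef_single, if_pos (by group)]
  · intro τ _ hne
    rw [coef_single, if_neg fun he => hne (by rw [he]; group)]
  · exact fun h => absurd (Finset.mem_univ _) h

theorem traceForm_nondeg : (Algebra.traceForm F K).Nondegenerate :=
  traceForm_nondegenerate F K

/-- The adjoint for the trace form. -/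
noncomputable def adj (x : K →ₗ[F] K) : K →ₗ[F] K :=
  LinearMap.BilinForm.leftAdjointOfNondegenerate (Algebra.traceForm F K) traceForm_nondeg x

theorem trace_adj (x : K →ₗ[F] K) (a b : K) :
    Algebra.trace F K (adj x a * b) = Algebra.trace F K (a * x b) :=
  LinearMap.BilinForm.isAdjointPairLeftAdjointOfNondegenerate (Algebra.traceForm F K) traceForm_nondeg x a b

theorem adj_unique {x y : K →ₗ[F] K}
    (h : ∀ a b : K, Algebra.trace F K (y a * b) = Algebra.trace F K (a * x b)) : adj x = y := by
  refine LinearMap.ext fun a => ?_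
  rw [← sub_eq_zero]
  refine (traceForm_nondeg (F := F) (K := K)).1 _ fun b => ?_
  rw [Algebra.traceForm_apply, sub_mul, map_sub, trace_adj, h, sub_self]

theorem adj_add (x y : K →ₗ[F] K) : adj (x + y) = adj x + adj y :=
  adj_unique fun a b => by simp [add_mul, mul_add, trace_adj]

theorem adj_zero : adj (0 : K →ₗ[F] K) = 0 := adj_unique fun a b => by simp

theorem adj_comp (x y : K →ₗ[F] K) : adj (x ∘ₗ y) = adj y ∘ₗ adj x :=
  adj_unique fun a b => by simp [trace_adj]

theorem adj_adj (x : K →ₗ[F] K) : adj (adj x) = x :=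
  adj_unique fun a b => by rw [mul_comm (x a), ← trace_adj, mul_comm]

theorem adj_mulLeft (c : K) : adj (LinearMap.mulLeft F c) = LinearMap.mulLeft F c :=
  adj_unique fun a b => by simp [mul_left_comm, mul_assoc]

theorem adj_sub (x y : K →ₗ[F] K) : adj (x - y) = adj x - adj y :=
  adj_unique fun a b => by simp [sub_mul, mul_sub, trace_adj]

theorem adj_single (c : K) (τ : K ≃ₐ[F] K) : adj (single c τ) = single (τ⁻¹ c) τ⁻¹ :=
  adj_unique fun a b => by
    rw [single_apply, single_apply, ← Algebra.trace_eq_of_algEquiv τ]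
    simp only [map_mul]
    rw [show τ (τ⁻¹ c) = c from τ.apply_symm_apply c, show τ (τ⁻¹ a) = a from τ.apply_symm_apply a]
    ring_nf

theorem coef_adj (x : K →ₗ[F] K) (e : K ≃ₐ[F] K) : coef (adj x) e = e (coef x e⁻¹) := by
  classical
  have h : adj x = ∑ τ, single (τ⁻¹ (coef x τ)) τ⁻¹ := by
    refine adj_unique fun a b => ?_
    conv_rhs => rw [← sum_single x]
    simp only [LinearMap.sum_apply, Finset.sum_mul, Finset.mul_sum, map_sum]
    exact Finset.sum_congr rfl fun τ _ => by rw [← adj_single, trace_adj]
  rw [h, coef_sum, Finset.sum_eq_single e⁻¹]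
  · rw [coef_single, if_pos (inv_inv e).symm, inv_inv]
  · intro τ _ hne
    rw [coef_single, if_neg fun he => hne (by rw [he, inv_inv])]
  · exact fun h => absurd (Finset.mem_univ _) h

/-- The self-adjoint endomorphism with coefficient `c` at `i`. -/
def pairEnd (i : K ≃ₐ[F] K) (c : K) : K →ₗ[F] K := single c i + single (i⁻¹ c) i⁻¹

theorem adj_pairEnd (i : K ≃ₐ[F] K) (c : K) : adj (pairEnd i c) = pairEnd i c := by
  rw [pairEnd, adj_add, adj_single, adj_single, inv_inv, show i (i⁻¹ c) = c from i.apply_symm_apply c, add_comm]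

theorem coef_mulLeft [DecidableEq (K ≃ₐ[F] K)] (c : K) (e : K ≃ₐ[F] K) :
    coef (LinearMap.mulLeft F c) e = if e = 1 then c else 0 := by
  rw [← coef_single c 1 e]
  rfl

variable (hp : (finrank F K).Prime)
include hp

theorem zpowers_eq_top {j : K ≃ₐ[F] K} (hj : j ≠ 1) : Subgroup.zpowers j = ⊤ := by
  haveI : Finite K := Module.finite_of_finite F
  haveI : Fact (finrank F K).Prime := ⟨hp⟩
  exact zpowers_eq_top_of_prime_card (IsGalois.card_aut_eq_finrank F K) hj

theorem aut_comm (i j : K ≃ₐ[F] K) : i * j = j * i := by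
  rcases eq_or_ne j 1 with rfl | hj
  · simp
  obtain ⟨n, hn⟩ := Subgroup.mem_zpowers_iff.mp (show i ∈ Subgroup.zpowers j by rw [zpowers_eq_top hp hj]; trivial)
  rw [← hn]
  exact (Commute.zpow_self j n).eq

theorem eq_alg_of_fixed {j : K ≃ₐ[F] K} (hj : j ≠ 1) {b : K} (hb : j b = b) : b ∈ (algebraMap F K).range := by
  haveI : Finite K := Module.finite_of_finite F
  have hall : ∀ τ : K ≃ₐ[F] K, τ b = b := by
    intro τ
    have hle : Subgroup.zpowers j ≤ MulAction.stabilizer (K ≃ₐ[F] K) b := Subgroup.zpowers_le.mpr hb
    rw [zpowers_eq_top hp hj] at hle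
    exact hle (Subgroup.mem_top τ)
  exact (IsGalois.mem_range_algebraMap_iff_fixed b).mpr hall

/-- A self-adjoint endomorphism supported on `{i, i⁻¹}`. -/
theorem exists_pairEnd {i : K ≃ₐ[F] K} (hi : i ≠ 1) {l : K →ₗ[F] K} (hl : adj l = l)
    (hs : ∀ e, e ≠ i → e ≠ i⁻¹ → coef l e = 0) : ∃ c, l = pairEnd i c := by
  classical
  haveI : Finite K := Module.finite_of_finite F
  have hsym : ∀ e, coef l e = e (coef l e⁻¹) := fun e => by rw [← coef_adj, hl]
  by_cases h2 : i = i⁻¹
  · obtain ⟨b, hb⟩ := eq_alg_of_fixed hp hi (show i (coef l i) = coef l i by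
      conv_rhs => rw [hsym, ← h2])
    obtain ⟨c, hc⟩ := Algebra.trace_surjective F K b
    have hord : ∀ τ : K ≃ₐ[F] K, τ = 1 ∨ τ = i := by
      intro τ
      obtain ⟨n, hn⟩ := Subgroup.mem_zpowers_iff.mp (show τ ∈ Subgroup.zpowers i by rw [zpowers_eq_top hp hi]; trivial)
      have hii : i ^ (2 : ℤ) = 1 := by rw [zpow_two]; nth_rw 2 [h2]; exact mul_inv_cancel i
      rcases Int.even_or_odd n with ⟨k, rfl⟩ | ⟨k, rfl⟩
      · left; rw [← hn, ← two_mul, zpow_mul, hii, one_zpow]
      · right; rw [← hn, zpow_add, zpow_mul, hii, one_zpow, one_mul, zpow_one]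
    refine ⟨c, ext_coef fun e => ?_⟩
    rw [pairEnd, coef_add, coef_single, coef_single, ← h2]
    by_cases he : e = i
    · rw [if_pos he, if_pos he, he, ← hb, ← hc, trace_eq_sum_automorphisms,
        show (Finset.univ : Finset (K ≃ₐ[F] K)) = {1, i} by ext τ; simpa using hord τ,
        Finset.sum_pair (Ne.symm hi)]
      rfl
    · rw [if_neg he, if_neg he, add_zero, hs e he (h2 ▸ he)]
  · refine ⟨coef l i, ext_coef fun e => ?_⟩
    rw [pairEnd, coef_add, coef_single, coef_single]
    by_cases he : e = i
    · rw [he, if_pos rfl, if_neg h2, add_zero]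
    by_cases he' : e = i⁻¹
    · rw [he', if_neg fun h => h2 h.symm, if_pos rfl, zero_add, hsym, inv_inv]
    · rw [if_neg he, if_neg he', add_zero, hs e he he']

variable (W : Submodule F (K →ₗ[F] K))
  (hO : ∀ c, ∀ l ∈ W, LinearMap.mulLeft F c ∘ₗ l + l ∘ₗ LinearMap.mulLeft F c ∈ W)
  (hsym : ∀ l ∈ W, adj l = l)
include hO hsym

/-- A non-zero coefficient at `i` gives the whole component. -/
theorem component_mem {i : K ≃ₐ[F] K} (hi : i ≠ 1) {l : K →ₗ[F] K} (hl : l ∈ W) (hli : coef l i ≠ 0) :
    ∀ c, pairEnd i c ∈ W := by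
  classical
  haveI : Finite K := Module.finite_of_finite F
  obtain ⟨a, ha⟩ := exists_linearIndependent_algEquiv_apply F K
  let s : (K ≃ₐ[F] K) → K := fun e => a + e a
  let O : Module.End F (K →ₗ[F] K) :=
    { toFun := fun y => LinearMap.mulLeft F a ∘ₗ y + y ∘ₗ LinearMap.mulLeft F a
      map_add' := fun x y => by simp [LinearMap.comp_add, LinearMap.add_comp]; abel
      map_smul' := fun t x => by simp [LinearMap.comp_smul, LinearMap.smul_comp] }
  have hOc : ∀ y e, coef (O y) e = s e * coef y e := fun y e => by
    show coef (LinearMap.mulLeft F a ∘ₗ y + y ∘ₗ LinearMap.mulLeft F a) e = _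
    rw [coef_add, show LinearMap.mulLeft F a = single a (1 : K ≃ₐ[F] K) from rfl, coef_single_comp, coef_comp_single]
    simp only [inv_one, one_mul, mul_one, AlgEquiv.one_apply, s]
    ring
  have hPc : ∀ (P : F[X]) y e, coef (aeval O P y) e = aeval (s e) P * coef y e := by
    intro P y e
    induction P using Polynomial.induction_on' with
    | add p q hp hq => rw [map_add, map_add, LinearMap.add_apply, coef_add, hp, hq, add_mul]
    | monomial n t =>
      rw [aeval_monomial, aeval_monomial, Module.End.mul_apply, Module.algebraMap_end_apply]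
      have hn : ∀ n : ℕ, coef ((O ^ n) y) e = s e ^ n * coef y e := by
        intro n
        induction n with
        | zero => simp
        | succ n ih => rw [pow_succ', Module.End.mul_apply, hOc, ih, pow_succ', mul_assoc]
      rw [← algebraMap_smul K t ((O ^ n) y), coef, map_smul, Finsupp.smul_apply, smul_eq_mul, mul_assoc]
      exact congrArg _ (hn n)
  have hPW : ∀ (P : F[X]), ∀ y ∈ W, aeval O P y ∈ W := by
    intro P y hy
    induction P using Polynomial.induction_on' with
    | add p q hp hq => rw [map_add, LinearMap.add_apply]; exact W.add_mem hp hq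
    | monomial n t =>
      rw [aeval_monomial, Module.End.mul_apply, Module.algebraMap_end_apply]
      refine W.smul_mem t ?_
      induction n with
      | zero => simpa using hy
      | succ n ih => rw [pow_succ', Module.End.mul_apply]; exact hO a _ ih
  -- the values at different pairs are not conjugate
  have hne : ∀ (e τ : K ≃ₐ[F] K), τ (s e) = s i → τ = 1 ∧ e = i ∨ τ = i ∧ e = i⁻¹ := by
    intro e τ h
    simp only [s, map_add] at h
    rw [← AlgEquiv.mul_apply τ e] at h
    obtain ⟨B, hB⟩ : ∃ B : Basis (K ≃ₐ[F] K) F K, ∀ σ, B σ = σ a :=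
      ⟨basisOfLinearIndependentOfCardEqFinrank ha (by rw [Fintype.card_eq_nat_card, IsGalois.card_aut_eq_finrank]),
        fun σ => by simp⟩
    have key : ∀ σ : K ≃ₐ[F] K, ((if τ = σ then 1 else 0) + if τ * e = σ then 1 else 0 : F) =
        (if 1 = σ then 1 else 0) + if i = σ then 1 else 0 := fun σ => by
      have h0 : B τ + B (τ * e) = B 1 + B i := by rw [hB, hB, hB, hB, AlgEquiv.one_apply, h]
      have h1 := congrArg (fun z => B.repr z σ) h0
      simpa only [map_add, Basis.repr_self, Finsupp.add_apply, Finsupp.single_apply] using h1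
    have k1 := key 1
    by_cases h1 : τ = 1
    · subst h1
      refine Or.inl ⟨rfl, ?_⟩
      rw [one_mul] at k1
      have k2 := key i
      rw [one_mul] at k2
      by_contra hei
      simp [Ne.symm hi, hei] at k2
    · have h2 : τ * e = 1 := by
        by_contra h2
        simp [h1, h2, hi] at k1
      refine Or.inr ⟨?_, ?_⟩
      · by_contra h3
        have k2 := key i
        simp [h2, h3, Ne.symm hi] at k2
      · have h3 : τ = i := by
          by_contra h3
          have k2 := key i
          simp [h2, h3, Ne.symm hi] at k2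
        rw [← h3]; exact eq_inv_of_mul_eq_one_right h2
  let P : F[X] := ∏ e ∈ Finset.univ.filter (fun e => e ≠ i ∧ e ≠ i⁻¹), minpoly F (s e)
  have hPi : aeval (s i) P ≠ 0 := by
    simp only [P, map_prod, ne_eq, Finset.prod_eq_zero_iff, not_exists, not_and, Finset.mem_filter,
      Finset.mem_univ, true_and]
    intro e he h0
    have hint : IsIntegral F (s e) := Algebra.IsIntegral.isIntegral _
    obtain ⟨τ, hτ⟩ := (Normal.minpoly_eq_iff_mem_orbit K).mp
      (minpoly.eq_of_irreducible_of_monic (minpoly.irreducible hint) h0 (minpoly.monic hint)).symm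
    rcases hne e τ hτ with ⟨-, h⟩ | ⟨-, h⟩
    · exact he.1 h
    · exact he.2 h
  set μ := aeval O P l with hμ
  have hμW : μ ∈ W := hPW P l hl
  obtain ⟨c₀, hc₀⟩ := exists_pairEnd hp hi (hsym μ hμW) fun e he he' => by
    rw [hμ, hPc, show aeval (s e) P = 0 from ?_, zero_mul]
    rw [map_prod]
    exact Finset.prod_eq_zero (Finset.mem_filter.mpr ⟨Finset.mem_univ e, he, he'⟩) (minpoly.aeval F (s e))
  let D : Submodule F K :=
    { carrier := {c | pairEnd i c ∈ W}
      add_mem' := fun {x y} hx hy => by
        show pairEnd i (x + y) ∈ W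
        convert W.add_mem hx hy using 1
        exact LinearMap.ext fun k => by simp [pairEnd, single_apply, add_mul]; ring
      zero_mem' := by
        show pairEnd i 0 ∈ W
        convert W.zero_mem using 1
        exact LinearMap.ext fun k => by simp [pairEnd, single_apply]
      smul_mem' := fun t x hx => by
        show pairEnd i (t • x) ∈ W
        convert W.smul_mem t hx using 1
        exact LinearMap.ext fun k => by simp [pairEnd, single_apply, smul_add] }
  have hc₀D : c₀ ∈ D := by
    show pairEnd i c₀ ∈ W
    rw [← hc₀]; exact hμW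
  have hDs : ∀ x ∈ D, s i * x ∈ D := fun x hx => by
    show pairEnd i (s i * x) ∈ W
    convert hO a _ hx using 1
    refine LinearMap.ext fun k => ?_
    simp only [pairEnd, single_apply, LinearMap.add_apply, LinearMap.comp_apply, LinearMap.mulLeft_apply, map_mul,
      map_add, s]
    rw [show i⁻¹ (i a) = a from i.symm_apply_apply a]
    ring
  have hμi : coef μ i ≠ 0 := by rw [hμ, hPc]; exact mul_ne_zero hPi hli
  haveI := Subalgebra.isSimpleOrder_of_finrank_prime F K hp
  let M : Subalgebra F K :=
    { carrier := {z | ∀ x ∈ D, z * x ∈ D}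
      mul_mem' := fun {x y} hx hy z hz => by rw [mul_assoc]; exact hx _ (hy _ hz)
      add_mem' := fun {x y} hx hy z hz => by rw [add_mul]; exact D.add_mem (hx _ hz) (hy _ hz)
      algebraMap_mem' := fun t z hz => by rw [← Algebra.smul_def]; exact D.smul_mem t hz }
  have hc₀0 : c₀ ≠ 0 := fun h => hμi (by
    rw [hc₀, h, show pairEnd i (0 : K) = 0 from LinearMap.ext fun k => by simp [pairEnd, single_apply], coef_zero])
  rcases eq_bot_or_eq_top M with hM | hM
  · -- the value at `i` lies in `F`: the degree is two
    intro c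
    have hsF : s i ∈ (algebraMap F K).range := Algebra.mem_bot.mp (hM ▸ hDs)
    obtain ⟨t, ht⟩ := hsF
    have h2 : i⁻¹ = i := by
      rcases hne i i (by rw [← ht, AlgEquiv.commutes]) with ⟨h, -⟩ | ⟨-, h⟩
      · exact absurd h hi
      · exact h.symm
    have hp2 : ∀ x, pairEnd i x = single (x + i x) i := fun x => by
      rw [pairEnd, h2]
      exact LinearMap.ext fun k => by simp [single_apply, add_mul]
    have hfix : ∀ x : K, ∃ t : F, x + i x = algebraMap F K t := fun x => by
      obtain ⟨t, ht⟩ := eq_alg_of_fixed hp hi (show i (x + i x) = x + i x by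
        conv_lhs => rw [map_add]; arg 2; arg 1; rw [← h2]
        rw [show i⁻¹ (i x) = x from i.symm_apply_apply x, add_comm])
      exact ⟨t, ht.symm⟩
    obtain ⟨t, ht⟩ := hfix c
    obtain ⟨t₀, ht₀⟩ := hfix c₀
    have ht₀0 : t₀ ≠ 0 := fun h => hμi (by
      rw [hc₀, hp2, ht₀, h, map_zero, show single (0 : K) i = 0 from LinearMap.ext fun k => by simp [single_apply],
        coef_zero])
    rw [show pairEnd i c = (t / t₀) • pairEnd i c₀ from LinearMap.ext fun k => by
      rw [hp2, hp2, ht, ht₀, LinearMap.smul_apply, single_apply, single_apply, Algebra.smul_def, ← mul_assoc,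
        ← map_mul, div_mul_cancel₀ _ ht₀0]]
    exact W.smul_mem _ hc₀D
  · intro c
    have h := (hM ▸ trivial : c * c₀⁻¹ ∈ M) c₀ hc₀D
    rwa [inv_mul_cancel_right₀ hc₀0] at h

variable (hK : ∀ c, LinearMap.mulLeft F c ∈ W)
include hK

/-- **The dichotomy.** -/
theorem all_or_scalar : (∀ l, adj l = l → l ∈ W) ∨
    ∀ x : K →ₗ[F] K, (∀ l ∈ W, x ∘ₗ l + l ∘ₗ adj x ∈ W) → ∀ k, x k = x 1 * k := by
  classical
  haveI : Finite K := Module.finite_of_finite F
  by_cases hall : ∀ i : K ≃ₐ[F] K, i ≠ 1 → ∀ c, pairEnd i c ∈ W
  · left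
    suffices ∀ (n : ℕ) l, adj l = l → (Finset.univ.filter fun e => coef l e ≠ 0).card ≤ n → l ∈ W from
      fun l hl => this _ l hl le_rfl
    intro n
    induction n with
    | zero =>
      intro l _ h0
      rw [show l = 0 from ext_coef fun e => by
        rw [coef_zero]
        by_contra h
        rw [Nat.le_zero, Finset.card_eq_zero, Finset.filter_eq_empty_iff] at h0
        exact h0 (Finset.mem_univ e) h]
      exact W.zero_mem
    | succ n ih =>
      intro l hl hcard
      by_cases hex : ∃ e, e ≠ 1 ∧ coef l e ≠ 0
      · obtain ⟨i, hi, hli⟩ := hex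
        -- split off the component at `i`
        let p := single (coef l i) i + if i = i⁻¹ then 0 else single (i⁻¹ (coef l i)) i⁻¹
        have hpc : ∀ e, coef p e = if e = i ∨ e = i⁻¹ then coef l e else 0 := fun e => by
          simp only [p]
          rw [coef_add, coef_single]
          by_cases hii : i = i⁻¹
          · rw [if_pos hii, coef_zero, add_zero, ← hii]
            by_cases he : e = i <;> simp [he]
          · rw [if_neg hii, coef_single]
            by_cases he : e = i
            · simp [he, hii]
            · by_cases he' : e = i⁻¹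
              · subst he'
                rw [if_neg fun h => hii h.symm, if_pos rfl, zero_add, if_pos (Or.inr rfl)]
                conv_rhs => rw [← hl, coef_adj, inv_inv]
              · simp [he, he']
        have hpsym : adj p = p := by
          by_cases hii : i = i⁻¹
          · simp only [p, if_pos hii, add_zero]
            rw [adj_single, ← hii, show i (coef l i) = coef l i by
              conv_rhs => rw [← hl, coef_adj, ← hii]]
          · simp only [p, if_neg hii]
            rw [adj_add, adj_single, adj_single, inv_inv, show i (i⁻¹ (coef l i)) = coef l i from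
              i.apply_symm_apply _, add_comm]
        obtain ⟨c, hc⟩ := exists_pairEnd hp hi hpsym fun e h1 h2 => by rw [hpc, if_neg (not_or.mpr ⟨h1, h2⟩)]
        have hrest : l - p ∈ W := by
          refine ih _ (by rw [adj_sub, hl, hpsym]) (Nat.le_of_lt_succ (lt_of_lt_of_le ?_ hcard))
          refine Finset.card_lt_card (Finset.ssubset_iff_subset_ne.mpr ⟨fun e he => ?_, fun h => ?_⟩)
          · simp only [Finset.mem_filter, Finset.mem_univ, true_and, coef_sub, hpc] at he ⊢
            intro h0; apply he; rw [h0]; simp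
          · have h1 : i ∈ Finset.univ.filter fun e => coef (l - p) e ≠ 0 := h ▸ Finset.mem_filter.mpr ⟨Finset.mem_univ _, hli⟩
            simp [coef_sub, hpc] at h1
        rw [← sub_add_cancel l p]
        exact W.add_mem hrest (hc ▸ hall i hi c)
      · push Not at hex
        rw [show l = LinearMap.mulLeft F (coef l 1) from ext_coef fun e => by
          rw [coef_mulLeft]
          by_cases he : e = 1 <;> simp [he, hex]]
        exact hK _
  · right
    intro x hx
    by_contra hns
    obtain ⟨j, hj, hxj⟩ : ∃ j, j ≠ 1 ∧ coef x j ≠ 0 := by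
      by_contra hc
      push Not at hc
      apply hns
      intro k
      have e : x = LinearMap.mulLeft F (coef x 1) := ext_coef fun e => by
        rw [coef_mulLeft]
        by_cases he : e = 1 <;> simp [he, hc]
      rw [e]; simp
    -- the components reached by `j`
    let J : (K ≃ₐ[F] K) → Prop := fun i => i ≠ 1 → ∀ c, pairEnd i c ∈ W
    have hstep : ∀ i, J i → J (i * j) := by
      intro i hi hij
      rcases eq_or_ne i 1 with rfl | hi1
      · rw [one_mul] at hij ⊢
        let g : K →ₗ[F] K := single (coef x j) j + single (coef (adj x) j) 1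
        obtain ⟨c, hc⟩ : ∃ c, g c ≠ 0 := by
          by_contra hc
          push Not at hc
          have : g = 0 := LinearMap.ext hc
          have h1 := congrArg (coef · j) this
          simp only [g, coef_add, coef_single, coef_zero, if_true, if_neg hj, add_zero] at h1
          exact hxj h1
        refine component_mem hp W hO hsym hij (hx _ (hK c)) ?_
        rw [coef_add, show LinearMap.mulLeft F c = single c (1 : K ≃ₐ[F] K) from rfl, coef_comp_single,
          coef_single_comp]
        simp only [inv_one, mul_one, one_mul, AlgEquiv.one_apply]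
        simpa [g, single_apply, mul_comm] using hc
      · let g : K →ₗ[F] K := single (coef x j) j + single (coef x (i * j * i)) (i * j) +
          single (i (coef (adj x) j)) 1 + single (i⁻¹ (coef (adj x) (i * (i * j)))) i⁻¹
        obtain ⟨c, hc⟩ : ∃ c, g c ≠ 0 := by
          by_contra hc
          push Not at hc
          have : g = 0 := LinearMap.ext hc
          have h1 := congrArg (coef · j) this
          have e1 : j ≠ i * j := fun h => hi1 (by simpa using h)
          have e2 : j ≠ i⁻¹ := fun h => hij (by rw [h]; exact mul_inv_cancel i)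
          simp only [g, coef_add, coef_single, coef_zero, if_true, if_neg e1, if_neg hj, if_neg e2, add_zero] at h1
          exact hxj h1
        refine component_mem hp W hO hsym hij (hx _ (hi hi1 c)) ?_
        have e1 : i * j * i⁻¹ = j := by rw [aut_comm hp i j]; group
        have e2 : i⁻¹ * (i * j) = j := by group
        rw [pairEnd, LinearMap.comp_add, LinearMap.add_comp, coef_add, coef_add, coef_add, coef_comp_single,
          coef_comp_single, coef_single_comp, coef_single_comp, inv_inv, e1, e2]
        have e3 : (i * j * i) (i⁻¹ c) = (i * j) c := by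
          rw [← AlgEquiv.mul_apply, mul_inv_cancel_right]
        rw [e3]
        convert hc using 1
        simp only [g, LinearMap.add_apply, single_apply, AlgEquiv.one_apply]
        ring
    have hpow : ∀ n : ℕ, J (j ^ n) := by
      intro n
      induction n with
      | zero => intro h; simp at h
      | succ n ih => rw [pow_succ]; exact hstep _ ih
    apply hall
    intro i hi
    obtain ⟨n, hn⟩ := (IsOfFinOrder.mem_powers_iff_mem_zpowers (isOfFinOrder_of_finite j)).mpr
      (show i ∈ Subgroup.zpowers j by rw [zpowers_eq_top hp hj]; trivial)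
    subst hn
    exact hpow n hi

end Cfsg.Agent.Lib.ThreeTransp.ExtSym
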