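import Cfsg.Agent.Lib.ThreeTransp.ExtFieldOrbit
import Cfsg.Agent.Lib.ThreeTransp.ExtSymAlg

/-!
Groups preserving `tr ∘ Φ`, for an alternating form `Φ` over an extension field of prime degree, that contain the
isometries of `Φ`: moving vectors, root elements at a vector and the action of line stabilisers.
-/

set_option autoImplicit false

namespace Cfsg.Agent.Lib.ThreeTransp.ExtField

open Module
open Cfsg.Agent.Lib.ThreeTransp.ExtSym (adj adj_unique trace_adj adj_comp adj_mulLeft all_or_scalar)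

/-- In a finite field every element is a sum of two squares. -/
theorem exists_sq_add_sq {F : Type*} [Field F] [Finite F] (a : F) : ∃ s t : F, s * s + t * t = a := by
  haveI := Fintype.ofFinite F
  by_cases h : ringChar F = 2
  · obtain ⟨s, hs⟩ := FiniteField.isSquare_of_char_two h a
    exact ⟨s, 0, by rw [mul_zero, add_zero, hs]⟩
  · obtain ⟨s, t, hst⟩ := FiniteField.exists_root_sum_quadratic (f := (Polynomial.X ^ 2 : Polynomial F))
      (g := Polynomial.X ^ 2 - Polynomial.C a) (Polynomial.degree_X_pow 2) (Polynomial.degree_X_pow_sub_C (by norm_num) a)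
      (FiniteField.odd_card_of_char_ne_two h)
    refine ⟨s, t, ?_⟩
    simp at hst
    linear_combination hst

variable {F K V : Type*} [Field F] [Field K] [Algebra F K] [AddCommGroup V] [Module F V] [Module K V]
  [IsScalarTower F K V]

/-- The setting. -/
structure SympOver (Φ : V →ₗ[K] V →ₗ[K] K) (G : Subgroup (V ≃ₗ[F] V)) : Prop where
  prime : (finrank F K).Prime
  two_le : 2 ≤ finrank K V
  alt : ∀ x, Φ x x = 0
  nondeg : ∀ y, (∀ x, Φ x y = 0) → y = 0
  isom : ∀ g ∈ G, ∀ x y, Algebra.trace F K (Φ (g x) (g y)) = Algebra.trace F K (Φ x y)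
  lin : ∀ h : V ≃ₗ[K] V, (∀ x y, Φ (h x) (h y) = Φ x y) → h.restrictScalars F ∈ G
  semi : ∀ τ : K ≃ₐ[F] K, ∃ s ∈ G, (∀ (k : K) (x : V), s (k • x) = τ k • s x) ∧
    ∀ x y, Φ (s x) (s y) = τ (Φ x y)

variable {Φ : V →ₗ[K] V →ₗ[K] K} {G : Subgroup (V ≃ₗ[F] V)} {v : V}

namespace SympOver

variable (S : SympOver Φ G)
include S

theorem skew (x y : V) : Φ x y = -Φ y x := by
  have h := S.alt (x + y)
  simp only [map_add, LinearMap.add_apply, S.alt, zero_add, add_zero] at h
  linear_combination h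

theorem exists_apply_ne (hy : v ≠ 0) : ∃ x, Φ x v ≠ 0 := by
  by_contra h
  push Not at h
  exact hy (S.nondeg v h)

theorem exists_pair (hv : v ≠ 0) : ∃ u, Φ u v = 1 := by
  obtain ⟨x, hx⟩ := S.exists_apply_ne hv
  exact ⟨(Φ x v)⁻¹ • x, by rw [map_smul, LinearMap.smul_apply, smul_eq_mul, inv_mul_cancel₀ hx]⟩

/-- A vector outside the line of `v` is not orthogonal to all of `v^⊥`. -/
theorem exists_perp_ne {x : V} (hx : x ∉ K ∙ v) : ∃ z, Φ z v = 0 ∧ Φ x z ≠ 0 := by
  by_contra h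
  push Not at h
  rcases eq_or_ne v 0 with rfl | hv
  · refine hx ?_
    rw [S.nondeg x fun z => by rw [S.skew, h z (map_zero _), neg_zero]]
    exact Submodule.zero_mem _
  obtain ⟨u, hu⟩ := S.exists_pair hv
  refine hx (Submodule.mem_span_singleton.mpr ⟨Φ u x, (sub_eq_zero.mp (S.nondeg _ fun z => ?_)).symm⟩)
  have h1 := h (z - Φ z v • u) (by
    rw [map_sub, map_smul, LinearMap.sub_apply, LinearMap.smul_apply, hu, smul_eq_mul, mul_one, sub_self])
  rw [map_sub, map_smul, smul_eq_mul, sub_eq_zero] at h1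
  rw [map_sub, map_smul, smul_eq_mul, S.skew z x, h1, S.skew x u]
  ring

theorem exists_perp_ne_two {x y : V} (hx : x ∉ K ∙ v) (hy : y ∉ K ∙ v) :
    ∃ z, Φ z v = 0 ∧ Φ x z ≠ 0 ∧ Φ z y ≠ 0 := by
  obtain ⟨a, ha, hxa⟩ := S.exists_perp_ne hx
  obtain ⟨b, hb, hyb⟩ := S.exists_perp_ne hy
  by_cases h1 : Φ a y = 0
  · by_cases h2 : Φ x b = 0
    · refine ⟨a + b, by simp [ha, hb], by simp [h2, hxa], ?_⟩
      rw [map_add, LinearMap.add_apply, h1, zero_add, S.skew]
      exact neg_ne_zero.mpr hyb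
    · refine ⟨b, hb, h2, ?_⟩
      rw [S.skew]
      exact neg_ne_zero.mpr hyb
  · exact ⟨a, ha, hxa, h1⟩

/-- The transvection `z ↦ z + c Φ(z, w) w`. -/
theorem exists_trans (w : V) (c : K) : ∃ h : V ≃ₗ[K] V, h.restrictScalars F ∈ G ∧
    (∀ x y, Φ (h x) (h y) = Φ x y) ∧ ∀ z, h z = z + (c * Φ z w) • w := by
  have hw : (c • Φ.flip w) w = 0 := by simp [S.alt]
  have hz : ∀ z, LinearEquiv.transvection hw z = z + (c * Φ z w) • w := fun z => by
    simp [LinearMap.transvection.apply]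
  have hiso : ∀ x y, Φ (LinearEquiv.transvection hw x) (LinearEquiv.transvection hw y) = Φ x y := fun x y => by
    rw [hz, hz]
    simp only [map_add, map_smul, LinearMap.add_apply, LinearMap.smul_apply, S.alt, smul_eq_mul, S.skew w y]
    ring
  exact ⟨_, S.lin _ hiso, hiso, hz⟩

/-- Isometries fixing `v` are transitive on the vectors outside its line with a given value. -/
theorem exists_move {x y : V} (hx : x ∉ K ∙ v) (hy : y ∉ K ∙ v) (hxy : Φ v x = Φ v y) :
    ∃ h : V ≃ₗ[K] V, h.restrictScalars F ∈ G ∧ h v = v ∧ h x = y := by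
  have key : ∀ a b : V, Φ v a = Φ v b → Φ a b ≠ 0 →
      ∃ h : V ≃ₗ[K] V, h.restrictScalars F ∈ G ∧ h v = v ∧ h a = b := by
    intro a b hab hne
    obtain ⟨h, hh, -, hz⟩ := S.exists_trans (b - a) (Φ a b)⁻¹
    refine ⟨h, hh, ?_, ?_⟩
    · rw [hz, map_sub, hab, sub_self, mul_zero, zero_smul, add_zero]
    · rw [hz, map_sub, S.alt, sub_zero, inv_mul_cancel₀ hne, one_smul, add_sub_cancel]
  by_cases hne : Φ x y = 0
  swap; · exact key x y hxy hne
  have two : ∀ z, Φ v x = Φ v z → Φ x z ≠ 0 → Φ z y ≠ 0 →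
      ∃ h : V ≃ₗ[K] V, h.restrictScalars F ∈ G ∧ h v = v ∧ h x = y := by
    intro z hz h1 h2
    obtain ⟨a, ha, hav, hax⟩ := key x z hz h1
    obtain ⟨b, hb, hbv, hbz⟩ := key z y (hz.symm.trans hxy) h2
    exact ⟨a.trans b, G.mul_mem hb ha, by simp [hav, hbv], by simp [hax, hbz]⟩
  by_cases hc : Φ v x = 0
  · obtain ⟨z, hzv, h1, h2⟩ := S.exists_perp_ne_two hx hy
    exact two z (by rw [hc, S.skew, hzv, neg_zero]) h1 h2
  · refine two (x + v) (by rw [map_add, S.alt, add_zero]) ?_ ?_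
    · rw [map_add, S.alt, zero_add, S.skew]
      exact neg_ne_zero.mpr hc
    · rw [map_add, LinearMap.add_apply, hne, zero_add, ← hxy]
      exact hc

theorem exists_map {x y : V} (hx : x ≠ 0) (hy : y ≠ 0) :
    ∃ h : V ≃ₗ[K] V, h.restrictScalars F ∈ G ∧ h x = y := by
  obtain ⟨h, hh, -, he⟩ := S.exists_move (v := 0) (x := x) (y := y) (by simpa using hx) (by simpa using hy) (by simp)
  exact ⟨h, hh, he⟩

/-- An element fixing `v`, semilinear for `τ`. -/
theorem exists_semi_fix (hv : v ≠ 0) (τ : K ≃ₐ[F] K) : ∃ s ∈ G, s v = v ∧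
    (∀ (k : K) (x : V), s (k • x) = τ k • s x) ∧ ∀ x y, Φ (s x) (s y) = τ (Φ x y) := by
  obtain ⟨s, hs, hlin, hform⟩ := S.semi τ
  have hh' : ∀ z : V, z ≠ 0 → ∃ h : V ≃ₗ[K] V, h.restrictScalars F ∈ G ∧ (∀ x y, Φ (h x) (h y) = Φ x y) ∧ h z = v := by
    intro z hz
    by_cases hne : Φ z v = 0
    · obtain ⟨w, -, h1, h2⟩ := S.exists_perp_ne_two (v := 0) (x := z) (y := v) (by simpa using hz) (by simpa using hv)
      obtain ⟨a, ha, ha', hza⟩ := S.exists_trans (w - z) (Φ z w)⁻¹
      obtain ⟨b, hb, hb', hzb⟩ := S.exists_trans (v - w) (Φ w v)⁻¹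
      refine ⟨a.trans b, G.mul_mem hb ha, fun x y => by simp [ha', hb'], ?_⟩
      rw [LinearEquiv.trans_apply, hza, map_sub (Φ z), S.alt, sub_zero, inv_mul_cancel₀ h1, one_smul, add_sub_cancel,
        hzb, map_sub (Φ w), S.alt, sub_zero, inv_mul_cancel₀ h2, one_smul, add_sub_cancel]
    · obtain ⟨a, ha, ha', hza⟩ := S.exists_trans (v - z) (Φ z v)⁻¹
      refine ⟨a, ha, ha', ?_⟩
      rw [hza, map_sub (Φ z), S.alt, sub_zero, inv_mul_cancel₀ hne, one_smul, add_sub_cancel]
  obtain ⟨h, hh, hiso, he⟩ := hh' (s v) (s.map_ne_zero_iff.mpr hv)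
  refine ⟨h.restrictScalars F * s, G.mul_mem hh hs, he, fun k x => ?_, fun x y => ?_⟩
  · simp [hlin]
  · simp [hiso, hform]

end SympOver

/-! ### Root elements at a vector -/

variable [Finite F] [FiniteDimensional F K]

/-- The map `x ↦ x + tr Φ(x, v) v` lies in `G`. -/
def HasSympTv (Φ : V →ₗ[K] V →ₗ[K] K) (G : Subgroup (V ≃ₗ[F] V)) (v : V) : Prop :=
  ∃ g ∈ G, ∀ x, g x = x + Algebra.trace F K (Φ x v) • v

/-- The functional `x ↦ λ (Φ (x, v))`. -/
def rootFun (Φ : V →ₗ[K] V →ₗ[K] K) (v : V) (l : K →ₗ[F] K) : V →ₗ[F] K := l ∘ₗ (Φ.flip v).restrictScalars F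

omit [Finite F] [FiniteDimensional F K] in
@[simp] theorem rootFun_apply (Φ : V →ₗ[K] V →ₗ[K] K) (v : V) (l : K →ₗ[F] K) (x : V) :
    rootFun Φ v l x = l (Φ x v) := rfl

/-- The endomorphisms giving root elements at `v` in `G`. -/
def rootSet (Φ : V →ₗ[K] V →ₗ[K] K) (G : Subgroup (V ≃ₗ[F] V)) (v : V) : AddSubgroup (K →ₗ[F] K) where
  carrier := {l | InT G v (rootFun Φ v l)}
  add_mem' := fun {a b} ha hb => by
    show InT G v (rootFun Φ v (a + b))
    exact (show rootFun Φ v (a + b) = _ from LinearMap.add_comp _ _ _).symm ▸ InT.add ha hb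
  zero_mem' := by
    show InT G v (rootFun Φ v 0)
    exact (show rootFun Φ v (0 : K →ₗ[F] K) = _ from LinearMap.zero_comp _).symm ▸ InT.zero
  neg_mem' := fun {a} ha => by
    show InT G v (rootFun Φ v (-a))
    exact (show rootFun Φ v (-a) = _ from LinearMap.neg_comp _ _).symm ▸ InT.neg ha

namespace SympOver

variable (S : SympOver Φ G)
include S

theorem adj_of_root (hv : v ≠ 0) {l : K →ₗ[F] K} (hl : l ∈ rootSet Φ G v) : adj l = l := by
  obtain ⟨h, hm⟩ := hl
  obtain ⟨u, hu⟩ := S.exists_pair hv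
  refine adj_unique fun a b => ?_
  have h1 := S.isom _ hm (a • u) (b • u)
  simp only [tv_apply, rootFun_apply, map_smul, LinearMap.smul_apply, map_add, LinearMap.add_apply, hu, S.alt,
    smul_eq_mul, mul_one, mul_zero, add_zero, zero_add, S.skew v u, map_neg] at h1
  rw [show b * (l a * -1) = -(l a * b) by ring, map_neg, mul_comm (l b) a, map_zero] at h1
  linear_combination -h1

theorem mulLeft_mem_root (c : K) : LinearMap.mulLeft F c ∈ rootSet Φ G v := by
  obtain ⟨h, hh, -, hz⟩ := S.exists_trans v c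
  refine ⟨fun d => by simp [S.alt], ?_⟩
  convert hh using 1
  exact LinearEquiv.ext fun x => by simp [hz]

theorem root_conj {l : K →ₗ[F] K} (hl : l ∈ rootSet Φ G v) {g : V ≃ₗ[F] V} (hg : g ∈ G) (α : K ≃ₗ[F] K)
    (hα : ∀ c : K, g (c • v) = α c • v) :
    α.toLinearMap ∘ₗ l ∘ₗ adj α.toLinearMap ∈ rootSet Φ G v := by
  show InT G v _
  convert InT.conj hl hg α hα using 1
  refine LinearMap.ext fun x => ?_
  simp only [rootFun_apply, LinearMap.comp_apply, LinearEquiv.coe_coe]
  congr 2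
  rw [← sub_eq_zero]
  refine (traceForm_nondegenerate F K).1 _ fun d => ?_
  rw [Algebra.traceForm_apply, sub_mul, map_sub, trace_adj, sub_eq_zero]
  have h1 := S.isom g hg (g.symm x) (d • v)
  rw [LinearEquiv.apply_symm_apply, hα, (Φ x).map_smul, (Φ (g.symm x)).map_smul, smul_eq_mul, smul_eq_mul] at h1
  rw [mul_comm (Φ x v), mul_comm (Φ (g.symm x) v)]
  exact h1

theorem root_sandwich (hv : v ≠ 0) (c : K) {l : K →ₗ[F] K} (hl : l ∈ rootSet Φ G v) :
    LinearMap.mulLeft F c ∘ₗ l ∘ₗ LinearMap.mulLeft F c ∈ rootSet Φ G v := by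
  rcases eq_or_ne c 0 with rfl | hc
  · rw [show LinearMap.mulLeft F (0 : K) = 0 from LinearMap.ext fun x => by simp, LinearMap.zero_comp]
    exact zero_mem _
  obtain ⟨h, hh, he⟩ := S.exists_map hv (smul_ne_zero hc hv)
  have := S.root_conj hl hh (DistribMulAction.toLinearEquiv F K (Units.mk0 c hc)) fun d => by
    rw [LinearEquiv.restrictScalars_apply, map_smul, he, smul_smul, mul_comm]
    rfl
  rw [show (DistribMulAction.toLinearEquiv F K (Units.mk0 c hc)).toLinearMap = LinearMap.mulLeft F c from rfl,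
    adj_mulLeft] at this
  exact this

/-- The root endomorphisms as a subspace. -/
theorem exists_rootSpace (hv : v ≠ 0) :
    ∃ W : Submodule F (K →ₗ[F] K), ∀ l, l ∈ W ↔ l ∈ rootSet Φ G v := by
  refine ⟨{ toAddSubmonoid := (rootSet Φ G v).toAddSubmonoid, smul_mem' := fun t l hl => ?_ }, fun l => Iff.rfl⟩
  have hsq : ∀ s : F, (s * s) • l ∈ rootSet Φ G v := fun s => by
    convert S.root_sandwich hv (algebraMap F K s) hl using 1
    refine LinearMap.ext fun k => ?_
    simp only [LinearMap.smul_apply, LinearMap.comp_apply, LinearMap.mulLeft_apply, ← Algebra.smul_def, map_smul,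
      smul_smul]
  obtain ⟨s, s', rfl⟩ := exists_sq_add_sq t
  show (s * s + s' * s') • l ∈ rootSet Φ G v
  rw [add_smul]
  exact add_mem (hsq s) (hsq s')

/-- Either a transvection with centre `v` lies in `G`, or the stabiliser of `v` and of its line acts on the line by
field automorphisms. -/
theorem line_algHom (hv : v ≠ 0) (hno : ¬ HasSympTv Φ G v) {g : V ≃ₗ[F] V} (hg : g ∈ G)
    (hgv : g v = v) (hline : ∀ c : K, g (c • v) ∈ K ∙ v) :
    ∃ τ : K →ₐ[F] K, ∀ c : K, g (c • v) = τ c • v := by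
  obtain ⟨u, hu⟩ := S.exists_pair hv
  let a : K →ₗ[F] K := (Φ u).restrictScalars F ∘ₗ g.toLinearMap ∘ₗ (LinearMap.toSpanSingleton K V v).restrictScalars F
  have ha : ∀ c : K, g (c • v) = a c • v := fun c => by
    obtain ⟨d, hd⟩ := Submodule.mem_span_singleton.mp (hline c)
    have : a c = d := by simp [a, ← hd, hu]
    rw [this, hd]
  have hinj : Function.Injective a := fun c d e => smul_left_injective K hv (g.injective (by rw [ha, ha, e]))
  let α : K ≃ₗ[F] K := LinearEquiv.ofInjectiveEndo a hinj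
  have hα : ∀ c : K, g (c • v) = α c • v := ha
  have hs : ∀ c : K, g⁻¹ (c • v) = α.symm c • v := fun c => by
    show g.symm _ = _
    rw [LinearEquiv.symm_apply_eq, hα, LinearEquiv.apply_symm_apply]
  have hα1 : α 1 = 1 := smul_left_injective K hv (show α 1 • v = (1 : K) • v by rw [← hα, one_smul, hgv])
  obtain ⟨W, hW⟩ := S.exists_rootSpace hv
  have hK : ∀ c, LinearMap.mulLeft F c ∈ W := fun c => (hW _).mpr (S.mulLeft_mem_root c)
  have hO : ∀ c, ∀ l ∈ W, LinearMap.mulLeft F c ∘ₗ l + l ∘ₗ LinearMap.mulLeft F c ∈ W := fun c l hl => by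
    have h1 : LinearMap.mulLeft F (c + 1) ∘ₗ l ∘ₗ LinearMap.mulLeft F (c + 1) ∈ W :=
      (hW _).mpr (S.root_sandwich hv _ ((hW _).mp hl))
    have h2 : LinearMap.mulLeft F c ∘ₗ l ∘ₗ LinearMap.mulLeft F c ∈ W :=
      (hW _).mpr (S.root_sandwich hv _ ((hW _).mp hl))
    convert W.sub_mem (W.sub_mem h1 h2) hl using 1
    refine LinearMap.ext fun k => ?_
    simp [add_mul, mul_add, map_add]
    abel
  rcases all_or_scalar S.prime W hO (fun l hl => S.adj_of_root hv ((hW _).mp hl)) hK with h | h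
  · exfalso
    have h0 : (Algebra.linearMap F K) ∘ₗ Algebra.trace F K ∈ rootSet Φ G v := (hW _).mp (h _ (adj_unique fun x y => by
      simp only [LinearMap.comp_apply, Algebra.linearMap_apply]
      rw [← Algebra.smul_def, map_smul, mul_comm x, ← Algebra.smul_def, map_smul, smul_eq_mul, smul_eq_mul, mul_comm]))
    obtain ⟨h1, hm⟩ := h0
    exact hno ⟨_, hm, fun x => by simp [algebraMap_smul]⟩
  · have hmul : ∀ c d : K, α (c * d) = α c * α d := fun c d => by
      have hx : ∀ l ∈ W, (α.toLinearMap ∘ₗ LinearMap.mulLeft F c ∘ₗ α.symm.toLinearMap) ∘ₗ l +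
          l ∘ₗ adj (α.toLinearMap ∘ₗ LinearMap.mulLeft F c ∘ₗ α.symm.toLinearMap) ∈ W := by
        intro l hl
        have h1 := S.root_conj ((hW _).mp hl) (G.inv_mem hg) α.symm hs
        have h2 := (hW _).mp (hO c _ ((hW _).mpr h1))
        have h3 := (hW _).mpr (S.root_conj h2 hg α hα)
        have hid : α.toLinearMap ∘ₗ α.symm.toLinearMap = LinearMap.id :=
          LinearMap.ext fun k => α.apply_symm_apply k
        have hadj : adj α.symm.toLinearMap ∘ₗ adj α.toLinearMap = LinearMap.id := by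
          rw [← adj_comp, hid]
          exact adj_unique fun a b => rfl
        convert h3 using 1
        rw [adj_comp, adj_comp, adj_mulLeft]
        refine LinearMap.ext fun k => ?_
        have e1 := LinearMap.congr_fun hadj k
        simp only [LinearMap.comp_apply, LinearMap.id_apply, LinearEquiv.coe_coe] at e1
        simp only [LinearMap.add_apply, LinearMap.comp_apply, LinearEquiv.coe_coe, map_add, e1,
          LinearEquiv.apply_symm_apply]
      have e1 := h _ hx (α d)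
      simp only [LinearMap.comp_apply, LinearEquiv.coe_coe, LinearEquiv.symm_apply_apply, LinearMap.mulLeft_apply] at e1
      rw [← hα1, LinearEquiv.symm_apply_apply, mul_one] at e1
      exact e1
    exact ⟨AlgHom.ofLinearMap α.toLinearMap hα1 hmul, hα⟩

variable [FiniteDimensional F V] [FiniteDimensional K V]

/-- The unipotent radical of the stabiliser of `v` forces conjugacy of the scalars in one orbit. -/
theorem conj_of_orbit (hv : v ≠ 0) (hno : ¬ HasSympTv Φ G v) {k k' : K}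
    (hk : k ∉ (algebraMap F K).range) (hk' : k' ∉ (algebraMap F K).range) {g : V ≃ₗ[F] V} (hg : g ∈ G)
    (hgv : g v = v) (hgk : g (k • v) = k' • v) : ∃ τ : K →ₐ[F] K, τ k = k' := by
  obtain ⟨p, hchar⟩ := CharP.exists F
  haveI := hchar
  haveI hpf : Fact p.Prime := ⟨CharP.char_is_prime F p⟩
  haveI : CharP K p := charP_of_injective_algebraMap (algebraMap F K).injective p
  let P : (V ≃ₗ[F] V) → V → K → Prop := fun t b c =>
    ∀ x, t x = x + (Φ x b + c * Φ x v) • v + Φ x v • b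
  have hcomp : ∀ {t₁ t₂ : V ≃ₗ[F] V} {b₁ b₂ : V} {c₁ c₂ : K}, Φ v b₁ = 0 → Φ v b₂ = 0 → P t₁ b₁ c₁ → P t₂ b₂ c₂ →
      P (t₁ * t₂) (b₁ + b₂) (c₁ + c₂ + Φ b₂ b₁) := by
    intro t₁ t₂ b₁ b₂ c₁ c₂ h1 h2 e1 e2 x
    have hb1v : Φ b₁ v = 0 := by rw [S.skew, h1, neg_zero]
    have hb2v : Φ b₂ v = 0 := by rw [S.skew, h2, neg_zero]
    rw [LinearEquiv.mul_apply, e2, e1]
    simp only [map_add, map_smul, LinearMap.add_apply, LinearMap.smul_apply, smul_eq_mul, h1, h2, hb2v, S.alt]
    module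
  have hfix : ∀ {t : V ≃ₗ[F] V} {b : V} {c : K}, Φ v b = 0 → P t b c → ∀ d : K, t (d • v) = d • v := by
    intro t b c hb e d
    rw [e]
    simp [hb, S.alt]
  let T : Subgroup (V ≃ₗ[F] V) :=
    { carrier := {t | t ∈ G ∧ ∃ b c, Φ v b = 0 ∧ P t b c}
      one_mem' := ⟨G.one_mem, 0, 0, map_zero _, fun x => by simp⟩
      mul_mem' := by
        rintro t₁ t₂ ⟨m1, b₁, c₁, h1, e1⟩ ⟨m2, b₂, c₂, h2, e2⟩
        exact ⟨G.mul_mem m1 m2, _, _, by rw [map_add, h1, h2, add_zero], hcomp h1 h2 e1 e2⟩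
      inv_mem' := by
        rintro t ⟨m, b, c, h, e⟩
        refine ⟨G.inv_mem m, -b, -c, by rw [map_neg, h, neg_zero], fun x => ?_⟩
        show t.symm x = _
        rw [LinearEquiv.symm_apply_eq, e]
        have hbv : Φ b v = 0 := by rw [S.skew, h, neg_zero]
        simp only [map_add, map_neg, map_smul, LinearMap.add_apply, LinearMap.neg_apply, LinearMap.smul_apply,
          smul_eq_mul, h, hbv, S.alt]
        module }
  have hTp : IsPGroup p T := by
    rintro ⟨t, -, b, c, hb, e⟩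
    have hn : ∀ n : ℕ, P (t ^ n) ((n : K) • b) ((n : K) * c) := by
      intro n
      induction n with
      | zero => intro x; simp
      | succ n ih =>
        have := hcomp (t₁ := t ^ n) (t₂ := t) (by rw [map_smul, hb, smul_zero]) hb ih e
        rw [map_smul, S.alt, smul_zero, add_zero] at this
        rw [pow_succ, Nat.cast_succ, add_smul, one_smul, add_mul, one_mul]
        exact this
    refine ⟨1, Subtype.ext (LinearEquiv.ext fun x => ?_)⟩
    rw [SubmonoidClass.coe_pow, pow_one, hn p x]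
    simp [CharP.cast_eq_zero]
  refine conj_core S.prime hv hTp (fun t ht => ?_) (fun x hx => ?_) (fun g hg hgv hl => S.line_algHom hv hno hg hgv hl)
    hk hk' hg hgv hgk
  · obtain ⟨m, b, c, hb, e⟩ := ht
    exact ⟨m, hfix hb e⟩
  · -- elements of the radical
    have hmem : ∀ b c, Φ v b = 0 → ∃ t ∈ T, P t b c := by
      intro b c hb
      have hbv : Φ b v = 0 := by rw [S.skew, hb, neg_zero]
      let L : V →ₗ[K] V := LinearMap.id + (Φ.flip b + c • Φ.flip v).smulRight v + (Φ.flip v).smulRight b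
      have hL : ∀ x, L x = x + (Φ x b + c * Φ x v) • v + Φ x v • b := fun x => by simp [L]
      have hiso : ∀ x y, Φ (L x) (L y) = Φ x y := fun x y => by
        rw [hL, hL]
        simp only [map_add, map_smul, LinearMap.add_apply, LinearMap.smul_apply, smul_eq_mul, hb, hbv, S.alt,
          S.skew v y, S.skew b y]
        ring
      have hinj : Function.Injective L := (injective_iff_map_eq_zero L).mpr fun x hx0 => S.nondeg x fun y => by
        rw [← hiso, hx0, map_zero]
      let E : V ≃ₗ[K] V := LinearEquiv.ofInjectiveEndo L hinj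
      have hE : P (E.restrictScalars F) b c := hL
      exact ⟨_, ⟨S.lin E hiso, b, c, hb, hE⟩, hE⟩
    obtain ⟨t, ht, e⟩ := hmem 0 1 (map_zero _)
    have h1 := hx t ht
    rw [e, map_zero, zero_add, one_mul, smul_zero, add_zero, add_eq_left, smul_eq_zero] at h1
    have hxv := h1.resolve_right hv
    by_contra hxn
    obtain ⟨z, hzv, hxz⟩ := S.exists_perp_ne hxn
    obtain ⟨t, ht, e⟩ := hmem z 0 (by rw [S.skew, hzv, neg_zero])
    have h2 := hx t ht
    rw [e, hxv, mul_zero, add_zero, zero_smul, add_zero, add_eq_left, smul_eq_zero] at h2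
    exact hxz (h2.resolve_right hv)

end SympOver

end Cfsg.Agent.Lib.ThreeTransp.ExtField
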