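import Cfsg.Agent.Lib.ThreeTransp.ExtSympBase

/-!
Groups preserving `tr ∘ Φ` and containing the isometries of the alternating form `Φ` are semilinear or contain
every symplectic transvection.
-/

set_option autoImplicit false

namespace Cfsg.Agent.Lib.ThreeTransp.ExtField

open Module

variable {F K V : Type*} [Field F] [Field K] [Algebra F K] [AddCommGroup V] [Module F V] [Module K V]
  [IsScalarTower F K V]
variable {Φ : V →ₗ[K] V →ₗ[K] K} {G : Subgroup (V ≃ₗ[F] V)} {v : V}

namespace SympOver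

variable (S : SympOver Φ G)
include S

theorem trace_apply_symm {g : V ≃ₗ[F] V} (hg : g ∈ G) (x y : V) :
    Algebra.trace F K (Φ (g.symm x) y) = Algebra.trace F K (Φ x (g y)) := by
  rw [← S.isom g hg, LinearEquiv.apply_symm_apply]

variable [Finite F] [FiniteDimensional F K]

/-- Transvections with centre `v` give transvections with all centres. -/
theorem hasSympTv_all (hv : v ≠ 0) (h : HasSympTv Φ G v) (w : V) : HasSympTv Φ G w := by
  rcases eq_or_ne w 0 with rfl | hw
  · exact ⟨1, G.one_mem, fun x => by simp⟩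
  obtain ⟨t, ht, e⟩ := h
  obtain ⟨h, hh, he⟩ := S.exists_map hv hw
  refine ⟨h.restrictScalars F * t * (h.restrictScalars F)⁻¹, G.mul_mem (G.mul_mem hh ht) (G.inv_mem hh), fun x => ?_⟩
  show h.restrictScalars F (t ((h.restrictScalars F).symm x)) = _
  rw [e, map_add, map_smul, LinearEquiv.apply_symm_apply, S.trace_apply_symm hh, LinearEquiv.restrictScalars_apply, he]

omit [Finite F] [FiniteDimensional F K] in
theorem trace_class {g : V ≃ₗ[F] V} (hg : g ∈ G) (hgv : g v = v) (k : K) :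
    Algebra.trace F K (Φ v (g (k • v))) = 0 := by
  have h := S.isom g hg v (k • v)
  rw [hgv] at h
  rw [h, (Φ v).map_smul, S.alt, smul_zero, map_zero]

/-- A moved multiple of `v` reaches a vector not orthogonal to `v`. -/
theorem exists_class (k : K) (hmoved : ∃ g ∈ G, g v = v ∧ g (k • v) ∉ K ∙ v) :
    ∃ g ∈ G, g v = v ∧ Φ v (g (k • v)) ≠ 0 := by
  by_contra hc
  push Not at hc
  obtain ⟨g₀, hg₀, hgv₀, hy⟩ := hmoved
  let O : Set V := {x | ∃ g ∈ G, g v = v ∧ g (k • v) = x}
  have hA : ∀ x, Φ v x = 0 → x ∈ Submodule.span F O := by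
    have h1 : ∀ x, Φ v x = 0 → x ∉ K ∙ v → x ∈ Submodule.span F O := by
      intro x hx hxn
      obtain ⟨h, hh, hhv, hhy⟩ := S.exists_move hy hxn (by rw [hc g₀ hg₀ hgv₀, hx])
      refine Submodule.subset_span ⟨h.restrictScalars F * g₀, G.mul_mem hh hg₀, ?_, ?_⟩
      · rw [LinearEquiv.mul_apply, hgv₀]; exact hhv
      · exact hhy
    intro x hx
    by_cases hxn : x ∈ K ∙ v
    · rw [show x = (g₀ (k • v) + x) - g₀ (k • v) by abel]
      refine Submodule.sub_mem _ (h1 _ (by rw [map_add, hc g₀ hg₀ hgv₀, hx, add_zero]) fun h2 => hy ?_)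
        (Submodule.subset_span ⟨g₀, hg₀, hgv₀, rfl⟩)
      simpa using Submodule.sub_mem _ h2 hxn
    · exact h1 x hx hxn
  have hB : ∀ g ∈ G, g v = v → ∀ x ∈ Submodule.span F O, Φ v (g x) = 0 := by
    intro g hg hgv x hx
    induction hx using Submodule.span_induction with
    | mem x hx =>
      obtain ⟨h, hh, hhv, rfl⟩ := hx
      exact hc (g * h) (G.mul_mem hg hh) (by rw [LinearEquiv.mul_apply, hhv, hgv])
    | zero => simp
    | add x y _ _ h1 h2 => rw [map_add, map_add, h1, h2, add_zero]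
    | smul c x _ h1 => rw [map_smul, ← algebraMap_smul K c (g x), map_smul, h1, smul_zero]
  have hgi : g₀⁻¹ v = v := (LinearEquiv.symm_apply_eq g₀).mpr hgv₀.symm
  by_contra
  apply hy
  by_contra hw
  obtain ⟨z, hzv, hwz⟩ := S.exists_perp_ne hw
  apply hwz
  rw [S.skew, neg_eq_zero]
  refine (traceForm_nondegenerate F K).1 _ fun d => ?_
  rw [Algebra.traceForm_apply]
  have h2 := hB g₀⁻¹ (G.inv_mem hg₀) hgi (d • z) (hA _ (by rw [map_smul, S.skew, hzv, neg_zero, smul_zero]))
  calc Algebra.trace F K (Φ z (g₀ (k • v)) * d) = Algebra.trace F K (Φ (d • z) (g₀ (k • v))) := by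
        rw [Φ.map_smul, LinearMap.smul_apply, smul_eq_mul, mul_comm]
    _ = Algebra.trace F K (Φ (g₀.symm (d • z)) (k • v)) := (S.trace_apply_symm hg₀ _ _).symm
    _ = 0 := by
        rw [(Φ (g₀.symm (d • z))).map_smul, S.skew, show Φ v (g₀.symm (d • z)) = 0 from h2, neg_zero, smul_zero, map_zero]

variable [FiniteDimensional F V] [FiniteDimensional K V]

/-- The count: only `q = r = 2` is possible. -/
theorem card_two (hv : v ≠ 0) (hno : ¬ HasSympTv Φ G v)
    (hmoved : ∀ k : K, k ∉ (algebraMap F K).range → ∃ g ∈ G, g v = v ∧ g (k • v) ∉ K ∙ v) :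
    Nat.card F = 2 ∧ finrank F K = 2 := by
  classical
  haveI : Finite K := Module.finite_of_finite F
  let R : K → K → Prop := fun k c => ∃ g ∈ G, g v = v ∧ Φ v (g (k • v)) = c ∧ c ≠ 0
  have htr : ∀ {k c}, R k c → Algebra.trace F K c = 0 := by
    rintro k c ⟨g, hg, hgv, rfl, -⟩
    exact S.trace_class hg hgv k
  have heq : ∀ {k c}, R k c → ∀ τ : K ≃ₐ[F] K, R (τ k) (τ c) := by
    rintro k c ⟨g, hg, hgv, rfl, hc⟩ τ
    obtain ⟨s, hs, hsv, hlin, hform⟩ := S.exists_semi_fix hv τ
    have hsi : s⁻¹ v = v := (LinearEquiv.symm_apply_eq s).mpr hsv.symm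
    have hsk : s⁻¹ (τ k • v) = k • v := (LinearEquiv.symm_apply_eq s).mpr (by rw [hlin, hsv])
    refine ⟨s * g * s⁻¹, G.mul_mem (G.mul_mem hs hg) (G.inv_mem hs), ?_, ?_, (map_ne_zero _).mpr hc⟩
    · rw [LinearEquiv.mul_apply, LinearEquiv.mul_apply, hsi, hgv, hsv]
    · rw [LinearEquiv.mul_apply, LinearEquiv.mul_apply, hsk]
      have h := hform v (g (k • v))
      rwa [hsv] at h
  have hconj : ∀ {k k' c}, k ∉ (algebraMap F K).range → k' ∉ (algebraMap F K).range → R k c → R k' c →
      ∃ σ : K ≃ₐ[F] K, σ k = k' := by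
    rintro k k' c hk hk' ⟨g, hg, hgv, hgc, hc⟩ ⟨g', hg', hgv', hgc', -⟩
    have hout : ∀ y, Φ v y = c → y ∉ K ∙ v := fun y hy hm => by
      obtain ⟨d, rfl⟩ := Submodule.mem_span_singleton.mp hm
      rw [map_smul, S.alt, smul_zero] at hy
      exact hc hy.symm
    obtain ⟨h, hh, hhv, hhy⟩ := S.exists_move (hout _ hgc) (hout _ hgc') (hgc.trans hgc'.symm)
    obtain ⟨σ, hσ⟩ := S.conj_of_orbit hv hno hk hk'
      (G.mul_mem (G.inv_mem hg') (G.mul_mem hh hg)) (by
        show g'.symm (h (g v)) = v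
        rw [hgv, hhv, LinearEquiv.symm_apply_eq, hgv'])
      (by
        show g'.symm (h (g (k • v))) = k' • v
        rw [hhy, LinearEquiv.symm_apply_apply])
    exact ⟨AlgEquiv.ofBijective σ (Algebra.IsAlgebraic.algHom_bijective σ), hσ⟩
  -- a representative in each orbit of automorphisms
  let orb : K → Set K := fun k => Set.range fun τ : K ≃ₐ[F] K => τ k
  have horb : ∀ k, (orb k).Nonempty := fun k => ⟨_, 1, rfl⟩
  have horb' : ∀ (k : K) (σ : K ≃ₐ[F] K), orb (σ k) = orb k := fun k σ => Set.ext fun x => by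
    refine ⟨?_, ?_⟩
    · rintro ⟨τ, rfl⟩; exact ⟨τ * σ, rfl⟩
    · rintro ⟨τ, rfl⟩; exact ⟨τ * σ⁻¹, congrArg τ (σ.symm_apply_apply k)⟩
  let rep : K → K := fun k => (horb k).some
  have hrep' : ∀ (k : K) (σ : K ≃ₐ[F] K), rep (σ k) = rep k := fun k σ => by
    simp only [rep]; congr 1; exact horb' k σ
  have hτ : ∀ k : K, ∃ τ : K ≃ₐ[F] K, τ (rep k) = k := fun k => by
    obtain ⟨σ, hσ⟩ := (horb k).some_mem
    exact ⟨σ⁻¹, by simp only [rep]; rw [← hσ]; exact σ.symm_apply_apply k⟩
  choose τk hτk using hτ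
  have hrepF : ∀ k : K, k ∉ (algebraMap F K).range → rep k ∉ (algebraMap F K).range := by
    rintro k hk ⟨a, ha⟩
    exact hk ⟨a, by rw [← hτk k, ← ha, AlgEquiv.commutes]⟩
  have hex : ∀ k : K, ∃ c, k ∉ (algebraMap F K).range → R k c := fun k => by
    by_cases hk : k ∈ (algebraMap F K).range
    · exact ⟨0, fun h => absurd hk h⟩
    obtain ⟨g, hg, hgv, hc⟩ := S.exists_class k (hmoved k hk)
    exact ⟨_, fun _ => ⟨g, hg, hgv, rfl, hc⟩⟩
  choose c₀ hc₀ using hex
  let X := {k : K // k ∉ (algebraMap F K).range}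
  let C := {c : K // c ≠ 0 ∧ Algebra.trace F K c = 0}
  let cc : X → C := fun k => ⟨c₀ (rep k.1), by
    obtain ⟨g, -, -, -, hc⟩ := hc₀ _ (hrepF _ k.2); exact hc, htr (hc₀ _ (hrepF _ k.2))⟩
  let Ψ : X → {c : C // c.1 ∉ (algebraMap F K).range} ⊕ ({c : C // c.1 ∈ (algebraMap F K).range} × (K ≃ₐ[F] K)) :=
    fun k => if h : (cc k).1 ∈ (algebraMap F K).range then Sum.inr (⟨cc k, h⟩, τk k.1)
      else Sum.inl ⟨⟨τk k.1 (cc k).1, (map_ne_zero _).mpr (cc k).2.1, by
        rw [Algebra.trace_eq_of_algEquiv]; exact (cc k).2.2⟩, fun ⟨a, ha⟩ => h ⟨a, (τk k.1).injective (by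
          rw [AlgEquiv.commutes]; exact ha)⟩⟩
  have hinj : Function.Injective Ψ := by
    intro k k' e
    by_cases h : (cc k).1 ∈ (algebraMap F K).range
    · by_cases h' : (cc k').1 ∈ (algebraMap F K).range
      · simp only [Ψ, dif_pos h, dif_pos h', Sum.inr.injEq, Prod.mk.injEq, Subtype.mk.injEq] at e
        obtain ⟨e1, e2⟩ := e
        have e1' : c₀ (rep k.1) = c₀ (rep k'.1) := congrArg Subtype.val e1
        obtain ⟨σ, hσ⟩ := hconj (hrepF _ k.2) (hrepF _ k'.2) (hc₀ _ (hrepF _ k.2)) (e1' ▸ hc₀ _ (hrepF _ k'.2))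
        have hr : rep k.1 = rep k'.1 := by
          rw [← hrep' k.1 ((τk k'.1) * σ * (τk k.1)⁻¹)]
          congr 1
          rw [AlgEquiv.mul_apply, AlgEquiv.mul_apply,
            show (τk k.1)⁻¹ k.1 = rep k.1 from (AlgEquiv.symm_apply_eq _).mpr (hτk k.1).symm, hσ, hτk]
        apply Subtype.ext
        rw [← hτk k.1, ← hτk k'.1, e2, hr]
      · rw [show Ψ k = _ from dif_pos h, show Ψ k' = _ from dif_neg h'] at e
        cases e
    · by_cases h' : (cc k').1 ∈ (algebraMap F K).range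
      · rw [show Ψ k = _ from dif_neg h, show Ψ k' = _ from dif_pos h'] at e
        cases e
      · simp only [Ψ, dif_neg h, dif_neg h', Sum.inl.injEq, Subtype.mk.injEq] at e
        replace e : τk k.1 (cc k).1 = τk k'.1 (cc k').1 := congrArg Subtype.val e
        have e1 : R k.1 (τk k.1 (cc k).1) := by
          have := heq (hc₀ _ (hrepF _ k.2)) (τk k.1)
          rwa [hτk] at this
        have e2 : R k'.1 (τk k.1 (cc k).1) := by
          have := heq (hc₀ _ (hrepF _ k'.2)) (τk k'.1)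
          rw [hτk] at this
          rwa [e]
        obtain ⟨σ, hσ⟩ := hconj k.2 k'.2 e1 e2
        have hr : rep k.1 = rep k'.1 := by rw [← hσ, hrep']
        have hcc : (cc k').1 = (cc k).1 := by simp only [cc, hr]
        rw [hcc] at e
        have hid := algHom_eq_id S.prime h (τ := ((τk k'.1)⁻¹ * τk k.1 : K ≃ₐ[F] K).toAlgHom) (by
          show (τk k'.1)⁻¹ (τk k.1 (cc k).1) = (cc k).1
          rw [e]; exact (τk k'.1).symm_apply_apply _)
        apply Subtype.ext
        rw [← hτk k.1, ← hτk k'.1, hr]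
        exact (AlgEquiv.symm_apply_eq (τk k'.1)).mp (hid (rep k'.1))
  have hb := Nat.card_le_card_of_injective Ψ hinj
  rw [Nat.card_sum, Nat.card_prod, IsGalois.card_aut_eq_finrank] at hb
  have hsum : Nat.card {c : C // c.1 ∉ (algebraMap F K).range} + Nat.card {c : C // c.1 ∈ (algebraMap F K).range} =
      Nat.card C := by
    rw [add_comm, ← Nat.card_sum]
    exact Nat.card_congr (Equiv.sumCompl _)
  have hB : Nat.card {c : C // c.1 ∈ (algebraMap F K).range} ≤ Nat.card Fˣ := by
    refine Nat.card_le_card_of_injective (fun c => Units.mk0 c.2.choose fun h0 => c.1.2.1 (by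
      rw [← c.2.choose_spec, h0, map_zero])) fun a b e => ?_
    exact Subtype.ext (Subtype.ext (by
      rw [← a.2.choose_spec, ← b.2.choose_spec, show a.2.choose = b.2.choose from congrArg Units.val e]))
  have hq : 2 ≤ Nat.card F := Finite.one_lt_card
  have hC : Nat.card C = Nat.card F ^ (finrank F K - 1) - 1 := by
    have hk := LinearMap.finrank_range_add_finrank_ker (Algebra.trace F K)
    rw [LinearMap.range_eq_top.mpr (Algebra.trace_surjective F K), finrank_top, finrank_self] at hk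
    have e1 : Nat.card C = Nat.card {x : LinearMap.ker (Algebra.trace F K) // x ≠ 0} :=
      Nat.card_congr ⟨fun c => ⟨⟨c.1, c.2.2⟩, fun h => c.2.1 (congrArg Subtype.val h)⟩,
        fun x => ⟨x.1.1, fun h => x.2 (Subtype.ext h), x.1.2⟩, fun c => rfl, fun x => rfl⟩
    haveI := Fintype.ofFinite (LinearMap.ker (Algebra.trace F K))
    rw [e1, Nat.card_eq_fintype_card, Fintype.card_subtype_compl, Fintype.card_subtype_eq, ← Nat.card_eq_fintype_card,
      Module.natCard_eq_pow_finrank (K := F)]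
    congr 2
    omega
  have hX : Nat.card X = Nat.card F ^ finrank F K - Nat.card F := by
    haveI := Fintype.ofFinite K
    rw [← Module.natCard_eq_pow_finrank (K := F) (V := K), Nat.card_eq_fintype_card, Fintype.card_subtype_compl,
      ← Nat.card_eq_fintype_card, ← Nat.card_eq_fintype_card]
    congr 1
    exact Nat.card_range_of_injective (algebraMap F K).injective
  rw [Nat.card_units] at hB
  obtain ⟨b, hb'⟩ : ∃ b, finrank F K = b + 2 := ⟨_, (Nat.sub_add_cancel S.prime.two_le).symm⟩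
  rw [hb'] at hb hC hX ⊢
  obtain ⟨a, ha⟩ : ∃ a, Nat.card F = a + 2 := ⟨_, (Nat.sub_add_cancel hq).symm⟩
  rw [ha] at hB hC hX ⊢
  simp only [Nat.add_succ_sub_one] at hC hB
  have hP : (a + 2) * (b + 1) ≤ (a + 2) ^ (b + 1) := by
    rw [pow_succ']
    exact Nat.mul_le_mul_left _ (Nat.lt_pow_self (by omega))
  have hpow : (a + 2) ^ (b + 2) = (a + 1) * (a + 2) ^ (b + 1) + (a + 2) ^ (b + 1) := by ring
  have hP1 : 1 ≤ (a + 2) ^ (b + 1) := Nat.one_le_pow _ _ (by omega)
  generalize (a + 2) ^ (b + 1) = P at hP hpow hC hP1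
  rw [hX, hpow] at hb
  have hmain : (a + 1) * P ≤ (b + 2) * (a + 1) := by
    have h1 : Nat.card {c : C // c.1 ∈ (algebraMap F K).range} * (b + 1) ≤ (a + 1) * (b + 1) :=
      Nat.mul_le_mul_right _ hB
    have e1 : ∀ B : ℕ, B * (b + 2) = B * (b + 1) + B := fun B => by ring
    rw [e1] at hb
    have e2 : (b + 2) * (a + 1) = (a + 1) * (b + 1) + (a + 1) := by ring
    omega
  have hPle : P ≤ b + 2 := Nat.le_of_mul_le_mul_left (by linarith) (show 0 < a + 1 by omega)
  constructor <;> nlinarith [Nat.zero_le (a * b), hP.trans hPle]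

/-- The field with four elements over the field with two. -/
theorem hasSympTv_of_four (hq : Nat.card F = 2) (hr : finrank F K = 2) (hm : 3 ≤ finrank K V)
    (hmoved : ∀ (a : V), a ≠ 0 → ∀ k : K, k ∉ (algebraMap F K).range → ∃ g ∈ G, g a = a ∧ g (k • a) ∉ K ∙ a) :
    ∃ w : V, w ≠ 0 ∧ HasSympTv Φ G w := by
  classical
  haveI : Finite K := Module.finite_of_finite F
  haveI := Fintype.ofFinite K
  haveI := Fintype.ofFinite F
  obtain ⟨ω, hω⟩ : ∃ ω : K, ω ∉ (algebraMap F K).range := by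
    by_contra hc
    push Not at hc
    have : finrank F K ≤ 1 := finrank_le_one (1 : K) fun c => by
      obtain ⟨a, ha⟩ := hc c; exact ⟨a, by rw [← ha, Algebra.algebraMap_eq_smul_one]⟩
    omega
  have hF : ∀ a : F, a = 0 ∨ a = 1 := by
    intro a
    by_contra h
    push Not at h
    have : Finset.card ({0, 1, a} : Finset F) ≤ Fintype.card F := Finset.card_le_univ _
    rw [Finset.card_eq_three.mpr ⟨0, 1, a, zero_ne_one, Ne.symm h.1, Ne.symm h.2, rfl⟩,
      ← Nat.card_eq_fintype_card, hq] at this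
    omega
  have h2F : (2 : F) = 0 := by
    rcases hF 2 with h | h
    · exact h
    · exact absurd (show (1 : F) = 0 by linear_combination h) one_ne_zero
  have hω01 : ω ≠ 0 ∧ ω ≠ 1 := ⟨fun h => hω ⟨0, by rw [h, map_zero]⟩, fun h => hω ⟨1, by rw [h, map_one]⟩⟩
  have h2K : (2 : K) = 0 := by rw [← map_ofNat (algebraMap F K), h2F, map_zero]
  have hK4 : ∀ a : K, a = 0 ∨ a = 1 ∨ a = ω ∨ a = ω + 1 := by
    intro a
    by_contra h
    push Not at h
    have hs : Finset.card ({0, 1, ω, ω + 1, a} : Finset K) = 5 := by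
      rw [Finset.card_insert_of_notMem, Finset.card_insert_of_notMem, Finset.card_insert_of_notMem,
        Finset.card_insert_of_notMem, Finset.card_singleton]
      · simpa using Ne.symm h.2.2.2
      · simp only [Finset.mem_insert, Finset.mem_singleton, not_or]
        exact ⟨fun e => one_ne_zero (show (1 : K) = 0 by linear_combination -e), Ne.symm h.2.2.1⟩
      · simp only [Finset.mem_insert, Finset.mem_singleton, not_or]
        exact ⟨hω01.2.symm, fun e => hω01.1 (by linear_combination -e), Ne.symm h.2.1⟩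
      · simp only [Finset.mem_insert, Finset.mem_singleton, not_or]
        exact ⟨zero_ne_one, hω01.1.symm, fun e => hω01.2 (by linear_combination -e - h2K * 1 + 0 * h2K), Ne.symm h.1⟩
    have : Finset.card ({0, 1, ω, ω + 1, a} : Finset K) ≤ Fintype.card K := Finset.card_le_univ _
    rw [hs, ← Nat.card_eq_fintype_card, Module.natCard_eq_pow_finrank (K := F), hq, hr] at this
    omega
  have htr1 : Algebra.trace F K 1 = 0 := by
    rw [← map_one (algebraMap F K), Algebra.trace_algebraMap, hr, nsmul_eq_mul, mul_one]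
    exact_mod_cast h2F
  have htrω : Algebra.trace F K ω = 1 := by
    rcases hF (Algebra.trace F K ω) with h | h
    · exfalso
      obtain ⟨z, hz⟩ := Algebra.trace_surjective F K 1
      rcases hK4 z with rfl | rfl | rfl | rfl <;> simp [h, htr1] at hz
    · exact h
  have hω2 : ω * ω = ω + 1 := by
    rcases hK4 (ω * ω) with h | h | h | h
    · exact absurd (mul_self_eq_zero.mp h) hω01.1
    · have e : (ω - 1) * (ω - 1) = 0 := by linear_combination h + (1 - ω) * h2K
      exact absurd (sub_eq_zero.mp (mul_self_eq_zero.mp e)) hω01.2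
    · exact absurd (mul_right_cancel₀ hω01.1 (h.trans (one_mul ω).symm)) hω01.2
    · exact h
  have hlam : ∀ a : K, ω * a = algebraMap F K (Algebra.trace F K a) + algebraMap F K (Algebra.trace F K (ω * a)) * ω := by
    intro a
    rcases hK4 a with rfl | rfl | rfl | rfl
    · simp
    · simp [htr1, htrω]
    · simp [hω2, htr1, htrω, add_comm]
    · simp only [mul_add, mul_one, hω2, map_add, htr1, htrω, zero_add, add_zero, map_one]
      linear_combination -(0 : K) * h2K
  have hpair : ∀ a b : V, Φ a b = 1 → ∃ t ∈ G, ∀ z,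
      t z = z + Algebra.trace F K (Φ z a) • a + Algebra.trace F K (Φ z b) • b := by
    intro a b hab
    have ha : a ≠ 0 := fun h => by simp [h] at hab
    obtain ⟨g, hg, hgv, hc⟩ := S.exists_class ω (hmoved a ha ω hω)
    have hc1 : Φ a (g (ω • a)) = 1 := by
      have h0 := S.trace_class hg hgv ω
      rcases hK4 (Φ a (g (ω • a))) with h | h | h | h
      · exact absurd h hc
      · exact h
      · rw [h, htrω] at h0; exact absurd h0 one_ne_zero
      · rw [h, map_add, htrω, htr1, add_zero] at h0; exact absurd h0 one_ne_zero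
    have hout : ∀ y, Φ a y = 1 → y ∉ K ∙ a := fun y hy hm => by
      obtain ⟨d, rfl⟩ := Submodule.mem_span_singleton.mp hm
      rw [map_smul, S.alt, smul_zero] at hy
      exact zero_ne_one hy
    obtain ⟨h, hh, hha, hhy⟩ := S.exists_move (hout _ hc1) (hout b hab) (hc1.trans hab.symm)
    obtain ⟨T, hT, -, hTz⟩ := S.exists_trans a ω
    set g' := h.restrictScalars F * g with hg'
    have hg'm : g' ∈ G := G.mul_mem hh hg
    have e1 : g' a = a := by rw [hg', LinearEquiv.mul_apply, hgv]; exact hha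
    have e2 : g' (ω • a) = b := hhy
    refine ⟨g' * T.restrictScalars F * g'⁻¹, G.mul_mem (G.mul_mem hg'm hT) (G.inv_mem hg'm), fun z => ?_⟩
    show g' (T (g'.symm z)) = _
    rw [hTz, hlam, add_smul, mul_smul, algebraMap_smul, algebraMap_smul, map_add, map_add, map_smul, map_smul, e1, e2,
      LinearEquiv.apply_symm_apply, S.trace_apply_symm hg'm, e1, add_assoc]
    congr 3
    rw [← e2, ← S.trace_apply_symm hg'm, map_smul, smul_eq_mul]
  obtain ⟨a, ha⟩ : ∃ a : V, a ≠ 0 := by
    haveI : Nontrivial V := Module.nontrivial_of_finrank_pos (R := K) (by omega)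
    exact exists_ne 0
  obtain ⟨u, hu⟩ := S.exists_pair ha
  have hab : Φ u a = 1 := hu
  obtain ⟨w, hw, hw0⟩ : ∃ w, (Φ w u = 0 ∧ Φ w a = 0) ∧ w ≠ 0 := by
    let L : V →ₗ[K] K × K := (Φ.flip u).prod (Φ.flip a)
    obtain ⟨w, hw, hw0⟩ := (Submodule.ne_bot_iff _).mp
      (LinearMap.ker_ne_bot_of_finrank_lt (f := L) (by rw [Module.finrank_prod, finrank_self]; omega))
    exact ⟨w, ⟨congrArg Prod.fst (LinearMap.mem_ker.mp hw), congrArg Prod.snd (LinearMap.mem_ker.mp hw)⟩, hw0⟩
  have hau : Φ a u = 1 := by rw [S.skew, hu]; linear_combination -h2K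
  have huw : Φ u w = 0 := by rw [S.skew, hw.1, neg_zero]
  have haw : Φ a w = 0 := by rw [S.skew, hw.2, neg_zero]
  obtain ⟨t₁, m₁, e₁⟩ := hpair u a hab
  obtain ⟨t₂, m₂, e₂⟩ := hpair (u + w) (u + a) (by simp [S.alt, hab, hw.1, hw.2, huw, haw])
  obtain ⟨t₃, m₃, e₃⟩ := hpair (a + w) (u + a + w) (by simp [S.alt, hau, hw.1, hw.2, huw, haw])
  refine ⟨w, hw0, t₃ * t₂ * t₁, G.mul_mem (G.mul_mem m₃ m₂) m₁, fun z => ?_⟩
  simp only [LinearEquiv.mul_apply, e₁, e₂, e₃, map_add, LinearMap.add_apply, LinearMap.map_smul_of_tower,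
    LinearMap.smul_apply, map_smul, smul_eq_mul, S.alt, hab, hau, hw.1, hw.2, huw, haw, htr1, mul_zero, zero_add,
    add_zero, map_zero]
  generalize Algebra.trace F K (Φ z u) = A
  generalize Algebra.trace F K (Φ z a) = B
  generalize Algebra.trace F K (Φ z w) = W
  calc _ = z + W • w + (2 : F) • ((2 * A + B + W) • u + (A + 2 * B + W) • a + (A + B + W) • w) := by module
    _ = z + W • w := by rw [h2F, zero_smul, add_zero]

/-- The dichotomy. -/
theorem dichotomy (hex : Nat.card F = 2 → finrank F K = 2 → 3 ≤ finrank K V) :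
    (∀ g ∈ G, Semilin K g) ∨ ∀ w, HasSympTv Φ G w := by
  rcases semilin_or_moved_core S.prime S.two_le (fun x y hx hy => S.exists_map hx hy) with h | hmoved
  · exact Or.inl h
  obtain ⟨v, hv⟩ : ∃ v : V, v ≠ 0 := by
    haveI : Nontrivial V := Module.nontrivial_of_finrank_pos (R := K) (by have := S.two_le; omega)
    exact exists_ne 0
  by_cases hno : HasSympTv Φ G v
  · exact Or.inr (S.hasSympTv_all hv hno)
  obtain ⟨hq, hr⟩ := S.card_two hv hno (hmoved v hv)
  obtain ⟨w, hw, h⟩ := S.hasSympTv_of_four hq hr (hex hq hr) hmoved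
  exact Or.inr (S.hasSympTv_all hw h)

end SympOver

end Cfsg.Agent.Lib.ThreeTransp.ExtField
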