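import Cfsg.Agent.Lib.ThreeTransp.ExtFormField
import Cfsg.Agent.Lib.ThreeTransp.ExtSympMain
import Cfsg.Agent.Lib.MaxSub.Symplectic
import Cfsg.Agent.Lib.Geometry.SympBasis

/-!
The normaliser of an extension field inside the symplectic group.
-/

set_option autoImplicit false

namespace Cfsg.Agent.Lib.ThreeTransp.ExtField

open Module Matrix
open Cfsg.Agent.Lib.MaxSub (stdAlt stdAlt_apply mem_spGL_iff spGL_le)
open scoped MatrixGroups Matrix

/-- A semilinear isometry up to `τ` of a non-degenerate alternating form. -/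
theorem exists_semi_isom {F K V : Type*} [Field F] [Field K] [Algebra F K] [AddCommGroup V] [Module F V] [Module K V]
    [IsScalarTower F K V] [FiniteDimensional K V] (Φ : V →ₗ[K] V →ₗ[K] K) (alt : ∀ x, Φ x x = 0)
    (nondeg : ∀ y, (∀ x, Φ x y = 0) → y = 0) (τ : K ≃ₐ[F] K) :
    ∃ s : V ≃ₗ[F] V, (∀ (k : K) (x : V), s (k • x) = τ k • s x) ∧ ∀ x y, Φ (s x) (s y) = τ (Φ x y) := by
  obtain ⟨m, k, b, h1, h2, h3, h4⟩ := Cfsg.Agent.Lib.Geometry.exists_sympBasis Φ alt
  have skew : ∀ x y, Φ x y = -Φ y x := fun x y => by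
    have h := alt (x + y)
    simp only [map_add, LinearMap.add_apply, alt, zero_add, add_zero] at h
    linear_combination h
  have hval : ∀ i j, τ (Φ (b i) (b j)) = Φ (b i) (b j) := by
    intro i j
    rcases i with (i | i) | i
    · rcases j with (j | j) | j
      · rw [h2, map_zero]
      · rw [h1]; split_ifs <;> simp
      · rw [skew, h4, neg_zero, map_zero]
    · rcases j with (j | j) | j
      · rw [skew, h1]; split_ifs <;> simp
      · rw [h3, map_zero]
      · rw [skew, h4, neg_zero, map_zero]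
    · rw [h4, map_zero]
  let s : V ≃ₗ[F] V := (b.equivFun.restrictScalars F) ≪≫ₗ (LinearEquiv.piCongrRight fun _ => τ.toLinearEquiv) ≪≫ₗ
    (b.equivFun.restrictScalars F).symm
  have hs : ∀ x, b.equivFun (s x) = fun i => τ (b.equivFun x i) := fun x => by
    show b.equivFun ((b.equivFun).symm _) = _
    rw [LinearEquiv.apply_symm_apply]
    rfl
  refine ⟨s, fun c x => b.equivFun.injective ?_, fun x y => ?_⟩
  · rw [hs, b.equivFun.map_smul, b.equivFun.map_smul, hs]
    funext i
    simp [map_mul]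
  · conv_rhs => rw [← b.sum_equivFun x, ← b.sum_equivFun y]
    conv_lhs => rw [← b.sum_equivFun (s x), ← b.sum_equivFun (s y)]
    simp only [map_sum, map_smul, LinearMap.sum_apply, LinearMap.smul_apply, smul_eq_mul, hs, map_mul, hval]

universe u

variable {F : Type u} [Field F] [Finite F] {m r : ℕ} {K : Subalgebra F (Matrix (Fin m ⊕ Fin m) (Fin m ⊕ Fin m) F)}

/-- The normaliser of the field is maximal in the symplectic group. -/
theorem symp_ext_maximal (hm : 3 ≤ m) (hr : r.Prime) (hlt : r < 2 * m) (hK : Cfsg.Geo.IsFieldSubalgebra r K)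
    (hsa : Cfsg.Geo.IsSelfAdjointFor (Cfsg.sympForm m F) K)
    (halt : ∀ k ∈ K, ∀ v : (Fin m ⊕ Fin m → F), Cfsg.sympForm m F (Matrix.mulVec k v) v = 0) :
    Cfsg.Geo.IsMaximalIn (Cfsg.spGL m F) (Cfsg.Geo.subalgebraNormalizer K ⊓ Cfsg.spGL m F) := by
  obtain ⟨L, _, _, _, _, _, e, hrk, he⟩ := exists_field hK hr.ne_zero
  haveI : FiniteDimensional L (Fin m ⊕ Fin m → F) :=
    Module.Finite.of_restrictScalars_finite F L (Fin m ⊕ Fin m → F)
  have hn : 2 ≤ finrank L (Fin m ⊕ Fin m → F) := two_le_finrank hrk (by simpa [two_mul] using hlt)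
  have hsaL : ∀ (k : L) (x y : Fin m ⊕ Fin m → F), (stdAlt m F).B (k • x) y = (stdAlt m F).B x (k • y) :=
    fun k x y => by rw [stdAlt_apply, stdAlt_apply, he, he]; exact hsa _ (e k).2 x y
  obtain ⟨Φ, hΦ⟩ := exists_trace_lift (stdAlt m F).B hsaL
  have alt : ∀ x, Φ x x = 0 := fun x => (traceForm_nondegenerate F L).1 _ fun k => by
    rw [Algebra.traceForm_apply, mul_comm, ← smul_eq_mul, ← LinearMap.smul_apply, ← map_smul, hΦ, stdAlt_apply, he]
    exact halt _ (e k).2 x
  have nondeg : ∀ y, (∀ x, Φ x y = 0) → y = 0 := fun y h => (stdAlt m F).nondeg y fun x => by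
    rw [← hΦ, h, map_zero]
  have hpres : ∀ g : GL (Fin m ⊕ Fin m) F, g ∈ Cfsg.spGL m F ↔
      ∀ x y, Algebra.trace F L (Φ (linOf g x) (linOf g y)) = Algebra.trace F L (Φ x y) := fun g => by
    rw [mem_spGL_iff]
    simp only [MaxSub.AltForm.Preserves, linOf_apply, hΦ]
  refine ⟨SetLike.lt_iff_le_and_exists.mpr ⟨inf_le_right, ?_⟩, fun M h1 h2 => ?_⟩
  · -- a transvection outside the normaliser
    obtain ⟨v, hv⟩ : ∃ v : Fin m ⊕ Fin m → F, v ≠ 0 := by
      haveI : Nontrivial (Fin m ⊕ Fin m → F) := Module.nontrivial_of_finrank_pos (R := L) (by omega)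
      exact exists_ne 0
    refine ⟨(stdAlt m F).trans v 1, mem_spGL_iff.mpr ((stdAlt m F).trans_preserves v 1), fun hN => ?_⟩
    obtain ⟨τ, hτ⟩ := semilin_of_mem hn e he hN.1
    have ht : ∀ x, linOf ((stdAlt m F).trans v 1) x = x + (stdAlt m F).B x v • v := fun x => by
      rw [linOf_apply, MaxSub.AltForm.trans_mulVec, one_mul]
    have hτid : ∀ k : L, τ k = k := fun k => smul_left_injective L hv (by
      have := hτ k v
      rw [ht, ht, ← hΦ, ← hΦ, map_smul, LinearMap.smul_apply, alt, smul_zero, map_zero, zero_smul, add_zero,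
        add_zero] at this
      exact this.symm)
    obtain ⟨x, hx⟩ : ∃ x, (stdAlt m F).B x v ≠ 0 := by
      by_contra hc
      push Not at hc
      exact hv ((stdAlt m F).nondeg v hc)
    obtain ⟨k, hk⟩ : ∃ k : L, k ∉ (algebraMap F L).range := by
      by_contra hc
      push Not at hc
      have : finrank F L ≤ 1 := finrank_le_one (1 : L) fun c => by
        obtain ⟨a, ha⟩ := hc c; exact ⟨a, by rw [← ha, Algebra.algebraMap_eq_smul_one]⟩
      have := hr.two_le
      omega
    have h3 := hτ k x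
    rw [ht, ht, hτid, smul_add, add_right_inj, smul_comm k, ← algebraMap_smul L ((stdAlt m F).B (k • x) v),
      ← algebraMap_smul L ((stdAlt m F).B x v) (k • v), smul_smul] at h3
    have h4 := smul_left_injective L hv h3
    refine hk ⟨(stdAlt m F).B (k • x) v / (stdAlt m F).B x v, ?_⟩
    rw [map_div₀, div_eq_iff (by simpa using hx), mul_comm]
    exact h4
  · have S : SympOver Φ (M.map (linOf (ι := Fin m ⊕ Fin m) (F := F)).toMonoidHom) := by
      have hmem : ∀ h : (Fin m ⊕ Fin m → F) ≃ₗ[F] (Fin m ⊕ Fin m → F), Semilin L h →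
          (∀ x y, Algebra.trace F L (Φ (h x) (h y)) = Algebra.trace F L (Φ x y)) →
          h ∈ M.map (linOf (ι := Fin m ⊕ Fin m) (F := F)).toMonoidHom := fun h hs hp => by
        let g : GL (Fin m ⊕ Fin m) F := (linOf (ι := Fin m ⊕ Fin m) (F := F)).symm h
        have hg : linOf g = h := (linOf (ι := Fin m ⊕ Fin m) (F := F)).apply_symm_apply _
        exact ⟨g, h1 ⟨semilin_mem e he (hg.symm ▸ hs), (hpres g).mpr (by rw [hg]; exact hp)⟩, hg⟩
      refine ⟨hrk.symm ▸ hr, hn, alt, nondeg, ?_, fun h hh => hmem _ ⟨AlgHom.id F L, h.map_smul⟩ fun x y => ?_,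
        fun τ => ?_⟩
      · rintro _ ⟨g, hg, rfl⟩ x y
        exact (hpres g).mp (h2 hg) x y
      · rw [LinearEquiv.restrictScalars_apply, LinearEquiv.restrictScalars_apply, hh]
      · obtain ⟨s, hs, hs'⟩ := exists_semi_isom Φ alt nondeg τ
        exact ⟨s, hmem s ⟨τ.toAlgHom, hs⟩ fun x y => by rw [hs', Algebra.trace_eq_of_algEquiv], hs, hs'⟩
    rcases S.dichotomy (fun _ h2' => by
      have h := finrank_mul_finrank F L (Fin m ⊕ Fin m → F)
      rw [h2', Module.finrank_pi, Fintype.card_sum, Fintype.card_fin] at h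
      omega) with hs | hs
    · exact Or.inl (le_antisymm (le_inf (fun g hg => semilin_mem e he (hs _ ⟨g, hg, rfl⟩)) h2) h1)
    · refine Or.inr (le_antisymm h2 (spGL_le fun w => ?_))
      -- all transvections with centre `w`
      have hone : ∀ u, (stdAlt m F).trans u 1 ∈ M := fun u => by
        obtain ⟨-, ⟨g, hg, rfl⟩, hgu⟩ := hs u
        have : (stdAlt m F).trans u 1 = g := (linOf (ι := Fin m ⊕ Fin m) (F := F)).injective (LinearEquiv.ext fun x => by
          rw [linOf_apply, MaxSub.AltForm.trans_mulVec, one_mul, ← hΦ]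
          exact (hgu x).symm)
        exact this ▸ hg
      intro c
      obtain ⟨a, b, rfl⟩ := exists_sq_add_sq c
      have key : ∀ a : F, (stdAlt m F).trans w (a * a) = (stdAlt m F).trans (a • w) 1 := fun a =>
        Units.ext (MaxSub.eq_of_mulVec_eq fun x => by
          rw [MaxSub.AltForm.trans_mulVec, MaxSub.AltForm.trans_mulVec, map_smul, smul_smul, smul_eq_mul]
          congr 2
          ring)
      have hsplit : (stdAlt m F).trans w (a * a + b * b) = (stdAlt m F).trans w (a * a) * (stdAlt m F).trans w (b * b) :=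
        Units.ext (MaxSub.eq_of_mulVec_eq fun x => by
          rw [Units.val_mul, ← Matrix.mulVec_mulVec]
          simp only [MaxSub.AltForm.trans_mulVec, map_add, map_smul, LinearMap.add_apply, LinearMap.smul_apply,
            (stdAlt m F).alt, smul_eq_mul]
          module)
      rw [hsplit, key, key]
      exact M.mul_mem (hone _) (hone _)

end Cfsg.Agent.Lib.ThreeTransp.ExtField
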