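import Mathlib
import Cfsg.Prelude.Def_Transfer
import Cfsg.Agent.Lib.Cores.Frattini

/-!
Extraspecial 2-groups from a bilinear form over the field with two elements, and their 2-rank.
-/

set_option autoImplicit false

namespace Cfsg.Agent.Lib.ThreeTransp

open scoped commutatorElement

variable {V : Type*} [AddCommGroup V] [Module (ZMod 2) V]

/-- The central extension of `V` by the field with two elements with cocycle `b`. -/
@[ext]
structure ExtModel (b : LinearMap.BilinForm (ZMod 2) V) where
  /-- central coordinate -/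
  c : ZMod 2
  /-- vector coordinate -/
  u : V

namespace ExtModel

theorem zmod2_eq : ∀ a c : ZMod 2, a ≠ 0 → c ≠ 0 → a = c := by decide

variable {b : LinearMap.BilinForm (ZMod 2) V}

theorem two_self (v : V) : v + v = 0 := by
  rw [← two_smul (ZMod 2) v, show (2 : ZMod 2) = 0 by decide, zero_smul]

theorem zmod2_self (a : ZMod 2) : a + a = 0 := two_self a

instance : Mul (ExtModel b) := ⟨fun x y => ⟨x.c + y.c + b x.u y.u, x.u + y.u⟩⟩
instance : One (ExtModel b) := ⟨⟨0, 0⟩⟩
instance : Inv (ExtModel b) := ⟨fun x => ⟨x.c + b x.u x.u, x.u⟩⟩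

@[simp] theorem mul_c (x y : ExtModel b) : (x * y).c = x.c + y.c + b x.u y.u := rfl
@[simp] theorem mul_u (x y : ExtModel b) : (x * y).u = x.u + y.u := rfl
@[simp] theorem one_c : (1 : ExtModel b).c = 0 := rfl
@[simp] theorem one_u : (1 : ExtModel b).u = 0 := rfl
@[simp] theorem inv_c (x : ExtModel b) : x⁻¹.c = x.c + b x.u x.u := rfl
@[simp] theorem inv_u (x : ExtModel b) : x⁻¹.u = x.u := rfl

instance : Group (ExtModel b) :=
  Group.ofLeftAxioms
    (fun x y z => by ext <;> simp <;> abel)
    (fun x => by ext <;> simp)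
    (fun x => by
      ext
      · simp only [mul_c, inv_c, inv_u, one_c]
        rw [show x.c + b x.u x.u + x.c + b x.u x.u = (x.c + x.c) + (b x.u x.u + b x.u x.u) by abel,
          zmod2_self, zmod2_self, zero_add]
      · simp [two_self])

/-- The coordinates. -/
def equivProd : ExtModel b ≃ ZMod 2 × V where
  toFun x := (x.c, x.u)
  invFun p := ⟨p.1, p.2⟩
  left_inv _ := rfl
  right_inv _ := rfl

instance [Finite V] : Finite (ExtModel b) := Finite.of_equiv _ equivProd.symm

theorem card_eq : Nat.card (ExtModel b) = 2 * Nat.card V := by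
  rw [Nat.card_congr equivProd, Nat.card_prod, Nat.card_zmod]

theorem commute_iff (x y : ExtModel b) : x * y = y * x ↔ b x.u y.u = b y.u x.u := by
  constructor
  · intro h
    have h1 := congrArg ExtModel.c h
    simp only [mul_c, add_comm y.c x.c] at h1
    exact add_left_cancel h1
  · intro h
    ext
    · simp only [mul_c, h, add_comm y.c x.c]
    · simp only [mul_u, add_comm]

theorem sq_eq_one_iff (x : ExtModel b) : x ^ 2 = 1 ↔ b x.u x.u = 0 := by
  rw [pow_two]
  constructor
  · intro h
    have h1 := congrArg ExtModel.c h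
    simpa [zmod2_self] using h1
  · intro h
    ext
    · simp [zmod2_self, h]
    · simp [two_self]

/-- The projection to `V`. -/
def proj : ExtModel b →* Multiplicative V where
  toFun x := Multiplicative.ofAdd x.u
  map_one' := rfl
  map_mul' _ _ := rfl

theorem isExtraspecial [Finite V] [Nontrivial V] {k : ℕ} (hk : Nat.card V = 2 ^ k)
    (hnd : ∀ u, (∀ v, b u v = b v u) → u = 0) : Cfsg.IsExtraspecial 2 (ExtModel b) := by
  haveI : Fact (Nat.Prime 2) := ⟨Nat.prime_two⟩
  have hp : IsPGroup 2 (ExtModel b) := IsPGroup.of_card (n := k + 1) (by rw [card_eq, hk, pow_succ, mul_comm])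
  haveI : Group.IsNilpotent (ExtModel b) := hp.isNilpotent
  have hcen : ∀ x : ExtModel b, x ∈ Subgroup.center (ExtModel b) ↔ x.u = 0 := by
    intro x
    rw [Subgroup.mem_center_iff]
    refine ⟨fun h => hnd _ fun v => ?_, fun h y => ?_⟩
    · exact ((commute_iff ⟨0, v⟩ x).1 (h ⟨0, v⟩)).symm
    · rw [commute_iff, h]; simp
  have hu : ∀ x y : ExtModel b, ⁅x, y⁆.u = 0 := fun x y => by
    simp only [commutatorElement_def, mul_u, inv_u]
    rw [show x.u + y.u + x.u + y.u = (x.u + x.u) + (y.u + y.u) by abel, two_self, two_self, zero_add]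
  have hcc : commutator (ExtModel b) ≤ Subgroup.center (ExtModel b) := by
    rw [_root_.commutator_def, Subgroup.commutator_le]
    exact fun x _ y _ => (hcen _).2 (hu x y)
  have hcardc : Nat.card (Subgroup.center (ExtModel b)) = 2 := by
    let e : Subgroup.center (ExtModel b) ≃ ZMod 2 :=
      { toFun := fun x => x.1.c
        invFun := fun c => ⟨⟨c, 0⟩, (hcen _).2 rfl⟩
        left_inv := fun x => Subtype.ext (ExtModel.ext rfl ((hcen _).1 x.2).symm)
        right_inv := fun c => rfl }
    rw [Nat.card_congr e, Nat.card_zmod]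
  have hcomm : commutator (ExtModel b) = Subgroup.center (ExtModel b) := by
    refine Subgroup.eq_of_le_of_card_ge hcc ?_
    rw [hcardc]
    refine Nat.succ_le_of_lt ((Subgroup.one_lt_card_iff_ne_bot _).mpr fun h => ?_)
    obtain ⟨v, hv⟩ := exists_ne (0 : V)
    obtain ⟨w, hw⟩ : ∃ w, b v w ≠ b w v := by
      by_contra hne
      push Not at hne
      exact hv (hnd v hne)
    have hmem : ⁅(⟨0, v⟩ : ExtModel b), ⟨0, w⟩⁆ ∈ commutator (ExtModel b) :=
      Subgroup.commutator_mem_commutator (Subgroup.mem_top _) (Subgroup.mem_top _)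
    rw [h, Subgroup.mem_bot, commutatorElement_eq_one_iff_mul_comm, commute_iff] at hmem
    exact hw hmem
  refine ⟨⟨hp, le_antisymm ?_ ?_, hcomm⟩, hcardc⟩
  · intro x hx
    rw [hcen]
    refine hnd _ fun v => ?_
    by_contra hne
    let χ : ExtModel b →* Multiplicative (ZMod 2) :=
      (AddMonoidHom.toMultiplicative (b.flip v - b v).toAddMonoidHom).comp proj
    have hχ : ∀ y : ExtModel b, χ y = Multiplicative.ofAdd (b y.u v - b v y.u) := fun _ => rfl
    have hsurj : Function.Surjective χ := by
      intro t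
      by_cases ht : t = 1
      · exact ⟨1, by rw [map_one, ht]⟩
      · refine ⟨x, ?_⟩
        rw [hχ]
        exact congrArg Multiplicative.ofAdd (zmod2_eq _ t.toAdd (sub_ne_zero.2 hne) (fun h => ht (toAdd_eq_zero.1 h)))
    have hidx : χ.ker.index = 2 := by
      rw [Subgroup.index_ker, MonoidHom.range_eq_top.mpr hsurj, Subgroup.card_top,
        Nat.card_congr Multiplicative.toAdd, Nat.card_zmod]
    have hco : IsCoatom χ.ker := by
      refine ⟨fun h => by rw [h, Subgroup.index_top] at hidx; exact absurd hidx (by norm_num),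
        fun L hL => ?_⟩
      have h2 := Subgroup.relIndex_mul_index hL.le
      rw [hidx] at h2
      rcases (Nat.dvd_prime Nat.prime_two).mp ⟨_, h2.symm⟩ with h1 | h1
      · exact absurd (Subgroup.relIndex_eq_one.mp h1) hL.not_ge
      · rw [h1] at h2
        exact Subgroup.index_eq_one.mp (by omega)
    have h := frattini_le_coatom hco hx
    rw [MonoidHom.mem_ker, hχ, ofAdd_eq_one, sub_eq_zero] at h
    exact hne h
  · rw [← hcomm]; exact Cores.commutator_le_frattini

/-- The rank of elementary abelian subgroups is one more than the dimension of totally singular subspaces. -/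
theorem elemAbelian_card_iff [Finite V] (k : ℕ) :
    (∀ A : Subgroup (ExtModel b), Cfsg.IsElementaryAbelian 2 A → ∃ W : Submodule (ZMod 2) V,
      (∀ w ∈ W, b w w = 0) ∧ Nat.card A ≤ 2 * Nat.card W) ∧
    ((∃ W : Submodule (ZMod 2) V, (∀ w ∈ W, b w w = 0) ∧ Nat.card W = 2 ^ k) →
      ∃ A : Subgroup (ExtModel b), Cfsg.IsElementaryAbelian 2 A ∧ Nat.card A = 2 ^ (k + 1)) := by
  constructor
  · rintro A ⟨-, hA⟩
    let W : Submodule (ZMod 2) V :=
      { carrier := {u | ∃ c, (⟨c, u⟩ : ExtModel b) ∈ A}
        zero_mem' := ⟨0, A.one_mem⟩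
        add_mem' := fun {u v} ⟨c, hc⟩ ⟨d, hd⟩ => ⟨_, A.mul_mem hc hd⟩
        smul_mem' := fun t u hu => by
          rcases (show ∀ t : ZMod 2, t = 0 ∨ t = 1 by decide) t with rfl | rfl
          · rw [zero_smul]; exact ⟨0, A.one_mem⟩
          · rw [one_smul]; exact hu }
    refine ⟨W, fun w ⟨c, hc⟩ => (sq_eq_one_iff _).1 (hA _ hc), ?_⟩
    have h := Nat.card_le_card_of_injective (fun a : A => ((a.1.c, ⟨a.1.u, a.1.c, a.2⟩) : ZMod 2 × W))
      (fun a a' h => by
        simp only [Prod.mk.injEq, Subtype.mk.injEq] at h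
        exact Subtype.ext (ExtModel.ext h.1 h.2))
    rwa [Nat.card_prod, Nat.card_zmod] at h
  · rintro ⟨W, hW, hWk⟩
    let A : Subgroup (ExtModel b) :=
      { carrier := {x | x.u ∈ W}
        one_mem' := W.zero_mem
        mul_mem' := fun hx hy => W.add_mem hx hy
        inv_mem' := fun hx => hx }
    have hsym : ∀ u ∈ W, ∀ v ∈ W, b u v = b v u := by
      intro u hu v hv
      have h := hW _ (W.add_mem hu hv)
      simp only [map_add, LinearMap.add_apply, hW u hu, hW v hv, zero_add, add_zero] at h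
      exact ((show ∀ a c : ZMod 2, a + c = 0 → c = a by decide) _ _ h)
    refine ⟨A, ⟨⟨⟨fun x y => Subtype.ext ((commute_iff _ _).2 (hsym _ x.2 _ y.2))⟩⟩,
      fun x hx => (sq_eq_one_iff x).2 (hW _ hx)⟩, ?_⟩
    let e : A ≃ ZMod 2 × W :=
      { toFun := fun x => (x.1.c, ⟨x.1.u, x.2⟩)
        invFun := fun p => ⟨⟨p.1, p.2.1⟩, p.2.2⟩
        left_inv := fun _ => rfl
        right_inv := fun _ => rfl }
    rw [Nat.card_congr e, Nat.card_prod, Nat.card_zmod, hWk, pow_succ, mul_comm]

end ExtModel

end Cfsg.Agent.Lib.ThreeTransp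

namespace Cfsg.Agent.Lib.ThreeTransp

/-- The coordinate space of pairs. -/
abbrev Pairs (n : ℕ) : Type := Fin n → ZMod 2 × ZMod 2

/-- The cocycle: hyperbolic pairs, twisted where `m` is non-zero. -/
def pairForm {n : ℕ} (m : Fin n → ZMod 2) : LinearMap.BilinForm (ZMod 2) (Pairs n) :=
  LinearMap.mk₂ (ZMod 2)
    (fun u v => ∑ i, ((u i).1 * (v i).2 + m i * ((u i).1 * (v i).1 + (u i).2 * (v i).2)))
    (fun a c v => by
      rw [← Finset.sum_add_distrib]
      refine Finset.sum_congr rfl fun i _ => ?_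
      simp only [Pi.add_apply, Prod.fst_add, Prod.snd_add]
      ring)
    (fun t a v => by
      rw [smul_eq_mul, Finset.mul_sum]
      refine Finset.sum_congr rfl fun i _ => ?_
      simp only [Pi.smul_apply, Prod.smul_fst, Prod.smul_snd, smul_eq_mul]
      ring)
    (fun a v w => by
      rw [← Finset.sum_add_distrib]
      refine Finset.sum_congr rfl fun i _ => ?_
      simp only [Pi.add_apply, Prod.fst_add, Prod.snd_add]
      ring)
    (fun t a v => by
      rw [smul_eq_mul, Finset.mul_sum]
      refine Finset.sum_congr rfl fun i _ => ?_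
      simp only [Pi.smul_apply, Prod.smul_fst, Prod.smul_snd, smul_eq_mul]
      ring)

theorem pairForm_nondeg {n : ℕ} (m : Fin n → ZMod 2) (u : Pairs n)
    (h : ∀ v, pairForm m u v = pairForm m v u) : u = 0 := by
  have key : ∀ a c : ZMod 2, a + c * (0 + 0) = 0 + c * (0 + 0) → a = 0 := by decide
  funext i
  have h1 := h (Pi.single i (0, 1))
  have h2 := h (Pi.single i (1, 0))
  simp only [pairForm, LinearMap.mk₂_apply] at h1 h2
  rw [Finset.sum_eq_single i (fun j _ hj => by simp [Pi.single_eq_of_ne hj]) (by simp),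
    Finset.sum_eq_single i (fun j _ hj => by simp [Pi.single_eq_of_ne hj]) (by simp)] at h1 h2
  simp only [Pi.single_eq_same] at h1 h2
  rw [Pi.zero_apply]
  generalize u i = p at h1 h2 ⊢
  generalize m i = c at h1 h2
  obtain ⟨p1, p2⟩ := p
  clear h key
  revert h1 h2; revert p1 p2 c
  decide

theorem pairForm_isotropic_bound {n : ℕ} (m : Fin n → ZMod 2) (W : Submodule (ZMod 2) (Pairs n))
    (hW : ∀ w ∈ W, pairForm m w w = 0) :
    Nat.card W ≤ 2 ^ n ∧
      (Nat.card W = 2 ^ n → 0 < ∏ i, ∑ p : ZMod 2 × ZMod 2,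
        if p.1 * p.2 + m i * (p.1 * p.1 + p.2 * p.2) = 0 then (1 : ℤ) else -1) := by
  classical
  set b := pairForm m with hb
  set B : LinearMap.BilinForm (ZMod 2) (Pairs n) := b + b.flip with hB
  have hBuv : ∀ u v, B u v = b u v + b v u := fun _ _ => rfl
  have hBrefl : B.IsRefl := fun u v h => by rw [hBuv] at h ⊢; rwa [add_comm]
  have hBnd : B.Nondegenerate := by
    refine (LinearMap.IsRefl.nondegenerate_iff_separatingLeft hBrefl).2 fun u hu => pairForm_nondeg m u fun v => ?_
    exact (show ∀ a c : ZMod 2, a + c = 0 → a = c by decide) _ _ (hu v)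
  have hdim : Module.finrank (ZMod 2) (Pairs n) = 2 * n := by
    rw [Module.finrank_pi_fintype]; simp [Module.finrank_prod, Finset.card_univ, mul_comm]
  have hWperp : W ≤ B.orthogonal W := by
    intro v hv
    rw [LinearMap.BilinForm.mem_orthogonal_iff]
    intro w hw
    show B w v = 0
    have h := hW _ (W.add_mem hw hv)
    simp only [map_add, LinearMap.add_apply, hW w hw, hW v hv, zero_add, add_zero] at h
    rw [hBuv]; rw [add_comm] at h; exact h
  have horth := LinearMap.BilinForm.finrank_orthogonal hBnd W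
  have hle := Submodule.finrank_mono hWperp
  have hWn : Module.finrank (ZMod 2) W ≤ n := by omega
  have hcardW : Nat.card W = 2 ^ Module.finrank (ZMod 2) W := by
    rw [Module.natCard_eq_pow_finrank (K := ZMod 2), Nat.card_zmod]
  refine ⟨by rw [hcardW]; exact Nat.pow_le_pow_right (by norm_num) hWn, fun hWc => ?_⟩
  have hWeq : Module.finrank (ZMod 2) W = n := by
    rw [hcardW] at hWc; exact Nat.pow_right_injective le_rfl hWc
  have heq : W = B.orthogonal W := Submodule.eq_of_le_of_finrank_le hWperp (by omega)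
  let χ : ZMod 2 → ℤ := fun t => if t = 0 then 1 else -1
  have hχ : ∀ a c, χ (a + c) = χ a * χ c := by
    simp only [χ]; decide
  have hprod : ∀ v : Pairs n, χ (b v v) =
      ∏ i, χ ((v i).1 * (v i).2 + m i * ((v i).1 * (v i).1 + (v i).2 * (v i).2)) := by
    intro v
    show χ (∑ i, ((v i).1 * (v i).2 + m i * ((v i).1 * (v i).1 + (v i).2 * (v i).2))) = _
    induction (Finset.univ : Finset (Fin n)) using Finset.induction with
    | empty => simp [χ]
    | insert a s ha ih => rw [Finset.sum_insert ha, Finset.prod_insert ha, hχ, ih]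
  have hS : ∏ i, ∑ p : ZMod 2 × ZMod 2, χ (p.1 * p.2 + m i * (p.1 * p.1 + p.2 * p.2)) =
      ∑ v : Pairs n, χ (b v v) := by
    rw [Fintype.prod_sum]
    exact Finset.sum_congr rfl fun v _ => (hprod v).symm
  have havg : (Fintype.card W : ℤ) * ∑ v : Pairs n, χ (b v v) = (Fintype.card W : ℤ) * Fintype.card W := by
    have h1 : ∀ w : W, ∑ v : Pairs n, χ (b v v) = ∑ v : Pairs n, χ (b v v) * χ (B (w : Pairs n) v) := by
      intro w
      refine (Equiv.sum_comp (Equiv.addRight (w : Pairs n)) (fun v => χ (b v v))).symm.trans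
        (Finset.sum_congr rfl fun v _ => ?_)
      simp only [Equiv.coe_addRight, map_add, LinearMap.add_apply, hW _ w.2, add_zero]
      rw [← hχ, hBuv]; congr 1; abel
    have h2 : (Fintype.card W : ℤ) * ∑ v : Pairs n, χ (b v v) =
        ∑ w : W, ∑ v : Pairs n, χ (b v v) * χ (B (w : Pairs n) v) := by
      rw [← Finset.sum_congr rfl (fun w _ => h1 w), Finset.sum_const, nsmul_eq_mul, Finset.card_univ]
    rw [h2, Finset.sum_comm]
    have h3 : ∀ v : Pairs n, ∑ w : W, χ (b v v) * χ (B (w : Pairs n) v) =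
        if v ∈ W then (Fintype.card W : ℤ) else 0 := by
      intro v
      rw [← Finset.mul_sum]
      split_ifs with hv
      · rw [hW v hv]
        have : ∀ w : W, B (w : Pairs n) v = 0 := fun w =>
          LinearMap.BilinForm.mem_orthogonal_iff.1 (hWperp hv) _ w.2
        simp [this, χ]
      · obtain ⟨w0, hw0, hne⟩ : ∃ w0 ∈ W, B w0 v ≠ 0 := by
          by_contra hne
          push Not at hne
          exact hv (heq ▸ LinearMap.BilinForm.mem_orthogonal_iff.2 hne)
        have h4 := Equiv.sum_comp (Equiv.addRight (⟨w0, hw0⟩ : W)) (fun w : W => χ (B (w : Pairs n) v))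
        simp only [Equiv.coe_addRight, Submodule.coe_add, map_add, LinearMap.add_apply, hχ] at h4
        have h5 : χ (B w0 v) = -1 := if_neg hne
        simp only [h5, mul_neg, mul_one, Finset.sum_neg_distrib] at h4
        rw [show ∑ w : W, χ (B (w : Pairs n) v) = 0 by linarith, mul_zero]
    rw [Finset.sum_congr rfl (fun v _ => h3 v), Finset.sum_ite, Finset.sum_const_zero, add_zero,
      Finset.sum_const, nsmul_eq_mul, Fintype.card_subtype]
  have hpos : (0 : ℤ) < Fintype.card W := by exact_mod_cast Fintype.card_pos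
  show 0 < ∏ i, ∑ p : ZMod 2 × ZMod 2, χ _
  rw [hS, mul_left_cancel₀ hpos.ne' havg]
  exact hpos

end Cfsg.Agent.Lib.ThreeTransp
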