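import Cfsg.Agent.Lib.LocalEven2.PlusIso
import Cfsg.Agent.Lib.QuadFin.TypeTwo
import Cfsg.Agent.Lib.QuadFin.WittIndex
import Cfsg.Agent.Lib.Geometry.OrthBasic
import Cfsg.Prelude.Def_KGroupFacts
import Cfsg.Agent.S5395

/-!
Outer automorphisms of an extraspecial 2-group are the isometries of its quadratic form.
-/

set_option autoImplicit false
set_option linter.unusedSectionVars false
set_option linter.style.haveILetI false

namespace Cfsg.Agent.Lib.ThreeTransp.ExtraOut

open Cfsg.Agent.Lib.LocalEven2.PlusModel (sig sig_eq_zero sig_one sig_mul center_cases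
  commutator_mem comm_inv sq_mul sq_mem_center commutator_mul_left)
open scoped commutatorElement
open Matrix

/-- Coordinates for the quotient of an extraspecial 2-group by its centre. -/
theorem exists_coords {E : Type*} [Group E] [Finite E] {n : ℕ} (hE : Cfsg.IsExtraspecial 2 E)
    (hn : 1 ≤ n) (hcard : Nat.card E = 2 ^ (2 * n + 1)) :
    (∃ π : E → (Fin n ⊕ Fin n → ZMod 2), (∀ a b, π (a * b) = π a + π b) ∧
      (∀ a, π a = 0 ↔ a ∈ Subgroup.center E) ∧ Function.Surjective π ∧
      ∀ a, Cfsg.quadFormPlus n (ZMod 2) (π a) = sig (a * a)) ∨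
    (∃ π : E → ((Fin (n - 1) ⊕ Fin (n - 1)) ⊕ Fin 2 → ZMod 2), (∀ a b, π (a * b) = π a + π b) ∧
      (∀ a, π a = 0 ↔ a ∈ Subgroup.center E) ∧ Function.Surjective π ∧
      ∀ a, Cfsg.quadFormMinus (n - 1) (ZMod 2) 1 1 (π a) = sig (a * a)) := by
  classical
  obtain ⟨z, hz1, hzz, hzc, hall⟩ := center_cases hE
  letI : CommGroup (E ⧸ Subgroup.center E) :=
    { (inferInstance : Group (E ⧸ Subgroup.center E)) with
      mul_comm := fun x y => by
        obtain ⟨a, rfl⟩ := QuotientGroup.mk_surjective x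
        obtain ⟨b, rfl⟩ := QuotientGroup.mk_surjective y
        rw [← QuotientGroup.mk_mul, ← QuotientGroup.mk_mul, QuotientGroup.eq]
        have : (a * b)⁻¹ * (b * a) = ⁅b⁻¹, a⁻¹⁆ := by simp only [commutatorElement_def]; group
        rw [this]
        exact commutator_mem hE _ _ }
  let U := Additive (E ⧸ Subgroup.center E)
  let π : E → U := fun a => Additive.ofMul (QuotientGroup.mk a)
  have hπm : ∀ a b, π (a * b) = π a + π b := fun a b => rfl
  have hπ0 : ∀ a, π a = 0 ↔ a ∈ Subgroup.center E := fun a => by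
    show (QuotientGroup.mk a : E ⧸ Subgroup.center E) = 1 ↔ _
    rw [QuotientGroup.eq_one_iff]
  have hπ1 : π 1 = 0 := (hπ0 1).mpr (one_mem _)
  have hπs : Function.Surjective π := fun u => by
    obtain ⟨a, ha⟩ := QuotientGroup.mk_surjective (Additive.toMul u)
    exact ⟨a, by simp only [π, ha]; rfl⟩
  letI : Module (ZMod 2) U := AddCommGroup.zmodModule fun u => by
    obtain ⟨a, rfl⟩ := hπs u
    rw [two_nsmul, ← hπm, hπ0]
    exact sq_mem_center hE a
  haveI : Finite U := Finite.of_surjective π hπs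
  haveI : Module.Finite (ZMod 2) U := Module.Finite.of_finite
  let lift : U → E := fun u => (hπs u).choose
  have hlift : ∀ u, π (lift u) = u := fun u => (hπs u).choose_spec
  have hsame : ∀ a b : E, π a = π b → ∃ c ∈ Subgroup.center E, b = a * c := fun a b h =>
    ⟨a⁻¹ * b, QuotientGroup.eq.1 (Additive.ofMul.injective h), by group⟩
  let qf : U → ZMod 2 := fun u => sig (lift u * lift u)
  have hqf : ∀ a, qf (π a) = sig (a * a) := by
    intro a
    obtain ⟨c, hc, hca⟩ := hsame a (lift (π a)) (hlift _).symm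
    show sig (lift (π a) * lift (π a)) = _
    rw [hca, show a * c * (a * c) = a * a * (c * c) from by
      calc a * c * (a * c) = a * (c * a) * c := by group
        _ = a * (a * c) * c := by rw [Subgroup.mem_center_iff.1 hc a]
        _ = _ := by group]
    rcases hall c hc with rfl | rfl <;> simp [hzz]
  let Bf : U → U → ZMod 2 := fun u v => sig ⁅lift u, lift v⁆
  have hBcomm : ∀ a b : E, sig ⁅b, a⁆ = sig ⁅a, b⁆ := fun a b => by rw [comm_inv hE]
  have hBl : ∀ a a' b : E, sig ⁅a * a', b⁆ = sig ⁅a, b⁆ + sig ⁅a', b⁆ := fun a a' b => by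
    rw [commutator_mul_left hE, sig_mul hE (commutator_mem hE a b) (commutator_mem hE a' b)]
  have hBc : ∀ a b c : E, c ∈ Subgroup.center E → sig ⁅a * c, b⁆ = sig ⁅a, b⁆ := by
    intro a b c hc
    rw [hBl, show sig ⁅c, b⁆ = 0 from sig_eq_zero.mpr (commutatorElement_eq_one_iff_mul_comm.mpr
      (Subgroup.mem_center_iff.1 hc b).symm), add_zero]
  have hBf : ∀ a b, Bf (π a) (π b) = sig ⁅a, b⁆ := by
    intro a b
    obtain ⟨c, hc, hca⟩ := hsame a (lift (π a)) (hlift _).symm
    obtain ⟨d, hd, hdb⟩ := hsame b (lift (π b)) (hlift _).symm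
    show sig ⁅lift (π a), lift (π b)⁆ = _
    rw [hca, hdb, hBc _ _ _ hc, hBcomm, hBc _ _ _ hd, hBcomm]
  have hBadd : ∀ u u' v, Bf (u + u') v = Bf u v + Bf u' v := by
    intro u u' v
    obtain ⟨a, rfl⟩ := hπs u
    obtain ⟨a', rfl⟩ := hπs u'
    obtain ⟨b, rfl⟩ := hπs v
    rw [← hπm, hBf, hBf, hBf, hBl]
  have hBsym : ∀ u v, Bf u v = Bf v u := fun u v => hBcomm _ _
  have hqadd : ∀ u v, qf (u + v) = qf u + qf v + Bf u v := by
    intro u v
    obtain ⟨a, rfl⟩ := hπs u
    obtain ⟨b, rfl⟩ := hπs v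
    rw [← hπm, hqf, hqf, hqf, hBf, sq_mul hE,
      sig_mul hE (mul_mem (sq_mem_center hE a) (sq_mem_center hE b)) (commutator_mem hE b a),
      sig_mul hE (sq_mem_center hE a) (sq_mem_center hE b), hBcomm]
  have hqf0 : qf 0 = 0 := by rw [← hπ1, hqf, mul_one, sig_one]
  let B : LinearMap.BilinForm (ZMod 2) U :=
    AddMonoidHom.toZModLinearMap 2 (AddMonoidHom.mk'
      (fun u => AddMonoidHom.toZModLinearMap 2 (AddMonoidHom.mk' (Bf u) fun v v' => by
        rw [hBsym, hBadd, hBsym v u, hBsym v' u]))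
      fun u u' => LinearMap.ext fun v => hBadd u u' v)
  have hB : ∀ u v, B u v = Bf u v := fun _ _ => rfl
  let q : QuadraticForm (ZMod 2) U :=
    { toFun := qf
      toFun_smul := fun a u => by
        rcases (by decide : ∀ a : ZMod 2, a = 0 ∨ a = 1) a with rfl | rfl
        · simp [hqf0]
        · simp
      exists_companion' := ⟨B, fun u v => by rw [hqadd, hB]⟩ }
  have hq : ∀ u, q u = qf u := fun _ => rfl
  have hpol : ∀ u v, QuadraticMap.polarBilin q u v = Bf u v := fun u v => by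
    rw [QuadraticMap.polarBilin_apply_apply, QuadraticMap.polar, hq, hq, hq, hqadd]
    ring
  have hnd : (QuadraticMap.polarBilin q).Nondegenerate := by
    have hsep : ∀ u, (∀ v, QuadraticMap.polarBilin q u v = 0) → u = 0 := by
      intro u hu
      obtain ⟨a, rfl⟩ := hπs u
      refine (hπ0 a).mpr (Subgroup.mem_center_iff.mpr fun b => ?_)
      have h := hu (π b)
      rw [hpol, hBf, sig_eq_zero, commutatorElement_eq_one_iff_mul_comm] at h
      exact h.symm
    refine ⟨hsep, fun v hv => hsep v fun u => ?_⟩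
    have := hv u
    rwa [hpol, hBsym, ← hpol] at this
  have hcardU : Nat.card U = 2 ^ (2 * n) := by
    have h := Subgroup.card_eq_card_quotient_mul_card_subgroup (Subgroup.center E)
    rw [hcard, hE.2, pow_succ] at h
    exact (Nat.eq_of_mul_eq_mul_right two_pos h).symm
  have hfin : Module.finrank (ZMod 2) U = 2 * n := by
    rw [Module.natCard_eq_pow_finrank (K := ZMod 2), Nat.card_zmod] at hcardU
    exact Nat.pow_right_injective le_rfl hcardU
  rcases Cfsg.Agent.Lib.QuadFin.plus_or_minus_two q hnd hn hfin with ⟨e, he⟩ | ⟨e, he⟩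
  · refine Or.inl ⟨fun a => e (π a), fun a b => ?_, fun a => ?_, ?_, fun a => ?_⟩
    · show e (π (a * b)) = _
      rw [hπm, map_add]
    · rw [LinearEquiv.map_eq_zero_iff, hπ0]
    · exact e.surjective.comp hπs
    · rw [← he, hq, hqf]
  · refine Or.inr ⟨fun a => e (π a), fun a b => ?_, fun a => ?_, ?_, fun a => ?_⟩
    · show e (π (a * b)) = _
      rw [hπm, map_add]
    · rw [LinearEquiv.map_eq_zero_iff, hπ0]
    · exact e.surjective.comp hπs
    · rw [← he, hq, hqf]

section Coords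

variable {E : Type*} [Group E] [Finite E] {ι : Type} [Fintype ι] [DecidableEq ι]
  (π : E → ι → ZMod 2)

/-- The coordinates agree exactly on cosets of the centre. -/
theorem coords_eq_iff (hm : ∀ a b, π (a * b) = π a + π b)
    (h0 : ∀ a, π a = 0 ↔ a ∈ Subgroup.center E) (a b : E) :
    π a = π b ↔ a⁻¹ * b ∈ Subgroup.center E := by
  have h := hm a (a⁻¹ * b)
  rw [mul_inv_cancel_left] at h
  rw [← h0, h]
  exact ⟨fun h' => by simpa using h', fun h' => by simp [h']⟩

/-- Every isometry of the form comes from an automorphism. -/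
theorem exists_lift (hE : Cfsg.IsExtraspecial 2 E) (f : (ι → ZMod 2) → ZMod 2)
    (hm : ∀ a b, π (a * b) = π a + π b)
    (h0 : ∀ a, π a = 0 ↔ a ∈ Subgroup.center E) (hs : Function.Surjective π)
    (hf : ∀ a, f (π a) = sig (a * a))
    (g : (ι → ZMod 2) →+ (ι → ZMod 2)) (hg : Function.Injective g) (hgf : ∀ u, f (g u) = f u) :
    ∃ α : MulAut E, ∀ x, π (α x) = g (π x) := by
  classical
  obtain ⟨z, hz1, hzz, hzc, hall⟩ := center_cases hE
  have hπ1 : π 1 = 0 := (h0 1).mpr (one_mem _)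
  let P : Subgroup (E × E) :=
    { carrier := {p | π p.2 = g (π p.1)}
      one_mem' := by simp [hπ1]
      mul_mem' := fun {p q} hp hq => by
        show π (p.2 * q.2) = g (π (p.1 * q.1))
        rw [hm, hm, map_add, hp, hq]
      inv_mem' := fun {p} hp => by
        show π p.2⁻¹ = g (π p.1⁻¹)
        have e1 := hm p.2 p.2⁻¹
        have e2 := hm p.1 p.1⁻¹
        rw [mul_inv_cancel, hπ1] at e1 e2
        rw [eq_neg_of_add_eq_zero_right e1.symm, eq_neg_of_add_eq_zero_right e2.symm, map_neg, hp] }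
  have hsq : ∀ p : P, p.1.1 * p.1.1 = p.1.2 * p.1.2 := by
    intro p
    have hp : π p.1.2 = g (π p.1.1) := p.2
    have h : sig (p.1.2 * p.1.2) = sig (p.1.1 * p.1.1) := by rw [← hf, ← hf, hp, hgf]
    rcases hall _ (sq_mem_center hE p.1.1) with ha | ha <;>
      rcases hall _ (sq_mem_center hE p.1.2) with hb | hb <;>
      rw [ha, hb] at h ⊢ <;> simp [sig, hz1] at h ⊢
  let N : Subgroup P :=
    { carrier := {p | p.1.1 = p.1.2 ∧ p.1.1 ∈ Subgroup.center E}
      one_mem' := ⟨rfl, one_mem _⟩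
      mul_mem' := fun {p q} hp hq =>
        ⟨show p.1.1 * q.1.1 = p.1.2 * q.1.2 by rw [hp.1, hq.1], mul_mem hp.2 hq.2⟩
      inv_mem' := fun {p} hp => ⟨show p.1.1⁻¹ = p.1.2⁻¹ by rw [hp.1], inv_mem hp.2⟩ }
  have hNmem : ∀ p : P, p ∈ N ↔ p.1.1 = p.1.2 ∧ p.1.1 ∈ Subgroup.center E := fun _ => Iff.rfl
  haveI : N.Normal := ⟨fun p hp q => by
    have hp2 : p.1.2 ∈ Subgroup.center E := hp.1 ▸ hp.2
    refine (hNmem _).2 ?_
    show q.1.1 * p.1.1 * q.1.1⁻¹ = q.1.2 * p.1.2 * q.1.2⁻¹ ∧
      q.1.1 * p.1.1 * q.1.1⁻¹ ∈ Subgroup.center E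
    rw [Subgroup.mem_center_iff.1 hp.2 q.1.1, Subgroup.mem_center_iff.1 hp2 q.1.2,
      mul_inv_cancel_right, mul_inv_cancel_right]
    exact hp⟩
  have hNsq : ∀ x : P ⧸ N, x * x = 1 := fun x => by
    obtain ⟨p, rfl⟩ := QuotientGroup.mk_surjective x
    rw [← QuotientGroup.mk_mul, QuotientGroup.eq_one_iff, hNmem]
    exact ⟨hsq p, sq_mem_center hE p.1.1⟩
  letI : CommGroup (P ⧸ N) :=
    { (inferInstance : Group (P ⧸ N)) with
      mul_comm := fun a b => by
        calc a * b = (a * b)⁻¹ := (inv_eq_of_mul_eq_one_right (hNsq _)).symm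
          _ = _ := by rw [_root_.mul_inv_rev, inv_eq_of_mul_eq_one_right (hNsq a),
            inv_eq_of_mul_eq_one_right (hNsq b)] }
  letI : Module (ZMod 2) (Additive (P ⧸ N)) := AddCommGroup.zmodModule fun u => by
    rw [two_nsmul]; exact hNsq (Additive.toMul u)
  have hw : ((1, z) : E × E) ∈ P := by
    show π z = g (π 1)
    rw [hπ1, map_zero, h0]; exact hzc
  let w : P := ⟨(1, z), hw⟩
  obtain ⟨φ, hφ⟩ : ∃ φ : Module.Dual (ZMod 2) (Additive (P ⧸ N)),
      φ (Additive.ofMul (QuotientGroup.mk w)) ≠ 0 := by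
    by_contra hne
    push Not at hne
    have h := (Module.forall_dual_apply_eq_zero_iff (ZMod 2) _).1 hne
    have h' : (QuotientGroup.mk w : P ⧸ N) = 1 := h
    rw [QuotientGroup.eq_one_iff, hNmem] at h'
    exact hz1 h'.1.symm
  let ψ : P → ZMod 2 := fun p => φ (Additive.ofMul (QuotientGroup.mk p))
  have hψm : ∀ p q, ψ (p * q) = ψ p + ψ q := fun p q => by
    show φ (Additive.ofMul (QuotientGroup.mk p * QuotientGroup.mk q)) = _
    rw [ofMul_mul, map_add]
  have hψN : ∀ p : P, p ∈ N → ψ p = 0 := fun p hp => by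
    show φ (Additive.ofMul (QuotientGroup.mk p)) = 0
    rw [(QuotientGroup.eq_one_iff p).2 hp, ofMul_one, map_zero]
  have hψw : ψ w = 1 := by
    rcases (by decide : ∀ a : ZMod 2, a = 0 ∨ a = 1) (ψ w) with h | h
    · exact absurd h hφ
    · exact h
  have hex : ∀ x : E, ∃ y : E, ∃ h : π y = g (π x), ψ ⟨(x, y), h⟩ = 0 := by
    intro x
    obtain ⟨y, hy⟩ := hs (g (π x))
    by_cases hp : ψ ⟨(x, y), hy⟩ = 0
    · exact ⟨y, hy, hp⟩
    · have hy' : π (y * z) = g (π x) := by rw [hm, (h0 z).2 hzc, add_zero, hy]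
      refine ⟨y * z, hy', ?_⟩
      have he : (⟨(x, y * z), hy'⟩ : P) = (⟨(x, y), hy⟩ : P) * w :=
        Subtype.ext (Prod.ext (mul_one x).symm rfl)
      rw [he, hψm, hψw]
      rcases (by decide : ∀ a : ZMod 2, a = 0 ∨ a = 1) (ψ ⟨(x, y), hy⟩) with h | h
      · exact absurd h hp
      · rw [h]; rfl
  choose F hF hFψ using hex
  have huniq : ∀ (x y : E) (h : π y = g (π x)), ψ ⟨(x, y), h⟩ = 0 → y = F x := by
    intro x y h hy
    have hc : (F x)⁻¹ * y ∈ Subgroup.center E :=
      (coords_eq_iff π hm h0 _ _).1 (by rw [hF, h])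
    rcases hall _ hc with h' | h'
    · exact (inv_mul_eq_one.1 h').symm
    · have he : (⟨(x, y), h⟩ : P) = (⟨(x, F x), hF x⟩ : P) * w :=
        Subtype.ext (Prod.ext (mul_one x).symm (by
          show y = F x * z
          rw [← h', mul_inv_cancel_left]))
      rw [he, hψm, hψw, hFψ] at hy
      simp at hy
  let αh : E →* E := MonoidHom.mk' F fun a b => by
    refine (huniq (a * b) (F a * F b) (by rw [hm, hm, map_add, hF, hF]) ?_).symm
    have he := hψm ⟨(a, F a), hF a⟩ ⟨(b, F b), hF b⟩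
    rw [hFψ, hFψ, add_zero] at he
    exact he
  have hinj : Function.Injective αh := by
    rw [injective_iff_map_eq_one]
    intro x hx
    have hx' : F x = 1 := hx
    have hc : x ∈ Subgroup.center E := by
      rw [← h0]
      have h := hF x
      rw [hx', hπ1, ← map_zero g] at h
      exact (hg h).symm
    rcases hall x hc with rfl | rfl
    · rfl
    · have hz' : π x = g (π x) := by rw [(h0 x).2 hzc, map_zero]
      have hN : (⟨(x, x), hz'⟩ : P) ∈ N := ⟨rfl, hzc⟩
      exact absurd ((huniq x x hz' (hψN _ hN)).trans hx') hz1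
  exact ⟨MulEquiv.ofBijective αh ⟨hinj, Finite.surjective_of_injective hinj⟩, fun x => hF x⟩

/-- The outer automorphism group is the isometry group of the form. -/
theorem out_iso (hE : Cfsg.IsExtraspecial 2 E) (f : (ι → ZMod 2) → ZMod 2)
    (hm : ∀ a b, π (a * b) = π a + π b)
    (h0 : ∀ a, π a = 0 ↔ a ∈ Subgroup.center E) (hs : Function.Surjective π)
    (hf : ∀ a, f (π a) = sig (a * a)) :
    Nonempty (Cfsg.Out E ≃* Cfsg.isometryGroup (ZMod 2) f) := by
  classical
  let lift : (ι → ZMod 2) → E := fun u => (hs u).choose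
  have hlift : ∀ u, π (lift u) = u := fun u => (hs u).choose_spec
  have hkey : ∀ (α : MulAut E) (a b : E), π a = π b → π (α a) = π (α b) := by
    intro α a b h
    rw [coords_eq_iff π hm h0] at h ⊢
    rw [← map_inv, ← map_mul, ← h0]
    obtain ⟨z, -, -, -, -⟩ := center_cases hE
    rw [h0]
    rw [Subgroup.mem_center_iff] at h ⊢
    intro y
    obtain ⟨x, rfl⟩ := α.surjective y
    rw [← map_mul, ← map_mul, h x]
  let L : MulAut E → ((ι → ZMod 2) →+ (ι → ZMod 2)) := fun α =>
    AddMonoidHom.mk' (fun u => π (α (lift u))) fun u v => by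
      rw [← hm, ← map_mul]
      exact hkey α _ _ (by rw [hm, hlift, hlift, hlift])
  have hL : ∀ α x, L α (π x) = π (α x) := fun α x => hkey α _ _ (hlift _)
  let Mt : MulAut E → Matrix ι ι (ZMod 2) := fun α =>
    LinearMap.toMatrix' (AddMonoidHom.toZModLinearMap 2 (L α))
  have hMt : ∀ α x, Mt α *ᵥ π x = π (α x) := fun α x => by
    show LinearMap.toMatrix' (AddMonoidHom.toZModLinearMap 2 (L α)) *ᵥ π x = _
    rw [LinearMap.toMatrix'_mulVec]
    exact hL α x
  have hmat : ∀ {M M' : Matrix ι ι (ZMod 2)}, (∀ x, M *ᵥ π x = M' *ᵥ π x) → M = M' := by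
    intro M M' h
    apply Matrix.toLin'.injective
    refine LinearMap.ext fun u => ?_
    obtain ⟨x, rfl⟩ := hs u
    simpa [Matrix.toLin'_apply] using h x
  let MH : MulAut E →* Matrix ι ι (ZMod 2) :=
    { toFun := Mt
      map_one' := hmat fun x => by rw [hMt, Matrix.one_mulVec]; rfl
      map_mul' := fun α β => hmat fun x => by
        rw [hMt, ← Matrix.mulVec_mulVec, hMt, hMt]; rfl }
  let Θ : MulAut E →* Cfsg.isometryGroup (ZMod 2) f :=
    MH.toHomUnits.codRestrict _ fun α => by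
      rw [Cfsg.Agent.Lib.Geometry.mem_isometryGroup_iff]
      intro u
      obtain ⟨x, rfl⟩ := hs u
      show f (Mt α *ᵥ π x) = f (π x)
      rw [hMt, hf, hf, ← map_mul]
      obtain ⟨z, hz1, -, -, hall⟩ := center_cases hE
      rcases hall _ (sq_mem_center hE x) with h | h <;> rw [h]
      · rw [map_one]
      · rw [(sig_eq_zero (a := z)).not.mpr hz1 |> fun h' =>
          ((by decide : ∀ a : ZMod 2, a = 0 ∨ a = 1) (sig z)).resolve_left h']
        refine ((by decide : ∀ a : ZMod 2, a = 0 ∨ a = 1) _).resolve_left ?_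
        rw [sig_eq_zero, MulEquiv.map_eq_one_iff]
        exact hz1
  have hker : Θ.ker = Cfsg.Inn E := by
    ext α
    constructor
    · intro hα
      have h1 : ∀ x, π (α x) = π x := fun x => by
        have h := congrArg (fun g : Cfsg.isometryGroup (ZMod 2) f =>
          ((g : Matrix.GeneralLinearGroup ι (ZMod 2)) : Matrix ι ι (ZMod 2)) *ᵥ π x) hα
        simpa [Θ, MH, hMt] using h
      obtain ⟨g, hg⟩ := Cfsg.Agent.S5395.result hE α fun x => by
        have h := (coords_eq_iff π hm h0 _ _).1 (h1 x).symm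
        have h' := (inferInstance : (Subgroup.center E).Normal).conj_mem _ h x
        simpa [mul_assoc] using h'
      exact ⟨g, MulEquiv.ext fun x => (hg x).symm⟩
    · rintro ⟨g, rfl⟩
      refine Subtype.ext (Units.ext (hmat fun x => ?_))
      show Mt (MulAut.conj g) *ᵥ π x = (1 : Matrix ι ι (ZMod 2)) *ᵥ π x
      rw [hMt, Matrix.one_mulVec, MulAut.conj_apply, hm, hm]
      have h := hm g g⁻¹
      rw [mul_inv_cancel, (h0 1).2 (one_mem _)] at h
      rw [add_right_comm, ← h, zero_add]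
  have hsurj : Function.Surjective Θ := by
    rintro ⟨g, hg⟩
    rw [Cfsg.Agent.Lib.Geometry.mem_isometryGroup_iff] at hg
    obtain ⟨α, hα⟩ := exists_lift π hE f hm h0 hs hf
      (AddMonoidHom.mk' (fun u => (g : Matrix ι ι (ZMod 2)) *ᵥ u) fun u v => Matrix.mulVec_add _ u v)
      (Matrix.mulVec_injective_of_isUnit g.isUnit) hg
    refine ⟨α, Subtype.ext (Units.ext (hmat fun x => ?_))⟩
    show Mt α *ᵥ π x = _
    rw [hMt, hα]
    rfl
  exact ⟨(QuotientGroup.quotientMulEquivOfEq hker.symm).trans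
    (QuotientGroup.quotientKerEquivOfSurjective Θ hsurj)⟩

end Coords

/-- The coordinates of plus type give an elementary abelian subgroup of order `2 ^ (n + 1)`. -/
theorem exists_elem_plus {E : Type*} [Group E] [Finite E] {n : ℕ} (hE : Cfsg.IsExtraspecial 2 E)
    (π : E → (Fin n ⊕ Fin n → ZMod 2)) (hm : ∀ a b, π (a * b) = π a + π b)
    (h0 : ∀ a, π a = 0 ↔ a ∈ Subgroup.center E) (hs : Function.Surjective π)
    (hf : ∀ a, Cfsg.quadFormPlus n (ZMod 2) (π a) = sig (a * a)) :
    ∃ A : Subgroup E, Cfsg.IsElementaryAbelian 2 A ∧ Nat.card ↥A = 2 ^ (n + 1) := by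
  classical
  let R : E →* Multiplicative (Fin n → ZMod 2) :=
    MonoidHom.mk' (fun a => Multiplicative.ofAdd fun i => π a (Sum.inr i)) fun a b => by
      rw [← ofAdd_add]
      exact congrArg _ (funext fun i => congrFun (hm a b) (Sum.inr i))
  have hmem : ∀ a, a ∈ R.ker ↔ ∀ i, π a (Sum.inr i) = 0 := fun a =>
    ⟨fun h i => congrFun (Multiplicative.ofAdd.injective (h : R a = 1)) i,
      fun h => show R a = 1 from congrArg Multiplicative.ofAdd (funext h)⟩
  have hsq : ∀ a ∈ R.ker, a * a = 1 := fun a ha => by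
    refine sig_eq_zero.1 ?_
    rw [← hf]
    simp [Cfsg.quadFormPlus, (hmem a).1 ha]
  refine ⟨R.ker, ⟨⟨⟨fun a b => Subtype.ext ?_⟩⟩, fun a ha => by rw [pow_two]; exact hsq a ha⟩, ?_⟩
  · show (a : E) * b = b * a
    calc (a : E) * b = ((a : E) * b)⁻¹ :=
          (inv_eq_of_mul_eq_one_right (hsq _ (mul_mem a.2 b.2))).symm
      _ = _ := by rw [_root_.mul_inv_rev, inv_eq_of_mul_eq_one_right (hsq _ a.2),
        inv_eq_of_mul_eq_one_right (hsq _ b.2)]
  · have hRs : Function.Surjective R := fun v => by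
      obtain ⟨a, ha⟩ := hs (Sum.elim 0 (Multiplicative.toAdd v))
      exact ⟨a, congrArg Multiplicative.ofAdd (funext fun i => by rw [ha]; rfl)⟩
    have hcE : Nat.card E = 2 * 2 ^ (n + n) := by
      let T : E →* Multiplicative (Fin n ⊕ Fin n → ZMod 2) :=
        MonoidHom.mk' (fun a => Multiplicative.ofAdd (π a)) fun a b => by rw [hm, ofAdd_add]
      have hT : T.ker = Subgroup.center E := by
        ext a; rw [← h0]; exact Iff.rfl
      have h := Subgroup.card_eq_card_quotient_mul_card_subgroup T.ker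
      rw [Nat.card_congr (QuotientGroup.quotientKerEquivOfSurjective T
        (fun v => hs v)).toEquiv, hT, hE.2] at h
      rw [h, mul_comm]
      simp
    have h := Subgroup.card_eq_card_quotient_mul_card_subgroup R.ker
    rw [Nat.card_congr (QuotientGroup.quotientKerEquivOfSurjective R hRs).toEquiv, hcE,
      Nat.card_congr Multiplicative.toAdd] at h
    simp only [Nat.card_eq_fintype_card, Fintype.card_fun, ZMod.card, Fintype.card_fin] at h
    rw [pow_add, ← mul_assoc] at h
    have h2 : 2 ^ n * Nat.card R.ker = 2 ^ n * 2 ^ (n + 1) := by rw [← h, pow_succ]; ring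
    exact Nat.eq_of_mul_eq_mul_left (Nat.two_pow_pos n) h2

/-- The coordinates of minus type admit no elementary abelian subgroup of order `2 ^ (n + 1)`. -/
theorem no_elem_minus {E : Type*} [Group E] [Finite E] {n : ℕ} (hE : Cfsg.IsExtraspecial 2 E)
    (hn : 1 ≤ n)
    (π : E → ((Fin (n - 1) ⊕ Fin (n - 1)) ⊕ Fin 2 → ZMod 2)) (hm : ∀ a b, π (a * b) = π a + π b)
    (h0 : ∀ a, π a = 0 ↔ a ∈ Subgroup.center E)
    (hf : ∀ a, Cfsg.quadFormMinus (n - 1) (ZMod 2) 1 1 (π a) = sig (a * a)) :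
    ¬ ∃ A : Subgroup E, Cfsg.IsElementaryAbelian 2 A ∧ Nat.card ↥A = 2 ^ (n + 1) := by
  classical
  rintro ⟨A, hA, hAc⟩
  let W : AddSubgroup ((Fin (n - 1) ⊕ Fin (n - 1)) ⊕ Fin 2 → ZMod 2) :=
    { carrier := π '' A
      add_mem' := by
        rintro _ _ ⟨a, ha, rfl⟩ ⟨b, hb, rfl⟩
        exact ⟨a * b, mul_mem ha hb, hm a b⟩
      zero_mem' := ⟨1, one_mem _, (h0 1).2 (one_mem _)⟩
      neg_mem' := by
        rintro _ ⟨a, ha, rfl⟩
        refine ⟨a⁻¹, inv_mem ha, ?_⟩
        have e := hm a a⁻¹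
        rw [mul_inv_cancel, (h0 1).2 (one_mem _)] at e
        exact eq_neg_of_add_eq_zero_right e.symm }
  have hW := Cfsg.Agent.Lib.QuadFin.finrank_singular_minus_le (m := n - 1) (1 : ZMod 2) 1
    (by decide) (AddSubgroup.toZModSubmodule 2 W) fun u hu => by
      obtain ⟨a, ha, rfl⟩ := hu
      rw [hf, sig_eq_zero, ← pow_two]
      exact hA.2 a ha
  let T : A →* Multiplicative W :=
    MonoidHom.mk' (fun a => Multiplicative.ofAdd (⟨π a, a, a.2, rfl⟩ : W)) fun a b => by
      rw [← ofAdd_add]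
      exact congrArg _ (Subtype.ext (hm a b))
  have hTs : Function.Surjective T := fun v => by
    obtain ⟨a, ha, h⟩ := (Multiplicative.toAdd v).2
    exact ⟨⟨a, ha⟩, congrArg Multiplicative.ofAdd (Subtype.ext h)⟩
  have hker : Nat.card T.ker ≤ 2 :=
    le_trans (Nat.card_le_card_of_injective (fun a => (⟨((a : A) : E), (h0 _).mp
      (congrArg Subtype.val (Multiplicative.ofAdd.injective (a.2 : T a = 1)))⟩ : Subgroup.center E))
      fun a b h => Subtype.ext (Subtype.ext (Subtype.mk.inj h))) hE.2.le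
  have h := Subgroup.card_eq_card_quotient_mul_card_subgroup T.ker
  rw [Nat.card_congr (QuotientGroup.quotientKerEquivOfSurjective T hTs).toEquiv, hAc,
    Nat.card_congr Multiplicative.toAdd] at h
  have hWc : Nat.card W = 2 ^ Module.finrank (ZMod 2) (AddSubgroup.toZModSubmodule 2 W) := by
    have := Module.natCard_eq_pow_finrank (K := ZMod 2) (V := AddSubgroup.toZModSubmodule 2 W)
    rwa [Nat.card_zmod] at this
  have h3 : 2 ^ (n + 1) ≤ 2 ^ (n - 1 + 1) := by
    rw [h, pow_succ, hWc]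
    exact Nat.mul_le_mul (Nat.pow_le_pow_right two_pos hW) hker
  have := (Nat.pow_le_pow_iff_right Nat.one_lt_two).mp h3
  omega

end Cfsg.Agent.Lib.ThreeTransp.ExtraOut
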