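import Cfsg.Agent.Lib.Classification.Extraspecial
import Cfsg.Agent.Lib.Cores.Frattini

/-!
Subgroups of an extraspecial 2-group with the same centre are extraspecial.
-/

set_option autoImplicit false

namespace Cfsg.Agent.Lib.ThreeTransp

open Cfsg.Agent.Lib.Classification
open scoped commutatorElement

variable {G : Type*} [Group G] [Finite G]

theorem isExtraspecial_of_subgroup {Q : Subgroup G} {z : G} (hD : TwoExtraData Q z)
    (hp : IsPGroup 2 ↥Q) {P : Subgroup G} (hPQ : P ≤ Q) (hzP : z ∈ P)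
    (hcen : ∀ c ∈ P, (∀ q ∈ P, c * q = q * c) → c = 1 ∨ c = z)
    (hna : ∃ a ∈ P, ∃ b ∈ P, a * b ≠ b * a) : Cfsg.IsExtraspecial 2 ↥P := by
  haveI : Fact (Nat.Prime 2) := ⟨Nat.prime_two⟩
  have hpP : IsPGroup 2 ↥P := hp.to_le hPQ
  haveI : Group.IsNilpotent ↥P := hpP.isNilpotent
  have hz : (⟨z, hzP⟩ : P) ∈ Subgroup.center P :=
    Subgroup.mem_center_iff.2 fun q => Subtype.ext (hD.central q (hPQ q.2)).symm
  have hc : ∀ c : P, c ∈ Subgroup.center P → c = 1 ∨ c = ⟨z, hzP⟩ := by
    intro c hcm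
    rcases hcen c c.2 (fun q hq => (congrArg Subtype.val (Subgroup.mem_center_iff.1 hcm ⟨q, hq⟩)).symm)
      with e | e
    · exact Or.inl (Subtype.ext e)
    · exact Or.inr (Subtype.ext e)
  have hcomm : ∀ a b : P, ⁅a, b⁆ = 1 ∨ ⁅a, b⁆ = ⟨z, hzP⟩ := by
    intro a b
    rcases hD.comm a (hPQ a.2) b (hPQ b.2) with e | e
    · exact Or.inl (Subtype.ext e)
    · exact Or.inr (Subtype.ext e)
  have hcm : ∀ a b : P, ⁅a, b⁆ ∈ Subgroup.center P := fun a b => by
    rcases hcomm a b with e | e <;> rw [e]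
    · exact one_mem _
    · exact hz
  have hcard : Nat.card (Subgroup.center P) = 2 := by
    rw [Nat.card_eq_two_iff' (1 : Subgroup.center P)]
    refine ⟨⟨_, hz⟩, fun e => hD.ne (congrArg (fun x : Subgroup.center P => ((x : P) : G)) e), ?_⟩
    rintro ⟨c, hcm'⟩ hne
    rcases hc c hcm' with rfl | rfl
    · exact absurd rfl hne
    · rfl
  have hle : commutator P ≤ Subgroup.center P := by
    rw [_root_.commutator_def, Subgroup.commutator_le]
    exact fun a _ b _ => hcm a b
  have heq : commutator P = Subgroup.center P := by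
    refine Subgroup.eq_of_le_of_card_ge hle ?_
    rw [hcard]
    refine Nat.succ_le_of_lt ((Subgroup.one_lt_card_iff_ne_bot _).mpr fun h => ?_)
    obtain ⟨a, ha, b, hb, hne⟩ := hna
    have hmem : ⁅(⟨a, ha⟩ : P), ⟨b, hb⟩⁆ ∈ commutator P :=
      Subgroup.commutator_mem_commutator (Subgroup.mem_top _) (Subgroup.mem_top _)
    rw [h, Subgroup.mem_bot, commutatorElement_eq_one_iff_mul_comm] at hmem
    exact hne (congrArg Subtype.val hmem)
  refine ⟨⟨hpP, le_antisymm (fun x hx => ?_) (heq ▸ Cores.commutator_le_frattini), heq⟩, hcard⟩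
  refine Subgroup.mem_center_iff.2 fun y => ?_
  let χ : P →* Subgroup.center P :=
    { toFun := fun q => ⟨⁅q, y⁆, hcm q y⟩
      map_one' := Subtype.ext (by simp)
      map_mul' := fun a b => Subtype.ext (by
        show ⁅a * b, y⁆ = ⁅a, y⁆ * ⁅b, y⁆
        have h := Subgroup.mem_center_iff.1 (hcm b y) a
        have h2 := Subgroup.mem_center_iff.1 (hcm a y) ⁅b, y⁆
        calc ⁅a * b, y⁆ = a * ⁅b, y⁆ * y * a⁻¹ * y⁻¹ := by simp only [commutatorElement_def]; group
          _ = ⁅b, y⁆ * ⁅a, y⁆ := by rw [h]; simp only [commutatorElement_def]; group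
          _ = ⁅a, y⁆ * ⁅b, y⁆ := h2) }
  have hker : x ∈ χ.ker := by
    have hdvd : χ.ker.index ∣ 2 := by
      rw [Subgroup.index_ker, ← hcard]
      exact Subgroup.card_subgroup_dvd_card _
    rcases (Nat.dvd_prime Nat.prime_two).1 hdvd with h1 | h1
    · rw [Subgroup.index_eq_one.1 h1]; exact Subgroup.mem_top x
    · exact frattini_le_coatom (Cores.isCoatom_of_prime_index (by rw [h1]; exact Nat.prime_two)) hx
  exact (commutatorElement_eq_one_iff_mul_comm.1 (congrArg Subtype.val (MonoidHom.mem_ker.1 hker))).symm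

end Cfsg.Agent.Lib.ThreeTransp
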