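import Cfsg.Agent.Lib.ThreeTransp.ClassEquiv

/-!
Fischer spaces: the line system of a set of 3-transpositions, and the involutions of a Fischer space.
-/

set_option autoImplicit false

namespace Cfsg.Agent.Lib.ThreeTransp

open Cfsg

/-! ### The two model planes -/

/-- The point map of the affine plane. -/
def affMap (a q : Fin 2 → ZMod 3) : Fin 2 → ZMod 3 := -a - q

/-- The transposition of a point of the dual affine plane. -/
def pointSwap (a : DualAffinePoint) : Equiv.Perm (Fin 4) :=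
  Equiv.swap ((List.finRange 4).find? (fun i => decide (i ∈ a.val)) |>.getD 0)
    ((List.finRange 4).reverse.find? (fun i => decide (i ∈ a.val)) |>.getD 0)

/-- The point map of the dual affine plane. -/
def dualMap (a q : DualAffinePoint) : DualAffinePoint :=
  ⟨q.val.map (pointSwap a).toEmbedding, by rw [Finset.card_map]; exact q.2⟩

theorem affine_line (a q : Fin 2 → ZMod 3) (h : a ≠ q) :
    {x : Fin 2 → ZMod 3 | ∃ c : ZMod 3, x = a + c • (q - a)} = {a, q, -a - q} := by
  ext x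
  simp only [Set.mem_setOf_eq, Set.mem_insert_iff, Set.mem_singleton_iff]
  revert a q x
  decide +kernel

theorem affine_spec (a q : Fin 2 → ZMod 3) :
    (a ≠ q ∧ affMap a q ≠ a ∧ affMap a q ≠ q ∧ ({a, q, affMap a q} : Set _) ∈ affinePlaneThree) ∨
      (affMap a q = q ∧ ∀ m ∈ affinePlaneThree, a ∈ m → q ∈ m → a = q) := by
  by_cases h : a = q
  · refine Or.inr ⟨?_, fun _ _ _ _ => h⟩
    subst h
    revert a
    decide +kernel
  · refine Or.inl ⟨h, ?_, ?_, a, q - a, sub_ne_zero.2 (Ne.symm h), (affine_line a q h).symm⟩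
    all_goals revert a q; decide +kernel

theorem affine_map_line (a : Fin 2 → ZMod 3) {m : Set (Fin 2 → ZMod 3)} (hm : m ∈ affinePlaneThree) :
    affMap a '' m ∈ affinePlaneThree := by
  obtain ⟨v, w, hw, rfl⟩ := hm
  refine ⟨-a - v, -w, neg_ne_zero.2 hw, ?_⟩
  ext x
  constructor
  · rintro ⟨_, ⟨c, rfl⟩, rfl⟩
    exact ⟨c, by simp [affMap]; abel⟩
  · rintro ⟨c, rfl⟩
    exact ⟨v + c • w, ⟨c, rfl⟩, by simp [affMap]; abel⟩

theorem dual_spec_dec : ∀ a q : DualAffinePoint,
    (a ≠ q ∧ dualMap a q ≠ a ∧ dualMap a q ≠ q ∧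
      ∃ i : Fin 4, ∀ s : DualAffinePoint, (i ∉ s.val ↔ s = a ∨ s = q ∨ s = dualMap a q)) ∨
    (dualMap a q = q ∧ ∀ i : Fin 4, i ∉ a.val → i ∉ q.val → a = q) := by decide +kernel

theorem dual_spec (a q : DualAffinePoint) :
    (a ≠ q ∧ dualMap a q ≠ a ∧ dualMap a q ≠ q ∧ ({a, q, dualMap a q} : Set _) ∈ dualAffinePlaneTwo) ∨
      (dualMap a q = q ∧ ∀ m ∈ dualAffinePlaneTwo, a ∈ m → q ∈ m → a = q) := by
  rcases dual_spec_dec a q with ⟨h1, h2, h3, i, hi⟩ | ⟨h1, h2⟩
  · exact Or.inl ⟨h1, h2, h3, i, Set.ext fun s => (hi s).symm⟩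
  · refine Or.inr ⟨h1, ?_⟩
    rintro m ⟨i, rfl⟩ ha hq
    exact h2 i ha hq

theorem dual_map_line (a : DualAffinePoint) {m : Set DualAffinePoint} (hm : m ∈ dualAffinePlaneTwo) :
    dualMap a '' m ∈ dualAffinePlaneTwo := by
  obtain ⟨i, rfl⟩ := hm
  refine ⟨pointSwap a i, Set.ext fun s => ?_⟩
  constructor
  · rintro ⟨t, ht, rfl⟩
    show pointSwap a i ∉ t.val.map (pointSwap a).toEmbedding
    simp only [Finset.mem_map_equiv, Equiv.symm_apply_apply]
    exact ht
  · intro hs
    refine ⟨⟨s.val.map (pointSwap a).symm.toEmbedding, by rw [Finset.card_map]; exact s.2⟩, ?_, ?_⟩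
    · show i ∉ s.val.map (pointSwap a).symm.toEmbedding
      rw [Finset.mem_map_equiv, Equiv.symm_symm]
      exact hs
    · apply Subtype.ext
      show (s.val.map _).map _ = s.val
      rw [Finset.map_map]
      ext j
      simp

/-! ### The involutions of a Fischer space -/

section Space

open Cfsg.LineSystem

variable {X : Type*} {L : Set (Set X)}

theorem exists_third (h3 : ∀ l ∈ L, l.ncard = 3) {l : Set X} (hl : l ∈ L) {x y : X} (hxy : x ≠ y)
    (hx : x ∈ l) (hy : y ∈ l) : ∃ z, z ≠ x ∧ z ≠ y ∧ l = {x, y, z} := by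
  obtain ⟨a, b, c, hab, hac, hbc, rfl⟩ := Set.ncard_eq_three.1 (h3 l hl)
  simp only [Set.mem_insert_iff, Set.mem_singleton_iff] at hx hy
  rcases hx with rfl | rfl | rfl <;> rcases hy with rfl | rfl | rfl <;>
    first
      | exact absurd rfl hxy
      | exact ⟨c, hac.symm, hbc.symm, rfl⟩
      | exact ⟨b, hab.symm, hbc, by ext u; simp; tauto⟩
      | exact ⟨c, hbc.symm, hac.symm, by ext u; simp; tauto⟩
      | exact ⟨a, hab, hac, by ext u; simp; tauto⟩
      | exact ⟨b, hbc, hab.symm, by ext u; simp; tauto⟩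
      | exact ⟨a, hac, hab, by ext u; simp; tauto⟩

theorem lineMap_eq_third (hP : IsPartialLinear L) {x y z : X} (hxy : x ≠ y) (hzx : z ≠ x) (hzy : z ≠ y)
    (hl : ({x, y, z} : Set X) ∈ L) : lineMap L x y = z := by
  classical
  have hex : ∃ z : X, z ≠ x ∧ z ≠ y ∧ x ≠ y ∧ ({x, y, z} : Set X) ∈ L := ⟨z, hzx, hzy, hxy, hl⟩
  unfold lineMap
  rw [dif_pos hex]
  obtain ⟨h1, h2, -, h4⟩ := hex.choose_spec
  have := hP _ h4 _ hl x y hxy (by simp) (by simp) (by simp) (by simp)
  have hm : hex.choose ∈ ({x, y, z} : Set X) := this ▸ (by simp)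
  simp only [Set.mem_insert_iff, Set.mem_singleton_iff] at hm
  tauto

theorem lineMap_eq_self {x y : X} (h : ¬ Collinear L x y) : lineMap L x y = y := by
  classical
  unfold lineMap
  rw [dif_neg]
  rintro ⟨z, -, -, hxy, hl⟩
  exact h ⟨hxy, _, hl, by simp, by simp⟩

theorem lineMap_spec (hP : IsPartialLinear L) (h3 : ∀ l ∈ L, l.ncard = 3) (x y : X) :
    (x ≠ y ∧ lineMap L x y ≠ x ∧ lineMap L x y ≠ y ∧ ({x, y, lineMap L x y} : Set X) ∈ L) ∨
      (lineMap L x y = y ∧ ¬ Collinear L x y) := by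
  by_cases h : Collinear L x y
  · obtain ⟨hxy, l, hl, hx, hy⟩ := h
    obtain ⟨z, hzx, hzy, rfl⟩ := exists_third h3 hl hxy hx hy
    rw [lineMap_eq_third hP hxy hzx hzy hl]
    exact Or.inl ⟨hxy, hzx, hzy, hl⟩
  · exact Or.inr ⟨lineMap_eq_self h, h⟩

theorem lineMap_lineMap (hP : IsPartialLinear L) (h3 : ∀ l ∈ L, l.ncard = 3) (x y : X) :
    lineMap L x (lineMap L x y) = y := by
  rcases lineMap_spec hP h3 x y with ⟨h1, h2, h4, h5⟩ | ⟨h1, -⟩
  · refine lineMap_eq_third hP h2.symm h1.symm h4.symm ?_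
    convert h5 using 1
    ext u; simp; tauto
  · rw [h1, h1]

theorem image_lineMap_of_model {P : Type*} {M : Set (Set P)} (g : P → P → P)
    (hg1 : ∀ a q, (a ≠ q ∧ g a q ≠ a ∧ g a q ≠ q ∧ ({a, q, g a q} : Set P) ∈ M) ∨
      (g a q = q ∧ ∀ m ∈ M, a ∈ m → q ∈ m → a = q))
    (hg2 : ∀ a, ∀ m ∈ M, g a '' m ∈ M)
    (hP : IsPartialLinear L) (h3 : ∀ l ∈ L, l.ncard = 3) {S : Set X} (hS : IsSubspace L S)
    (hiso : Isomorphic (restrict L S) M) {x : X} (hx : x ∈ S) {m : Set X} (hm : m ∈ L) (hmS : m ⊆ S) :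
    lineMap L x '' m ∈ L := by
  obtain ⟨e, he⟩ := hiso
  have key : ∀ q : S, ∃ r : S, (r : X) = lineMap L x q ∧ e r = g (e ⟨x, hx⟩) (e q) := by
    intro q
    rcases hg1 (e ⟨x, hx⟩) (e q) with ⟨h1, h2, h4, h5⟩ | ⟨h1, h2⟩
    · obtain ⟨r, hr⟩ := e.surjective (g (e ⟨x, hx⟩) (e q))
      refine ⟨r, ?_, hr⟩
      have h6 : e '' ({⟨x, hx⟩, q, r} : Set S) ∈ M := by
        rwa [Set.image_insert_eq, Set.image_insert_eq, Set.image_singleton, hr]
      obtain ⟨l, hl, hlS, hle⟩ := (he _).2 h6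
      have n1 : (⟨x, hx⟩ : S) ≠ q := fun h => h1 (by rw [h])
      have n2 : r ≠ ⟨x, hx⟩ := fun h => h2 (by rw [← hr, h])
      have n3 : r ≠ q := fun h => h4 (by rw [← hr, h])
      refine (lineMap_eq_third hP (fun h => n1 (Subtype.ext h)) (fun h => n2 (Subtype.ext h))
        (fun h => n3 (Subtype.ext h)) ?_).symm
      convert hl using 1
      ext u
      simp only [Set.mem_insert_iff, Set.mem_singleton_iff]
      constructor
      · intro hu
        rcases hu with rfl | rfl | rfl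
        exacts [(Set.ext_iff.1 hle ⟨_, hx⟩).1 (by simp), (Set.ext_iff.1 hle q).1 (by simp),
          (Set.ext_iff.1 hle r).1 (by simp)]
      · intro hu
        have := (Set.ext_iff.1 hle ⟨u, hlS hu⟩).2 hu
        simp only [Set.mem_insert_iff, Set.mem_singleton_iff] at this
        rcases this with h | h | h
        exacts [Or.inl (congrArg Subtype.val h), Or.inr (Or.inl (congrArg Subtype.val h)),
          Or.inr (Or.inr (congrArg Subtype.val h))]
    · refine ⟨q, (lineMap_eq_self ?_).symm, h1.symm⟩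
      rintro ⟨hne, l, hl, hxl, hql⟩
      refine hne (congrArg Subtype.val (e.injective (h2 _ ((he _).1 ⟨l, hl,
        hS l hl x hx q q.2 hne hxl hql, rfl⟩) ⟨⟨x, hx⟩, hxl, rfl⟩ ⟨q, hql, rfl⟩)))
  set m' : Set S := {q : S | (q : X) ∈ m}
  have hm' : e '' m' ∈ M := (he _).1 ⟨m, hm, hmS, rfl⟩
  obtain ⟨l, hl, hlS, hle⟩ := (he (e.symm '' (g (e ⟨x, hx⟩) '' (e '' m')))).2 (by
    rw [e.image_symm_image]; exact hg2 _ _ hm')
  convert hl using 1
  ext u
  constructor
  · rintro ⟨v, hv, rfl⟩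
    obtain ⟨r, hr1, hr2⟩ := key ⟨v, hmS hv⟩
    have hr : r ∈ e.symm '' (g (e ⟨x, hx⟩) '' (e '' m')) :=
      ⟨e r, ⟨e ⟨v, hmS hv⟩, ⟨⟨v, hmS hv⟩, hv, rfl⟩, hr2.symm⟩, e.symm_apply_apply r⟩
    rw [hle] at hr
    exact hr1 ▸ hr
  · intro hu
    have : (⟨u, hlS hu⟩ : S) ∈ e.symm '' (g (e ⟨x, hx⟩) '' (e '' m')) := by rw [hle]; exact hu
    obtain ⟨_, ⟨_, ⟨q, hq, rfl⟩, rfl⟩, hu'⟩ := this
    obtain ⟨r, hr1, hr2⟩ := key q
    refine ⟨q, hq, ?_⟩
    rw [← hr2, e.symm_apply_apply] at hu'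
    rw [← hr1, hu']

theorem isSubspace_span (L : Set (Set X)) (S : Set X) : IsSubspace L (span L S) := by
  intro l hl x hx y hy hxy hxl hyl u hu
  exact fun T hT => hT.2 l hl x (hx T hT) y (hy T hT) hxy hxl hyl hu

theorem subset_span (L : Set (Set X)) (S : Set X) : S ⊆ span L S := fun _ hu _ hT => hT.1 hu

theorem image_lineMap_mem (hF : IsFischerSpace L) (x : X) {m : Set X} (hm : m ∈ L) :
    lineMap L x '' m ∈ L := by
  obtain ⟨hP, h3, hpl⟩ := hF
  by_cases hex : ∃ p ∈ m, Collinear L x p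
  · obtain ⟨p, hp, hxp, k, hk, hxk, hpk⟩ := hex
    by_cases hkm : k = m
    · subst hkm
      obtain ⟨z, hzx, hzp, rfl⟩ := exists_third h3 hk hxp hxk hpk
      have e1 : lineMap L x p = z := lineMap_eq_third hP hxp hzx hzp hk
      have e2 : lineMap L x z = p := by rw [← e1, lineMap_lineMap hP h3]
      have e3 : lineMap L x x = x := lineMap_eq_self fun h => h.1 rfl
      rw [Set.image_insert_eq, Set.image_insert_eq, Set.image_singleton, e1, e2, e3,
        Set.pair_comm z p]
      exact hk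
    · set S := LineSystem.span L (k ∪ m)
      have hS := isSubspace_span L (k ∪ m)
      have hxS : x ∈ S := subset_span L _ (Or.inl hxk)
      have hmS : m ⊆ S := fun u hu => subset_span L _ (Or.inr hu)
      rcases hpl k hk m hm hkm ⟨p, hpk, hp⟩ with h | h
      · exact image_lineMap_of_model dualMap dual_spec (fun a m hm => dual_map_line a hm) hP h3 hS h
          hxS hm hmS
      · exact image_lineMap_of_model affMap affine_spec (fun a m hm => affine_map_line a hm) hP h3 hS h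
          hxS hm hmS
  · push Not at hex
    have : lineMap L x '' m = m := by
      rw [Set.image_congr fun u hu => lineMap_eq_self (hex u hu), Set.image_id']
    rwa [this]

theorem fischerSpace_involutions (hF : IsFischerSpace L) (hnd : IsNondegenerate L) :
    (∀ x : X, ∃ σ : Equiv.Perm X, ⇑σ = lineMap L x ∧ orderOf σ = 2 ∧ IsIso L L σ) ∧
      IsThreeTranspositionSet {σ : Equiv.Perm X | ∃ x : X, ⇑σ = lineMap L x} := by
  have hP := hF.1
  have h3 := hF.2.1
  let t : X → Equiv.Perm X := fun x => Function.Involutive.toPerm _ (lineMap_lineMap hP h3 x)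
  have ht : ∀ x, ⇑(t x) = lineMap L x := fun x => rfl
  have hiso : ∀ x, IsIso L L (t x) := by
    intro x l
    refine ⟨fun h => image_lineMap_mem hF x h, fun h => ?_⟩
    have := image_lineMap_mem hF x (m := lineMap L x '' l) h
    rwa [Set.image_image, Set.image_congr fun u _ => lineMap_lineMap hP h3 x u, Set.image_id'] at this
  have hsq : ∀ x, t x * t x = 1 := fun x => Equiv.ext fun y => lineMap_lineMap hP h3 x y
  have hord : ∀ x, orderOf (t x) = 2 := by
    intro x
    refine orderOf_eq_prime (by rw [pow_two, hsq]) fun h => ?_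
    obtain ⟨l, hl, hxl⟩ := hnd x
    obtain ⟨y, hy, hyx⟩ := Set.exists_ne_of_one_lt_ncard (by rw [h3 l hl]; norm_num : 1 < l.ncard) x
    obtain ⟨z, hzx, hzy, rfl⟩ := exists_third h3 hl hyx.symm hxl hy
    have e := lineMap_eq_third hP hyx.symm hzx hzy hl
    rw [← ht, h] at e
    exact hzy e.symm
  have hconj : ∀ x y, t x * t y * t x = t (lineMap L x y) := by
    intro x y
    apply Equiv.ext
    intro w
    obtain ⟨u, rfl⟩ : ∃ u, lineMap L x u = w := ⟨_, lineMap_lineMap hP h3 x w⟩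
    show lineMap L x (lineMap L y (lineMap L x (lineMap L x u))) = lineMap L (lineMap L x y) (lineMap L x u)
    rw [lineMap_lineMap hP h3 x u]
    rcases lineMap_spec hP h3 y u with ⟨h1, h2, h4, h5⟩ | ⟨h1, h2⟩
    · have hinj : Function.Injective (lineMap L x) := (t x).injective
      refine (lineMap_eq_third hP (hinj.ne h1) (hinj.ne h2) (hinj.ne h4) ?_).symm
      have := image_lineMap_mem hF x h5
      rwa [Set.image_insert_eq, Set.image_insert_eq, Set.image_singleton] at this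
    · rw [h1]
      refine (lineMap_eq_self ?_).symm
      rintro ⟨hne, l, hl, hyl, hul⟩
      refine h2 ⟨fun e => hne (by rw [e]), lineMap L x '' l, image_lineMap_mem hF x hl, ?_, ?_⟩
      · exact ⟨_, hyl, lineMap_lineMap hP h3 x y⟩
      · exact ⟨_, hul, lineMap_lineMap hP h3 x u⟩
  refine ⟨fun x => ⟨t x, ht x, hord x, hiso x⟩, ?_, ?_⟩
  · rintro σ ⟨x, hx⟩
    rw [show σ = t x from Equiv.ext fun y => congrFun hx y]
    exact hord x
  · rintro σ ⟨x, hx⟩ τ ⟨y, hy⟩
    rw [show σ = t x from Equiv.ext fun y => congrFun hx y,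
      show τ = t y from Equiv.ext fun u => congrFun hy u]
    rcases lineMap_spec hP h3 x y with ⟨h1, h2, h4, h5⟩ | ⟨h1, h2⟩
    · right
      have h6 : lineMap L y x = lineMap L x y := lineMap_eq_third hP h1.symm h4 h2
        (by convert h5 using 1; ext u; simp; tauto)
      have e := (hconj x y).trans ((congrArg t h6.symm).trans (hconj y x).symm)
      calc (t x * t y) ^ 3 = (t x * t y * t x) * (t y * t x * t y) := by
            rw [pow_succ, pow_two]; simp only [mul_assoc]
        _ = (t y * t x * t y) * (t y * t x * t y) := by rw [e]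
        _ = 1 := by
          simp only [mul_assoc]
          rw [← mul_assoc (t y) (t y), hsq, one_mul, ← mul_assoc (t x) (t x), hsq, one_mul, hsq]
    · left
      calc (t x * t y) ^ 2 = (t x * t y * t x) * t y := by rw [pow_two]; simp only [mul_assoc]
        _ = 1 := by rw [hconj, h1, hsq]

end Space

/-! ### The space of a 3-transposition group -/

section Group

open Cfsg.LineSystem

variable {G : Type*} [Group G] {D : Set G}

/-- `x, y, z` are the three points of a line. -/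
def IsTriple (D : Set G) (x y z : D) : Prop :=
  ¬ Commute (x : G) (y : G) ∧ (z : G) = (y : G) * x * y

theorem triple_swap (hS : IsThreeTranspositionSet D) {x y z : D} (h : IsTriple D x y z) :
    IsTriple D y x z :=
  ⟨fun e => h.1 e.symm, h.2.trans (tt_comm_or_braid hS x.2 y.2 h.1).1.symm⟩

theorem triple_rot (hS : IsThreeTranspositionSet D) {x y z : D} (h : IsTriple D x y z) :
    IsTriple D z y x := by
  refine ⟨fun e => h.1 ?_, ?_⟩
  · have h' := (commute_conj (a := (y : G))).2 e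
    rw [tt_conj_self hS y.2, tt_conj_self hS y.2, inv_sq (hS.1 _ y.2), one_mul, h.2] at h'
    rwa [show (y : G) * (y * x * y) * y = ((y : G) * y) * x * (y * y) by group, inv_sq (hS.1 _ y.2),
      one_mul, mul_one] at h'
  · rw [h.2]
    calc (x : G) = ((y : G) * y) * x * (y * y) := by rw [inv_sq (hS.1 _ y.2), one_mul, mul_one]
      _ = _ := by group

theorem triple_ne (hS : IsThreeTranspositionSet D) {x y z : D} (h : IsTriple D x y z) :
    x ≠ y ∧ x ≠ z ∧ y ≠ z := by
  refine ⟨?_, ?_, ?_⟩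
  · rintro rfl; exact h.1 (Commute.refl _)
  · rintro rfl; exact (triple_swap hS (triple_rot hS (triple_swap hS h))).1 (Commute.refl _)
  · rintro rfl; exact (triple_rot hS h).1 (Commute.refl _)

theorem mem_lines_iff (hS : IsThreeTranspositionSet D) (hc : ∀ g : G, ∀ d ∈ D, g * d * g⁻¹ ∈ D)
    {l : Set D} :
    l ∈ threeTranspositionLines D ↔ ∃ x y z : D, IsTriple D x y z ∧ l = {x, y, z} := by
  constructor
  · rintro ⟨x, y, hxy, rfl⟩
    refine ⟨x, y, ⟨_, conj_mem_self hS hc y.2 x.2⟩, ⟨hxy, rfl⟩, ?_⟩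
    ext u
    simp only [Set.mem_setOf_eq, Set.mem_insert_iff, Set.mem_singleton_iff, Subtype.ext_iff,
      tt_conj_self hS y.2]
  · rintro ⟨x, y, z, h, rfl⟩
    refine ⟨x, y, h.1, ?_⟩
    ext u
    simp only [Set.mem_setOf_eq, Set.mem_insert_iff, Set.mem_singleton_iff, Subtype.ext_iff,
      tt_conj_self hS y.2, h.2]

theorem triple_of_mem (hS : IsThreeTranspositionSet D) {x y z a b : D} (h : IsTriple D x y z)
    (hab : a ≠ b) (ha : a ∈ ({x, y, z} : Set D)) (hb : b ∈ ({x, y, z} : Set D)) :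
    ∃ c, IsTriple D a b c ∧ ({x, y, z} : Set D) = {a, b, c} := by
  have h1 := triple_swap hS h
  have h2 := triple_rot hS h
  have h3 := triple_swap hS h2
  have h4 := triple_rot hS h1
  have h5 := triple_swap hS h4
  simp only [Set.mem_insert_iff, Set.mem_singleton_iff] at ha hb
  rcases ha with rfl | rfl | rfl <;> rcases hb with rfl | rfl | rfl <;>
    first
      | exact absurd rfl hab
      | exact ⟨_, h, rfl⟩
      | exact ⟨_, h1, by ext u; simp; tauto⟩
      | exact ⟨_, h2, by ext u; simp; tauto⟩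
      | exact ⟨_, h3, by ext u; simp; tauto⟩
      | exact ⟨_, h4, by ext u; simp; tauto⟩
      | exact ⟨_, h5, by ext u; simp; tauto⟩

theorem lines_partialLinear (hS : IsThreeTranspositionSet D) (hc : ∀ g : G, ∀ d ∈ D, g * d * g⁻¹ ∈ D) :
    IsPartialLinear (threeTranspositionLines D) := by
  intro l hl m hm a b hab hal hbl ham hbm
  obtain ⟨x, y, z, h, rfl⟩ := (mem_lines_iff hS hc).1 hl
  obtain ⟨x', y', z', h', rfl⟩ := (mem_lines_iff hS hc).1 hm
  obtain ⟨c, hc1, e1⟩ := triple_of_mem hS h hab hal hbl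
  obtain ⟨c', hc2, e2⟩ := triple_of_mem hS h' hab ham hbm
  rw [e1, e2, show c = c' from Subtype.ext (hc1.2.trans hc2.2.symm)]

theorem lines_ncard (hS : IsThreeTranspositionSet D) (hc : ∀ g : G, ∀ d ∈ D, g * d * g⁻¹ ∈ D) :
    ∀ l ∈ threeTranspositionLines D, l.ncard = 3 := by
  intro l hl
  obtain ⟨x, y, z, h, rfl⟩ := (mem_lines_iff hS hc).1 hl
  obtain ⟨h1, h2, h3⟩ := triple_ne hS h
  exact Set.ncard_eq_three.2 ⟨x, y, z, h1, h2, h3, rfl⟩

theorem span_iso_of_map (hS : IsThreeTranspositionSet D) (hc : ∀ g : G, ∀ d ∈ D, g * d * g⁻¹ ∈ D)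
    {P : Type*} {M : Set (Set P)} (f : P → D) (hf : Function.Injective f) {T : Set D}
    (hline : ∀ m ∈ M, ∃ p q r, m = {p, q, r} ∧ IsTriple D (f p) (f q) (f r))
    (hpair : ∀ p q, p ≠ q → Commute (f p : G) (f q : G) ∨ ∃ m ∈ M, p ∈ m ∧ q ∈ m)
    (hT : T ⊆ Set.range f) (hgen : ∀ p, f p ∈ LineSystem.span (threeTranspositionLines D) T) :
    Isomorphic (restrict (threeTranspositionLines D) (LineSystem.span (threeTranspositionLines D) T)) M := by
  set L := threeTranspositionLines D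
  set S := LineSystem.span L T
  have himg : ∀ m ∈ M, f '' m ∈ L := by
    intro m hm
    obtain ⟨p, q, r, rfl, h⟩ := hline m hm
    rw [Set.image_insert_eq, Set.image_insert_eq, Set.image_singleton]
    exact (mem_lines_iff hS hc).2 ⟨_, _, _, h, rfl⟩
  have hsub : ∀ l ∈ L, ∀ p q, f p ≠ f q → f p ∈ l → f q ∈ l → ∃ m ∈ M, f '' m = l := by
    intro l hl p q hne hp hq
    rcases hpair p q (fun e => hne (by rw [e])) with h | ⟨m, hm, hpm, hqm⟩
    · exfalso
      obtain ⟨x, y, z, h', rfl⟩ := (mem_lines_iff hS hc).1 hl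
      obtain ⟨c, hc', -⟩ := triple_of_mem hS h' hne hp hq
      exact hc'.1 h
    · exact ⟨m, hm, lines_partialLinear hS hc _ (himg m hm) _ hl _ _ hne ⟨p, hpm, rfl⟩ ⟨q, hqm, rfl⟩
        hp hq⟩
  have hSeq : S = Set.range f := by
    refine Set.Subset.antisymm (fun u hu => hu _ ⟨hT, ?_⟩) (Set.range_subset_iff.2 hgen)
    rintro l hl _ ⟨p, rfl⟩ _ ⟨q, rfl⟩ hne hp hq
    obtain ⟨m, -, rfl⟩ := hsub l hl p q hne hp hq
    exact Set.image_subset_range _ _
  let e : P ≃ S := Equiv.ofBijective (fun p => ⟨f p, hgen p⟩)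
    ⟨fun p q h => hf (congrArg Subtype.val h), fun u => by
      obtain ⟨p, hp⟩ := (hSeq ▸ u.2 : (u : D) ∈ Set.range f)
      exact ⟨p, Subtype.ext hp⟩⟩
  refine ⟨e.symm, fun l => ⟨?_, fun h => ?_⟩⟩
  · rintro ⟨k, hk, hkS, rfl⟩
    obtain ⟨x, y, z, h', rfl⟩ := (mem_lines_iff hS hc).1 hk
    obtain ⟨p, hp⟩ := (hSeq ▸ hkS (by simp : x ∈ ({x, y, z} : Set D)) : x ∈ Set.range f)
    obtain ⟨q, hq⟩ := (hSeq ▸ hkS (by simp : y ∈ ({x, y, z} : Set D)) : y ∈ Set.range f)
    obtain ⟨m, hm, hmk⟩ := hsub _ hk p q (by rw [hp, hq]; exact (triple_ne hS h').1)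
      (by rw [hp]; simp) (by rw [hq]; simp)
    convert hm using 1
    ext u
    rw [Equiv.image_eq_preimage_symm, Set.mem_preimage, Equiv.symm_symm]
    show f u ∈ ({x, y, z} : Set D) ↔ _
    rw [← hmk, hf.mem_set_image]
  · refine ⟨f '' (e.symm '' l), himg _ h, Set.image_subset_iff.2 fun p _ => hgen p, ?_⟩
    ext u
    show u ∈ l ↔ (u : D) ∈ f '' (e.symm '' l)
    constructor
    · intro hu
      exact ⟨e.symm u, ⟨u, hu, rfl⟩, congrArg Subtype.val (e.apply_symm_apply u)⟩
    · rintro ⟨_, ⟨v, hv, rfl⟩, hvu⟩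
      have : v = u := Subtype.ext ((congrArg Subtype.val (e.apply_symm_apply v)).symm.trans hvu)
      exact this ▸ hv

theorem third_mem_span (hS : IsThreeTranspositionSet D) (hc : ∀ g : G, ∀ d ∈ D, g * d * g⁻¹ ∈ D)
    {T : Set D} {a b c : D} (h : IsTriple D a b c)
    (ha : a ∈ LineSystem.span (threeTranspositionLines D) T)
    (hb : b ∈ LineSystem.span (threeTranspositionLines D) T) :
    c ∈ LineSystem.span (threeTranspositionLines D) T :=
  isSubspace_span _ T _ ((mem_lines_iff hS hc).2 ⟨a, b, c, h, rfl⟩) a ha b hb (triple_ne hS h).1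
    (by simp) (by simp) (by simp)

theorem pointSwap_cases : ∀ s t : DualAffinePoint,
    (pointSwap s * pointSwap t = pointSwap t * pointSwap s ∧
      (s = t ∨ ∀ i : Fin 4, i ∈ s.val ∨ i ∈ t.val)) ∨
    (pointSwap s * pointSwap t ≠ pointSwap t * pointSwap s ∧
      pointSwap (dualMap s t) = pointSwap s * pointSwap t * pointSwap s ∧
      pointSwap (dualMap s t) = pointSwap t * pointSwap s * pointSwap t) := by decide +kernel

theorem pointSwap_injective : ∀ s t : DualAffinePoint, pointSwap s = pointSwap t → s = t := by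
  decide +kernel

/-- The six transpositions generated by a 3-string. -/
theorem span_string (hS : IsThreeTranspositionSet D) (hc : ∀ g : G, ∀ d ∈ D, g * d * g⁻¹ ∈ D)
    {x y w x' w' : D} (hy : IsTriple D x y x') (hw : IsTriple D x w w') (hne : y ≠ w)
    (hyw : Commute (y : G) (w : G)) :
    Isomorphic (restrict (threeTranspositionLines D)
      (LineSystem.span (threeTranspositionLines D) ({x, y, x'} ∪ {x, w, w'}))) dualAffinePlaneTwo := by
  obtain ⟨φ, hφy, hφx, hφw⟩ := s4Hom_exists (inv_sq (hS.1 _ y.2)) (inv_sq (hS.1 _ x.2))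
    (inv_sq (hS.1 _ w.2)) hyw.symm.eq
    (by have := (tt_comm_or_braid hS x.2 y.2 hy.1).1; simp only [mul_assoc] at this ⊢; exact this)
    (by have := (tt_comm_or_braid hS x.2 w.2 hw.1).1; simp only [mul_assoc] at this ⊢; exact this.symm)
  have hinj : Function.Injective φ := by
    refine s4Hom_injective φ ?_
    rw [map_mul, hφy, hφw, Ne, mul_eq_one_iff_eq_inv, inv_inv_self (hS.1 _ w.2)]
    exact fun h => hne (Subtype.ext h)
  have hD : ∀ s : DualAffinePoint, φ (pointSwap s) ∈ D := by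
    intro s
    have key : ∀ s : DualAffinePoint, pointSwap s = Equiv.swap 0 1 ∨
        ∃ c : Equiv.Perm (Fin 4), pointSwap s = c * Equiv.swap 0 1 * c⁻¹ := by decide +kernel
    rcases key s with h | ⟨c, h⟩ <;> rw [h]
    · rw [hφy]; exact y.2
    · rw [map_mul, map_mul, map_inv, hφy]; exact hc _ _ y.2
  let f : DualAffinePoint → D := fun s => ⟨φ (pointSwap s), hD s⟩
  let p01 : DualAffinePoint := ⟨{0, 1}, by decide⟩
  let p12 : DualAffinePoint := ⟨{1, 2}, by decide⟩
  let p23 : DualAffinePoint := ⟨{2, 3}, by decide⟩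
  let p02 : DualAffinePoint := ⟨{0, 2}, by decide⟩
  let p13 : DualAffinePoint := ⟨{1, 3}, by decide⟩
  let p03 : DualAffinePoint := ⟨{0, 3}, by decide⟩
  have e01 : f p01 = y := Subtype.ext (by
    show φ (pointSwap p01) = y; rw [← hφy]; exact congrArg φ (by decide +kernel))
  have e12 : f p12 = x := Subtype.ext (by
    show φ (pointSwap p12) = x; rw [← hφx]; exact congrArg φ (by decide +kernel))
  have e23 : f p23 = w := Subtype.ext (by
    show φ (pointSwap p23) = w; rw [← hφw]; exact congrArg φ (by decide +kernel))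
  have hcase : ∀ s t : DualAffinePoint, (Commute (f s : G) (f t : G) ∧
      (s = t ∨ ∀ i : Fin 4, i ∈ s.val ∨ i ∈ t.val)) ∨ IsTriple D (f s) (f t) (f (dualMap s t)) := by
    intro s t
    rcases pointSwap_cases s t with ⟨h1, h2⟩ | ⟨h1, -, h3⟩
    · exact Or.inl ⟨(show Commute (pointSwap s) (pointSwap t) from h1).map φ, h2⟩
    · refine Or.inr ⟨fun h => h1 (hinj ?_), ?_⟩
      · rw [map_mul, map_mul]; exact h.eq
      · show φ (pointSwap (dualMap s t)) = _
        rw [h3, map_mul, map_mul]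
  have htri : ∀ {s t r : DualAffinePoint}, pointSwap s * pointSwap t ≠ pointSwap t * pointSwap s →
      dualMap s t = r → IsTriple D (f s) (f t) (f r) := by
    intro s t r h hr
    subst hr
    rcases hcase s t with ⟨h', -⟩ | h'
    · exact absurd (hinj (by rw [map_mul, map_mul]; exact h'.eq)) h
    · exact h'
  have t1 : IsTriple D x y (f p02) := e12 ▸ e01 ▸ htri (by decide +kernel) (by decide +kernel)
  have t2 : IsTriple D x w (f p13) := e12 ▸ e23 ▸ htri (by decide +kernel) (by decide +kernel)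
  have hx' : x' = f p02 := Subtype.ext (hy.2.trans t1.2.symm)
  have hw' : w' = f p13 := Subtype.ext (hw.2.trans t2.2.symm)
  refine span_iso_of_map hS hc f (fun s t h => pointSwap_injective s t (hinj (congrArg Subtype.val h)))
    ?_ ?_ ?_ ?_
  · rintro m ⟨i, rfl⟩
    have key : ∀ i : Fin 4, ∃ p q : DualAffinePoint,
        pointSwap p * pointSwap q ≠ pointSwap q * pointSwap p ∧
        ∀ s : DualAffinePoint, i ∉ s.val ↔ s = p ∨ s = q ∨ s = dualMap p q := by decide +kernel
    obtain ⟨p, q, hpq, hi⟩ := key i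
    exact ⟨p, q, _, Set.ext fun s => hi s, htri hpq rfl⟩
  · intro p q hpq
    by_cases h : ∃ i : Fin 4, i ∉ p.val ∧ i ∉ q.val
    · obtain ⟨i, hip, hiq⟩ := h
      exact Or.inr ⟨_, ⟨i, rfl⟩, hip, hiq⟩
    · left
      have key : ∀ p q : DualAffinePoint, (∀ i : Fin 4, i ∈ p.val ∨ i ∈ q.val) →
          pointSwap p * pointSwap q = pointSwap q * pointSwap p := by decide +kernel
      refine (show Commute (pointSwap p) (pointSwap q) from key p q fun i => ?_).map φ
      by_contra hi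
      push Not at hi
      exact h ⟨i, hi⟩
  · rintro u ((rfl | rfl | rfl) | (rfl | rfl | rfl))
    exacts [⟨_, e12⟩, ⟨_, e01⟩, ⟨_, hx'.symm⟩, ⟨_, e12⟩, ⟨_, e23⟩, ⟨_, hw'.symm⟩]
  · set T : Set D := {x, y, x'} ∪ {x, w, w'}
    have m01 : f p01 ∈ LineSystem.span (threeTranspositionLines D) T :=
      e01.symm ▸ subset_span _ _ (by simp [T])
    have m12 : f p12 ∈ LineSystem.span (threeTranspositionLines D) T :=
      e12.symm ▸ subset_span _ _ (by simp [T])
    have m23 : f p23 ∈ LineSystem.span (threeTranspositionLines D) T :=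
      e23.symm ▸ subset_span _ _ (by simp [T])
    have m02 := third_mem_span hS hc (htri (r := p02) (s := p12) (t := p01) (by decide +kernel)
      (by decide +kernel)) m12 m01
    have m13 := third_mem_span hS hc (htri (r := p13) (s := p12) (t := p23) (by decide +kernel)
      (by decide +kernel)) m12 m23
    have m03 := third_mem_span hS hc (htri (r := p03) (s := p01) (t := p13) (by decide +kernel)
      (by decide +kernel)) m01 m13
    intro s
    have key : ∀ s : DualAffinePoint, s = ⟨{0, 1}, by decide⟩ ∨ s = ⟨{1, 2}, by decide⟩ ∨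
        s = ⟨{2, 3}, by decide⟩ ∨ s = ⟨{0, 2}, by decide⟩ ∨ s = ⟨{1, 3}, by decide⟩ ∨
        s = ⟨{0, 3}, by decide⟩ := by decide +kernel
    rcases key s with rfl | rfl | rfl | rfl | rfl | rfl
    exacts [m01, m12, m23, m02, m13, m03]

theorem affine_triples : ∀ v w : Fin 2 → ZMod 3, w ≠ 0 →
    ∃ t ∈ [((![0, 0] : Fin 2 → ZMod 3), (![1, 0] : Fin 2 → ZMod 3), (![-1, 0] : Fin 2 → ZMod 3)),
      (![0, 0], ![0, 1], ![0, -1]), (![1, 0], ![0, 1], ![-1, -1]), (![0, 0], ![-1, -1], ![1, 1]),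
      (![1, 0], ![0, -1], ![-1, 1]), (![0, 0], ![-1, 1], ![1, -1]), (![-1, 0], ![0, -1], ![1, 1]),
      (![-1, 0], ![0, 1], ![1, -1]), (![1, 0], ![1, 1], ![1, -1]), (![-1, 0], ![-1, -1], ![-1, 1]),
      (![0, 1], ![1, 1], ![-1, 1]), (![0, -1], ![-1, -1], ![1, -1])],
      ∀ p : Fin 2 → ZMod 3, (∃ c : ZMod 3, p = v + c • w) ↔ p = t.1 ∨ p = t.2.1 ∨ p = t.2.2 := by
  decide +kernel

/-- The affine plane generated by three pairwise non-commuting members. -/
theorem span_affine (hS : IsThreeTranspositionSet D) (hc : ∀ g : G, ∀ d ∈ D, g * d * g⁻¹ ∈ D)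
    {x y w x' w' : D} (hy : IsTriple D x y x') (hw : IsTriple D x w w') (hne : x' ≠ w)
    (hne' : y ≠ w) (n1 : ¬ Commute (y : G) (w : G)) (n2 : ¬ Commute (y : G) (w' : G))
    (hll : ({x, y, x'} : Set D) ≠ {x, w, w'}) :
    Isomorphic (restrict (threeTranspositionLines D)
      (LineSystem.span (threeTranspositionLines D) ({x, y, x'} ∪ {x, w, w'}))) affinePlaneThree := by
  have cj : ∀ {a b c : D}, IsTriple D a b c → ∀ {p q r : D}, (p : G) = (x : G) * a * x →
      (q : G) = (x : G) * b * x → (r : G) = (x : G) * c * x → IsTriple D p q r := by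
    intro a b c h p q r hp hq hr
    refine ⟨fun e => h.1 ?_, ?_⟩
    · rw [hp, hq, ← tt_conj_self hS x.2, ← tt_conj_self hS x.2, commute_conj] at e; exact e
    · rw [hr, hp, hq, h.2]
      have hx := inv_sq (hS.1 _ x.2)
      simp only [mul_assoc]
      rw [← mul_assoc (x : G) x, hx, one_mul, ← mul_assoc (x : G) x, hx, one_mul]
  have xfix : (x : G) = (x : G) * x * x := by rw [inv_sq (hS.1 _ x.2), one_mul]
  have e1 : (x' : G) = (x : G) * y * x := hy.2.trans (tt_comm_or_braid hS x.2 y.2 hy.1).1.symm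
  have e2 : (w' : G) = (x : G) * w * x := hw.2.trans (tt_comm_or_braid hS x.2 w.2 hw.1).1.symm
  have inv2 : ∀ a : G, (x : G) * ((x : G) * a * x) * x = a := fun a => by
    rw [show (x : G) * ((x : G) * a * x) * x = ((x : G) * x) * a * (x * x) by group,
      inv_sq (hS.1 _ x.2), one_mul, mul_one]
  -- the remaining points
  obtain ⟨mm, hmm⟩ : ∃ u : D, IsTriple D y w u := ⟨⟨_, conj_mem_self hS hc w.2 y.2⟩, n1, rfl⟩
  obtain ⟨mp, hmp⟩ : ∃ u : D, IsTriple D y w' u := ⟨⟨_, conj_mem_self hS hc w'.2 y.2⟩, n2, rfl⟩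
  obtain ⟨pp, hpp⟩ : ∃ u : D, (u : G) = (x : G) * mm * x := ⟨⟨_, conj_mem_self hS hc x.2 mm.2⟩, rfl⟩
  obtain ⟨pm, hpm⟩ : ∃ u : D, (u : G) = (x : G) * mp * x := ⟨⟨_, conj_mem_self hS hc x.2 mp.2⟩, rfl⟩
  have ey : (y : G) = (x : G) * x' * x := by rw [e1, inv2]
  have ew : (w : G) = (x : G) * w' * x := by rw [e2, inv2]
  have emm : (mm : G) = (x : G) * pp * x := by rw [hpp, inv2]
  have emp : (mp : G) = (x : G) * pm * x := by rw [hpm, inv2]
  have t7 : IsTriple D x' w' pp := cj hmm e1 e2 hpp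
  have t8 : IsTriple D x' w pm := cj hmp e1 ew hpm
  -- braid identities give the four new lines
  have braid : ∀ {a : D}, ¬ Commute (x : G) (a : G) → ∀ u : G,
      (a : G) * ((x : G) * ((a : G) * u * a) * x) * a = (x : G) * ((a : G) * ((x : G) * u * x) * a) * x := by
    intro a h u
    calc (a : G) * ((x : G) * ((a : G) * u * a) * x) * a
        = ((a : G) * x * a) * u * ((a : G) * x * a) := by group
      _ = ((x : G) * a * x) * u * ((x : G) * a * x) := by rw [(tt_comm_or_braid hS x.2 a.2 h).1]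
      _ = _ := by group
  have k1 : (pm : G) = (y : G) * pp * y := by
    rw [hpp, hpm, (triple_swap hS hmp).2, (triple_swap hS hmm).2, e2, braid hy.1]
  have k2 : (mp : G) = (w : G) * pp * w := by
    rw [hpp, hmm.2, braid hw.1, ← e1]
    have := (triple_swap hS (cj (p := x') (q := w) (r := pm) hmp e1 ew hpm)).2
    rw [emp, this]
    rw [(tt_comm_or_braid hS x'.2 w.2 t8.1).1]
  have t9 : IsTriple D pp y pm := by
    refine ⟨fun h => ?_, k1⟩
    have h' : (pm : G) = pp := by
      rw [k1, ← h.eq, mul_assoc, inv_sq (hS.1 _ y.2), mul_one]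
    have h'' : (mp : G) = mm := by rw [emp, emm, h']
    rw [(triple_swap hS hmp).2, (triple_swap hS hmm).2] at h''
    exact (triple_ne hS hw).2.1 (by
      have : (w' : G) = w := mul_left_cancel (mul_right_cancel h'')
      exfalso; exact (triple_ne hS hw).2.2 (Subtype.ext this.symm))
  have t11 : IsTriple D pp w mp := by
    refine ⟨fun h => ?_, k2⟩
    have h' : (mp : G) = pp := by
      rw [k2, ← h.eq, mul_assoc, inv_sq (hS.1 _ w.2), mul_one]
    have h'' : (pm : G) = mm := by rw [hpm, h', ← emm]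
    have e3 := (triple_swap hS hmm).2
    have e4 := t8.2
    rw [← h'', e4] at e3
    exact (triple_ne hS hy).2.2 (Subtype.ext (by
      rw [(tt_comm_or_braid hS y.2 w.2 n1).1] at e3
      exact (mul_left_cancel (mul_right_cancel e3)).symm))
  have t10 : IsTriple D mm x' mp := cj t9 emm e1 emp
  have t12 : IsTriple D mm w' pm := cj t11 emm e2 hpm
  have nxmm : ¬ Commute (x : G) (mm : G) := by
    intro h
    have h' : pp = mm := Subtype.ext (by
      rw [hpp, h.eq, mul_assoc, inv_sq (hS.1 _ x.2), mul_one])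
    have h5 := k1
    rw [h', hmm.2, (tt_comm_or_braid hS w.2 y.2 (fun e => n1 e.symm)).1] at h5
    have h6 : pm = w := Subtype.ext (by
      rw [h5, show (y : G) * (y * w * y) * y = ((y : G) * y) * w * (y * y) by group,
        inv_sq (hS.1 _ y.2), one_mul, mul_one])
    exact (triple_ne hS t8).2.2 h6.symm
  have nxmp : ¬ Commute (x : G) (mp : G) := by
    intro h
    have h' : pm = mp := Subtype.ext (by
      rw [hpm, h.eq, mul_assoc, inv_sq (hS.1 _ x.2), mul_one])
    have h5 := k1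
    rw [h', hmp.2] at h5
    have h6 : (pp : G) = w' := by
      have h7 := triple_rot hS t9
      rw [IsTriple, h'] at h7
      rw [h7.2, hmp.2, (tt_comm_or_braid hS w'.2 y.2 (fun e => n2 e.symm)).1,
        show (y : G) * (y * w' * y) * y = ((y : G) * y) * w' * (y * y) by group,
        inv_sq (hS.1 _ y.2), one_mul, mul_one]
    exact (triple_ne hS t7).2.2 (Subtype.ext h6.symm)
  have t4 : IsTriple D x mm pp := ⟨nxmm, hpp.trans (tt_comm_or_braid hS x.2 mm.2 nxmm).1⟩
  have t6 : IsTriple D x mp pm := ⟨nxmp, hpm.trans (tt_comm_or_braid hS x.2 mp.2 nxmp).1⟩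
  let f : (Fin 2 → ZMod 3) → D := fun p =>
    (![![x, w, w'], ![y, pp, pm], ![x', mp, mm]] : Fin 3 → Fin 3 → D) (p 0) (p 1)
  have htr : ∀ v u : Fin 2 → ZMod 3, u ≠ 0 → ∃ p q r, {z | ∃ c : ZMod 3, z = v + c • u} = {p, q, r} ∧
      IsTriple D (f p) (f q) (f r) := by
    intro v u hu
    obtain ⟨t, ht, hiff⟩ := affine_triples v u hu
    refine ⟨t.1, t.2.1, t.2.2, Set.ext fun z => hiff z, ?_⟩
    simp only [List.mem_cons, List.not_mem_nil, or_false] at ht
    rcases ht with rfl | rfl | rfl | rfl | rfl | rfl | rfl | rfl | rfl | rfl | rfl | rfl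
    exacts [hy, hw, hmm, t4, hmp, t6, t7, t8, triple_swap hS t9, triple_swap hS t10,
      triple_swap hS t11, triple_swap hS t12]
  have hinj : Function.Injective f := by
    intro p q hpq
    by_contra hne
    obtain ⟨a, b, c, hset, ht⟩ := htr p (q - p) (sub_ne_zero.2 (Ne.symm hne))
    have hp : p ∈ ({a, b, c} : Set _) := by rw [← hset]; exact ⟨0, by simp⟩
    have hq : q ∈ ({a, b, c} : Set _) := by rw [← hset]; exact ⟨1, by simp⟩
    obtain ⟨g1, g2, g3⟩ := triple_ne hS ht
    simp only [Set.mem_insert_iff, Set.mem_singleton_iff] at hp hq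
    rcases hp with rfl | rfl | rfl <;> rcases hq with rfl | rfl | rfl <;>
      first
        | exact hne rfl
        | exact g1 hpq
        | exact g1 hpq.symm
        | exact g2 hpq
        | exact g2 hpq.symm
        | exact g3 hpq
        | exact g3 hpq.symm
  refine span_iso_of_map hS hc f hinj ?_ ?_ ?_ ?_
  · rintro m ⟨v, u, hu, rfl⟩
    exact htr v u hu
  · intro p q hpq
    exact Or.inr ⟨_, ⟨p, q - p, sub_ne_zero.2 (Ne.symm hpq), rfl⟩, ⟨0, by simp⟩, ⟨1, by simp⟩⟩
  · rintro u ((rfl | rfl | rfl) | (rfl | rfl | rfl))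
    exacts [⟨![0, 0], rfl⟩, ⟨![1, 0], rfl⟩, ⟨![-1, 0], rfl⟩, ⟨![0, 0], rfl⟩, ⟨![0, 1], rfl⟩,
      ⟨![0, -1], rfl⟩]
  · set T : Set D := {x, y, x'} ∪ {x, w, w'}
    have mx : x ∈ LineSystem.span (threeTranspositionLines D) T := subset_span _ _ (by simp [T])
    have my : y ∈ LineSystem.span (threeTranspositionLines D) T := subset_span _ _ (by simp [T])
    have mw : w ∈ LineSystem.span (threeTranspositionLines D) T := subset_span _ _ (by simp [T])
    have mx' := third_mem_span hS hc hy mx my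
    have mw' := third_mem_span hS hc hw mx mw
    have mmm := third_mem_span hS hc hmm my mw
    have mmp := third_mem_span hS hc hmp my mw'
    have mpp := third_mem_span hS hc t4 mx mmm
    have mpm := third_mem_span hS hc t6 mx mmp
    intro p
    show (![![x, w, w'], ![y, pp, pm], ![x', mp, mm]] : Fin 3 → Fin 3 → D) (p 0) (p 1) ∈ _
    generalize (p 0 : Fin 3) = i
    generalize (p 1 : Fin 3) = j
    fin_cases i <;> fin_cases j
    exacts [mx, mw, mw', my, mpp, mpm, mx', mmp, mmm]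

theorem threeTransposition_fischerSpace (hS : IsThreeTranspositionSet D)
    (hc : ∀ g : G, ∀ d ∈ D, g * d * g⁻¹ ∈ D) : IsFischerSpace (threeTranspositionLines D) := by
  refine ⟨lines_partialLinear hS hc, lines_ncard hS hc, ?_⟩
  intro l hl m hm hlm hne
  obtain ⟨x, hxl, hxm⟩ := hne
  obtain ⟨y, hyl, hyx⟩ := Set.exists_ne_of_one_lt_ncard
    (by rw [lines_ncard hS hc l hl]; norm_num : 1 < l.ncard) x
  obtain ⟨w, hwm, hwx⟩ := Set.exists_ne_of_one_lt_ncard
    (by rw [lines_ncard hS hc m hm]; norm_num : 1 < m.ncard) x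
  obtain ⟨a, b, c, h, rfl⟩ := (mem_lines_iff hS hc).1 hl
  obtain ⟨a', b', c', h', rfl⟩ := (mem_lines_iff hS hc).1 hm
  obtain ⟨x', hy, el⟩ := triple_of_mem hS h hyx.symm hxl hyl
  obtain ⟨w', hw, em⟩ := triple_of_mem hS h' hwx.symm hxm hwm
  rw [el, em] at hlm ⊢
  have hdiff : ∀ p ∈ ({x, y, x'} : Set D), ∀ q ∈ ({x, w, w'} : Set D), p ≠ x → p ≠ q := by
    intro p hp q hq hpx e
    exact hlm (lines_partialLinear hS hc _ ((mem_lines_iff hS hc).2 ⟨_, _, _, hy, rfl⟩) _
      ((mem_lines_iff hS hc).2 ⟨_, _, _, hw, rfl⟩) x p hpx.symm (by simp) hp (by simp) (e ▸ hq))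
  have hyswap : IsTriple D x x' y := triple_swap hS (triple_rot hS (triple_swap hS hy))
  have hwswap : IsTriple D x w' w := triple_swap hS (triple_rot hS (triple_swap hS hw))
  have sy : ({x, y, x'} : Set D) = {x, x', y} := by rw [Set.pair_comm y x']
  have sw : ({x, w, w'} : Set D) = {x, w', w} := by rw [Set.pair_comm w w']
  by_cases n1 : Commute (y : G) (w : G)
  · exact Or.inl (span_string hS hc hy hw (hdiff y (by simp) w (by simp) (triple_ne hS hy).1.symm) n1)
  by_cases n2 : Commute (y : G) (w' : G)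
  · rw [sw]
    exact Or.inl (span_string hS hc hy hwswap
      (hdiff y (by simp) w' (by simp) (triple_ne hS hy).1.symm) n2)
  exact Or.inr (span_affine hS hc hy hw (hdiff x' (by simp) w (by simp) (triple_ne hS hy).2.1.symm)
    (hdiff y (by simp) w (by simp) (triple_ne hS hy).1.symm) n1 n2 hlm)

end Group

end Cfsg.Agent.Lib.ThreeTransp
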