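import Mathlib

/-!
Characteristic zero representations without fixed points from a fixed-point-free action on an
elementary abelian group of coprime order.
-/

set_option autoImplicit false

namespace Cfsg.Agent.Lib.ThreeTransp.FpfRep

open MonoidAlgebra

variable {G : Type*} [Group G]

/-- The norm element of a cyclic subgroup. -/
noncomputable def norm (k : Type*) [CommRing k] (g : G) : MonoidAlgebra k G :=
  ∑ i ∈ Finset.range (orderOf g), (of k G g) ^ i

theorem of_mul_norm (k : Type*) [CommRing k] (g : G) : of k G g * norm k g = norm k g := by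
  have h := mul_geom_sum (of k G g) (orderOf g)
  rw [← map_pow, pow_orderOf_eq_one, map_one, sub_self, sub_mul, one_mul, sub_eq_zero] at h
  exact h

theorem norm_mul_norm (k : Type*) [CommRing k] (g : G) :
    norm k g * norm k g = orderOf g • norm k g := by
  have hpow : ∀ i : ℕ, (of k G g) ^ i * norm k g = norm k g := by
    intro i
    induction i with
    | zero => rw [pow_zero, one_mul]
    | succ i ih => rw [pow_succ, mul_assoc, of_mul_norm, ih]
  conv_lhs => arg 1; rw [norm]
  rw [Finset.sum_mul, Finset.sum_congr rfl (fun i _ => hpow i), Finset.sum_const, Finset.card_range]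

theorem norm_conj (k : Type*) [CommRing k] (g h : G) :
    norm k g * of k G h = of k G h * norm k (h⁻¹ * g * h) := by
  have ho : orderOf (h⁻¹ * g * h) = orderOf g :=
    orderOf_injective (MulAut.conj h⁻¹).toMonoidHom (MulAut.conj h⁻¹).injective g |>.symm |>.symm |>
      (fun e => by simpa using e)
  rw [norm, norm, ho, Finset.sum_mul, Finset.mul_sum]
  refine Finset.sum_congr rfl fun i _ => ?_
  rw [← map_pow, ← map_pow, ← map_mul, ← map_mul]
  congr 1
  have := conj_pow (a := h⁻¹) (b := g) (i := i)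
  rw [inv_inv] at this
  rw [this]; group

theorem map_norm {k k' : Type*} [CommRing k] [CommRing k'] (f : k →+* k') (g : G) :
    MonoidAlgebra.mapRingHom G f (norm k g) = norm k' g := by
  simp only [norm, map_sum, map_pow]
  refine Finset.sum_congr rfl fun i _ => ?_
  congr 1
  simp [of_apply]

/-- Non-trivial elements. -/
abbrev NT (G : Type*) [One G] := {g : G // g ≠ 1}

section

variable [Finite G] {p : ℕ} [hp : Fact p.Prime]

/-- The integral norm elements generate no non-zero integer. -/
theorem int_norm_proper {V : Type*} [AddCommGroup V] [Module (ZMod p) V]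
    (ρ : Representation (ZMod p) G V) (hG : ¬ p ∣ Nat.card G) (hfix : ∀ g : G, g ≠ 1 →
      ∀ v : V, ρ g v = v → v = 0) (hV : ∃ v : V, v ≠ 0) [Fintype (NT G)]
    (c : NT G → MonoidAlgebra ℤ G) (m : ℕ) (hm : m ≠ 0) :
    (∑ g : NT G, c g * norm ℤ (g : G)) ≠ (m : MonoidAlgebra ℤ G) := by
  classical
  intro heq
  haveI : Fintype G := Fintype.ofFinite G
  haveI : NeZero (Nat.card G : ZMod p) := ⟨fun h => hG ((ZMod.natCast_eq_zero_iff _ _).1 h)⟩
  set Φ := ρ.asAlgebraHom with hΦ
  have hNV : ∀ g : G, g ≠ 1 → Φ (norm (ZMod p) g) = 0 := by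
    intro g hg
    refine LinearMap.ext fun v => hfix g hg _ ?_
    have h : Φ (of (ZMod p) G g * norm (ZMod p) g) = Φ (norm (ZMod p) g) := by rw [of_mul_norm]
    rw [map_mul] at h
    have h2 := LinearMap.congr_fun h v
    rw [Module.End.mul_apply, of_apply, Representation.asAlgebraHom_single_one] at h2
    exact h2
  obtain ⟨v, hv⟩ := hV
  let K : Submodule (MonoidAlgebra (ZMod p) G) (MonoidAlgebra (ZMod p) G) :=
    { carrier := {x | Φ x v = 0}
      add_mem' := fun {a b} ha hb => by
        show Φ (a + b) v = 0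
        rw [map_add, LinearMap.add_apply, (ha : Φ a v = 0), (hb : Φ b v = 0), add_zero]
      zero_mem' := by show Φ 0 v = 0; rw [map_zero]; rfl
      smul_mem' := fun r {a} ha => by
        show Φ (r * a) v = 0
        rw [map_mul, Module.End.mul_apply, (ha : Φ a v = 0), map_zero] }
  obtain ⟨L, hL⟩ := exists_isCompl K
  obtain ⟨k, hk, e, he, hke⟩ :=
    Submodule.mem_sup.1 (hL.sup_eq_top ▸ Submodule.mem_top : (1 : MonoidAlgebra (ZMod p) G) ∈ K ⊔ L)
  have he0 : e ≠ 0 := by
    intro h
    rw [h, add_zero] at hke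
    rw [hke] at hk
    have : Φ 1 v = 0 := hk
    rw [map_one] at this
    exact hv this
  have hker : ∀ g : G, g ≠ 1 → ∀ r : MonoidAlgebra (ZMod p) G, norm (ZMod p) g * (r * e) = 0 := by
    intro g hg r
    refine Submodule.disjoint_def.1 hL.disjoint _ ?_ (L.smul_mem (norm (ZMod p) g) (L.smul_mem r he))
    show Φ (norm (ZMod p) g * (r * e)) v = 0
    rw [map_mul, hNV g hg]; rfl
  have hee : IsIdempotentElem e := by
    have h1 : e * k ∈ K := K.smul_mem e hk
    have h2 : e * e ∈ L := L.smul_mem e he
    have h3 : e * k = e - e * e := by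
      rw [eq_sub_iff_add_eq, ← mul_add, hke, mul_one]
    have h4 : e * k = 0 :=
      Submodule.disjoint_def.1 hL.disjoint _ h1 (h3 ▸ L.sub_mem he h2)
    show e * e = e
    rw [h4] at h3
    exact (sub_eq_zero.1 h3.symm).symm
  obtain ⟨a, m', hm', rfl⟩ := Nat.exists_eq_pow_mul_and_not_dvd hm p hp.out.ne_one
  set q := p ^ (a + 1) with hq
  haveI : NeZero q := ⟨pow_ne_zero _ hp.out.ne_zero⟩
  let red : ZMod q →+* ZMod p := ZMod.castHom (dvd_pow_self p (Nat.succ_ne_zero a)) (ZMod p)
  let F := MonoidAlgebra.mapRingHom G red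
  have hdiv : ∀ x : MonoidAlgebra (ZMod q) G, F x = 0 → ∃ y, x = (p : MonoidAlgebra (ZMod q) G) * y := by
    intro x hx
    have hc : ∀ g, ∃ d : ZMod q, x.coeff g = (p : ZMod q) * d := by
      intro g
      have h0 : red (x.coeff g) = 0 := by
        have := congrArg (fun z : MonoidAlgebra (ZMod p) G => z.coeff g) hx
        simpa [F] using this
      rw [ZMod.castHom_apply, ← ZMod.natCast_val] at h0
      obtain ⟨d, hd⟩ := (ZMod.natCast_eq_zero_iff _ _).1 h0
      exact ⟨(d : ZMod q), by rw [← ZMod.natCast_zmod_val (x.coeff g), hd, Nat.cast_mul]⟩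
    choose d hd using hc
    refine ⟨∑ g, MonoidAlgebra.single g (d g), ?_⟩
    rw [Finset.mul_sum]
    conv_lhs => rw [← MonoidAlgebra.sum_coeff_single x, Finsupp.sum_fintype _ _ (fun g => MonoidAlgebra.single_zero g)]
    refine Finset.sum_congr rfl fun g _ => ?_
    rw [MonoidAlgebra.natCast_def, MonoidAlgebra.single_mul_single, one_mul]
    congr 1
    exact hd g
  have hpq : (p : MonoidAlgebra (ZMod q) G) ^ (a + 1) = 0 := by
    rw [← Nat.cast_pow, ← hq, MonoidAlgebra.natCast_def, ZMod.natCast_self, MonoidAlgebra.single_zero]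
  obtain ⟨E, hE, hEe⟩ := exists_isIdempotentElem_eq_of_ker_isNilpotent F (fun x hx => by
      obtain ⟨y, rfl⟩ := hdiv x hx
      exact ⟨a + 1, by rw [(Nat.cast_commute p y).mul_pow, hpq, zero_mul]⟩) e
    ⟨∑ g, MonoidAlgebra.single g ((e.coeff g).val : ZMod q), by
      rw [map_sum]
      conv_rhs => rw [← MonoidAlgebra.sum_coeff_single e, Finsupp.sum_fintype _ _ (fun g => MonoidAlgebra.single_zero g)]
      refine Finset.sum_congr rfl fun g _ => ?_
      simp [F, red]⟩ hee
  have hkill : ∀ g : G, g ≠ 1 → norm (ZMod q) g * E = 0 := by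
    intro g hg
    have hu : IsUnit ((orderOf g : ℕ) : ZMod q) := by
      rw [ZMod.isUnit_iff_coprime]
      exact Nat.Coprime.pow_right _ ((hp.out.coprime_iff_not_dvd.2
        (fun h => hG (h.trans (orderOf_dvd_natCard g)))).symm)
    obtain ⟨u, hu⟩ := hu
    have key : ∀ j, ∀ r : MonoidAlgebra (ZMod q) G, ∃ z,
        norm (ZMod q) g * (r * E) = (p : MonoidAlgebra (ZMod q) G) ^ j * z := by
      intro j
      induction j with
      | zero => exact fun r => ⟨_, by rw [pow_zero, one_mul]⟩
      | succ j ih =>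
        intro r
        obtain ⟨y, hy⟩ := hdiv (norm (ZMod q) g * (r * E)) (by
          rw [map_mul, map_mul, hEe, map_norm, hker g hg])
        have hy' : norm (ZMod q) g * (r * E) = (p : MonoidAlgebra (ZMod q) G) * (y * E) := by
          conv_lhs => rw [show r * E = r * E * E by rw [mul_assoc, hE.eq], ← mul_assoc, hy]
          rw [mul_assoc]
        obtain ⟨z, hz⟩ := ih y
        refine ⟨((u⁻¹ : (ZMod q)ˣ) : ZMod q) • z, ?_⟩
        have h1 : orderOf g • (norm (ZMod q) g * (r * E)) =
            (p : MonoidAlgebra (ZMod q) G) ^ (j + 1) * z := by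
          rw [← smul_mul_assoc, ← norm_mul_norm, mul_assoc, hy', ← mul_assoc,
            ← (Nat.cast_commute p (norm (ZMod q) g)).eq, mul_assoc, hz, ← mul_assoc, pow_succ']
        have h2 := congrArg (((u⁻¹ : (ZMod q)ˣ) : ZMod q) • ·) h1
        simp only [← Nat.cast_smul_eq_nsmul (ZMod q), smul_smul, ← hu, Units.inv_mul, one_smul] at h2
        rw [h2, mul_smul_comm]
    obtain ⟨z, hz⟩ := key (a + 1) 1
    rw [one_mul, hpq, zero_mul] at hz
    exact hz
  have h0 : ((p ^ a * m' : ℕ) : MonoidAlgebra (ZMod q) G) * E = 0 := by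
    have h := congrArg (MonoidAlgebra.mapRingHom G (Int.castRingHom (ZMod q))) heq
    rw [map_sum, map_natCast] at h
    rw [← h, Finset.sum_mul]
    exact Finset.sum_eq_zero fun g _ => by rw [map_mul, map_norm, mul_assoc, hkill g g.2, mul_zero]
  obtain ⟨g, hg⟩ : ∃ g, e.coeff g ≠ 0 := by
    by_contra h
    push Not at h
    exact he0 (MonoidAlgebra.ext <| Finsupp.ext fun g => h g)
  have hEg : red (E.coeff g) ≠ 0 := by
    intro h
    apply hg
    rw [← hEe]
    simpa [F] using h
  have h0g : ((p ^ a * m' : ℕ) : ZMod q) * E.coeff g = 0 := by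
    have := congrArg (fun z : MonoidAlgebra (ZMod q) G => z.coeff g) h0
    rw [MonoidAlgebra.natCast_def] at this
    simpa [MonoidAlgebra.coeff_single_one_mul] using this
  apply hEg
  rw [ZMod.castHom_apply, ← ZMod.natCast_val, ZMod.natCast_eq_zero_iff]
  rw [← ZMod.natCast_zmod_val (E.coeff g), ← Nat.cast_mul, ZMod.natCast_eq_zero_iff] at h0g
  rw [mul_assoc] at h0g
  have h6 : p ^ a * p ∣ p ^ a * (m' * (E.coeff g).val) := by rw [← pow_succ]; exact h0g
  have h5 := Nat.dvd_of_mul_dvd_mul_left (pow_pos hp.out.pos a) h6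
  exact ((hp.out.dvd_mul).1 h5).resolve_left hm'

/-- The representation. -/
theorem exists_rep {V : Type*} [AddCommGroup V] [Module (ZMod p) V]
    (ρ : Representation (ZMod p) G V) (hG : ¬ p ∣ Nat.card G) (hfix : ∀ g : G, g ≠ 1 →
      ∀ v : V, ρ g v = v → v = 0) (hV : ∃ v : V, v ≠ 0) :
    ∃ (n : ℕ) (σ : G →* GL (Fin n) (AlgebraicClosure ℚ)), 0 < n ∧ Function.Injective σ ∧
      (∀ W : Submodule (AlgebraicClosure ℚ) (Fin n → AlgebraicClosure ℚ),
        (∀ g : G, ∀ w ∈ W, ((σ g : GL (Fin n) (AlgebraicClosure ℚ)) :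
          Matrix (Fin n) (Fin n) (AlgebraicClosure ℚ)).mulVec w ∈ W) → W = ⊥ ∨ W = ⊤) ∧
      ∀ g : G, g ≠ 1 → ∀ v : Fin n → AlgebraicClosure ℚ,
        ((σ g : GL (Fin n) (AlgebraicClosure ℚ)) :
          Matrix (Fin n) (Fin n) (AlgebraicClosure ℚ)).mulVec v = v → v = 0 := by
  classical
  haveI : Fintype G := Fintype.ofFinite G
  haveI : Fintype (NT G) := Fintype.ofFinite _
  let k := AlgebraicClosure ℚ
  let I : Submodule (MonoidAlgebra k G) (MonoidAlgebra k G) :=
    Submodule.span _ (Set.range fun g : NT G => norm k (g : G))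
  have h1 : (1 : MonoidAlgebra k G) ∉ I := by
    intro h
    obtain ⟨c, hc⟩ := Submodule.mem_span_range_iff_exists_fun _ |>.1 h
    obtain ⟨π, hπ⟩ := LinearMap.exists_leftInverse_of_injective (Algebra.linearMap ℚ k)
      (LinearMap.ker_eq_bot.2 (algebraMap ℚ k).injective)
    have hπq : ∀ (x : k) (r : ℚ), π (x * algebraMap ℚ k r) = π x * r := by
      intro x r
      rw [mul_comm x, ← Algebra.smul_def, LinearMap.map_smul, smul_eq_mul, mul_comm]
    let P : MonoidAlgebra k G → MonoidAlgebra ℚ G := fun x => ∑ g, MonoidAlgebra.single g (π (x.coeff g))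
    have hPv : ∀ x g, (P x).coeff g = π (x.coeff g) := by
      intro x g
      simp [P, Finsupp.single_apply]
    have hPmul : ∀ x d, P (x * MonoidAlgebra.mapRingHom G (algebraMap ℚ k) d) = P x * d := by
      intro x d
      induction d using MonoidAlgebra.induction_linear with
      | zero =>
        refine MonoidAlgebra.ext <| Finsupp.ext fun g => ?_
        rw [map_zero, mul_zero, mul_zero, hPv]
        simp
      | add d₁ d₂ h₁ h₂ =>
        refine MonoidAlgebra.ext <| Finsupp.ext fun g => ?_
        rw [map_add, mul_add, mul_add, ← h₁, ← h₂, hPv]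
        simp [hPv]
      | single h r =>
        refine MonoidAlgebra.ext <| Finsupp.ext fun g => ?_
        rw [hPv, show MonoidAlgebra.mapRingHom G (algebraMap ℚ k) (MonoidAlgebra.single h r) =
            MonoidAlgebra.single h (algebraMap ℚ k r) by simp,
          MonoidAlgebra.coeff_mul_single_apply, MonoidAlgebra.coeff_mul_single_apply, hπq, hPv]
    have hQ : (∑ g : NT G, P (c g) * norm ℚ (g : G)) = 1 := by
      have h2 : P (∑ g : NT G, c g • norm k (g : G)) = ∑ g : NT G, P (c g * norm k (g : G)) := by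
        refine MonoidAlgebra.ext <| Finsupp.ext fun g => ?_
        simp [hPv]
      rw [hc] at h2
      have h3 : P (1 : MonoidAlgebra k G) = 1 := by
        refine MonoidAlgebra.ext <| Finsupp.ext fun g => ?_
        rw [hPv, MonoidAlgebra.one_def, MonoidAlgebra.one_def, MonoidAlgebra.coeff_single_apply, MonoidAlgebra.coeff_single_apply]
        split_ifs
        · exact LinearMap.congr_fun hπ 1 |> (fun e => by simpa using e)
        · exact map_zero π
      rw [h3] at h2
      rw [h2]
      refine Finset.sum_congr rfl fun g _ => ?_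
      rw [← hPmul, map_norm]
    let ι := MonoidAlgebra.mapRingHom G (Int.castRingHom ℚ)
    have hclear : ∀ x : MonoidAlgebra ℚ G, ∃ m : ℕ, m ≠ 0 ∧ ∃ y, (m : MonoidAlgebra ℚ G) * x = ι y := by
      intro x
      induction x using MonoidAlgebra.induction_linear with
      | zero => exact ⟨1, one_ne_zero, 0, by rw [mul_zero, map_zero]⟩
      | add a b ha hb =>
        obtain ⟨m₁, hm₁, y₁, e₁⟩ := ha
        obtain ⟨m₂, hm₂, y₂, e₂⟩ := hb
        refine ⟨m₁ * m₂, Nat.mul_ne_zero hm₁ hm₂, (m₂ : MonoidAlgebra ℤ G) * y₁ + (m₁ : MonoidAlgebra ℤ G) * y₂, ?_⟩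
        rw [map_add, map_mul, map_mul, map_natCast, map_natCast, ← e₁, ← e₂, mul_add, ← mul_assoc,
          ← mul_assoc, ← Nat.cast_mul, ← Nat.cast_mul, mul_comm m₂ m₁]
      | single h r =>
        refine ⟨r.den, r.den_nz, MonoidAlgebra.single h r.num, ?_⟩
        rw [MonoidAlgebra.natCast_def, MonoidAlgebra.single_mul_single, one_mul]
        simp [ι, Rat.den_mul_eq_num]
    choose md hmd y hy using fun g : NT G => hclear (P (c g))
    refine int_norm_proper ρ hG hfix hV
      (fun g => ((∏ i ∈ Finset.univ.erase g, md i : ℕ) : MonoidAlgebra ℤ G) * y g) (∏ i, md i)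
      (Finset.prod_ne_zero_iff.2 fun i _ => hmd i) ?_
    have hinj : Function.Injective ι := by
      intro u w huw
      refine MonoidAlgebra.ext <| Finsupp.ext fun g => ?_
      have := congrArg (fun z : MonoidAlgebra ℚ G => z.coeff g) huw
      simpa [ι] using this
    apply hinj
    rw [map_sum, map_natCast]
    have hone : ((∏ i, md i : ℕ) : MonoidAlgebra ℚ G) =
        ∑ g : NT G, ((∏ i, md i : ℕ) : MonoidAlgebra ℚ G) * (P (c g) * norm ℚ (g : G)) := by
      rw [← Finset.mul_sum, hQ, mul_one]
    rw [hone]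
    refine Finset.sum_congr rfl fun g _ => ?_
    rw [map_mul, map_mul, map_natCast, map_norm, ← hy g, ← mul_assoc, ← mul_assoc, ← Nat.cast_mul,
      Finset.prod_erase_mul _ _ (Finset.mem_univ g)]
  have hIk : ∀ g : NT G, ∀ r : MonoidAlgebra k G, norm k (g : G) * r ∈ I := by
    intro g r
    induction r using MonoidAlgebra.induction_linear with
    | zero => rw [mul_zero]; exact I.zero_mem
    | add a b ha hb => rw [mul_add]; exact I.add_mem ha hb
    | single h r =>
      have hne : h⁻¹ * (g : G) * h ≠ 1 := fun e => g.2 (by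
        calc (g : G) = h * (h⁻¹ * g * h) * h⁻¹ := by group
          _ = 1 := by rw [e]; group)
      rw [show (MonoidAlgebra.single h r : MonoidAlgebra k G) = r • of k G h by simp [of_apply],
        mul_smul_comm, norm_conj, ← smul_mul_assoc]
      exact I.smul_mem _ (Submodule.subset_span ⟨⟨_, hne⟩, rfl⟩)
  let Q := MonoidAlgebra k G ⧸ I
  haveI : FiniteDimensional k (MonoidAlgebra k G) := Module.Finite.of_basis (MonoidAlgebra.basis G k)
  haveI : FiniteDimensional k Q :=
    Module.Finite.of_surjective ((I.mkQ).restrictScalars k) (Submodule.mkQ_surjective I)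
  have hkill : ∀ g : G, g ≠ 1 → ∀ x : Q, norm k g • x = 0 := by
    intro g hg x
    obtain ⟨r, rfl⟩ := Submodule.Quotient.mk_surjective I x
    rw [← Submodule.Quotient.mk_smul, Submodule.Quotient.mk_eq_zero]
    exact hIk ⟨g, hg⟩ r
  -- a minimal invariant subspace
  have hex : ∃ d, ∃ W : Submodule (MonoidAlgebra k G) Q, W ≠ ⊥ ∧
      Module.finrank k (W.restrictScalars k) = d := by
    refine ⟨_, ⊤, fun h => h1 ?_, rfl⟩
    rw [← Submodule.Quotient.mk_eq_zero]
    exact (Submodule.eq_bot_iff _).1 h _ Submodule.mem_top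
  obtain ⟨W, hW, hWd⟩ := Nat.find_spec hex
  have hmin : ∀ W' : Submodule (MonoidAlgebra k G) Q, W' ≤ W → W' ≠ ⊥ → W' = W := by
    intro W' hle hne
    have h2 := Nat.find_min' hex ⟨W', hne, rfl⟩
    have h3 : W'.restrictScalars k = W.restrictScalars k :=
      Submodule.eq_of_le_of_finrank_le (fun x hx => hle hx) (hWd.le.trans h2)
    exact Submodule.restrictScalars_injective k _ _ h3
  set Wk := W.restrictScalars k with hWk
  set n := Module.finrank k Wk
  let e : (Fin n → k) ≃ₗ[k] Wk := (Module.finBasis k Wk).equivFun.symm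
  let L : MonoidAlgebra k G → (Wk →ₗ[k] Wk) := fun a =>
    { toFun := fun x => ⟨a • (x : Q), W.smul_mem a x.2⟩
      map_add' := fun x y => Subtype.ext (smul_add a (x : Q) (y : Q))
      map_smul' := fun r x => Subtype.ext (smul_comm a r (x : Q)) }
  let M : G →* Matrix (Fin n) (Fin n) k :=
    { toFun := fun g => LinearMap.toMatrix' (e.symm.toLinearMap ∘ₗ L (of k G g) ∘ₗ e.toLinearMap)
      map_one' := by
        rw [← LinearMap.toMatrix'_id]
        congr 1
        refine LinearMap.ext fun x => ?_
        show e.symm (L (of k G 1) (e x)) = x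
        rw [show L (of k G 1) (e x) = e x from Subtype.ext (by
          show (of k G 1) • ((e x : Wk) : Q) = _; rw [map_one, one_smul]), LinearEquiv.symm_apply_apply]
      map_mul' := fun g h => by
        rw [← LinearMap.toMatrix'_comp]
        congr 1
        refine LinearMap.ext fun x => ?_
        show e.symm (L (of k G (g * h)) (e x)) = e.symm (L (of k G g) (e (e.symm (L (of k G h) (e x)))))
        rw [LinearEquiv.apply_symm_apply]
        congr 1
        exact Subtype.ext (by
          show (of k G (g * h)) • ((e x : Wk) : Q) = of k G g • (of k G h • ((e x : Wk) : Q))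
          rw [map_mul, mul_smul]) }
  have hM : ∀ g x, (M g).mulVec x = e.symm (L (of k G g) (e x)) := fun g x =>
    LinearMap.toMatrix'_mulVec _ x
  let σ : G →* GL (Fin n) k := M.toHomUnits
  have hσ : ∀ g, ((σ g : GL (Fin n) k) : Matrix (Fin n) (Fin n) k) = M g := fun g => rfl
  have hno : ∀ g : G, g ≠ 1 → ∀ x : Fin n → k, (M g).mulVec x = x → x = 0 := by
    intro g hg x hx
    rw [hM, LinearEquiv.symm_apply_eq] at hx
    have hx' : of k G g • ((e x : Wk) : Q) = (e x : Wk) := congrArg Subtype.val hx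
    have hsum := hkill g hg ((e x : Wk) : Q)
    have hp' : ∀ i : ℕ, (of k G g) ^ i • ((e x : Wk) : Q) = (e x : Wk) := by
      intro i
      induction i with
      | zero => rw [pow_zero, one_smul]
      | succ i ih => rw [pow_succ, mul_smul, hx', ih]
    rw [norm, Finset.sum_smul, Finset.sum_congr rfl (fun i _ => hp' i), Finset.sum_const,
      Finset.card_range, ← Nat.cast_smul_eq_nsmul k] at hsum
    have hne : ((orderOf g : ℕ) : k) ≠ 0 := Nat.cast_ne_zero.2 (orderOf_pos g).ne'
    have h4 : ((e x : Wk) : Q) = 0 := (smul_eq_zero.1 hsum).resolve_left hne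
    exact e.map_eq_zero_iff.1 (Subtype.ext h4)
  have hn : 0 < n := by
    rw [pos_iff_ne_zero]
    intro h0
    apply hW
    rw [← Submodule.restrictScalars_eq_bot_iff (S := k)]
    exact Submodule.finrank_eq_zero.1 h0
  refine ⟨n, σ, hn, ?_, ?_, fun g hg x hx => hno g hg x hx⟩
  · rw [injective_iff_map_eq_one]
    intro g hg
    by_contra hg1
    haveI : Nonempty (Fin n) := ⟨⟨0, hn⟩⟩
    obtain ⟨x, hx⟩ := exists_ne (0 : Fin n → k)
    refine hx (hno g hg1 x ?_)
    rw [← hσ, hg, Units.val_one, Matrix.one_mulVec]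
  · intro S hS
    let T : Submodule (MonoidAlgebra k G) Q :=
      { carrier := {z | ∃ x ∈ S, ((e x : Wk) : Q) = z}
        add_mem' := fun {a b} ⟨x, hx, ha⟩ ⟨y, hy, hb⟩ => ⟨x + y, S.add_mem hx hy, by
          rw [map_add, Submodule.coe_add, ha, hb]⟩
        zero_mem' := ⟨0, S.zero_mem, by rw [map_zero]; rfl⟩
        smul_mem' := fun r {z} hz => by
          induction r using MonoidAlgebra.induction_linear with
          | zero => exact ⟨0, S.zero_mem, by rw [map_zero, zero_smul]; rfl⟩
          | add a b ha hb =>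
            obtain ⟨x, hx, hxa⟩ := ha
            obtain ⟨y, hy, hyb⟩ := hb
            exact ⟨x + y, S.add_mem hx hy, by rw [map_add, Submodule.coe_add, hxa, hyb, add_smul]⟩
          | single h r =>
            obtain ⟨x, hx, rfl⟩ := hz
            refine ⟨r • (M h).mulVec x, S.smul_mem r (hS h x hx), ?_⟩
            rw [map_smul, hM, LinearEquiv.apply_symm_apply]
            show r • (of k G h • ((e x : Wk) : Q)) = _
            rw [← smul_assoc]
            congr 1
            simp [of_apply] }
    have hTW : T ≤ W := by rintro z ⟨x, -, rfl⟩; exact (e x).2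
    by_cases hT : T = ⊥
    · left
      rw [Submodule.eq_bot_iff]
      intro x hx
      have : ((e x : Wk) : Q) = 0 := (Submodule.eq_bot_iff T).1 hT _ ⟨x, hx, rfl⟩
      exact e.map_eq_zero_iff.1 (Subtype.ext this)
    · right
      rw [eq_top_iff]
      intro x _
      have hx : ((e x : Wk) : Q) ∈ T := by rw [hmin T hTW hT]; exact (e x).2
      obtain ⟨y, hy, hyx⟩ := hx
      rwa [← e.injective (Subtype.ext hyx)]

end

end Cfsg.Agent.Lib.ThreeTransp.FpfRep
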