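import Cfsg.Agent.Lib.Compute.GolayFacts
import Cfsg.Agent.Lib.ThreeTransp.CosetTable

/-!
# Invariant subspaces of the permutation module of the code group
-/

namespace Cfsg.Agent.Lib.ThreeTransp

open Cfsg Equiv
open Cfsg.Agent.Lib.Compute

abbrev Word : Type := GolayPt → ZMod 2

/-- `W` is invariant under the coordinate permutations in `M24`. -/
def Inv24 (W : Submodule (ZMod 2) Word) : Prop :=
  ∀ σ ∈ M24, ∀ w ∈ W, (fun p => w (σ.symm p)) ∈ W

/-- The four generators of the pointwise stabiliser of the octad `0x149f`. -/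
def octFix : List (ℕ × ℕ) := m24Cert6.gens

theorem octFix_check : (octFix.all fun g => genOk 24 g && presOk g.1 &&
    ((List.range 24).all fun i => app g.1 (app g.1 i) == i &&
      ((0x149f : ℕ).testBit i == false || app g.1 i == i)) &&
    octFix.all fun h => (List.range 24).all fun i => app g.1 (app h.1 i) == app h.1 (app g.1 i))
    = true := by decide +kernel

theorem chk_octFix : chk 24 [m24Cert6] = true := by decide +kernel

theorem orbit_octFix : ((List.range 24).all fun i =>
    (0x149f : ℕ).testBit i || (orbit m24Cert6).contains i) = true := by decide +kernel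

/-- The permutation of the points packed in `P`. -/
noncomputable def gp (P : ℕ) : Perm GolayPt := toGP (toPerm 24 P)

theorem octFix_spec {g : ℕ × ℕ} (hg : g ∈ octFix) :
    gp g.1 ∈ M24 ∧ gp g.1 * gp g.1 = 1 ∧
      (∀ p : GolayPt, (0x149f : ℕ).testBit (enc p) → gp g.1 p = p) ∧
      ∀ h ∈ octFix, gp g.1 * gp h.1 = gp h.1 * gp g.1 := by
  have h0 := List.all_eq_true.mp octFix_check g hg
  simp only [Bool.and_eq_true, List.all_eq_true, List.mem_range, Bool.or_eq_true, beq_iff_eq] at h0
  obtain ⟨⟨⟨hok, hpres⟩, hi⟩, hc⟩ := h0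
  have hr := repr_toPerm_of_genOk hok
  refine ⟨toGP_mem_M24_of_presOk hr hpres, ?_, fun p hp => ?_, fun h hh => ?_⟩
  · rw [gp, ← map_mul, (hr.mul hr).eq Repr.one fun i hi' => (hi i hi').1, map_one]
  · rcases (hi (enc p) (enc p).isLt).2 with e | e
    · rw [hp] at e; simp at e
    · rw [gp, toGP_apply]
      have : toPerm 24 g.1 (enc p) = enc p := Fin.ext ((hr (enc p)).trans e)
      rw [this, Equiv.symm_apply_apply]
  · have h1 := List.all_eq_true.mp octFix_check h hh
    simp only [Bool.and_eq_true] at h1
    have hr' := repr_toPerm_of_genOk h1.1.1.1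
    rw [gp, gp, ← map_mul, ← map_mul, (hr.mul hr').eq (hr'.mul hr) fun i hi' => hc h hh i hi']

theorem derive {W : Submodule (ZMod 2) Word} (hW : Inv24 W) :
    ∀ (l : List (Perm GolayPt)) (o : Finset GolayPt),
      (∀ e ∈ l, e ∈ M24 ∧ e * e = 1 ∧ (∀ p ∈ o, e p = p) ∧ ∀ f ∈ l, e * f = f * e) →
      ∀ g ∈ W, g ≠ 0 → (∀ p ∈ o, g p = 0) →
      ∃ g' ∈ W, g' ≠ 0 ∧ (∀ p ∈ o, g' p = 0) ∧ ∀ e ∈ l, ∀ p, g' (e p) = g' p := by
  intro l
  induction l with
  | nil => intro o _ g hg h0 hgo; exact ⟨g, hg, h0, hgo, by simp⟩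
  | cons e l ih =>
    intro o hl g hg h0 hgo
    obtain ⟨g', hg', h0', hgo', hfix⟩ := ih o (fun f hf => ⟨(hl f (List.mem_cons_of_mem _ hf)).1,
      (hl f (List.mem_cons_of_mem _ hf)).2.1, (hl f (List.mem_cons_of_mem _ hf)).2.2.1,
      fun k hk => (hl f (List.mem_cons_of_mem _ hf)).2.2.2 k (List.mem_cons_of_mem _ hk)⟩) g hg h0 hgo
    obtain ⟨he, he2, heo, hcom⟩ := hl e List.mem_cons_self
    have hesymm : ∀ p, e.symm p = e p := fun p => by
      rw [Equiv.symm_apply_eq]
      exact (DFunLike.congr_fun he2 p).symm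
    by_cases hz : ∀ p, g' (e p) = g' p
    · refine ⟨g', hg', h0', hgo', fun f hf => ?_⟩
      rcases List.mem_cons.mp hf with rfl | hf
      · exact hz
      · exact hfix f hf
    · push Not at hz
      obtain ⟨q, hq⟩ := hz
      refine ⟨g' + fun p => g' (e p), add_mem hg' ?_, ?_, ?_, ?_⟩
      · have := hW e he g' hg'
        simp only [hesymm] at this
        exact this
      · intro e0
        have := congrFun e0 q
        simp only [Pi.add_apply, Pi.zero_apply] at this
        exact hq (CharTwo.add_eq_zero.mp this).symm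
      · intro p hp
        simp [hgo' p hp, heo p hp]
      · intro f hf p
        simp only [Pi.add_apply]
        rcases List.mem_cons.mp hf with rfl | hf
        · have : f (f p) = p := DFunLike.congr_fun he2 p
          rw [this, add_comm]
        · have : e (f p) = f (e p) := DFunLike.congr_fun (hcom f (List.mem_cons_of_mem _ hf)) p
          rw [this, hfix f hf p, hfix f hf (e p)]

/-- The points outside the chosen octad. -/
abbrev outWord : Word := wordOf (0xffffff ^^^ 0x149f)

theorem outWord_apply : ∀ p : GolayPt,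
    outWord p = if (0x149f : ℕ).testBit (enc p) then 0 else 1 := by decide +kernel

/-- A non-constant word in an invariant subspace gives the complement of the chosen octad. -/
theorem outWord_mem {W : Submodule (ZMod 2) Word} (hW : Inv24 W) {w : Word} (hw : w ∈ W)
    {p q : GolayPt} (hpq : w p ≠ w q) : outWord ∈ W := by
  classical
  have h56 : enc.symm (5 : Fin 24) ≠ enc.symm 6 := by decide +kernel
  -- move `p, q` outside the octad
  obtain ⟨g1, a1, b1⟩ := exists_smul_two (p := p) (q := q) (fun e => hpq (by rw [e]))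
  obtain ⟨g2, a2, b2⟩ := exists_smul_two h56
  let s : M24 := g2 * g1⁻¹
  have hs5 : (s : Perm GolayPt) p = enc.symm 5 := by
    rw [← a1, ← a2]
    show (g2 : Perm GolayPt) ((g1 : Perm GolayPt)⁻¹ ((g1 : Perm GolayPt) _)) = _
    rw [Perm.coe_inv, Equiv.symm_apply_apply]
    rfl
  have hs6 : (s : Perm GolayPt) q = enc.symm 6 := by
    rw [← b1, ← b2]
    show (g2 : Perm GolayPt) ((g1 : Perm GolayPt)⁻¹ ((g1 : Perm GolayPt) _)) = _
    rw [Perm.coe_inv, Equiv.symm_apply_apply]
    rfl
  let w' : Word := fun x => w ((s : Perm GolayPt).symm x)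
  have hw' : w' ∈ W := hW _ s.2 w hw
  have hne : w' (enc.symm 5) ≠ w' (enc.symm 6) := by
    simp only [w', ← hs5, ← hs6, Equiv.symm_apply_apply]
    exact hpq
  let l : List (Perm GolayPt) := octFix.map fun g => gp g.1
  let o : Finset GolayPt := Finset.univ.filter fun x => (0x149f : ℕ).testBit (enc x)
  have hl : ∀ e ∈ l, e ∈ M24 ∧ e * e = 1 ∧ (∀ x ∈ o, e x = x) ∧ ∀ f ∈ l, e * f = f * e := by
    intro e he
    obtain ⟨g, hg, rfl⟩ := List.mem_map.mp he
    obtain ⟨h1, h2, h3, h4⟩ := octFix_spec hg
    refine ⟨h1, h2, fun x hx => h3 x (by simpa [o] using hx), fun f hf => ?_⟩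
    obtain ⟨h, hh, rfl⟩ := List.mem_map.mp hf
    exact h4 h hh
  -- a function fixed by all generators is constant outside the octad
  have hconst : ∀ v : Word, (∀ e ∈ l, ∀ x, v (e x) = v x) →
      ∀ x : GolayPt, (0x149f : ℕ).testBit (enc x) = false → v x = v (enc.symm 5) := by
    intro v hv x hx
    have horb := List.all_eq_true.mp orbit_octFix (enc x) (List.mem_range.mpr (enc x).isLt)
    simp only [hx, Bool.false_or, List.contains_iff_mem] at horb
    obtain ⟨σ, hσ, hσx⟩ := (mem_orbit_iff chk_octFix (5 : Fin 24) (enc x) rfl).mpr horb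
    have hclo : ∀ τ ∈ grp 24 [m24Cert6], ∀ y, v (toGP τ y) = v y := by
      intro τ hτ
      change τ ∈ Subgroup.closure _ at hτ
      induction hτ using Subgroup.closure_induction with
      | mem τ hτ =>
        obtain ⟨g, hg, rfl⟩ := hτ
        exact hv (gp g.1) (List.mem_map.mpr ⟨g, hg, rfl⟩)
      | one => intro y; rw [map_one]; rfl
      | mul a b _ _ iha ihb => intro y; rw [map_mul, Perm.mul_apply, iha, ihb]
      | inv a _ iha =>
        intro y
        conv_rhs => rw [← Equiv.apply_symm_apply (toGP a) y]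
        rw [iha, map_inv, Perm.coe_inv]
    have := hclo σ hσ (enc.symm 5)
    rw [toGP_apply, Equiv.apply_symm_apply, hσx, Equiv.symm_apply_apply] at this
    exact this
  obtain ⟨e, he, x, hx⟩ : ∃ e ∈ l, ∃ x, w' (e x) ≠ w' x := by
    by_contra hcon
    push Not at hcon
    exact hne (hconst w' hcon (enc.symm 6) (by rw [Equiv.apply_symm_apply]; decide +kernel)).symm
  obtain ⟨heM, he2, heo, -⟩ := hl e he
  have hesymm : ∀ y, e.symm y = e y := fun y => by
    rw [Equiv.symm_apply_eq]
    exact (DFunLike.congr_fun he2 y).symm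
  obtain ⟨g, hg, hg0, hgo, hgfix⟩ := derive hW l o hl (w' + fun y => w' (e y))
    (add_mem hw' (by simpa only [hesymm] using hW e heM w' hw'))
    (fun e0 => hx (by
      have := congrFun e0 x
      simp only [Pi.add_apply, Pi.zero_apply] at this
      exact (CharTwo.add_eq_zero.mp this).symm))
    (fun y hy => by simp [heo y hy, CharTwo.add_self_eq_zero])
  have hout : g = outWord := by
    have h1 : g (enc.symm 5) = 1 := by
      rcases zmod2_cases (g (enc.symm 5)) with h | h
      · refine absurd (funext fun y => ?_) hg0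
        by_cases hy : (0x149f : ℕ).testBit (enc y)
        · exact hgo y (by simp [o, hy])
        · rw [hconst g hgfix y (by simpa using hy), h]; rfl
      · exact h
    funext y
    rw [outWord_apply]
    by_cases hy : (0x149f : ℕ).testBit (enc y)
    · rw [if_pos hy]; exact hgo y (by simp [o, hy])
    · rw [if_neg hy, hconst g hgfix y (by simpa using hy), h1]
  exact hout ▸ hg

theorem one_mem_golayCode : (1 : Word) ∈ golayCode :=
  Submodule.subset_span (Or.inr rfl)

theorem word_ext_support {v w : Word} (h : support₂ v = support₂ w) : v = w :=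
  support₂_injective h

/-- An invariant subspace with a non-constant word contains the code. -/
theorem golayCode_le_of_invariant {W : Submodule (ZMod 2) Word} (hW : Inv24 W) {w : Word}
    (hw : w ∈ W) {p q : GolayPt} (hpq : w p ≠ w q) : golayCode ≤ W := by
  have hout := outWord_mem hW hw hpq
  have h0 : (setOf24 0x149f) ∈ octads := setOf24_mem_octads (by decide +kernel) (by decide +kernel)
  -- complements of all octads
  have hcompl : ∀ m : ℕ, inCode m = true → pop m = 8 → wordOf (0xffffff ^^^ m) ∈ W := by
    intro m hm h8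
    obtain ⟨g, hg⟩ := exists_smul_octad h0 (setOf24_mem_octads hm h8)
    have := hW _ g.2 _ hout
    convert this using 1
    have e1 : support₂ (wordOf 0x149f ∘ (g : Perm GolayPt).symm) = support₂ (wordOf m) := by
      rw [support₂_comp_symm, support₂_wordOf, support₂_wordOf]; exact hg
    have e2 := word_ext_support e1
    funext x
    show wordOf (0xffffff ^^^ m) x = wordOf (0xffffff ^^^ 0x149f) _
    rw [wordOf_xor, wordOf_xor, ← one_eq]
    simp only [Pi.add_apply, Pi.one_apply]
    rw [← e2]
    rfl
  -- sums of two of them give an octad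
  have hoct : wordOf 0x149f ∈ W := by
    have hd : ∃ a ∈ golayBasis, ∃ b ∈ golayBasis, pop (a.1 ^^^ b.1) = 8 := by decide +kernel
    obtain ⟨a, ha, b, hb, hab⟩ := hd
    obtain ⟨ca, pa⟩ := basis_octads a ha
    obtain ⟨cb, pb⟩ := basis_octads b hb
    have hsum := add_mem (hcompl _ ca pa) (hcompl _ cb pb)
    rw [← wordOf_xor, show (0xffffff ^^^ a.1) ^^^ (0xffffff ^^^ b.1) = a.1 ^^^ b.1 by
      apply Nat.eq_of_testBit_eq; intro i; simp only [Nat.testBit_xor]
      cases Nat.testBit 0xffffff i <;> simp] at hsum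
    have hc : wordOf (a.1 ^^^ b.1) ∈ golayCode := by
      rw [wordOf_xor]; exact add_mem (wordOf_mem_of_inCode ca) (wordOf_mem_of_inCode cb)
    have hO : setOf24 (a.1 ^^^ b.1) ∈ octads :=
      ⟨⟨_, hc, support₂_wordOf _⟩, by rw [card_setOf24]; exact hab⟩
    obtain ⟨g, hg⟩ := exists_smul_octad hO h0
    have := hW _ g.2 _ hsum
    convert this using 1
    apply word_ext_support
    show _ = support₂ (wordOf (a.1 ^^^ b.1) ∘ (g : Perm GolayPt).symm)
    rw [support₂_comp_symm, support₂_wordOf, support₂_wordOf]
    exact hg.symm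
  rw [golayCode_eq_span, Submodule.span_le]
  rintro _ ⟨m, hm, rfl⟩
  obtain ⟨b, hb, rfl⟩ := List.mem_map.mp hm
  obtain ⟨cb, pb⟩ := basis_octads b hb
  obtain ⟨g, hg⟩ := exists_smul_octad h0 (setOf24_mem_octads cb pb)
  have := hW _ g.2 _ hoct
  show wordOf b.1 ∈ W
  convert this using 1
  apply word_ext_support
  show _ = support₂ (wordOf 0x149f ∘ (g : Perm GolayPt).symm)
  rw [support₂_comp_symm, support₂_wordOf, support₂_wordOf]
  exact hg.symm

theorem leaders_check : ((List.range 16).all fun c =>
    ((List.range 256).zip (leaders.getD c [])).all (fun x => decide (pop x.2 ≤ 4) &&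
      inCode ((256 * c + x.1) ^^^ x.2)) && (leaders.getD c []).length == 256) = true := by
  decide +kernel

theorem red_lt : ∀ (m : ℕ), m < 2 ^ 24 → red golayBasis m < 4096 ∧
    inCode (m ^^^ red golayBasis m) = true := by
  intro m hm
  have key : ∀ (l : List (ℕ × ℕ)), (∀ b ∈ l, b.1 < 2 ^ 24) → ∀ m < 2 ^ 24,
      red l m < 2 ^ 24 ∧ (m ^^^ red l m) ∈ spanList (l.map Prod.fst) ∧
      ∀ i, (∀ b ∈ l, b.1.testBit i = false) → (red l m).testBit i = m.testBit i := by
    intro l
    induction l with
    | nil => intro _ m hm; exact ⟨hm, by simp [red, spanList], fun i _ => rfl⟩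
    | cons b l ih =>
      intro hb m hm
      obtain ⟨b, p⟩ := b
      simp only [red, List.map_cons, spanList, List.mem_append, List.mem_map]
      split
      · obtain ⟨h1, h2, h3⟩ := ih (fun c hc => hb c (List.mem_cons_of_mem _ hc)) (b ^^^ m)
          (Nat.xor_lt_two_pow (hb (b, p) List.mem_cons_self) hm)
        refine ⟨h1, Or.inr ⟨_, h2, by rw [← Nat.xor_assoc, ← Nat.xor_assoc, Nat.xor_self,
          Nat.zero_xor]⟩, fun i hi => ?_⟩
        rw [h3 i (fun c hc => hi c (List.mem_cons_of_mem _ hc)), Nat.testBit_xor,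
          hi (b, p) List.mem_cons_self, Bool.false_xor]
      · obtain ⟨h1, h2, h3⟩ := ih (fun c hc => hb c (List.mem_cons_of_mem _ hc)) m hm
        exact ⟨h1, Or.inl h2, fun i hi => h3 i fun c hc => hi c (List.mem_cons_of_mem _ hc)⟩
  have hlow : red golayBasis m < 4096 := by
    have hp : ∀ (l : List (ℕ × ℕ)), (∀ b ∈ l, b.1.testBit b.2 = true ∧
        ∀ c ∈ l, b.2 < c.2 → b.1.testBit c.2 = false) → l.Pairwise (fun b c => c.2 < b.2) →
        ∀ m, ∀ b ∈ l, (red l m).testBit b.2 = false := by
      intro l
      induction l with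
      | nil => simp
      | cons b l ih =>
        intro h hpw m
        obtain ⟨b, p⟩ := b
        rw [List.pairwise_cons] at hpw
        have ih' := ih (fun c hc => ⟨(h c (List.mem_cons_of_mem _ hc)).1, fun d hd =>
          (h c (List.mem_cons_of_mem _ hc)).2 d (List.mem_cons_of_mem _ hd)⟩) hpw.2
        intro c hc
        rcases List.mem_cons.mp hc with rfl | hc
        · have keep : ∀ (l : List (ℕ × ℕ)), (∀ d ∈ l, d.1.testBit p = false) → ∀ m,
              (red l m).testBit p = m.testBit p := by
            intro l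
            induction l with
            | nil => simp [red]
            | cons d l ih2 =>
              intro hd m
              simp only [red]
              rw [ih2 fun e he => hd e (List.mem_cons_of_mem _ he)]
              split
              · rw [Nat.testBit_xor, hd d List.mem_cons_self, Bool.false_xor]
              · rfl
          simp only [red]
          rw [keep l fun d hd => (h d (List.mem_cons_of_mem _ hd)).2 (b, p) List.mem_cons_self
            (hpw.1 d hd)]
          split
          · rename_i e
            rw [Nat.testBit_xor, e, (h (b, p) List.mem_cons_self).1]; rfl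
          · rename_i e; simpa using e
        · simp only [red]; exact ih' _ c hc
    have hech : ∀ b ∈ golayBasis, b.1.testBit b.2 = true ∧
        ∀ c ∈ golayBasis, b.2 < c.2 → b.1.testBit c.2 = false := by decide +kernel
    have hpw : golayBasis.Pairwise (fun b c => c.2 < b.2) := by decide +kernel
    refine Nat.lt_pow_two_of_testBit _ (n := 12) fun i hi => ?_
    by_cases h24 : i < 24
    · have hall : ∀ j : Fin 24, 12 ≤ (j : ℕ) → ∃ b ∈ golayBasis, b.2 = j := by decide +kernel
      obtain ⟨b, hb, rfl⟩ := hall ⟨i, h24⟩ hi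
      exact hp golayBasis hech hpw m b hb
    · exact Nat.testBit_lt_two_pow (lt_of_lt_of_le
        (key golayBasis (by decide +kernel) m hm).1 (Nat.pow_le_pow_right (by norm_num) (by omega)))
  refine ⟨hlow, ?_⟩
  have hmem := (key golayBasis (by decide +kernel) m hm).2.1
  rw [← codeList_eq] at hmem
  exact List.all_eq_true.mp (show codeList.all inCode = true by decide +kernel) _ hmem

theorem exists_wordOf (w : Word) : ∃ m < 2 ^ 24, w = wordOf m := by
  classical
  refine ⟨Nat.ofBits (fun i : Fin 24 => decide (w (enc.symm i) = 1)), Nat.ofBits_lt_two_pow _,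
    funext fun p => ?_⟩
  rcases zmod2_cases (w p) with h | h <;>
    simp [wordOf, Nat.testBit_ofBits, h]

/-- Every coset of the code has a word of weight at most 4. -/
theorem exists_leader (w : Word) : ∃ r : Word, r - w ∈ golayCode ∧ hammingNorm r ≤ 4 := by
  obtain ⟨m, hm, rfl⟩ := exists_wordOf w
  obtain ⟨hlt, hc⟩ := red_lt m hm
  set r := red golayBasis m with hr
  have h0 := List.all_eq_true.mp leaders_check (r / 256) (List.mem_range.mpr (by omega))
  rw [Bool.and_eq_true, beq_iff_eq] at h0
  set L := leaders.getD (r / 256) [] with hL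
  have hmod : r % 256 < L.length := by omega
  have hget : ((List.range 256).zip L)[r % 256]'(by simp; omega) = (r % 256, L[r % 256]) := by
    simp
  have h1 := List.all_eq_true.mp h0.1 (r % 256, L[r % 256])
    (by rw [← hget]; exact List.getElem_mem _)
  simp only [Bool.and_eq_true, decide_eq_true_eq, Nat.div_add_mod] at h1
  refine ⟨wordOf L[r % 256], ?_, by rw [hammingNorm_wordOf]; exact h1.1⟩
  have hc2 := add_mem (wordOf_mem_of_inCode hc) (wordOf_mem_of_inCode h1.2)
  rw [wordOf_xor, wordOf_xor] at hc2
  convert hc2 using 1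
  funext p
  simp only [Pi.add_apply, Pi.sub_apply, CharTwo.sub_eq_add]
  linear_combination (norm := (ring_nf; simp [show (2 : ZMod 2) = 0 from rfl])) (0 : ZMod 2) = 0

end Cfsg.Agent.Lib.ThreeTransp
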