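import Mathlib.Data.List.Basic

/-!
# Witnesses: commutators of the stabilisers of an octad and of a dodecad span the code
-/

namespace Cfsg.Agent.Lib.ThreeTransp

/-- Stabiliser elements with inverses. -/
def octStab : List (ℕ × ℕ) :=
  [(0xf00150012000d00170016001100050013000e00090002000b000300140010000700060008000400010000000a000c, 0x13001200160009000f0015001100080017000e00140000000b0001000d00050007000600100004000a000c00030002),
    (0x50009001500140010000d00110013000f000e00120000000b000100160008000200060017000300040007000a000c, 0x50009001500140010000d00110013000f000e00120000000b000100160008000200060017000300040007000a000c),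
    (0x14000b00150017001600120011000f0006000d000e00040008000000100013000a0009000500010007000c00020003, 0x1400130015001700080012001100090010000d000e0002001600070006000b0003000f0005000c000000010004000a),
    (0x130009000e0015000d0017000600050014000f0012000000080001001000110004000b0016000a0002000c00070003, 0x1200050014000f0017000d00080009000e001500130002000600040016000b000100110010000700000003000a000c)]

/-- For each basis word: pairs (element, basis word) whose commutators add up to it. -/
def octComb : List (List (ℕ × ℕ)) :=
  [[(0, 6), (2, 0)],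
    [(0, 6), (1, 2), (2, 0)],
    [(0, 1), (1, 2), (2, 0)],
    [(0, 6), (1, 0)],
    [(0, 4), (0, 6), (1, 2), (2, 1)],
    [(0, 1), (0, 2), (2, 1)],
    [(0, 1), (0, 3), (1, 0), (1, 2), (2, 0), (2, 1), (2, 9), (3, 2)],
    [(0, 6), (1, 0), (1, 2), (2, 0), (2, 1)],
    [(0, 0), (0, 6), (1, 0), (2, 0)],
    [(0, 3), (2, 9)],
    [(0, 3), (0, 6), (1, 0), (1, 2), (2, 0), (2, 1)],
    [(1, 0)]]

/-- Stabiliser elements with inverses. -/
def dodStab : List (ℕ × ℕ) :=
  [(0x170007000f000a001400000005000c00130016000d00090015001100010003000b0010000e00060012000400080002, 0x17000e000b0013000f0003000a000600150005000d001000070014000c000100160004001100020008000000090012),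
    (0x140016000f00110007000300130008000e001500020006000a000b000100040005000d00170010000c001200090000, 0x50016000e001700110002001400040015000f00060003000a000b000100100013000c000700080012000d00090000)]

/-- For each basis word: pairs (element, basis word) whose commutators add up to it. -/
def dodComb : List (List (ℕ × ℕ)) :=
  [[(0, 0), (0, 4), (0, 5), (0, 6), (0, 7), (0, 8), (0, 10), (1, 0), (1, 2)],
    [(0, 1), (0, 5), (0, 10)],
    [(0, 0), (0, 5), (0, 6), (0, 10)],
    [(0, 0), (0, 2), (0, 4), (0, 6), (0, 8), (0, 10)],
    [(0, 2), (0, 8), (0, 10)],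
    [(0, 2), (0, 3), (0, 4), (0, 5), (0, 6), (0, 8)],
    [(0, 6), (0, 10)],
    [(0, 0), (0, 2), (0, 3), (0, 4), (0, 5), (0, 8)],
    [(0, 3), (0, 4), (0, 8), (0, 10)],
    [(0, 0), (0, 2), (0, 3), (0, 4), (0, 8)],
    [(0, 2), (0, 4), (0, 8), (0, 10), (1, 0)],
    [(0, 2), (0, 3), (0, 4), (0, 7), (0, 8)]]

end Cfsg.Agent.Lib.ThreeTransp
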