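import Cfsg.Agent.Lib.Compute.MathieuDodec
import Cfsg.Agent.Lib.ThreeTransp.GolayModule
import Cfsg.Agent.Lib.ThreeTransp.StabWitness

/-!
# A code word's stabiliser fixes no non-zero coset of the code
-/

namespace Cfsg.Agent.Lib.ThreeTransp

open Cfsg Equiv
open scoped Pointwise
open Cfsg.Agent.Lib.Compute

theorem orth_check : ((List.range 4096).all fun r =>
    r == 0 || golayBasis.any fun b => pop (r &&& b.1) % 2 == 1) = true := by decide +kernel

theorem natCast_pop_land (a b : ℕ) :
    ((pop (a &&& b) : ℕ) : ZMod 2) = ∑ i, wordOf a i * wordOf b i := by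
  rw [← card_setOf24, setOf24, Finset.card_filter, Nat.cast_sum]
  refine Finset.sum_congr rfl fun i _ => ?_
  simp only [wordOf, Nat.testBit_land]
  cases a.testBit (enc i) <;> cases b.testBit (enc i) <;> simp

/-- The code is its own orthogonal space. -/
theorem mem_code_of_orth {w : Word} (h : ∀ c ∈ golayCode, ∑ i, w i * c i = 0) : w ∈ golayCode := by
  obtain ⟨m, hm, rfl⟩ := exists_wordOf w
  obtain ⟨hlt, hc⟩ := red_lt m hm
  have hcode := wordOf_mem_of_inCode hc
  rw [wordOf_xor] at hcode
  set r := red golayBasis m with hr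
  rcases Bool.or_eq_true _ _ ▸ List.all_eq_true.mp orth_check r (List.mem_range.mpr hlt) with e | e
  · rw [beq_iff_eq] at e
    rw [e, wordOf_zero, add_zero] at hcode
    exact hcode
  · obtain ⟨b, hb, hodd⟩ := List.any_eq_true.mp e
    rw [beq_iff_eq] at hodd
    have hbC : wordOf b.1 ∈ golayCode := wordOf_mem_of_inCode (basis_octads b hb).1
    have h1 := h _ hbC
    have h2 := golayCode_orth hcode hbC
    simp only [Pi.add_apply, add_mul, Finset.sum_add_distrib, h1, zero_add] at h2
    rw [← natCast_pop_land, ZMod.natCast_eq_zero_iff_even, Nat.even_iff] at h2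
    omega

theorem imgMask_testBit {P : ℕ} {g : ℕ} (m : ℕ)
    (h : ((List.range 24).all fun i => (imgMask P m).testBit (app P i) == m.testBit i) = true)
    (hg : genOk 24 (P, g) = true) : wordOf (imgMask P m) = wordOf m ∘ (gp P).symm := by
  funext p
  obtain ⟨q, rfl⟩ := (gp P).surjective p
  have := List.all_eq_true.mp h (enc q) (List.mem_range.mpr (enc q).isLt)
  rw [beq_iff_eq] at this
  simp only [Function.comp, Equiv.symm_apply_apply, wordOf, gp, enc_toGP,
    repr_toPerm_of_genOk hg (enc q), this]

/-- All the data of a witness are right. -/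
def witnessOk (u : ℕ) (S : List (ℕ × ℕ)) (comb : List (List (ℕ × ℕ))) : Bool :=
  (S.all fun g => genOk 24 g && presOk g.1 && (imgMask g.1 u == u) &&
    ((List.range 24).all fun i => (imgMask g.1 u).testBit (app g.1 i) == u.testBit i) &&
    golayBasis.all fun b =>
      (List.range 24).all fun i => (imgMask g.1 b.1).testBit (app g.1 i) == b.1.testBit i) &&
  (comb.length == golayBasis.length) &&
  ((golayBasis.zip comb).all fun x =>
    (x.2.all fun a => decide (a.1 < S.length) && decide (a.2 < golayBasis.length)) &&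
    (x.2.foldr (fun a acc =>
      ((golayBasis.getD a.2 (0, 0)).1 ^^^
        imgMask (S.getD a.1 (0, 0)).1 (golayBasis.getD a.2 (0, 0)).1) ^^^ acc) 0 == x.1.1))

theorem dot_commutator (e : Perm GolayPt) (w c : Word) :
    ∑ i, w i * (c + c ∘ e.symm) i = ∑ i, (w ∘ (e⁻¹).symm - w) i * c i := by
  have he : ((e⁻¹).symm : Perm GolayPt) = e := Equiv.ext fun x => rfl
  have h : ∑ i, w i * c (e.symm i) = ∑ i, w (e i) * c i := by
    rw [← Equiv.sum_comp e]
    simp
  simp only [he, Pi.sub_apply, Pi.add_apply, Function.comp, CharTwo.sub_eq_add, add_mul, mul_add,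
    Finset.sum_add_distrib, h]
  rw [add_comm]

theorem mem_code_of_fixed {u : ℕ} {S : List (ℕ × ℕ)} {comb : List (List (ℕ × ℕ))}
    (hok : witnessOk u S comb = true) {w : Word}
    (hw : ∀ σ ∈ M24, wordOf u ∘ σ.symm = wordOf u → w ∘ σ.symm - w ∈ golayCode) :
    w ∈ golayCode := by
  simp only [witnessOk, Bool.and_eq_true, List.all_eq_true, beq_iff_eq] at hok
  obtain ⟨⟨hS, hlen⟩, hcomb⟩ := hok
  have key : ∀ g ∈ S, ∀ b ∈ golayBasis,
      ∑ i, w i * wordOf (b.1 ^^^ imgMask g.1 b.1) i = 0 := by
    intro g hg b hb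
    obtain ⟨⟨⟨⟨hgen, hpres⟩, hu⟩, hubits⟩, hbits⟩ := hS g hg
    have hM := toGP_mem_M24_of_presOk (repr_toPerm_of_genOk hgen) hpres
    have himg := imgMask_testBit (g := g.2) b.1
      (List.all_eq_true.mpr fun i hi => beq_iff_eq.mpr (hbits b hb i hi)) hgen
    have hfix := imgMask_testBit (g := g.2) u
      (List.all_eq_true.mpr fun i hi => beq_iff_eq.mpr (hubits i hi)) hgen
    rw [hu] at hfix
    have hfix' : wordOf u ∘ ((gp g.1)⁻¹).symm = wordOf u := by
      funext x
      have h := congrFun hfix ((gp g.1) x)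
      simp only [Function.comp, Equiv.symm_apply_apply] at h
      show wordOf u (gp g.1 x) = _
      exact h
    have hmem := hw (gp g.1)⁻¹ (inv_mem hM) hfix'
    have hbC : wordOf b.1 ∈ golayCode := wordOf_mem_of_inCode (basis_octads b hb).1
    have h0 := golayCode_orth hmem hbC
    rw [wordOf_xor, himg, dot_commutator (gp g.1) w (wordOf b.1)]
    exact h0
  have hbasis : ∀ b ∈ golayBasis, ∑ i, w i * wordOf b.1 i = 0 := by
    intro b hb
    obtain ⟨j, hj, rfl⟩ := List.getElem_of_mem hb
    obtain ⟨hrange, hsum⟩ := hcomb (golayBasis[j], comb[j]'(hlen ▸ hj))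
      (List.mem_iff_getElem.mpr ⟨j, by simp [hlen, hj], by simp⟩)
    rw [← hsum]
    clear hsum
    generalize comb[j]'(hlen ▸ hj) = l at hrange ⊢
    induction l with
    | nil => simp [wordOf_zero]
    | cons a l ih =>
      obtain ⟨ha1, ha2⟩ := hrange a List.mem_cons_self
      rw [decide_eq_true_eq] at ha1 ha2
      rw [List.foldr_cons, wordOf_xor]
      simp only [Pi.add_apply, mul_add, Finset.sum_add_distrib]
      rw [ih fun c hc => hrange c (List.mem_cons_of_mem _ hc)]
      rw [← List.getElem_eq_getD (h := ha1), ← List.getElem_eq_getD (h := ha2)]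
      rw [key _ (List.getElem_mem _) _ (List.getElem_mem _), add_zero]
  refine mem_code_of_orth fun c hc => ?_
  rw [golayCode_eq_span] at hc
  induction hc using Submodule.span_induction with
  | mem x hx =>
    obtain ⟨m, hm, rfl⟩ := hx
    obtain ⟨b, hb, rfl⟩ := List.mem_map.mp hm
    exact hbasis b hb
  | zero => simp
  | add x y _ _ h1 h2 => simp [mul_add, Finset.sum_add_distrib, h1, h2]
  | smul a x _ h1 => simp [mul_left_comm _ a, ← Finset.mul_sum, h1]

theorem octWitness : witnessOk 0x149f octStab octComb = true := by decide +kernel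

theorem zeroWitness : witnessOk 0 octStab octComb = true := by decide +kernel

theorem dodWitness : witnessOk dodMask dodStab dodComb = true := by decide +kernel

/-- `w` is fixed modulo the code by the stabiliser of `u`. -/
def FixedCoset (u w : Word) : Prop :=
  ∀ σ ∈ M24, u ∘ σ.symm = u → w ∘ σ.symm - w ∈ golayCode

theorem FixedCoset.comp {u w : Word} (h : FixedCoset u w) {g : Perm GolayPt} (hg : g ∈ M24) :
    FixedCoset (u ∘ g) (w ∘ g) := by
  intro σ hσ hu
  have hu' : u ∘ (g * σ * g⁻¹).symm = u := by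
    funext x
    have := congrFun hu (g.symm x)
    simpa [Perm.mul_def, Perm.inv_def] using this
  have h1 := (mem_M24_iff g⁻¹).mp (inv_mem hg) _ (h _ (mul_mem (mul_mem hg hσ) (inv_mem hg)) hu')
  convert h1 using 1
  funext x
  simp [Perm.mul_def, Perm.inv_def]

theorem fixedCoset_add_one {u w : Word} (h : FixedCoset u w) : FixedCoset (u + 1) w := by
  intro σ hσ hu
  refine h σ hσ (funext fun x => ?_)
  exact add_right_cancel (b := (1 : ZMod 2)) (congrFun hu x)

theorem mem_code_of_octad {u w : Word} (hoct : support₂ u ∈ octads) (h : FixedCoset u w) :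
    w ∈ golayCode := by
  obtain ⟨g, hg⟩ := exists_smul_octad (o := setOf24 0x149f) (o' := support₂ u)
    (setOf24_mem_octads (by decide +kernel) (by decide +kernel)) hoct
  have e : wordOf 0x149f ∘ (g : Perm GolayPt).symm = u :=
    word_ext_support (by rw [support₂_comp_symm, support₂_wordOf]; exact hg)
  have hg' := h.comp g.2
  rw [← e, Function.comp_assoc, Equiv.symm_comp_self, Function.comp_id] at hg'
  have h1 := (mem_M24_iff (g : Perm GolayPt)).mp g.2 _ (mem_code_of_fixed octWitness hg')
  simpa [Function.comp_assoc] using h1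

theorem mem_code_of_dodecad {u w : Word} (hd : support₂ u ∈ dodecads) (h : FixedCoset u w) :
    w ∈ golayCode := by
  obtain ⟨g, hg⟩ := exists_smul_dodecad setOf24_dodMask_mem hd
  have e : wordOf dodMask ∘ (g : Perm GolayPt).symm = u :=
    word_ext_support (by rw [support₂_comp_symm, support₂_wordOf]; exact hg)
  have hg' := h.comp g.2
  rw [← e, Function.comp_assoc, Equiv.symm_comp_self, Function.comp_id] at hg'
  have h1 := (mem_M24_iff (g : Perm GolayPt)).mp g.2 _ (mem_code_of_fixed dodWitness hg')
  simpa [Function.comp_assoc] using h1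

theorem mem_code_of_fixedCoset {u : Word} (hu : u ∈ golayCode) {w : Word} (h : FixedCoset u w) :
    w ∈ golayCode := by
  have hcard : hammingNorm u = (support₂ u).card := rfl
  have hz : ∀ v : Word, hammingNorm v = 0 → FixedCoset v w → w ∈ golayCode := fun v hv hfix => by
    rw [hammingNorm_eq_zero.mp hv, ← wordOf_zero] at hfix
    exact mem_code_of_fixed zeroWitness hfix
  have hsum : hammingNorm (u + 1) + hammingNorm u = 24 := by
    simp only [hammingNorm, Finset.card_filter, ← Finset.sum_add_distrib]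
    rw [Finset.sum_congr rfl (g := fun _ => 1) fun i _ => ?_]
    · rfl
    · rcases zmod2_cases (u i) with e | e <;> simp [e, CharTwo.add_self_eq_zero]
  have hu1 : u + 1 ∈ golayCode := add_mem hu one_mem_golayCode
  rcases hammingNorm_mem_golayCode hu with e | e | e | e | e
  · exact hz u e h
  · exact mem_code_of_octad ⟨⟨u, hu, rfl⟩, hcard ▸ e⟩ h
  · exact mem_code_of_dodecad ⟨⟨u, hu, rfl⟩, hcard ▸ e⟩ h
  · refine mem_code_of_octad ⟨⟨u + 1, hu1, rfl⟩, ?_⟩ (fixedCoset_add_one h)
    show hammingNorm (u + 1) = 8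
    omega
  · exact hz _ (by omega) (fixedCoset_add_one h)

end Cfsg.Agent.Lib.ThreeTransp
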