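import Cfsg.Agent.Lib.ThreeTransp.GolayModule

/-!
# Classification of the invariant subspaces
-/

namespace Cfsg.Agent.Lib.ThreeTransp

open Cfsg Equiv MulAction
open Cfsg.Agent.Lib.Compute

theorem le_span_one {W : Submodule (ZMod 2) Word} (h : ∀ w ∈ W, ∀ p q, w p = w q) :
    W ≤ Submodule.span (ZMod 2) {1} := fun w hw =>
  Submodule.mem_span_singleton.mpr ⟨w none, funext fun p => by simp [h w hw p none]⟩

theorem le_span_one_cases {W : Submodule (ZMod 2) Word} (h : W ≤ Submodule.span (ZMod 2) {1}) :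
    W = ⊥ ∨ W = Submodule.span (ZMod 2) {1} := by
  by_cases h1 : (1 : Word) ∈ W
  · exact Or.inr (le_antisymm h ((Submodule.span_singleton_le_iff_mem _ _).mpr h1))
  · refine Or.inl (eq_bot_iff.mpr fun w hw => ?_)
    obtain ⟨c, rfl⟩ := Submodule.mem_span_singleton.mp (h hw)
    rcases zmod2_cases c with rfl | rfl
    · simp
    · rw [one_smul] at hw; exact absurd hw h1

/-- A transposition of `a, b` extends to an element of `M24` fixing three more given points. -/
theorem exists_swap {a b : GolayPt} (hab : a ≠ b) (S : Finset GolayPt) (ha : a ∉ S) (hb : b ∉ S)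
    (hS : S.card ≤ 3) : ∃ σ ∈ M24, σ a = b ∧ σ b = a ∧ ∀ x ∈ S, σ x = x := by
  classical
  have hl : ∀ u v : GolayPt, u ≠ v → u ∉ S → v ∉ S → (u :: v :: S.toList).Nodup := by
    intro u v h hu hv
    simp [h, hu, hv, S.nodup_toList]
  have hlen : ∀ u v : GolayPt, (u :: v :: S.toList).length ≤ 5 := by
    intro u v; simp; omega
  obtain ⟨x, hx⟩ := exists_tuple _ (hl a b hab ha hb) (hlen a b)
  obtain ⟨y, hy⟩ := exists_tuple _ (hl b a hab.symm hb ha) (hlen b a)
  obtain ⟨g, hg⟩ := isMultiplyPretransitive_iff.mp M24_multiplyPretransitive x y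
  have hj : ∀ (j : ℕ) (h1 : j < (a :: b :: S.toList).length) (h2 : j < (b :: a :: S.toList).length),
      (g : Perm GolayPt) ((a :: b :: S.toList)[j]) = (b :: a :: S.toList)[j] := by
    intro j h1 h2
    rw [← hx j h1, ← hy j h2, ← hg]
    rfl
  refine ⟨g, g.2, hj 0 (by simp) (by simp), hj 1 (by simp) (by simp), fun z hz => ?_⟩
  obtain ⟨i, hi, rfl⟩ := List.getElem_of_mem (Finset.mem_toList.mpr hz)
  have h1 : i + 2 < (a :: b :: S.toList).length := by simp only [List.length_cons]; omega
  have h2 : i + 2 < (b :: a :: S.toList).length := by simp only [List.length_cons]; omega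
  exact hj (i + 2) h1 h2

/-- The weight-two word. -/
def pairWord (a b : GolayPt) : Word := Pi.single a 1 + Pi.single b 1

theorem pairWord_mem_of_ne_code {W : Submodule (ZMod 2) Word} (hW : Inv24 W) (hC : golayCode ≤ W)
    {w : Word} (hw : w ∈ W) (hwC : w ∉ golayCode) :
    ∃ a b : GolayPt, a ≠ b ∧ pairWord a b ∈ W := by
  classical
  obtain ⟨r, hr, hr4⟩ := exists_leader w
  have hrW : r ∈ W := by simpa using add_mem (hC hr) hw
  have hr0 : r ≠ 0 := by
    rintro rfl
    exact hwC (by simpa using hr)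
  obtain ⟨a, ha⟩ := Function.ne_iff.mp hr0
  simp only [Pi.zero_apply] at ha
  let S : Finset GolayPt := support₂ r
  have haS : a ∈ S := by simp [S, support₂, ha]
  have hScard : S.card ≤ 4 := by
    simpa [S, support₂, hammingNorm] using hr4
  obtain ⟨b, hbS⟩ : ∃ b, b ∉ S := by
    by_contra h
    push Not at h
    have := Finset.card_le_card (fun x (_ : x ∈ (Finset.univ : Finset GolayPt)) => h x)
    have h24 : Fintype.card GolayPt = 24 := rfl
    rw [Finset.card_univ, h24] at this
    omega
  have hab : a ≠ b := fun e => hbS (e ▸ haS)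
  obtain ⟨σ, hσ, hσa, hσb, hσS⟩ := exists_swap hab (S.erase a) (Finset.notMem_erase _ _)
    (fun h => hbS (Finset.mem_of_mem_erase h))
    (by rw [Finset.card_erase_of_mem haS]; omega)
  refine ⟨a, b, hab, ?_⟩
  have key : (r + fun p => r (σ.symm p)) = pairWord a b := by
    funext p
    simp only [Pi.add_apply, pairWord]
    have hra : r a = 1 := (zmod2_cases (r a)).resolve_left ha
    have hrb : r b = 0 := by
      by_contra h
      exact hbS (by simp [S, support₂, h])
    by_cases h1 : p = a
    · subst h1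
      rw [show σ.symm p = b from (Equiv.symm_apply_eq σ).mpr hσb.symm, hra, hrb, Pi.single_eq_same,
        Pi.single_eq_of_ne hab]
    by_cases h2 : p = b
    · subst h2
      rw [show σ.symm p = a from (Equiv.symm_apply_eq σ).mpr hσa.symm, hra, hrb, Pi.single_eq_same,
        Pi.single_eq_of_ne hab.symm]
    rw [Pi.single_eq_of_ne h1, Pi.single_eq_of_ne h2, add_zero]
    by_cases h3 : r p = 0
    · rw [h3, zero_add]
      by_contra h4
      have hq : σ.symm p ∈ S := by simp [S, support₂, h4]
      by_cases h5 : σ.symm p = a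
      · exact h2 (by rw [← hσa, ← h5, Equiv.apply_symm_apply])
      · have := hσS _ (Finset.mem_erase.mpr ⟨h5, hq⟩)
        rw [Equiv.apply_symm_apply] at this
        exact h4 (by rw [← this]; exact h3)
    · have : σ p = p := hσS p (Finset.mem_erase.mpr ⟨h1, by simp [S, support₂, h3]⟩)
      rw [show σ.symm p = p from (Equiv.symm_apply_eq σ).mpr this.symm]
      exact CharTwo.add_self_eq_zero _
  rw [← key]
  exact add_mem hrW (hW σ hσ r hrW)

theorem pairWord_mem {W : Submodule (ZMod 2) Word} (hW : Inv24 W) {a b : GolayPt} (hab : a ≠ b)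
    (h : pairWord a b ∈ W) {p q : GolayPt} (hpq : p ≠ q) : pairWord p q ∈ W := by
  obtain ⟨g1, a1, b1⟩ := exists_smul_two hab
  obtain ⟨g2, a2, b2⟩ := exists_smul_two hpq
  have := hW _ (g2 * g1⁻¹).2 _ h
  convert this using 1
  funext x
  have ea : ((g2 * g1⁻¹ : M24) : Perm GolayPt) a = p := by
    rw [← a1, ← a2]
    show (g2 : Perm GolayPt) ((g1 : Perm GolayPt)⁻¹ ((g1 : Perm GolayPt) _)) = _
    rw [Perm.coe_inv, Equiv.symm_apply_apply]; rfl
  have eb : ((g2 * g1⁻¹ : M24) : Perm GolayPt) b = q := by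
    rw [← b1, ← b2]
    show (g2 : Perm GolayPt) ((g1 : Perm GolayPt)⁻¹ ((g1 : Perm GolayPt) _)) = _
    rw [Perm.coe_inv, Equiv.symm_apply_apply]; rfl
  simp only [pairWord, Pi.add_apply, Pi.single_apply, Equiv.symm_apply_eq, ea, eb]

theorem sum_eq_zero_of_mem_code {w : Word} (hw : w ∈ golayCode) : ∑ p, w p = 0 := by
  simpa using golayCode_orth hw (one_mem_golayCode)

/-- An invariant subspace strictly containing the code is the even subspace or everything. -/
theorem invariant_above {W : Submodule (ZMod 2) Word} (hW : Inv24 W) (hC : golayCode ≤ W)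
    {w : Word} (hw : w ∈ W) (hwC : w ∉ golayCode) :
    (W : Set Word) = {v | ∑ p, v p = 0} ∨ W = ⊤ := by
  classical
  obtain ⟨a, b, hab, hmem⟩ := pairWord_mem_of_ne_code hW hC hw hwC
  have heven : ∀ v : Word, v + (∑ p, v p) • Pi.single none 1 ∈ W := by
    intro v
    have : v + (∑ p, v p) • (Pi.single none 1 : Word)
        = ∑ p, v p • (Pi.single p 1 + Pi.single none 1 : Word) := by
      funext x
      rw [Pi.add_apply, Pi.smul_apply, Finset.sum_apply, smul_eq_mul, Finset.sum_mul]
      have e : v x = ∑ p, v p * (Pi.single p 1 : Word) x := by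
        rw [Finset.sum_eq_single x (fun p _ hp => by rw [Pi.single_eq_of_ne hp.symm, mul_zero])
          (fun h => absurd (Finset.mem_univ x) h), Pi.single_eq_same, mul_one]
      rw [e, ← Finset.sum_add_distrib]
      refine Finset.sum_congr rfl fun p _ => ?_
      rw [Pi.smul_apply, Pi.add_apply, smul_eq_mul, mul_add]
    rw [this]
    refine sum_mem fun p _ => W.smul_mem _ ?_
    by_cases hp : p = none
    · subst hp
      rw [CharTwo.add_self_eq_zero]; exact W.zero_mem
    · exact pairWord_mem hW hab hmem hp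
  by_cases hodd : ∃ v ∈ W, ∑ p, v p ≠ 0
  · obtain ⟨v, hv, hv1⟩ := hodd
    have h1 : (∑ p, v p) = 1 := (zmod2_cases _).resolve_left hv1
    have hn : (Pi.single none 1 : Word) ∈ W := by
      have := sub_mem (heven v) hv
      rwa [h1, one_smul, add_sub_cancel_left] at this
    refine Or.inr (eq_top_iff.mpr fun u _ => ?_)
    simpa using sub_mem (heven u) (W.smul_mem (∑ p, u p) hn)
  · push Not at hodd
    refine Or.inl (Set.ext fun u => ⟨hodd u, fun hu => ?_⟩)
    have := heven u
    rwa [show (∑ p, u p) = 0 from hu, zero_smul, add_zero] at this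

theorem invariant_classify {W : Submodule (ZMod 2) Word} (hW : Inv24 W) :
    W = ⊥ ∨ W = Submodule.span (ZMod 2) {1} ∨ W = golayCode ∨
      (W : Set Word) = {v | ∑ p, v p = 0} ∨ W = ⊤ := by
  by_cases h : ∀ w ∈ W, ∀ p q, w p = w q
  · rcases le_span_one_cases (le_span_one h) with h | h
    · exact Or.inl h
    · exact Or.inr (Or.inl h)
  push Not at h
  obtain ⟨w, hw, p, q, hpq⟩ := h
  have hC := golayCode_le_of_invariant hW hw hpq
  by_cases hWC : W ≤ golayCode
  · exact Or.inr (Or.inr (Or.inl (le_antisymm hWC hC)))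
  obtain ⟨v, hv, hvC⟩ := SetLike.not_le_iff_exists.mp hWC
  exact Or.inr (Or.inr (Or.inr (invariant_above hW hC hv hvC)))

end Cfsg.Agent.Lib.ThreeTransp
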