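import Cfsg.Agent.Lib.Golay.Basic
import Cfsg.Agent.Lib.Compute.Leech

/-!
Pairs of points as linear functionals on the binary Golay code.
-/

set_option autoImplicit false

namespace Cfsg.Agent.Lib.ThreeTransp.GolayPairs

open Cfsg Cfsg.Agent.Lib.Compute Cfsg.Agent.Lib.GolayOrbit Equiv
open scoped Pointwise

/-- The sign of a bit. -/
def sgn (a : ZMod 2) : ℤ := if a = 0 then 1 else -1

theorem sgn_add : ∀ a b : ZMod 2, sgn (a + b) = sgn a * sgn b := by decide

/-- The signed count of a word. -/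
def sc (c : GolayPt → ZMod 2) : ℤ := ∑ p, sgn (c p)

theorem support₂_inj {v w : GolayPt → ZMod 2} (h : support₂ v = support₂ w) : v = w := by
  have key : ∀ a b : ZMod 2, (a ≠ 0 ↔ b ≠ 0) → a = b := by decide
  funext p
  refine key _ _ ?_
  have := Finset.ext_iff.1 h p
  simpa [support₂] using this

theorem mem_M24_of {g : Perm GolayPt}
    (h : ∀ c ∈ golayCode, (fun p => c (g.symm p)) ∈ golayCode) : g ∈ M24 := by
  classical
  have hs : ∀ c : GolayPt → ZMod 2, g • support₂ c = support₂ (fun p => c (g.symm p)) := by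
    intro c
    ext p
    rw [Finset.mem_smul_finset]
    simp only [support₂, Finset.mem_filter, Finset.mem_univ, true_and]
    exact ⟨fun ⟨q, hq, e⟩ => by rw [← e]; simpa [Equiv.Perm.smul_def] using hq,
      fun hp => ⟨g.symm p, hp, by simp [Equiv.Perm.smul_def]⟩⟩
  rw [M24, setSystemAut, MulAction.mem_stabilizer_iff]
  refine Set.eq_of_subset_of_ncard_le ?_ ?_
  · rintro _ ⟨_, ⟨c, hc, rfl⟩, rfl⟩
    exact ⟨_, h c hc, (hs c).symm⟩
  · rw [Set.ncard_smul_set]

theorem comp_mem {g : Perm GolayPt} (hg : g ∈ M24) {c : GolayPt → ZMod 2} (hc : c ∈ golayCode) :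
    (fun p => c (g p)) ∈ golayCode := by
  have hg' := M24.inv_mem hg
  rw [M24, setSystemAut, MulAction.mem_stabilizer_iff] at hg'
  have h1 : g⁻¹ • support₂ c ∈ supports (golayCode : Set (GolayPt → ZMod 2)) := by
    rw [← hg']; exact Set.smul_mem_smul_set ⟨c, hc, rfl⟩
  obtain ⟨d, hd, e⟩ := h1
  suffices h2 : d = fun p => c (g p) by rw [← h2]; exact hd
  refine support₂_inj ?_
  rw [e]
  ext p
  rw [Finset.mem_smul_finset]
  simp only [support₂, Finset.mem_filter, Finset.mem_univ, true_and]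
  exact ⟨fun ⟨q, hq, e⟩ => by rw [← e]; simpa [Equiv.Perm.smul_def] using hq,
    fun hp => ⟨g p, hp, by simp [Equiv.Perm.smul_def]⟩⟩

theorem rep_two : ∃ a ∈ golayBasis.map Prod.fst,
    wordOf a (enc.symm 0) + wordOf a (enc.symm 1) = 1 := by decide +kernel

theorem rep_four : ∃ a ∈ golayBasis.map Prod.fst,
    wordOf a (enc.symm 0) + wordOf a (enc.symm 1) + wordOf a (enc.symm 2) + wordOf a (enc.symm 3) = 1 := by
  decide +kernel

theorem wordOf_basis_mem {a : ℕ} (ha : a ∈ golayBasis.map Prod.fst) : wordOf a ∈ golayCode := by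
  rw [golayCode_eq_span]
  exact Submodule.subset_span ⟨a, ha, rfl⟩

/-- A set of two or four points meets some word oddly. -/
theorem exists_odd_small {s : Finset GolayPt} (h : s.card = 2 ∨ s.card = 4) :
    ∃ c ∈ golayCode, ∑ p ∈ s, c p = 1 := by
  classical
  have key : ∀ t : Finset GolayPt, t.card = s.card → (∃ a ∈ golayBasis.map Prod.fst, ∑ p ∈ t, wordOf a p = 1) →
      ∃ c ∈ golayCode, ∑ p ∈ s, c p = 1 := by
    rintro t ht ⟨a, ha, e⟩
    obtain ⟨g, hg, hgs⟩ := exists_smul_small (s := s) (t := t) ht.symm (by omega)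
    refine ⟨_, comp_mem hg (wordOf_basis_mem ha), ?_⟩
    rw [← e, ← hgs, Finset.smul_finset_def, Finset.sum_image (f := wordOf a) (g := fun x => g • x) (fun u _ v _ w => MulAction.injective g w)]
    rfl
  rcases h with h | h
  · refine key {enc.symm 0, enc.symm 1} (by rw [h]; decide) ?_
    obtain ⟨a, ha, e⟩ := rep_two
    exact ⟨a, ha, by rw [Finset.sum_pair (by decide)]; exact e⟩
  · refine key {enc.symm 0, enc.symm 1, enc.symm 2, enc.symm 3} (by rw [h]; decide) ?_
    obtain ⟨a, ha, e⟩ := rep_four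
    refine ⟨a, ha, ?_⟩
    rw [Finset.sum_insert (by decide), Finset.sum_insert (by decide), Finset.sum_pair (by decide),
      ← add_assoc, ← add_assoc]
    exact e

theorem rep_six : ∀ i : Fin 24, 5 ≤ i.val → ∃ a ∈ golayBasis.map Prod.fst,
    wordOf a (enc.symm 0) + wordOf a (enc.symm 1) + wordOf a (enc.symm 2) + wordOf a (enc.symm 3) +
      wordOf a (enc.symm 4) + wordOf a (enc.symm i) = 1 := by decide +kernel

/-- A set of six points meets some word oddly. -/
theorem exists_odd_six {s : Finset GolayPt} (h : s.card = 6) :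
    ∃ c ∈ golayCode, ∑ p ∈ s, c p = 1 := by
  classical
  obtain ⟨p, hp⟩ := Finset.card_pos.1 (show 0 < s.card by omega)
  set t : Finset GolayPt := {enc.symm 0, enc.symm 1, enc.symm 2, enc.symm 3, enc.symm 4} with ht
  have h5 : (s.erase p).card = 5 := by rw [Finset.card_erase_of_mem hp, h]
  obtain ⟨g, hg, hgs⟩ := exists_smul_small (s := s.erase p) (t := t) (by rw [h5, ht]; decide) (by omega)
  have hi : 5 ≤ (enc (g p)).val := by
    by_contra hlt
    have h1 : g p ∈ t := by
      have h2 : enc (g p) = 0 ∨ enc (g p) = 1 ∨ enc (g p) = 2 ∨ enc (g p) = 3 ∨ enc (g p) = 4 := by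
        simp only [Fin.ext_iff]; simp; omega
      rw [← enc.symm_apply_apply (g p), ht]
      rcases h2 with e | e | e | e | e <;> rw [e] <;> simp
    rw [← hgs, smul_mem_smul_pt] at h1
    exact (Finset.notMem_erase p s) h1
  obtain ⟨a, ha, e⟩ := rep_six _ hi
  refine ⟨_, comp_mem hg (wordOf_basis_mem ha), ?_⟩
  have h2 : ∑ q ∈ t, wordOf a q = ∑ q ∈ s.erase p, wordOf a (g q) := by
    rw [← hgs, Finset.smul_finset_def, Finset.sum_image (f := wordOf a) (g := fun x => g • x) (fun u _ v _ w => MulAction.injective g w)]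
    rfl
  rw [← Finset.add_sum_erase _ _ hp, ← h2, ht, Finset.sum_insert (by decide), Finset.sum_insert (by decide),
    Finset.sum_insert (by decide), Finset.sum_pair (by decide), ← e, Equiv.symm_apply_apply]
  ring

end Cfsg.Agent.Lib.ThreeTransp.GolayPairs
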