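import Cfsg.Agent.Lib.ThreeTransp.LargeSymm

/-!
Two mutually contained conjugates of a large extraspecial subgroup: the group they generate.
-/

set_option autoImplicit false

namespace Cfsg.Agent.Lib.ThreeTransp

open Cfsg.Agent.Lib.Classification

variable {G : Type*} [Group G] [Finite G]

theorem conj_inv_mem_of_conj_mem {R : Subgroup G} {u : G} (h : ∀ r ∈ R, u * r * u⁻¹ ∈ R) :
    ∀ r ∈ R, u⁻¹ * r * u ∈ R := by
  have hle : R.map (MulAut.conj u).toMonoidHom ≤ R := by
    rintro _ ⟨r, hr, rfl⟩; exact h r hr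
  have heq := Subgroup.eq_of_le_of_card_ge hle (le_of_eq
    (Nat.card_congr (R.equivMapOfInjective _ (MulAut.conj u).injective).toEquiv))
  intro r hr
  rw [← heq] at hr
  obtain ⟨s, hs, rfl⟩ := hr
  simpa [mul_assoc] using hs

/-- `Q` at `z` and `B` at `x`, each containing the other's centre. -/
structure ExtraPair (Q B : Subgroup G) (z x : G) : Prop where
  hA : ExtraAt Q z
  hB : ExtraAt B x
  nA : ∀ c q : G, c * z = z * c → q ∈ Q → c * q * c⁻¹ ∈ Q
  nB : ∀ c q : G, c * x = x * c → q ∈ B → c * q * c⁻¹ ∈ B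
  cA : ∀ c : G, (∀ q ∈ Q, c * q = q * c) → c = 1 ∨ c = z
  cB : ∀ c : G, (∀ q ∈ B, c * q = q * c) → c = 1 ∨ c = x
  sqA : ∀ q ∈ Q, q * q = 1 ∨ q * q = z
  sqB : ∀ q ∈ B, q * q = 1 ∨ q * q = x
  mapA : ∀ c q : G, c * z * c⁻¹ = x → q ∈ Q → c * q * c⁻¹ ∈ B
  mapB : ∀ c q : G, c * x * c⁻¹ = z → q ∈ B → c * q * c⁻¹ ∈ Q
  pA : IsPGroup 2 ↥Q
  pB : IsPGroup 2 ↥B
  zB : z ∈ B
  xA : x ∈ Q
  ne : x ≠ z

/-- The pair attached to a conjugate of the centre lying in a large extraspecial subgroup. -/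
theorem extraPair_of_large {Q : Subgroup G} (hE : Cfsg.IsExtraspecial 2 ↥Q) {z : G}
    (hC : Subgroup.centralizer (Q : Set G) = Subgroup.zpowers z)
    (hN : Subgroup.centralizer ({z} : Set G) ≤ Subgroup.normalizer (Q : Set G))
    (hD : TwoExtraData Q z) (h8 : 8 < Nat.card ↥Q) {g : G} (hx : g * z * g⁻¹ ∈ Q)
    (hg : g * z * g⁻¹ ≠ z) :
    ExtraPair Q (Q.map (MulAut.conj g).toMonoidHom) z (g * z * g⁻¹) := by
  obtain ⟨hX, hcB, hzB⟩ := wide_symm hD hC hN h8 hx
  have hA := extraAt_of_data hD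
  have nA : ∀ c q : G, c * z = z * c → q ∈ Q → c * q * c⁻¹ ∈ Q := fun c q hc hq =>
    (Subgroup.mem_normalizer_iff.1 (hN (Subgroup.mem_centralizer_singleton_iff.2 hc)) q).1 hq
  have hmem : ∀ {v : G}, v ∈ Q.map (MulAut.conj g).toMonoidHom ↔ g⁻¹ * v * g ∈ Q := by
    intro v
    rw [Subgroup.mem_map]
    constructor
    · rintro ⟨q, hq, rfl⟩; simpa [mul_assoc] using hq
    · intro h; exact ⟨_, h, by simp [mul_assoc]⟩
  have cA : ∀ c : G, (∀ q ∈ Q, c * q = q * c) → c = 1 ∨ c = z := by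
    intro c hc
    have h : c ∈ Subgroup.centralizer (Q : Set G) := Subgroup.mem_centralizer_iff.2
      fun q hq => (hc q hq).symm
    rw [hC] at h
    exact TwoExtraData.mem_zpowers hD h
  refine ⟨hA, hX, nA, fun c q hc hq => hcB hc hq, cA, fun c hc => ?_, hD.sq_mem, fun b hb => ?_,
    fun c q hc hq => hmem.2 ?_, fun c q hc hq => ?_, hE.1.1, hE.1.1.map _, hzB, hx, hg⟩
  · have h := cA (g⁻¹ * c * g) fun q hq => by
      have := hc (g * q * g⁻¹) (hmem.2 (by simpa [mul_assoc] using hq))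
      calc g⁻¹ * c * g * q = g⁻¹ * (c * (g * q * g⁻¹)) * g := by group
        _ = g⁻¹ * (g * q * g⁻¹ * c) * g := by rw [this]
        _ = q * (g⁻¹ * c * g) := by group
    rcases h with e | e
    · left; calc c = g * (g⁻¹ * c * g) * g⁻¹ := by group
        _ = 1 := by rw [e]; group
    · right; calc c = g * (g⁻¹ * c * g) * g⁻¹ := by group
        _ = _ := by rw [e]
  · rcases hD.sq_mem _ (hmem.1 hb) with e | e
    · left; calc b * b = g * (g⁻¹ * b * g * (g⁻¹ * b * g)) * g⁻¹ := by group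
        _ = 1 := by rw [e]; group
    · right; calc b * b = g * (g⁻¹ * b * g * (g⁻¹ * b * g)) * g⁻¹ := by group
        _ = _ := by rw [e]
  · have h : g⁻¹ * c * z = z * (g⁻¹ * c) := by
      calc g⁻¹ * c * z = g⁻¹ * (c * z * c⁻¹) * c := by group
        _ = z * (g⁻¹ * c) := by rw [hc]; group
    have := nA (g⁻¹ * c) q h hq
    convert this using 1; group
  · have h : c * g * z = z * (c * g) := by
      calc c * g * z = c * (g * z * g⁻¹) * c⁻¹ * (c * g) := by group
        _ = z * (c * g) := by rw [hc]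
    have := nA (c * g) (g⁻¹ * q * g) h (hmem.1 hq)
    convert this using 1; group

namespace ExtraPair

variable {Q B : Subgroup G} {z x : G}

theorem swap (p : ExtraPair Q B z x) : ExtraPair B Q x z :=
  ⟨p.hB, p.hA, p.nB, p.nA, p.cB, p.cA, p.sqB, p.sqA, p.mapB, p.mapA, p.pB, p.pA, p.xA, p.zB,
    p.ne.symm⟩

/-- The four-group of the two centres. -/
def four (z x : G) : Subgroup G := Subgroup.closure {z, x}

/-- The product of the two parts centralizing the four-group. -/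
def rad (Q B : Subgroup G) (z x : G) : Subgroup G :=
  (B ⊓ Subgroup.centralizer ({z} : Set G)) ⊔ (Q ⊓ Subgroup.centralizer ({x} : Set G))

theorem rad_swap (Q B : Subgroup G) (z x : G) : rad B Q x z = rad Q B z x := sup_comm _ _

theorem four_swap (z x : G) : four x z = four z x := by rw [four, four, Set.pair_comm]

theorem mem_cfour {c : G} :
    c ∈ Subgroup.centralizer (four z x : Set G) ↔ c * z = z * c ∧ c * x = x * c := by
  rw [four, Subgroup.centralizer_closure, Subgroup.mem_centralizer_iff]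
  simp only [Set.mem_insert_iff, Set.mem_singleton_iff, forall_eq_or_imp, forall_eq]
  exact ⟨fun h => ⟨h.1.symm, h.2.symm⟩, fun h => ⟨h.1.symm, h.2.symm⟩⟩

theorem mem_a (p : ExtraPair Q B z x) {a : G} (ha : a ∈ Q ⊓ Subgroup.centralizer ({x} : Set G)) :
    a ∈ Subgroup.centralizer (four z x : Set G) :=
  mem_cfour.2 ⟨(p.hA.central a ha.1).symm, Subgroup.mem_centralizer_singleton_iff.1 ha.2⟩

theorem rad_le (p : ExtraPair Q B z x) : rad Q B z x ≤ Subgroup.centralizer (four z x : Set G) := by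
  refine sup_le (fun b hb => ?_) (fun a ha => p.mem_a ha)
  rw [← four_swap]; exact p.swap.mem_a hb

theorem mem_rad_left (Q B : Subgroup G) (z x : G) {a : G} (ha : a ∈ Q) (hax : a * x = x * a) :
    a ∈ rad Q B z x :=
  Subgroup.mem_sup_right ⟨ha, Subgroup.mem_centralizer_singleton_iff.2 hax⟩

theorem mem_rad_right (Q B : Subgroup G) (z x : G) {b : G} (hb : b ∈ B) (hbz : b * z = z * b) :
    b ∈ rad Q B z x :=
  Subgroup.mem_sup_left ⟨hb, Subgroup.mem_centralizer_singleton_iff.2 hbz⟩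

theorem zx (p : ExtraPair Q B z x) : z * x = x * z := p.hA.central x p.xA

theorem mem_four_iff (p : ExtraPair Q B z x) {v : G} :
    v ∈ four z x ↔ v = 1 ∨ v = z ∨ v = x ∨ v = z * x := by
  have hzx := p.zx
  constructor
  · intro hv
    induction hv using Subgroup.closure_induction with
    | mem u hu => rcases hu with rfl | rfl <;> simp
    | one => simp
    | mul a b _ _ ha hb =>
      have a1 : z * (z * x) = x := by rw [← mul_assoc, p.hA.sq, one_mul]
      have a2 : x * (z * x) = z := by rw [hzx, ← mul_assoc, p.hB.sq, one_mul]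
      have a3 : z * x * z = x := by rw [hzx, mul_assoc, p.hA.sq, mul_one]
      have a4 : z * x * x = z := by rw [mul_assoc, p.hB.sq, mul_one]
      have a5 : z * x * (z * x) = 1 := by rw [← mul_assoc, a3, p.hB.sq]
      rcases ha with rfl | rfl | rfl | rfl <;> rcases hb with rfl | rfl | rfl | rfl <;>
        simp only [one_mul, mul_one, p.hA.sq, p.hB.sq, a1, a2, a3, a4, a5, ← hzx] <;> tauto
    | inv a _ ha =>
      have hzi : z⁻¹ = z := inv_eq_of_mul_eq_one_right p.hA.sq
      have hxi : x⁻¹ = x := inv_eq_of_mul_eq_one_right p.hB.sq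
      rcases ha with rfl | rfl | rfl | rfl <;> simp [hzi, hxi, hzx]
  · rintro (rfl | rfl | rfl | rfl)
    exacts [one_mem _, Subgroup.subset_closure (by simp), Subgroup.subset_closure (by simp),
      mul_mem (Subgroup.subset_closure (by simp)) (Subgroup.subset_closure (by simp))]

theorem mem_normalizer_four (p : ExtraPair Q B z x) {u : G} (h1 : u * z * u⁻¹ ∈ four z x)
    (h2 : u * x * u⁻¹ ∈ four z x) : u ∈ Subgroup.normalizer (four z x : Set G) := by
  have key : ∀ v ∈ four z x, u * v * u⁻¹ ∈ four z x := by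
    intro v hv
    rcases p.mem_four_iff.1 hv with rfl | rfl | rfl | rfl
    · simp
    · exact h1
    · exact h2
    · have := mul_mem h1 h2
      convert this using 1; group
  rw [Subgroup.mem_normalizer_iff]
  refine fun v => ⟨key v, fun h => ?_⟩
  have := conj_inv_mem_of_conj_mem key _ h
  simpa [mul_assoc] using this

theorem q_mem_normalizer (p : ExtraPair Q B z x) :
    Q ≤ Subgroup.normalizer (four z x : Set G) := by
  intro q hq
  refine p.mem_normalizer_four ?_ ?_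
  · rw [← p.hA.central q hq, mul_inv_cancel_right]; exact p.mem_four_iff.2 (by simp)
  · rcases p.hA.comm q hq x p.xA with e | e <;> rw [e]
    · exact p.mem_four_iff.2 (by simp)
    · exact p.mem_four_iff.2 (by simp [p.zx])

theorem join_le_normalizer (p : ExtraPair Q B z x) :
    Q ⊔ B ≤ Subgroup.normalizer (four z x : Set G) :=
  sup_le p.q_mem_normalizer (four_swap z x ▸ p.swap.q_mem_normalizer)

/-- Commutators of `Q` with the centralizer of the four-group. -/
theorem comm_q (p : ExtraPair Q B z x) {q c : G} (hq : q ∈ Q)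
    (hc : c ∈ Subgroup.centralizer (four z x : Set G)) : q * c * q⁻¹ * c⁻¹ ∈ rad Q B z x := by
  obtain ⟨hcz, hcx⟩ := mem_cfour.1 hc
  refine mem_rad_left Q B z x ?_ ?_
  · rw [show q * c * q⁻¹ * c⁻¹ = q * (c * q⁻¹ * c⁻¹) by group]
    exact Q.mul_mem hq (p.nA c q⁻¹ hcz (Q.inv_mem hq))
  · have f1 : c⁻¹ * x * c = x := by rw [mul_assoc, ← hcx, inv_mul_cancel_left]
    have f2 : c * z * c⁻¹ = z := by rw [hcz, mul_inv_cancel_right]
    have f3 : c * x * c⁻¹ = x := by rw [hcx, mul_inv_cancel_right]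
    refine mul_inv_eq_iff_eq_mul.1 ?_
    rw [show q * c * q⁻¹ * c⁻¹ * x * (q * c * q⁻¹ * c⁻¹)⁻¹
      = q * (c * (q⁻¹ * (c⁻¹ * x * c) * q) * c⁻¹) * q⁻¹ by group, f1]
    rcases p.hA.comm q⁻¹ (Q.inv_mem hq) x p.xA with e | e <;> rw [inv_inv] at e <;> rw [e]
    · rw [f3]
      calc q * x * q⁻¹ = q * (q⁻¹ * x * q) * q⁻¹ := by rw [e]
        _ = x := by group
    · rw [show c * (x * z) * c⁻¹ = (c * x * c⁻¹) * (c * z * c⁻¹) by group, f2, f3, ← e]
      group

theorem comm_join (p : ExtraPair Q B z x) {u : G} (hu : u ∈ Q ⊔ B) :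
    ∀ c ∈ Subgroup.centralizer (four z x : Set G), u * c * u⁻¹ * c⁻¹ ∈ rad Q B z x := by
  rw [Subgroup.sup_eq_closure] at hu
  induction hu using Subgroup.closure_induction with
  | mem v hv =>
    intro c hc
    rcases hv with hv | hv
    · exact p.comm_q hv hc
    · rw [← rad_swap]; rw [← four_swap] at hc; exact p.swap.comm_q hv hc
  | one => intro c _; simp
  | mul a b _ _ ha hb =>
    intro c hc
    have h1 := hb c hc
    have h2 := mul_mem (ha _ (p.rad_le h1)) h1
    have h3 := mul_mem h2 (ha c hc)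
    convert h3 using 1; group
  | inv a _ ha =>
    intro c hc
    have hn : ∀ r ∈ rad Q B z x, a * r * a⁻¹ ∈ rad Q B z x := fun r hr => by
      simpa using mul_mem (ha r (p.rad_le hr)) hr
    have := inv_mem (conj_inv_mem_of_conj_mem hn _ (ha c hc))
    convert this using 1; group

theorem conj_rad (p : ExtraPair Q B z x) {u r : G} (hu : u ∈ Q ⊔ B) (hr : r ∈ rad Q B z x) :
    u * r * u⁻¹ ∈ rad Q B z x := by
  simpa using mul_mem (p.comm_join hu r (p.rad_le hr)) hr

theorem conj_rad' (p : ExtraPair Q B z x) {u r : G} (hu : u ∈ Q ⊔ B) (hr : r ∈ rad Q B z x) :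
    u⁻¹ * r * u ∈ rad Q B z x := by
  have := p.conj_rad (inv_mem hu) hr
  rwa [inv_inv] at this

theorem rad_le_join (Q B : Subgroup G) (z x : G) : rad Q B z x ≤ Q ⊔ B :=
  sup_le (inf_le_left.trans le_sup_right) (inf_le_left.trans le_sup_left)

theorem exists_mover (p : ExtraPair Q B z x) : ∃ q ∈ Q, q * x * q⁻¹ = z * x := by
  by_contra hne
  push Not at hne
  rcases p.hA.center x p.xA (fun b hb => (mul_inv_eq_iff_eq_mul.1
    ((p.hA.comm b hb x p.xA).resolve_right (fun e => hne b hb (e.trans p.zx.symm)))).symm) with e | e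
  exacts [p.hB.ne_one e, p.ne e]

theorem sq_rad (p : ExtraPair Q B z x) {q : G} (hq : q ∈ Q) : q * q ∈ rad Q B z x := by
  rcases p.sqA q hq with e | e <;> rw [e]
  · exact one_mem _
  · exact mem_rad_left Q B z x p.hA.mem p.zx

theorem split_left (p : ExtraPair Q B z x) {q q0 : G} (hq : q ∈ Q) (hq0 : q0 ∈ Q)
    (hq0x : q0 * x * q0⁻¹ = z * x) : q ∈ rad Q B z x ∨ q0⁻¹ * q ∈ rad Q B z x := by
  rcases p.hA.comm q hq x p.xA with e | e
  · exact Or.inl (mem_rad_left Q B z x hq (mul_inv_eq_iff_eq_mul.1 e))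
  · refine Or.inr (mem_rad_left Q B z x (Q.mul_mem (Q.inv_mem hq0) hq) (mul_inv_eq_iff_eq_mul.1 ?_))
    calc q0⁻¹ * q * x * (q0⁻¹ * q)⁻¹ = q0⁻¹ * (q * x * q⁻¹) * q0 := by group
      _ = q0⁻¹ * (q0 * x * q0⁻¹) * q0 := by rw [e, ← p.zx, hq0x]
      _ = x := by group

/-- Six coset representatives of the radical in the join. -/
theorem cosets (p : ExtraPair Q B z x) {q0 t0 : G} (hq : q0 ∈ Q) (hqx : q0 * x * q0⁻¹ = z * x)
    (ht : t0 ∈ B) (htz : t0 * z * t0⁻¹ = x * z) {u : G} (hu : u ∈ Q ⊔ B) :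
    u ∈ rad Q B z x ∨ q0⁻¹ * u ∈ rad Q B z x ∨ t0⁻¹ * u ∈ rad Q B z x ∨
      (q0 * t0)⁻¹ * u ∈ rad Q B z x ∨ (t0 * q0)⁻¹ * u ∈ rad Q B z x ∨
      (q0 * t0 * q0)⁻¹ * u ∈ rad Q B z x := by
  set R := rad Q B z x
  have hqX : q0 ∈ Q ⊔ B := Subgroup.mem_sup_left hq
  have htX : t0 ∈ Q ⊔ B := Subgroup.mem_sup_right ht
  have hqz : q0 * z * q0⁻¹ = z := by rw [← p.hA.central q0 hq, mul_inv_cancel_right]
  have htx : t0 * x * t0⁻¹ = x := by rw [← p.hB.central t0 ht, mul_inv_cancel_right]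
  have hq2 : q0 * (z * x) * q0⁻¹ = x := by
    rw [show q0 * (z * x) * q0⁻¹ = (q0 * z * q0⁻¹) * (q0 * x * q0⁻¹) by group, hqz, hqx,
      ← mul_assoc, p.hA.sq, one_mul]
  have ht2 : t0 * (x * z) * t0⁻¹ = z := by
    rw [show t0 * (x * z) * t0⁻¹ = (t0 * x * t0⁻¹) * (t0 * z * t0⁻¹) by group, htz, htx,
      ← mul_assoc, p.hB.sq, one_mul]
  -- braid relation modulo the radical
  obtain ⟨e, he, hbraid⟩ : ∃ e ∈ R, q0 * t0 * q0 = t0 * q0 * t0 * e := by
    have w1 : q0 * t0 * q0 * z * (q0 * t0 * q0)⁻¹ = x := by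
      rw [show q0 * t0 * q0 * z * (q0 * t0 * q0)⁻¹ = q0 * (t0 * (q0 * z * q0⁻¹) * t0⁻¹) * q0⁻¹ by
        group, hqz, htz, ← p.zx, hq2]
    have w2 : q0 * t0 * q0 * x * (q0 * t0 * q0)⁻¹ = z := by
      rw [show q0 * t0 * q0 * x * (q0 * t0 * q0)⁻¹ = q0 * (t0 * (q0 * x * q0⁻¹) * t0⁻¹) * q0⁻¹ by
        group, hqx, p.zx, ht2, hqz]
    set w := q0 * t0 * q0 with hw
    have hd : t0⁻¹ * (w * q0 * w⁻¹) ∈ R := by
      refine mem_rad_right Q B z x (B.mul_mem (B.inv_mem ht) (p.mapA w q0 w1 hq))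
        (mul_inv_eq_iff_eq_mul.1 ?_)
      rw [show t0⁻¹ * (w * q0 * w⁻¹) * z * (t0⁻¹ * (w * q0 * w⁻¹))⁻¹
        = t0⁻¹ * (w * (q0 * (w⁻¹ * z * w) * q0⁻¹) * w⁻¹) * t0 by group,
        show w⁻¹ * z * w = x by rw [← w2]; group, hqx,
        show w * (z * x) * w⁻¹ = (w * z * w⁻¹) * (w * x * w⁻¹) by group, w1, w2, ← htz]
      group
    refine ⟨t0⁻¹ * (q0⁻¹ * (t0⁻¹ * (w * q0 * w⁻¹)) * q0) * t0, p.conj_rad' htX (p.conj_rad' hqX hd), ?_⟩
    rw [hw]; group
  rw [Subgroup.sup_eq_closure] at hu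
  have step : ∀ (k k' v : G), k'⁻¹ * k ∈ R → k⁻¹ * v ∈ R → k'⁻¹ * v ∈ R := by
    intro k k' v h1 h2
    have := mul_mem h1 h2
    simpa [mul_assoc] using this
  have hr : ∀ (r k : G), r ∈ R → k ∈ Q ⊔ B → k⁻¹ * r * k ∈ R := fun r k hr hk => p.conj_rad' hk hr
  let T : G → Prop := fun v => v ∈ R ∨ q0⁻¹ * v ∈ R ∨ t0⁻¹ * v ∈ R ∨ (q0 * t0)⁻¹ * v ∈ R ∨
    (t0 * q0)⁻¹ * v ∈ R ∨ (q0 * t0 * q0)⁻¹ * v ∈ R
  have hTr : ∀ r ∈ R, ∀ v, T v → T (r * v) := by
    intro r hr' v hv
    have key : ∀ k ∈ Q ⊔ B, k⁻¹ * v ∈ R → k⁻¹ * (r * v) ∈ R := by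
      intro k hk h
      have := mul_mem (hr r k hr' hk) h
      simpa [mul_assoc] using this
    rcases hv with h | h | h | h | h | h
    exacts [Or.inl (mul_mem hr' h), Or.inr (Or.inl (key _ hqX h)),
      Or.inr (Or.inr (Or.inl (key _ htX h))),
      Or.inr (Or.inr (Or.inr (Or.inl (key _ (mul_mem hqX htX) h)))),
      Or.inr (Or.inr (Or.inr (Or.inr (Or.inl (key _ (mul_mem htX hqX) h))))),
      Or.inr (Or.inr (Or.inr (Or.inr (Or.inr (key _ (mul_mem (mul_mem hqX htX) hqX) h)))))]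
  have sqq : q0 * q0 ∈ R := p.sq_rad hq
  have stt : t0 * t0 ∈ R := by
    have := p.swap.sq_rad ht
    rwa [rad_swap] at this
  have hTq : ∀ v, T v → T (q0 * v) := by
    intro v hv
    rcases hv with h | h | h | h | h | h
    · refine Or.inr (Or.inl ?_); simpa using h
    · refine Or.inl ?_
      have := mul_mem sqq h; simpa [mul_assoc] using this
    · refine Or.inr (Or.inr (Or.inr (Or.inl ?_))); simpa [mul_assoc] using h
    · refine Or.inr (Or.inr (Or.inl ?_))
      have := mul_mem (hr _ _ sqq htX) h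
      convert this using 1; group
    · refine Or.inr (Or.inr (Or.inr (Or.inr (Or.inr ?_)))); simpa [mul_assoc] using h
    · refine Or.inr (Or.inr (Or.inr (Or.inr (Or.inl ?_))))
      have := mul_mem (hr _ _ sqq (mul_mem htX hqX)) h
      convert this using 1; group
  have hTt : ∀ v, T v → T (t0 * v) := by
    intro v hv
    rcases hv with h | h | h | h | h | h
    · refine Or.inr (Or.inr (Or.inl ?_)); simpa using h
    · refine Or.inr (Or.inr (Or.inr (Or.inr (Or.inl ?_)))); simpa [mul_assoc] using h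
    · refine Or.inl ?_
      have := mul_mem stt h; simpa [mul_assoc] using this
    · refine Or.inr (Or.inr (Or.inr (Or.inr (Or.inr ?_))))
      have := mul_mem (inv_mem he) h
      rw [hbraid]
      convert this using 1; group
    · refine Or.inr (Or.inl ?_)
      have := mul_mem (hr _ _ stt hqX) h
      convert this using 1; group
    · refine Or.inr (Or.inr (Or.inr (Or.inl ?_)))
      have := mul_mem (mul_mem (hr _ _ stt (mul_mem hqX htX)) he) h
      rw [hbraid] at this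
      convert this using 1; group
  have hTinv : ∀ {k : G}, k * k ∈ R → (∀ v, T v → T (k * v)) → ∀ v, T v → T (k⁻¹ * v) := by
    intro k hk hT v hv
    have := hT _ (hTr _ (inv_mem hk) v hv)
    simpa [mul_assoc] using this
  have hmul : ∀ k ∈ ((Q : Set G) ∪ B), ∀ v, T v → T (k * v) := by
    intro k hk v hv
    rcases hk with hk | hk
    · rcases p.split_left hk hq hqx with h | h
      · exact hTr k h v hv
      · have := hTq _ (hTr _ h v hv)
        simpa [mul_assoc] using this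
    · rcases p.swap.split_left hk ht htz with h | h <;> rw [rad_swap] at h
      · exact hTr k h v hv
      · have := hTt _ (hTr _ h v hv)
        simpa [mul_assoc] using this
  induction hu using Subgroup.closure_induction_left with
  | one => exact Or.inl (one_mem _)
  | mul_left k hk v _ hv => exact hmul k hk v hv
  | inv_mul_cancel k hk v _ hv =>
    exact hmul k⁻¹ (hk.imp (fun h => Q.inv_mem h) (fun h => B.inv_mem h)) v hv

theorem join_inf (p : ExtraPair Q B z x) :
    (Q ⊔ B) ⊓ Subgroup.centralizer (four z x : Set G) = rad Q B z x := by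
  refine le_antisymm (fun u hu => ?_) (le_inf (rad_le_join Q B z x) p.rad_le)
  obtain ⟨q0, hq, hqx⟩ := p.exists_mover
  obtain ⟨t0, ht, htz⟩ := p.swap.exists_mover
  have hqz : q0 * z * q0⁻¹ = z := by rw [← p.hA.central q0 hq, mul_inv_cancel_right]
  have htx : t0 * x * t0⁻¹ = x := by rw [← p.hB.central t0 ht, mul_inv_cancel_right]
  have n1 : z * x ≠ x := fun e => p.hA.ne_one (mul_eq_right.1 e)
  have n2 : x * z ≠ z := fun e => p.hB.ne_one (mul_eq_right.1 e)
  have key : ∀ k, k⁻¹ * u ∈ rad Q B z x → k * z * k⁻¹ = z ∧ k * x * k⁻¹ = x := by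
    intro k h
    have hu2 : u ∈ Subgroup.centralizer (four z x : Set G) := hu.2
    have := mul_mem hu2 (inv_mem (p.rad_le h))
    rw [show u * (k⁻¹ * u)⁻¹ = k by group] at this
    obtain ⟨e1, e2⟩ := mem_cfour.1 this
    exact ⟨by rw [e1, mul_inv_cancel_right], by rw [e2, mul_inv_cancel_right]⟩
  have hq2 : q0 * (x * z) * q0⁻¹ = x := by
    rw [show q0 * (x * z) * q0⁻¹ = (q0 * x * q0⁻¹) * (q0 * z * q0⁻¹) by group, hqz, hqx,
      p.zx, mul_assoc, p.hA.sq, mul_one]
  rcases p.cosets hq hqx ht htz hu.1 with h | h | h | h | h | h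
  · exact h
  · exact absurd ((hqx.symm.trans (key _ h).2)) n1
  · exact absurd ((htz.symm.trans (key _ h).1)) n2
  · refine absurd (Eq.trans ?_ (key _ h).1) p.ne
    rw [show q0 * t0 * z * (q0 * t0)⁻¹ = q0 * (t0 * z * t0⁻¹) * q0⁻¹ by group, htz, hq2]
  · refine absurd (Eq.trans ?_ (key _ h).1) n2
    rw [show t0 * q0 * z * (t0 * q0)⁻¹ = t0 * (q0 * z * q0⁻¹) * t0⁻¹ by group, hqz, htz]
  · refine absurd (Eq.trans ?_ (key _ h).1) p.ne
    rw [show q0 * t0 * q0 * z * (q0 * t0 * q0)⁻¹ = q0 * (t0 * (q0 * z * q0⁻¹) * t0⁻¹) * q0⁻¹ by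
      group, hqz, htz, hq2]

theorem inf_eq (p : ExtraPair Q B z x) :
    (B ⊓ Subgroup.centralizer ({z} : Set G)) ⊓ (Q ⊓ Subgroup.centralizer ({x} : Set G)) = Q ⊓ B :=
  le_antisymm (fun _ h => ⟨h.2.1, h.1.1⟩) fun v h =>
    ⟨⟨h.2, Subgroup.mem_centralizer_singleton_iff.2 (p.hA.central v h.1).symm⟩,
      ⟨h.1, Subgroup.mem_centralizer_singleton_iff.2 (p.hB.central v h.2).symm⟩⟩

theorem inter_triv (p : ExtraPair Q B z x) {v : G} (h1 : v = 1 ∨ v = z) (h2 : v = 1 ∨ v = x) :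
    v = 1 := by
  rcases h2 with h | h
  · exact h
  · rcases h1 with e | e
    · exact e
    · exact absurd (h.symm.trans e) p.ne

theorem elementary_inter (p : ExtraPair Q B z x) : Cfsg.IsElementaryAbelian 2 (Q ⊓ B) := by
  refine ⟨⟨⟨fun a b => Subtype.ext ?_⟩⟩, fun a ha => ?_⟩
  · have h1 : (a : G) * b * (a : G)⁻¹ * (b : G)⁻¹ = 1 ∨
        (a : G) * b * (a : G)⁻¹ * (b : G)⁻¹ = z := by
      rcases p.hA.comm a a.2.1 b b.2.1 with e | e <;> rw [e]
      · left; group
      · right; rw [← p.hA.central b b.2.1, mul_inv_cancel_right]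
    have h2 : (a : G) * b * (a : G)⁻¹ * (b : G)⁻¹ = 1 ∨
        (a : G) * b * (a : G)⁻¹ * (b : G)⁻¹ = x := by
      rcases p.hB.comm a a.2.2 b b.2.2 with e | e <;> rw [e]
      · left; group
      · right; rw [← p.hB.central b b.2.2, mul_inv_cancel_right]
    have := p.inter_triv h1 h2
    exact mul_inv_eq_iff_eq_mul.1 (mul_inv_eq_one.1 this)
  · rw [pow_two]
    exact p.inter_triv (p.sqA a ha.1) (p.sqB a ha.2)

theorem z_mem_inter (p : ExtraPair Q B z x) : z ∈ Q ⊓ B := ⟨p.hA.mem, p.zB⟩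

theorem four_le_inter (p : ExtraPair Q B z x) : four z x ≤ Q ⊓ B := by
  rw [four, Subgroup.closure_le]
  rintro _ (rfl | rfl)
  exacts [p.z_mem_inter, ⟨p.xA, p.hB.mem⟩]

theorem four_le_rad (p : ExtraPair Q B z x) : four z x ≤ rad Q B z x := fun _ hv =>
  Subgroup.mem_sup_left (show _ ∈ B ⊓ Subgroup.centralizer ({z} : Set G) from
    (p.inf_eq.symm ▸ p.four_le_inter hv).1)

theorem conj_inter (p : ExtraPair Q B z x) {c e : G}
    (hc : c ∈ Subgroup.centralizer (four z x : Set G)) (he : e ∈ Q ⊓ B) : c * e * c⁻¹ ∈ Q ⊓ B :=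
  ⟨p.nA c e (mem_cfour.1 hc).1 he.1, p.nB c e (mem_cfour.1 hc).2 he.2⟩

theorem comm_gen (p : ExtraPair Q B z x) {s t : G}
    (hs : s ∈ Q ⊓ Subgroup.centralizer ({x} : Set G))
    (ht : t ∈ B ⊓ Subgroup.centralizer ({z} : Set G) ∨ t ∈ Q ⊓ Subgroup.centralizer ({x} : Set G)) :
    s * t * s⁻¹ * t⁻¹ ∈ Q ⊓ B := by
  rcases ht with ht | ht
  · refine ⟨?_, B.mul_mem (p.nB s t (Subgroup.mem_centralizer_singleton_iff.1 hs.2) ht.1)
      (B.inv_mem ht.1)⟩
    rw [show s * t * s⁻¹ * t⁻¹ = s * (t * s⁻¹ * t⁻¹) by group]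
    exact Q.mul_mem hs.1 (p.nA t s⁻¹ (Subgroup.mem_centralizer_singleton_iff.1 ht.2) (Q.inv_mem hs.1))
  · rcases p.hA.comm s hs.1 t ht.1 with e | e <;> rw [e]
    · rw [mul_inv_cancel]; exact one_mem _
    · rw [← p.hA.central t ht.1, mul_inv_cancel_right]; exact p.z_mem_inter

theorem comm_rad (p : ExtraPair Q B z x) {a b : G} (ha : a ∈ rad Q B z x) (hb : b ∈ rad Q B z x) :
    a * b * a⁻¹ * b⁻¹ ∈ Q ⊓ B := by
  have key : ∀ s : G, (s ∈ B ⊓ Subgroup.centralizer ({z} : Set G) ∨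
      s ∈ Q ⊓ Subgroup.centralizer ({x} : Set G)) → ∀ b ∈ rad Q B z x,
      s * b * s⁻¹ * b⁻¹ ∈ Q ⊓ B := by
    intro s hs b hb
    rw [rad, Subgroup.sup_eq_closure] at hb
    induction hb using Subgroup.closure_induction with
    | mem t ht =>
      rcases hs with hs | hs
      · rw [inf_comm Q B]; exact p.swap.comm_gen hs ht.symm
      · exact p.comm_gen hs ht
    | one => simp
    | mul u v hu _ h1 h2 =>
      have hu' : u ∈ rad Q B z x := by rw [rad, Subgroup.sup_eq_closure]; exact hu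
      have := mul_mem h1 (p.conj_inter (p.rad_le hu') h2)
      convert this using 1; group
    | inv u hu h1 =>
      have hu' : u⁻¹ ∈ rad Q B z x := by rw [rad, Subgroup.sup_eq_closure]; exact inv_mem hu
      have := p.conj_inter (p.rad_le hu') (inv_mem h1)
      convert this using 1; group
  rw [rad, Subgroup.sup_eq_closure] at ha
  induction ha using Subgroup.closure_induction with
  | mem s hs => exact key s hs b hb
  | one => simp
  | mul u v hu _ h1 h2 =>
    have hu' : u ∈ rad Q B z x := by rw [rad, Subgroup.sup_eq_closure]; exact hu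
    have := mul_mem (p.conj_inter (p.rad_le hu') h2) h1
    convert this using 1; group
  | inv u hu h1 =>
    have hu' : u⁻¹ ∈ rad Q B z x := by rw [rad, Subgroup.sup_eq_closure]; exact inv_mem hu
    have := p.conj_inter (p.rad_le hu') (inv_mem h1)
    convert this using 1; group

theorem sq_mem_inter (p : ExtraPair Q B z x) {a : G} (ha : a ∈ rad Q B z x) :
    a * a ∈ Q ⊓ B := by
  rw [rad, Subgroup.sup_eq_closure] at ha
  induction ha using Subgroup.closure_induction with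
  | mem s hs =>
    rcases hs with hs | hs
    · rcases p.sqB s hs.1 with e | e <;> rw [e]
      exacts [one_mem _, ⟨p.xA, p.hB.mem⟩]
    · rcases p.sqA s hs.1 with e | e <;> rw [e]
      exacts [one_mem _, p.z_mem_inter]
  | one => simp
  | mul u v hu hv h1 h2 =>
    have hu' : u ∈ rad Q B z x := by rw [rad, Subgroup.sup_eq_closure]; exact hu
    have hv' : v ∈ rad Q B z x := by rw [rad, Subgroup.sup_eq_closure]; exact hv
    have h3 := p.conj_inter (p.rad_le hu') (p.comm_rad hv' hu')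
    have := mul_mem (mul_mem h3 h1) h2
    convert this using 1; group
  | inv u _ h1 => have := inv_mem h1; convert this using 1; group

/-- An element centralizing the four-group and the part of `Q` fixing it lies in the four-group. -/
theorem mem_four_of_centralizes (p : ExtraPair Q B z x) {c : G}
    (hc : c ∈ Subgroup.centralizer (four z x : Set G))
    (h : ∀ a ∈ Q, a * x = x * a → c * a = a * c) : c ∈ four z x := by
  obtain ⟨hcz, hcx⟩ := mem_cfour.1 hc
  obtain ⟨q0, hq, hqx⟩ := p.exists_mover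
  have hd : q0⁻¹ * (c * q0 * c⁻¹) ∈ Q := Q.mul_mem (Q.inv_mem hq) (p.nA c q0 hcz hq)
  have split : ∀ q ∈ Q, q * x = x * q ∨ (q0⁻¹ * q) * x = x * (q0⁻¹ * q) := by
    intro q hq'
    rcases p.hA.comm q hq' x p.xA with e | e
    · exact Or.inl (mul_inv_eq_iff_eq_mul.1 e)
    · refine Or.inr (mul_inv_eq_iff_eq_mul.1 ?_)
      calc q0⁻¹ * q * x * (q0⁻¹ * q)⁻¹ = q0⁻¹ * (q * x * q⁻¹) * q0 := by group
        _ = q0⁻¹ * (q0 * x * q0⁻¹) * q0 := by rw [e, ← p.zx, hqx]
        _ = x := by group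
  have close : ∀ d : G, d * q0 = q0 * d → (∀ a ∈ Q, a * x = x * a → d * a = a * d) →
      d = 1 ∨ d = z := by
    intro d h1 h2
    refine p.cA d fun q hq' => ?_
    rcases split q hq' with e | e
    · exact h2 q hq' e
    · calc d * q = d * q0 * (q0⁻¹ * q) := by group
        _ = q0 * (d * (q0⁻¹ * q)) := by rw [h1, mul_assoc]
        _ = q0 * ((q0⁻¹ * q) * d) := by rw [h2 _ (Q.mul_mem (Q.inv_mem hq) hq') e]
        _ = q * d := by group
  set δ := q0⁻¹ * (c * q0 * c⁻¹) with hδ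
  -- `δ` centralizes the hyperplane
  have hdc : ∀ a ∈ Q, a * x = x * a → a * δ * a⁻¹ = δ := by
    intro a ha hax
    have hca : c * a * c⁻¹ = a := by rw [h a ha hax, mul_inv_cancel_right]
    have e1 : a * q0⁻¹ * a⁻¹ = (a * q0 * a⁻¹)⁻¹ := by group
    have e2 : a * (c * q0 * c⁻¹) * a⁻¹ = c * (a * q0 * a⁻¹) * c⁻¹ := by
      calc _ = (c * a * c⁻¹) * (c * q0 * c⁻¹) * (c * a * c⁻¹)⁻¹ := by rw [hca]
        _ = _ := by group
    calc a * δ * a⁻¹ = (a * q0⁻¹ * a⁻¹) * (a * (c * q0 * c⁻¹) * a⁻¹) := by rw [hδ]; group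
      _ = δ := by
        rw [e1, e2]
        rcases p.hA.comm a ha q0 hq with e | e
        · rw [e, hδ]; try group
        · rw [e, hδ, show c * (q0 * z) * c⁻¹ = (c * q0 * c⁻¹) * (c * z * c⁻¹) by group,
            show c * z * c⁻¹ = z by rw [hcz, mul_inv_cancel_right],
            show (q0 * z)⁻¹ = z * q0⁻¹ by rw [mul_inv_rev, inv_eq_of_mul_eq_one_right p.hA.sq]]
          rw [p.hA.central q0⁻¹ (Q.inv_mem hq), mul_assoc q0⁻¹ z,
            p.hA.central _ (Q.mul_mem (p.nA c q0 hcz hq) p.hA.mem), mul_assoc _ z z, p.hA.sq, mul_one]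
  -- hence it lies in the four-group
  have hd4 : δ = 1 ∨ δ = z ∨ δ = x ∨ δ = z * x := by
    rcases p.hA.comm q0 hq δ hd with e | e
    · rcases close δ (mul_inv_eq_iff_eq_mul.1 e).symm
        (fun a ha hax => (mul_inv_eq_iff_eq_mul.1 (hdc a ha hax)).symm) with f | f <;> tauto
    · have hxi : x⁻¹ = x := inv_eq_of_mul_eq_one_right p.hB.sq
      have hdx : δ * x = x * δ := (mul_inv_eq_iff_eq_mul.1 (hdc x p.xA rfl)).symm
      rcases close (δ * x) (mul_inv_eq_iff_eq_mul.1 (by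
          calc q0 * (δ * x) * q0⁻¹ = (q0 * δ * q0⁻¹) * (q0 * x * q0⁻¹) := by group
            _ = δ * (z * z) * x := by rw [e, hqx]; simp only [mul_assoc]
            _ = δ * x := by rw [p.hA.sq, mul_one])).symm
        (fun a ha hax => (mul_inv_eq_iff_eq_mul.1 (by
          calc a * (δ * x) * a⁻¹ = (a * δ * a⁻¹) * (a * x * a⁻¹) := by group
            _ = δ * x := by rw [hdc a ha hax, hax, mul_inv_cancel_right])).symm) with f | f
      · right; right; left; rw [eq_inv_of_mul_eq_one_left f, hxi]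
      · right; right; right; rw [← f, mul_assoc, p.hB.sq, mul_one]
  -- squares are preserved
  have hcq : c * q0 * c⁻¹ = q0 * δ := by rw [hδ]; group
  have hsq : (q0 * δ) * (q0 * δ) = q0 * q0 := by
    rw [← hcq, show c * q0 * c⁻¹ * (c * q0 * c⁻¹) = c * (q0 * q0) * c⁻¹ by group]
    rcases p.sqA q0 hq with e | e <;> rw [e]
    · group
    · rw [hcz, mul_inv_cancel_right]
  have bad : ∀ v : G, v = x ∨ v = z * x → δ ≠ v := by
    intro v hv hδv
    have e1 : q0 * δ * q0⁻¹ = δ * z := by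
      rw [hδv]
      rcases hv with rfl | rfl
      · rw [hqx, p.zx]
      · rw [show q0 * (z * x) * q0⁻¹ = (q0 * z * q0⁻¹) * (q0 * x * q0⁻¹) by group,
          show q0 * z * q0⁻¹ = z by rw [← p.hA.central q0 hq, mul_inv_cancel_right], hqx,
          mul_assoc z x z, ← p.zx]
    have e2 : δ * δ = 1 := by
      rw [hδv]
      rcases hv with rfl | rfl
      · exact p.hB.sq
      · rw [mul_assoc, ← mul_assoc x, ← p.zx, mul_assoc z x x, p.hB.sq, mul_one, p.hA.sq]
    have h3 : q0 * δ * (q0 * δ) = q0 * q0 * z := by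
      have h4 : δ * q0 = q0 * δ * z := by
        have h5 := mul_inv_eq_iff_eq_mul.1 e1
        rw [mul_assoc δ z q0, p.hA.central q0 hq] at h5
        rw [h5, ← mul_assoc δ q0 z, mul_assoc _ z z, p.hA.sq, mul_one]
      calc q0 * δ * (q0 * δ) = q0 * (δ * q0) * δ := by simp only [mul_assoc]
        _ = q0 * q0 * (δ * (z * δ)) := by rw [h4]; simp only [mul_assoc]
        _ = q0 * q0 * z := by rw [p.hA.central δ hd, ← mul_assoc δ δ z, e2, one_mul]
    rw [h3] at hsq
    exact p.hA.ne_one (mul_eq_left.1 hsq)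
  rcases hd4 with e | e | e | e
  · rcases close c (by
      have := hcq; rw [e, mul_one] at this; exact mul_inv_eq_iff_eq_mul.1 this) h with f | f <;>
      rw [f]
    exacts [one_mem _, p.mem_four_iff.2 (by simp)]
  · rcases close (x * c) (mul_inv_eq_iff_eq_mul.1 (by
        have hx0 : x * q0 * x⁻¹ = q0 * z := by
          rcases p.hA.comm x p.xA q0 hq with e' | e'
          · exfalso
            have : q0 * x * q0⁻¹ = x := by
              rw [← mul_inv_eq_iff_eq_mul.1 e', mul_inv_cancel_right]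
            rw [this] at hqx
            exact p.hA.ne_one (mul_eq_right.1 hqx.symm)
          · exact e'
        calc x * c * q0 * (x * c)⁻¹ = x * (c * q0 * c⁻¹) * x⁻¹ := by group
          _ = (x * q0 * x⁻¹) * (x * z * x⁻¹) := by rw [hcq, e]; group
          _ = q0 * (z * z) := by rw [hx0, ← p.zx, mul_inv_cancel_right, mul_assoc]
          _ = q0 := by rw [p.hA.sq, mul_one]))
      (fun a ha hax => by rw [mul_assoc, h a ha hax, ← mul_assoc, ← hax, mul_assoc]) with f | f
    · rw [eq_inv_of_mul_eq_one_right f, inv_eq_of_mul_eq_one_right p.hB.sq]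
      exact p.mem_four_iff.2 (by simp)
    · rw [show c = x * z by rw [← f, ← mul_assoc, p.hB.sq, one_mul]]
      exact p.mem_four_iff.2 (by simp [p.zx])
  · exact absurd e (bad x (Or.inl rfl))
  · exact absurd e (bad _ (Or.inr rfl))

end ExtraPair

end Cfsg.Agent.Lib.ThreeTransp
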