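import Cfsg.Agent.Lib.ThreeTransp.LargePairUpper

/-!
The quotient of the group generated by the pair by its radical is `S₃`.
-/

set_option autoImplicit false

namespace Cfsg.Agent.Lib.ThreeTransp

open Cfsg.Agent.Lib.Classification

variable {G : Type*} [Group G] [Finite G]

namespace ExtraPair

variable {Q B : Subgroup G} {z x : G}

/-- The three nontrivial elements of the four-group. -/
def trio (z x : G) : Type _ := {v : G // v ∈ four z x ∧ v ≠ 1}

theorem card_trio (p : ExtraPair Q B z x) : Nat.card (trio z x) = 3 := by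
  have hset : {v : G | v ∈ four z x ∧ v ≠ 1} = {z, x, z * x} := by
    ext v
    simp only [Set.mem_setOf_eq, Set.mem_insert_iff, Set.mem_singleton_iff, p.mem_four_iff]
    constructor
    · rintro ⟨h | h | h | h, hv⟩ <;> tauto
    · rintro (rfl | rfl | rfl)
      · exact ⟨by tauto, p.hA.ne_one⟩
      · exact ⟨by tauto, p.hB.ne_one⟩
      · refine ⟨by tauto, fun e => p.ne ?_⟩
        rw [eq_inv_of_mul_eq_one_right e, inv_eq_of_mul_eq_one_right p.hA.sq]
  show Nat.card ↥{v : G | v ∈ four z x ∧ v ≠ 1} = 3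
  rw [hset, Nat.card_coe_set_eq, Set.ncard_insert_of_notMem, Set.ncard_insert_of_notMem,
    Set.ncard_singleton]
  · simp only [Set.mem_singleton_iff]; exact fun e => p.hA.ne_one (mul_eq_right.1 e.symm)
  · simp only [Set.mem_insert_iff, Set.mem_singleton_iff, not_or]
    exact ⟨p.ne.symm, fun e => p.hB.ne_one (mul_eq_left.1 e.symm)⟩

/-- The action of the normalizer of the four-group on its involutions. -/
noncomputable def trioPerm (z x : G) :
    ↥(Subgroup.normalizer (four z x : Set G)) →* Equiv.Perm (trio z x) :=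
  MonoidHom.mk'
    (fun u => Equiv.Perm.subtypePerm (p := fun v => v ∈ four z x ∧ v ≠ 1) (MulAut.conj (u : G)).toEquiv
      (fun v => by
        show ((u : G) * v * (u : G)⁻¹ ∈ four z x ∧ (u : G) * v * (u : G)⁻¹ ≠ 1) ↔ _
        rw [Ne, conj_eq_one_iff]
        exact and_congr_left fun _ => ((Subgroup.mem_normalizer_iff.1 u.2 v)).symm))
    (fun a b => by
      apply Equiv.ext
      intro v
      apply Subtype.ext
      show ((a * b : ↥(Subgroup.normalizer (four z x : Set G))) : G) * v.1 * _⁻¹ = _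
      show (a : G) * b * v.1 * ((a : G) * b)⁻¹ = (a : G) * ((b : G) * v.1 * (b : G)⁻¹) * (a : G)⁻¹
      group)

theorem trioPerm_apply (u : ↥(Subgroup.normalizer (four z x : Set G))) (v : trio z x) :
    (trioPerm z x u v).1 = (u : G) * v.1 * (u : G)⁻¹ := rfl

theorem trioPerm_eq_one (p : ExtraPair Q B z x) {u : ↥(Subgroup.normalizer (four z x : Set G))} :
    trioPerm z x u = 1 ↔ (u : G) ∈ Subgroup.centralizer (four z x : Set G) := by
  constructor
  · intro h
    refine mem_cfour.2 ⟨?_, ?_⟩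
    · have := congrArg Subtype.val (Equiv.ext_iff.1 h ⟨z, p.mem_four_iff.2 (by simp), p.hA.ne_one⟩)
      exact mul_inv_eq_iff_eq_mul.1 this
    · have := congrArg Subtype.val (Equiv.ext_iff.1 h ⟨x, p.mem_four_iff.2 (by simp), p.hB.ne_one⟩)
      exact mul_inv_eq_iff_eq_mul.1 this
  · intro h
    apply Equiv.ext
    intro v
    apply Subtype.ext
    rw [trioPerm_apply, ← Subgroup.mem_centralizer_iff.1 h v.1 v.2.1, mul_inv_cancel_right]
    rfl

theorem exists_join_hom (p : ExtraPair Q B z x) :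
    ∃ φ : ↥(Subgroup.normalizer (four z x : Set G)) →* Equiv.Perm (Fin 3),
      (∀ u, φ u = 1 ↔ (u : G) ∈ Subgroup.centralizer (four z x : Set G)) ∧
      ∀ s, ∃ u : ↥(Subgroup.normalizer (four z x : Set G)), (u : G) ∈ Q ⊔ B ∧ φ u = s := by
  have hf : Finite (trio z x) := (Subtype.finite : Finite {v : G // v ∈ four z x ∧ v ≠ 1})
  let e : trio z x ≃ Fin 3 := Finite.equivFinOfCardEq p.card_trio
  let φ : ↥(Subgroup.normalizer (four z x : Set G)) →* Equiv.Perm (Fin 3) :=
    (e.permCongrHom.toMonoidHom).comp (trioPerm z x)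
  have hker : ∀ u, φ u = 1 ↔ (u : G) ∈ Subgroup.centralizer (four z x : Set G) := fun u =>
    (map_eq_one_iff e.permCongrHom e.permCongrHom.injective).trans p.trioPerm_eq_one
  refine ⟨φ, hker, ?_⟩
  let K : Subgroup (Equiv.Perm (Fin 3)) :=
    ((Q ⊔ B).subgroupOf (Subgroup.normalizer (four z x : Set G))).map φ
  suffices hK : K = ⊤ by
    intro s
    obtain ⟨u, hu, hus⟩ := (hK ▸ Subgroup.mem_top s : s ∈ K)
    exact ⟨u, hu, hus⟩
  obtain ⟨q0, hq, hqx⟩ := p.exists_mover
  obtain ⟨t0, ht, htz⟩ := p.swap.exists_mover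
  have hqz : q0 * z * q0⁻¹ = z := by rw [← p.hA.central q0 hq, mul_inv_cancel_right]
  have htx : t0 * x * t0⁻¹ = x := by rw [← p.hB.central t0 ht, mul_inv_cancel_right]
  have hqN := p.q_mem_normalizer hq
  have htN := p.join_le_normalizer (Subgroup.mem_sup_right ht)
  have mC : ∀ {k : G}, k ∈ Subgroup.centralizer (four z x : Set G) → k * z * k⁻¹ = z ∧
      k * x * k⁻¹ = x := fun hk => by
    obtain ⟨e1, e2⟩ := mem_cfour.1 hk
    exact ⟨by rw [e1, mul_inv_cancel_right], by rw [e2, mul_inv_cancel_right]⟩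
  set a : ↥(Subgroup.normalizer (four z x : Set G)) := ⟨q0, hqN⟩
  set b : ↥(Subgroup.normalizer (four z x : Set G)) := ⟨t0, htN⟩
  have ha : φ a ∈ K := ⟨a, Subgroup.mem_sup_left hq, rfl⟩
  have hb : φ b ∈ K := ⟨b, Subgroup.mem_sup_right ht, rfl⟩
  have n1 : φ a ≠ 1 := fun e' => p.hA.ne_one
    (mul_eq_right.1 (hqx.symm.trans (mC ((hker a).1 e')).2))
  have n2 : φ b ≠ 1 := fun e' => p.hB.ne_one
    (mul_eq_right.1 (htz.symm.trans (mC ((hker b).1 e')).1))
  have n3 : φ a ≠ φ b := by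
    intro e'
    have h := (hker (a⁻¹ * b)).1 (by rw [map_mul, map_inv, e', inv_mul_cancel])
    have h' : q0⁻¹ * t0 * z * (q0⁻¹ * t0)⁻¹ = z := (mC h).1
    rw [show q0⁻¹ * t0 * z * (q0⁻¹ * t0)⁻¹ = q0⁻¹ * (t0 * z * t0⁻¹) * q0 by group, htz] at h'
    have h2 : x * z = q0 * z * q0⁻¹ := by
      calc x * z = q0 * (q0⁻¹ * (x * z) * q0) * q0⁻¹ := by group
        _ = _ := by rw [h']
    rw [hqz] at h2
    exact p.hB.ne_one (mul_eq_right.1 h2)
  have n4 : φ a * φ a = 1 ∧ φ b * φ b = 1 := by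
    constructor <;> rw [← map_mul, hker]
    · exact p.rad_le (p.sq_rad hq)
    · have := p.swap.sq_rad ht
      rw [rad_swap] at this
      exact p.rad_le this
  have key : ∀ s t : Equiv.Perm (Fin 3), s ≠ 1 → t ≠ 1 → s ≠ t → s * s = 1 → t * t = 1 →
      ∀ u, u = 1 ∨ u = s ∨ u = t ∨ u = s * t ∨ u = t * s ∨ u = s * t * s := by decide
  refine eq_top_iff.2 fun u _ => ?_
  rcases key _ _ n1 n2 n3 n4.1 n4.2 u with h | h | h | h | h | h <;> rw [h]
  exacts [one_mem _, ha, hb, mul_mem ha hb, mul_mem hb ha, mul_mem (mul_mem ha hb) ha]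

end ExtraPair

open ExtraPair in
theorem large_pair_quotient {Q : Subgroup G} (hQ : Cfsg.IsLargeExtraspecial Q) {z : G}
    (hz : (Subgroup.center ↥Q).map Q.subtype = Subgroup.zpowers z) (hz2 : orderOf z = 2) {w : ℕ}
    (hw : 2 ≤ w) (hcard : Nat.card ↥Q = 2 ^ (2 * w + 1)) {g : G}
    (hgH : g ∉ Subgroup.centralizer ({z} : Set G)) (hgQ : g * z * g⁻¹ ∈ Q) {V X R : Subgroup G}
    (hV : V = Subgroup.closure ({z, g * z * g⁻¹} : Set G))
    (hX : X = Q ⊔ (Q).map (MulAut.conj g).toMonoidHom)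
    (hR : R = ((Q).map (MulAut.conj g).toMonoidHom ⊓ Subgroup.centralizer ({z} : Set G)) ⊔
      (Q ⊓ Subgroup.centralizer ({g * z * g⁻¹} : Set G))) :
    R = X ⊓ Subgroup.centralizer (V : Set G) ∧ R = (Cfsg.pCore 2 ↥X).map X.subtype ∧
      (∃ h : (R.subgroupOf X).Normal, Nonempty (↥X ⧸ R.subgroupOf X ≃* Equiv.Perm (Fin 3))) ∧
      Subgroup.normalizer (V : Set G) =
        X ⊔ (Subgroup.centralizer ({z} : Set G) ⊓ Subgroup.centralizer (V : Set G)) ∧
      (∀ y ∈ Subgroup.normalizer (V : Set G), ∀ a ∈ X, y * a * y⁻¹ ∈ X) ∧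
      R ≤ Subgroup.centralizer ({z} : Set G) ⊓ Subgroup.centralizer (V : Set G) ∧
      (∀ a ∈ X, ∀ c ∈ Subgroup.centralizer ({z} : Set G) ⊓ Subgroup.centralizer (V : Set G),
        a * c * a⁻¹ * c⁻¹ ∈ R) ∧
      X ⊓ (Subgroup.centralizer ({z} : Set G) ⊓ Subgroup.centralizer (V : Set G)) = R := by
  have p := extraPair_of_isLarge hQ hz hz2 hw hcard hgH hgQ
  subst hV hX hR
  set x := g * z * g⁻¹ with hx
  set B := Q.map (MulAut.conj g).toMonoidHom with hB
  have hCz : Subgroup.centralizer ({z} : Set G) ⊓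
      Subgroup.centralizer (four z x : Set G) = Subgroup.centralizer (four z x : Set G) :=
    inf_eq_right.2 fun c hc => Subgroup.mem_centralizer_singleton_iff.2 (mem_cfour.1 hc).1
  obtain ⟨φ, hker, hsurj⟩ := p.exists_join_hom
  let ψ : ↥(Q ⊔ B) →* Equiv.Perm (Fin 3) := φ.comp (Subgroup.inclusion p.join_le_normalizer)
  have hψs : Function.Surjective ψ := by
    intro s
    obtain ⟨u, hu, hus⟩ := hsurj s
    exact ⟨⟨u, hu⟩, hus⟩
  have hψk : ψ.ker = (rad Q B z x).subgroupOf (Q ⊔ B) := by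
    ext u
    rw [MonoidHom.mem_ker, Subgroup.mem_subgroupOf, ← p.join_inf]
    exact (hker _).trans (iff_of_eq (by simp [Subgroup.mem_inf]))
  have hn : ((rad Q B z x).subgroupOf (Q ⊔ B)).Normal := hψk ▸ MonoidHom.normal_ker ψ
  refine ⟨p.join_inf.symm, ?_, ⟨hn, ?_⟩, ?_, ?_, ?_, ?_, ?_⟩
  · -- the radical is the 2-core
    refine le_antisymm ?_ ?_
    · intro r hr
      have hrX := rad_le_join Q B z x hr
      have hp : IsPGroup 2 ↥((rad Q B z x).subgroupOf (Q ⊔ B)) := by
        refine IsPGroup.of_equiv ?_ (Subgroup.subgroupOfEquivOfLe (rad_le_join Q B z x)).symm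
        refine IsPGroup.to_sup_of_normal_right' (p.pB.to_le inf_le_left) (p.pA.to_le inf_le_left) ?_
        intro b hb
        have key : ∀ c ∈ Subgroup.centralizer (four z x : Set G),
            ∀ a ∈ Q ⊓ Subgroup.centralizer ({x} : Set G),
            c * a * c⁻¹ ∈ Q ⊓ Subgroup.centralizer ({x} : Set G) := by
          intro c hc a ha
          refine ⟨p.nA c a (mem_cfour.1 hc).1 ha.1, Subgroup.mem_centralizer_singleton_iff.2 ?_⟩
          have e1 : c⁻¹ * x = x * c⁻¹ :=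
            (Commute.inv_left ((mem_cfour.1 hc).2 : Commute c x)).eq
          calc c * a * c⁻¹ * x = c * a * (x * c⁻¹) := by rw [mul_assoc _ c⁻¹ x, e1]
            _ = c * (a * x) * c⁻¹ := by group
            _ = (c * x) * a * c⁻¹ := by rw [Subgroup.mem_centralizer_singleton_iff.1 ha.2]; group
            _ = x * (c * a * c⁻¹) := by rw [(mem_cfour.1 hc).2]; group
        have hbC : b ∈ Subgroup.centralizer (four z x : Set G) :=
          p.rad_le (mem_rad_right Q B z x hb.1 (Subgroup.mem_centralizer_singleton_iff.1 hb.2))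
        rw [Subgroup.mem_normalizer_iff]
        refine fun a => ⟨key b hbC a, fun h => ?_⟩
        have := conj_inv_mem_of_conj_mem (key b hbC) _ h
        simpa [mul_assoc] using this
      exact ⟨⟨r, hrX⟩, (le_sSup ⟨hn, hp⟩ : (rad Q B z x).subgroupOf (Q ⊔ B) ≤ Cfsg.pCore 2 _)
        (Subgroup.mem_subgroupOf.2 hr), rfl⟩
    · rintro _ ⟨u, hu, rfl⟩
      suffices hle : Cfsg.pCore 2 ↥(Q ⊔ B) ≤ (rad Q B z x).subgroupOf (Q ⊔ B) from
        Subgroup.mem_subgroupOf.1 (hle hu)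
      refine sSup_le fun N ⟨hN, hNp⟩ => ?_
      rw [← hψk, ← Subgroup.map_eq_bot_iff]
      have hM : (N.map ψ).Normal := hN.map ψ hψs
      have hMp : IsPGroup 2 ↥(N.map ψ) := hNp.map ψ
      rw [Subgroup.eq_bot_iff_forall]
      intro s hs
      by_contra hs1
      have key : ∀ s : Equiv.Perm (Fin 3), s ≠ 1 → ∃ c, s * (c * s * c⁻¹) ≠ 1 ∧
          (s * (c * s * c⁻¹)) ^ 3 = 1 := by decide +kernel
      obtain ⟨c, hc1, hc3⟩ := key s hs1
      have hmem := mul_mem hs (hM.conj_mem s hs c)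
      obtain ⟨k, hk⟩ := hMp ⟨_, hmem⟩
      refine hc1 (orderOf_eq_one_iff.1 ?_)
      exact Nat.eq_one_of_dvd_coprimes (Nat.Coprime.pow_left k (by norm_num : Nat.Coprime 2 3))
        (orderOf_dvd_of_pow_eq_one (congrArg Subtype.val hk)) (orderOf_dvd_of_pow_eq_one hc3)
  · exact ⟨(QuotientGroup.quotientMulEquivOfEq hψk.symm).trans
      (QuotientGroup.quotientKerEquivOfSurjective ψ hψs)⟩
  · refine le_antisymm (fun u hu => ?_) (sup_le p.join_le_normalizer ?_)
    · obtain ⟨w, hw, hws⟩ := hsurj (φ ⟨u, hu⟩)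
      have h := (hker (w⁻¹ * ⟨u, hu⟩)).1 (by rw [map_mul, map_inv, hws, inv_mul_cancel])
      have := Subgroup.mul_mem_sup hw (hCz.symm ▸ h :
        (w : G)⁻¹ * u ∈ Subgroup.centralizer ({z} : Set G) ⊓ Subgroup.centralizer (four z x : Set G))
      convert this using 1
      · rfl
      · group
    · rintro c ⟨-, hc⟩
      exact p.mem_normalizer_four
        (by rw [(mem_cfour.1 hc).1, mul_inv_cancel_right]; exact p.mem_four_iff.2 (by simp))
        (by rw [(mem_cfour.1 hc).2, mul_inv_cancel_right]; exact p.mem_four_iff.2 (by simp))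
  · intro y hy a ha
    obtain ⟨w, hw, hws⟩ := hsurj (φ ⟨y, hy⟩)
    have h := (hker (w⁻¹ * ⟨y, hy⟩)).1 (by rw [map_mul, map_inv, hws, inv_mul_cancel])
    have h1 : ((w : G)⁻¹ * y) * a * ((w : G)⁻¹ * y)⁻¹ ∈ Q ⊔ B := by
      have := mul_mem (inv_mem (rad_le_join Q B z x (p.comm_join ha _ h))) ha
      convert this using 1
      show _ = (a * ((w : G)⁻¹ * y) * a⁻¹ * ((w : G)⁻¹ * y)⁻¹)⁻¹ * a
      group
    have := mul_mem (mul_mem hw h1) (inv_mem hw)
    convert this using 1; group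
  · exact le_inf (fun r hr => Subgroup.mem_centralizer_singleton_iff.2
      (mem_cfour.1 (p.rad_le hr)).1) p.rad_le
  · exact fun a ha c hc => p.comm_join ha c hc.2
  · show (Q ⊔ B) ⊓ (Subgroup.centralizer ({z} : Set G) ⊓
      Subgroup.centralizer (four z x : Set G)) = rad Q B z x
    rw [hCz]; exact p.join_inf

end Cfsg.Agent.Lib.ThreeTransp
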