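import Cfsg.Agent.Lib.ThreeTransp.LargePair

/-!
Structure of the group generated by two mutually contained conjugates of a large extraspecial subgroup.
-/

set_option autoImplicit false

namespace Cfsg.Agent.Lib.ThreeTransp

open Cfsg.Agent.Lib.Classification
open scoped commutatorElement

variable {G : Type*} [Group G] [Finite G]

/-- The pair attached to a large extraspecial subgroup with given generator of the centre. -/
theorem extraPair_of_isLarge {Q : Subgroup G} (hQ : Cfsg.IsLargeExtraspecial Q) {z : G}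
    (hz : (Subgroup.center ↥Q).map Q.subtype = Subgroup.zpowers z) (hz2 : orderOf z = 2) {w : ℕ}
    (hw : 2 ≤ w) (hcard : Nat.card ↥Q = 2 ^ (2 * w + 1)) {g : G}
    (hgH : g ∉ Subgroup.centralizer ({z} : Set G)) (hgQ : g * z * g⁻¹ ∈ Q) :
    ExtraPair Q (Q.map (MulAut.conj g).toMonoidHom) z (g * z * g⁻¹) := by
  obtain ⟨hE, hC, hN, -⟩ := hQ
  rw [hz] at hC hN
  obtain ⟨⟨z', hz'Q⟩, hz'c, hz'e⟩ : z ∈ (Subgroup.center ↥Q).map Q.subtype :=
    hz ▸ Subgroup.mem_zpowers z
  have hz'e' : z' = z := hz'e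
  subst hz'e'
  have hD := TwoExtraData.of_isExtraspecial hE hz'Q hz2 fun q hq =>
    (congrArg Subtype.val (Subgroup.mem_center_iff.1 hz'c ⟨q, hq⟩)).symm
  refine extraPair_of_large hE hC ?_ hD ?_ hgQ ?_
  · rwa [← Subgroup.centralizer_closure, ← Subgroup.zpowers_eq_closure]
  · rw [hcard]; exact lt_of_lt_of_le (by norm_num) (Nat.pow_le_pow_right (by norm_num : 0 < 2)
      (by omega : 5 ≤ 2 * w + 1))
  · exact fun e => hgH (Subgroup.mem_centralizer_singleton_iff.2 (mul_inv_eq_iff_eq_mul.1 e))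

namespace ExtraPair

variable {Q B : Subgroup G} {z x : G}

theorem center_rad (p : ExtraPair Q B z x) :
    (Subgroup.center ↥(rad Q B z x)).map (rad Q B z x).subtype = four z x := by
  refine le_antisymm ?_ fun v hv => ⟨⟨v, p.four_le_rad hv⟩, ?_, rfl⟩
  · rintro _ ⟨⟨c, hc⟩, hcc, rfl⟩
    refine p.mem_four_of_centralizes (p.rad_le hc) fun a ha hax => ?_
    exact (congrArg Subtype.val (Subgroup.mem_center_iff.1 hcc ⟨a, mem_rad_left Q B z x ha hax⟩)).symm
  · exact Subgroup.mem_center_iff.2 fun r =>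
      Subtype.ext (Subgroup.mem_centralizer_iff.1 (p.rad_le r.2) v hv).symm

theorem comm_four_of_inter (p : ExtraPair Q B z x) {u e : G} (hu : u ∈ Q ⊔ B) (he : e ∈ Q ⊓ B) :
    u * e * u⁻¹ * e⁻¹ ∈ four z x := by
  have hQ : ∀ (Q B : Subgroup G) (z x : G), ExtraPair Q B z x → ∀ q ∈ Q, ∀ e ∈ Q,
      q * e * q⁻¹ * e⁻¹ ∈ four z x := by
    intro Q B z x p q hq e he
    rcases p.hA.comm q hq e he with f | f <;> rw [f]
    · rw [mul_inv_cancel]; exact one_mem _
    · rw [← p.hA.central e he, mul_inv_cancel_right]; exact p.mem_four_iff.2 (by simp)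
  rw [Subgroup.sup_eq_closure] at hu
  induction hu using Subgroup.closure_induction generalizing e with
  | mem v hv =>
    rcases hv with hv | hv
    · exact hQ Q B z x p v hv e he.1
    · rw [← four_swap]; exact hQ B Q x z p.swap v hv e he.2
  | one => simp
  | mul a b ha _ h1 h2 =>
    have hn := p.join_le_normalizer (by rw [Subgroup.sup_eq_closure]; exact ha)
    have := mul_mem ((Subgroup.mem_normalizer_iff.1 hn _).1 (h2 he)) (h1 he)
    convert this using 1; group
  | inv a ha h1 =>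
    have hn := p.join_le_normalizer (by rw [Subgroup.sup_eq_closure]; exact inv_mem ha)
    have := (Subgroup.mem_normalizer_iff.1 hn _).1 (inv_mem (h1 he))
    convert this using 1; group

theorem inter_le_upper (p : ExtraPair Q B z x) :
    Q ⊓ B ≤ (Subgroup.upperCentralSeries ↥(rad Q B z x) 2).map (rad Q B z x).subtype := by
  intro e he
  have heR : e ∈ rad Q B z x := Subgroup.mem_sup_left (p.inf_eq.symm ▸ he).1
  refine ⟨⟨e, heR⟩, Subgroup.mem_upperCentralSeries_succ_iff.2 fun y => ?_, rfl⟩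
  rw [Subgroup.upperCentralSeries_one]
  refine Subgroup.mem_center_iff.2 fun r => Subtype.ext ?_
  have h := inv_mem (p.comm_four_of_inter (rad_le_join Q B z x y.2) he)
  have h' : ((⁅(⟨e, heR⟩ : ↥(rad Q B z x)), y⁆ : ↥(rad Q B z x)) : G) ∈ four z x := by
    convert h using 1; simp [commutatorElement_def, mul_assoc]
  exact (Subgroup.mem_centralizer_iff.1 (p.rad_le r.2) _ h').symm

theorem upper_three (p : ExtraPair Q B z x) :
    Subgroup.upperCentralSeries ↥(rad Q B z x) 3 = ⊤ := by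
  refine eq_top_iff.2 fun a _ => Subgroup.mem_upperCentralSeries_succ_iff.2 fun y => ?_
  obtain ⟨w, hw, hwe⟩ := p.inter_le_upper (p.comm_rad a.2 y.2)
  have hwe' : ⁅a, y⁆ = w := Subtype.ext hwe.symm
  rw [hwe']; exact hw

end ExtraPair

open ExtraPair in
theorem large_pair_structure {Q : Subgroup G} (hQ : Cfsg.IsLargeExtraspecial Q) {z : G}
    (hz : (Subgroup.center ↥Q).map Q.subtype = Subgroup.zpowers z) (hz2 : orderOf z = 2) {w : ℕ}
    (hw : 2 ≤ w) (hcard : Nat.card ↥Q = 2 ^ (2 * w + 1)) {g : G}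
    (hgH : g ∉ Subgroup.centralizer ({z} : Set G)) (hgQ : g * z * g⁻¹ ∈ Q) {V X R E : Subgroup G}
    (hV : V = Subgroup.closure ({z, g * z * g⁻¹} : Set G))
    (hX : X = Q ⊔ (Q).map (MulAut.conj g).toMonoidHom)
    (hR : R = ((Q).map (MulAut.conj g).toMonoidHom ⊓ Subgroup.centralizer ({z} : Set G)) ⊔
      (Q ⊓ Subgroup.centralizer ({g * z * g⁻¹} : Set G)))
    (hE : E = Q ⊓ (Q).map (MulAut.conj g).toMonoidHom) :
    (Subgroup.center ↥R).map R.subtype = V ∧
      E ≤ (Subgroup.upperCentralSeries ↥R 2).map R.subtype ∧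
      Subgroup.upperCentralSeries ↥R 3 = ⊤ ∧ Cfsg.IsElementaryAbelian 2 E ∧
      (∀ a ∈ R, ∀ b ∈ R, a * b * a⁻¹ * b⁻¹ ∈ E ∧ a ^ 2 ∈ E) ∧
      ((Q).map (MulAut.conj g).toMonoidHom ⊓ Subgroup.centralizer ({z} : Set G)) ⊓
        (Q ⊓ Subgroup.centralizer ({g * z * g⁻¹} : Set G)) = E ∧ ⁅X, E⁆ ≤ V := by
  have p := extraPair_of_isLarge hQ hz hz2 hw hcard hgH hgQ
  subst hV hX hR hE
  refine ⟨p.center_rad, p.inter_le_upper, p.upper_three, p.elementary_inter,
    fun a ha b hb => ⟨p.comm_rad ha hb, by rw [pow_two]; exact p.sq_mem_inter ha⟩, p.inf_eq, ?_⟩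
  rw [Subgroup.commutator_le]
  intro u hu e he
  rw [commutatorElement_def]
  exact p.comm_four_of_inter hu he

end Cfsg.Agent.Lib.ThreeTransp
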