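import Cfsg.Agent.Lib.ThreeTransp.LargeExtra
import Cfsg.Agent.Lib.ThreeTransp.LargeBasic
import Cfsg.Agent.Lib.InvChar.LargeExtraspecial

/-!
Symmetry of singularity for an equivariant family of extraspecial subgroups of width at least two.
-/

set_option autoImplicit false

namespace Cfsg.Agent.Lib.ThreeTransp

variable {G : Type*} [Group G] [Finite G]

/-- If `x ∈ A` and the centralizer of `x` in `A` is not abelian, then `z ∈ B`. -/
theorem mem_of_wide {z x : G} {A B : Subgroup G} (hZ : ExtraAt A z) (hX : ExtraAt B x)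
    (hXC : Subgroup.centralizer (B : Set G) ≤ B)
    (hcA : ∀ {c q : G}, c * z = z * c → q ∈ A → c * q * c⁻¹ ∈ A)
    (hcB : ∀ {c q : G}, c * x = x * c → q ∈ B → c * q * c⁻¹ ∈ B)
    (hcomA : ∀ {q : G}, q ∈ A → q * z = z * q) (hcomB : ∀ {q : G}, q ∈ B → q * x = x * q)
    (hmap : ∀ (c : G), c * z * c⁻¹ = x → ∀ {q : G}, q ∈ A → c * q * c⁻¹ ∈ B) (hx : x ∈ A)
    (hab : ∃ p ∈ A, ∃ p' ∈ A, p * x = x * p ∧ p' * x = x * p' ∧ p * p' * p⁻¹ = p' * z) :
    z ∈ B := by
  by_contra hzB
  have hxz : x ≠ z := fun e => hzB (by simpa [e] using hX.mem)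
  have hzx : z * x = x * z := (hcomA hx).symm
  have hzinv : z⁻¹ = z := inv_eq_of_mul_eq_one_right hZ.sq
  -- an element of `A` moving `x`
  obtain ⟨q0, hq0, hq0x⟩ : ∃ q ∈ A, ¬ x * q = q * x := by
    by_contra hh
    push Not at hh
    rcases hZ.center x hx hh with e | e
    · exact hX.ne_one e
    · exact hxz e
  have hq0x' : q0 * x * q0⁻¹ = x * z := (hZ.comm q0 hq0 x hx).resolve_left
    (fun e => hq0x (mul_inv_eq_iff_eq_mul.1 e).symm)
  -- if some `t` in `B` maps `z` to `z * x`, the triangle is symmetric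
  by_cases htri : ∃ t ∈ B, t * z * t⁻¹ = z * x
  · obtain ⟨t, ht, htz⟩ := htri
    have e1 : t * x * t⁻¹ = x := by rw [hcomB ht]; group
    have e2 : q0 * z * q0⁻¹ = z := by rw [hcomA hq0]; group
    have e3 : t * (z * x) * t⁻¹ = z := by
      calc t * (z * x) * t⁻¹ = (t * z * t⁻¹) * (t * x * t⁻¹) := by group
        _ = z * (x * x) := by rw [htz, e1, mul_assoc]
        _ = z := by rw [hX.sq, mul_one]
    -- the product `w` exchanges `x` and `z`
    have e4 : q0 * (z * x) * q0⁻¹ = x := by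
      calc q0 * (z * x) * q0⁻¹ = (q0 * z * q0⁻¹) * (q0 * x * q0⁻¹) := by group
        _ = z * (x * z) := by rw [e2, hq0x']
        _ = x := by rw [← hzx, ← mul_assoc, hZ.sq, one_mul]
    have w1 : q0 * t * q0 * z * (q0 * t * q0)⁻¹ = x := by
      calc q0 * t * q0 * z * (q0 * t * q0)⁻¹
          = q0 * (t * (q0 * z * q0⁻¹) * t⁻¹) * q0⁻¹ := by group
        _ = x := by rw [e2, htz, e4]
    have w2 : q0 * t * q0 * x * (q0 * t * q0)⁻¹ = z := by
      calc q0 * t * q0 * x * (q0 * t * q0)⁻¹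
          = q0 * (t * (q0 * x * q0⁻¹) * t⁻¹) * q0⁻¹ := by group
        _ = z := by rw [hq0x', ← hzx, e3, e2]
    have := hmap (q0 * t * q0) w1 hx
    rw [w2] at this
    exact hzB this
  push Not at htri
  -- commutation modulo `x`
  have hxc : ∀ t ∈ B, x * t = t * x := hX.central
  have hR : ∀ t ∈ B, (z * t * z⁻¹ = t ∨ z * t * z⁻¹ = t * x) → z * t = t * z := by
    intro t ht h
    rcases h with h | h
    · exact mul_inv_eq_iff_eq_mul.1 h
    · exfalso
      refine htri t ht ?_
      have h' : z * t = t * x * z := mul_inv_eq_iff_eq_mul.1 h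
      calc t * z * t⁻¹ = x * (x * (t * z)) * t⁻¹ := by rw [← mul_assoc x x, hX.sq, one_mul]
        _ = x * (z * t) * t⁻¹ := by rw [← mul_assoc x t z, hxc t ht, ← h']
        _ = z * x := by rw [mul_assoc, mul_assoc, mul_inv_cancel, mul_one, hzx]
  obtain ⟨p, hp, p', hp', hpx, hp'x, hpp'⟩ := hab
  -- `A`: common part of the two cores
  have hA : ∀ a ∈ B, a ∈ A → a = 1 ∨ a = x := by
    intro a haX haZ
    let W : Subgroup G := Subgroup.closure {x, z}
    have hW : W ≤ A := (Subgroup.closure_le _).2 (by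
      rintro _ (rfl | rfl); exacts [hx, hZ.mem])
    have hmem : a ∈ W := by
      refine hZ.mem_of_forall hW (Subgroup.subset_closure (by simp)) haZ ?_
      intro q hq hqW
      have hqx : q * x = x * q := hqW x (Subgroup.subset_closure (by simp))
      have h1 := hcB (c := q) hqx haX
      rcases hZ.comm q hq a haZ with e | e
      · exact mul_inv_eq_iff_eq_mul.1 e
      · exfalso
        rw [e] at h1
        exact hzB (by simpa using B.mul_mem (B.inv_mem haX) h1)
    have h4 : ∀ w ∈ W, w = 1 ∨ w = x ∨ w = z ∨ w = x * z := by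
      intro w hw
      induction hw using Subgroup.closure_induction with
      | mem w hw => rcases hw with rfl | rfl <;> simp
      | one => simp
      | mul u v _ _ hu hv =>
        have a1 : x * (x * z) = z := by rw [← mul_assoc, hX.sq, one_mul]
        have a2 : z * (x * z) = x := by rw [← mul_assoc, hzx, mul_assoc, hZ.sq, mul_one]
        have a3 : x * z * x = z := by rw [mul_assoc, hzx, a1]
        have a4 : x * z * (x * z) = 1 := by rw [← mul_assoc, a3, hZ.sq]
        rcases hu with rfl | rfl | rfl | rfl <;> rcases hv with rfl | rfl | rfl | rfl <;>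
          simp [hX.sq, hZ.sq, hzx, a1, a2, a3, a4, mul_assoc] <;> simp [← mul_assoc, hX.sq, hZ.sq]
      | inv u _ hu =>
        have hxinv : x⁻¹ = x := inv_eq_of_mul_eq_one_left hX.sq
        rcases hu with rfl | rfl | rfl | rfl <;> simp [hxinv, hzinv, hzx]
    rcases h4 a hmem with e | e | e | e
    · exact Or.inl e
    · exact Or.inr e
    · exact absurd (e ▸ haX) hzB
    · exact absurd (by
        have := B.mul_mem (B.inv_mem hX.mem) (e ▸ haX)
        simpa using this) hzB
  -- conjugation by elements of `C_{Q_z}(x)` is trivial on `C_{Q_x}(z)` modulo `x`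
  have hRP : ∀ r ∈ B, r * z = z * r → ∀ s ∈ A, s * x = x * s →
      s * r * s⁻¹ = r ∨ s * r * s⁻¹ = r * x := by
    intro r hr hrz s hs hsx
    have h1 := B.mul_mem (B.inv_mem hr) (hcB (c := s) hsx hr)
    have h2 : r⁻¹ * (s * r * s⁻¹) ∈ A := by
      have h5 := hcA (c := r⁻¹) (q := s)
        ((Commute.inv_left (hrz : Commute r z)).eq) hs
      have := A.mul_mem h5 (A.inv_mem hs)
      simpa [mul_assoc] using this
    rcases hA _ h1 h2 with e | e
    · left; rw [inv_mul_eq_iff_eq_mul, mul_one] at e; exact e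
    · right; rw [inv_mul_eq_iff_eq_mul] at e; exact e
  -- `[t, z]` commutes with `z`
  have hδ : ∀ t ∈ B, z * (t⁻¹ * (z * t * z⁻¹)) = (t⁻¹ * (z * t * z⁻¹)) * z := by
    intro t ht
    have hu : t⁻¹ * (z * t * z⁻¹) ∈ B :=
      B.mul_mem (B.inv_mem ht) (hcB hzx ht)
    refine hR _ hu ?_
    have e : z * (t⁻¹ * (z * t * z⁻¹)) * z⁻¹ = (t⁻¹ * (z * t * z⁻¹))⁻¹ := by
      simp only [mul_inv_rev, inv_inv, hzinv, mul_assoc, hZ.sq, mul_one]
    have hs : ∀ v ∈ B, v⁻¹ = v ∨ v⁻¹ = v * x := by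
      intro v hv
      have hsq : ∀ b ∈ B, v * v * b = b * (v * v) := by
        intro b hb
        rcases hX.comm v hv b hb with h | h
        · have h' : v * b = b * v := mul_inv_eq_iff_eq_mul.1 h
          rw [mul_assoc, h', ← mul_assoc, h', mul_assoc]
        · exact hX.conj_conj hv hv hb h h
      rcases hX.center _ (B.mul_mem hv hv) hsq with h | h
      · exact Or.inl (inv_eq_of_mul_eq_one_left h)
      · right
        refine inv_eq_of_mul_eq_one_right ?_
        rw [← mul_assoc, h, hX.sq]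
    rcases hs _ hu with h | h <;> rw [h] at e
    · exact Or.inl e
    · exact Or.inr e
  -- the centralizer of `C_{Q_x}(z)` in `Q_x` centralizes `z`
  have hperp : ∀ d ∈ B, (∀ r ∈ B, z * r = r * z → d * r = r * d) → z * d = d * z := by
    intro d hd hdR
    refine hR d hd ?_
    have hu : d⁻¹ * (z * d * z⁻¹) ∈ B :=
      B.mul_mem (B.inv_mem hd) (hcB hzx hd)
    have hcen : ∀ t ∈ B, (d⁻¹ * (z * d * z⁻¹)) * t = t * (d⁻¹ * (z * d * z⁻¹)) := by
      intro t ht
      -- `[zdz, t] = [d, ztz] = [d, t]`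
      have hmm : t⁻¹ * (z * t * z⁻¹) ∈ B :=
        B.mul_mem (B.inv_mem ht) (hcB hzx ht)
      have h1 := hdR _ hmm (hδ t ht)
      have hzd : z * d * z⁻¹ ∈ B := hcB hzx hd
      have h2 : d * (z * t * z⁻¹) * d⁻¹ = (d * t * d⁻¹) * (t⁻¹ * (z * t * z⁻¹)) := by
        calc d * (z * t * z⁻¹) * d⁻¹ = (d * t * d⁻¹) * (d * (t⁻¹ * (z * t * z⁻¹)) * d⁻¹) := by
              group
          _ = _ := by rw [h1, mul_inv_cancel_right]
      have h3 : (z * d * z⁻¹) * t * (z * d * z⁻¹)⁻¹ = z * (d * (z * t * z⁻¹) * d⁻¹) * z⁻¹ := by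
        simp only [mul_inv_rev, hzinv, mul_assoc]
      have h4 : z * (t⁻¹ * (z * t * z⁻¹)) * z⁻¹ = t⁻¹ * (z * t * z⁻¹) := by
        rw [hδ t ht, mul_inv_cancel_right]
      rcases hX.comm d hd t ht with e | e
      · rw [e] at h2
        rw [h2, ← mul_assoc t, mul_inv_cancel, one_mul] at h3
        have h3' : z * d * z⁻¹ * t * (z * d * z⁻¹)⁻¹ = t := by
          rw [h3]; simp [mul_assoc, hzinv, hZ.sq]; rw [← mul_assoc, hZ.sq, one_mul]
        have a1 : (z * d * z⁻¹) * t = t * (z * d * z⁻¹) := mul_inv_eq_iff_eq_mul.1 h3'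
        have a2 : d⁻¹ * t = t * d⁻¹ :=
          ((Commute.inv_left (mul_inv_eq_iff_eq_mul.1 e : Commute d t))).eq
        rw [mul_assoc, a1, ← mul_assoc, a2, mul_assoc]
      · rw [e] at h2
        have h2' : d * (z * t * z⁻¹) * d⁻¹ = (z * t * z⁻¹) * x := by
          rw [h2, mul_assoc t x, hxc _ hmm, ← mul_assoc, ← mul_assoc, mul_inv_cancel, one_mul]
        rw [h2'] at h3
        have h3' : z * d * z⁻¹ * t * (z * d * z⁻¹)⁻¹ = t * x := by
          rw [h3]
          calc z * (z * t * z⁻¹ * x) * z⁻¹ = (z * z) * t * (z⁻¹ * x * z⁻¹) := by group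
            _ = t * x := by
              rw [hZ.sq, one_mul, hzinv, hzx, mul_assoc x z z, hZ.sq, mul_one]
        have hd' : d⁻¹ * t * d⁻¹⁻¹ = t * x := by
          rcases hX.comm d⁻¹ (B.inv_mem hd) t ht with e' | e'
          · exfalso
            have e'' : d * t * d⁻¹ = t := by
              have := ((Commute.inv_left (mul_inv_eq_iff_eq_mul.1 e' : Commute d⁻¹ t))).eq
              rw [inv_inv] at this
              rw [this, mul_inv_cancel_right]
            rw [e''] at e
            exact hX.ne_one (mul_eq_left.1 e.symm)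
          · exact e'
        exact hX.conj_conj (B.inv_mem hd) hzd ht hd' h3'
    rcases hX.center _ hu hcen with e | e
    · left; rw [inv_mul_eq_iff_eq_mul, mul_one] at e; exact e
    · right; rw [inv_mul_eq_iff_eq_mul] at e; exact e
  -- each `s` moves `t` by an element of `C_{Q_x}(z)`
  have hmove : ∀ t ∈ B, ∀ s ∈ A, s * x = x * s →
      ∃ r ∈ B, r * z = z * r ∧ s * t * s⁻¹ = t * r := by
    intro t ht s hs hsx
    refine ⟨t⁻¹ * (s * t * s⁻¹), B.mul_mem (B.inv_mem ht)
      (hcB hsx ht), (hperp _ (B.mul_mem (B.inv_mem ht)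
      (hcB hsx ht)) ?_).symm, by group⟩
    intro r hr hzr
    -- `[s t s⁻¹, r] = [t, r]`
    have hr' := hRP r hr hzr.symm s hs hsx
    have hst := hcB hsx ht
    have key : (s * t * s⁻¹) * r * (s * t * s⁻¹)⁻¹ = t * r * t⁻¹ := by
      have hsr : s⁻¹ * r * s = r ∨ s⁻¹ * r * s = r * x := by
        have := hRP r hr hzr.symm s⁻¹ (A.inv_mem hs) (Commute.inv_left (hsx : Commute s x)).eq
        rwa [inv_inv] at this
      rcases hX.comm t ht r hr with e | e
      · rcases hsr with e' | e'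
        · calc _ = s * (t * (s⁻¹ * r * s) * t⁻¹) * s⁻¹ := by group
            _ = s * r * s⁻¹ := by rw [e', e]
            _ = s * (s⁻¹ * r * s) * s⁻¹ := by rw [e']
            _ = _ := by rw [e]; group
        · calc _ = s * (t * (s⁻¹ * r * s) * t⁻¹) * s⁻¹ := by group
            _ = s * (t * r * t⁻¹ * (t * x * t⁻¹)) * s⁻¹ := by rw [e']; group
            _ = s * (s⁻¹ * r * s) * s⁻¹ := by rw [e, ← hxc t ht, mul_inv_cancel_right, e']
            _ = _ := by rw [e]; group
      · have hsxs : s * x * s⁻¹ = x := by rw [hsx, mul_inv_cancel_right]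
        rcases hsr with e' | e'
        · calc _ = s * (t * (s⁻¹ * r * s) * t⁻¹) * s⁻¹ := by group
            _ = (s * r * s⁻¹) * (s * x * s⁻¹) := by rw [e', e]; group
            _ = (s * (s⁻¹ * r * s) * s⁻¹) * x := by rw [e', hsxs]
            _ = _ := by rw [e]; group
        · calc _ = s * (t * (s⁻¹ * r * s) * t⁻¹) * s⁻¹ := by group
            _ = s * (t * r * t⁻¹ * (t * x * t⁻¹)) * s⁻¹ := by rw [e']; group
            _ = s * (r * (x * x)) * s⁻¹ := by
              rw [e, ← hxc t ht, mul_inv_cancel_right]; simp only [mul_assoc]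
            _ = s * ((s⁻¹ * r * s) * x) * s⁻¹ := by rw [e']; simp only [mul_assoc]
            _ = r * (s * x * s⁻¹) := by group
            _ = _ := by rw [hsxs, e]
    have htinv := B.inv_mem ht
    rcases hX.comm t ht r hr with e | e
    · rw [e] at key
      have a1 : (s * t * s⁻¹) * r = r * (s * t * s⁻¹) := mul_inv_eq_iff_eq_mul.1 key
      have a2 : t⁻¹ * r = r * t⁻¹ := ((Commute.inv_left (mul_inv_eq_iff_eq_mul.1 e : Commute t r))).eq
      rw [mul_assoc, a1, ← mul_assoc, a2, mul_assoc]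
    · rw [e] at key
      refine hX.conj_conj htinv hst hr ?_ key
      rcases hX.comm t⁻¹ htinv r hr with e' | e'
      · exfalso
        have := ((Commute.inv_left (mul_inv_eq_iff_eq_mul.1 e' : Commute t⁻¹ r))).eq
        rw [inv_inv] at this
        rw [this, mul_inv_cancel_right] at e
        exact hX.ne_one (mul_eq_left.1 e.symm)
      · exact e'
  apply hzB
  refine hXC fun t ht => ?_
  refine (hR t ht ?_).symm
  -- modulo `x`, conjugations by `p` and `p'` commute
  let M : G → G → Prop := fun a b => a = b ∨ a = b * x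
  have Msymm : ∀ a b, M a b → M b a := by
    rintro a b (e | e)
    · exact Or.inl e.symm
    · exact Or.inr (by rw [e, mul_assoc, hX.sq, mul_one])
  have Mtrans : ∀ a b c, M a b → M b c → M a c := by
    rintro a b c (rfl | rfl) (rfl | rfl)
    · exact Or.inl rfl
    · exact Or.inr rfl
    · exact Or.inr rfl
    · exact Or.inl (by rw [mul_assoc, hX.sq, mul_one])
  have Mleft : ∀ c a b, M a b → M (c * a) (c * b) := by
    rintro c a b (rfl | rfl)
    · exact Or.inl rfl
    · exact Or.inr (mul_assoc c b x).symm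
  have Mconj : ∀ s, s * x = x * s → ∀ a b, M a b → M (s * a * s⁻¹) (s * b * s⁻¹) := by
    rintro s hs a b (rfl | rfl)
    · exact Or.inl rfl
    · right
      have : s * x * s⁻¹ = x := by rw [hs, mul_inv_cancel_right]
      calc s * (b * x) * s⁻¹ = s * b * s⁻¹ * (s * x * s⁻¹) := by group
        _ = _ := by rw [this]
  obtain ⟨r, hr, hrz, hpt⟩ := hmove t ht p hp hpx
  obtain ⟨r', hr', hr'z, hp't⟩ := hmove t ht p' hp' hp'x
  have hrr : M (r * r') (r' * r) := by
    rcases hX.comm r hr r' hr' with e | e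
    · exact Or.inl (mul_inv_eq_iff_eq_mul.1 e)
    · right
      rw [mul_inv_eq_iff_eq_mul.1 e, mul_assoc r' x r, hxc r hr, mul_assoc]
  have c1 : M (p * (p' * t * p'⁻¹) * p⁻¹) (t * (r * r')) := by
    rw [hp't, show p * (t * r') * p⁻¹ = (p * t * p⁻¹) * (p * r' * p⁻¹) by group, hpt, ← mul_assoc t]
    exact Mleft _ _ _ (hRP r' hr' hr'z p hp hpx)
  have c2 : M (p' * (p * t * p⁻¹) * p'⁻¹) (t * (r' * r)) := by
    rw [hpt, show p' * (t * r) * p'⁻¹ = (p' * t * p'⁻¹) * (p' * r * p'⁻¹) by group, hp't,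
      ← mul_assoc t]
    exact Mleft _ _ _ (hRP r hr hrz p' hp' hp'x)
  have c3 : M (p * (p' * t * p'⁻¹) * p⁻¹) (p' * (p * t * p⁻¹) * p'⁻¹) :=
    Mtrans _ _ _ c1 (Mtrans _ _ _ (Mleft t _ _ hrr) (Msymm _ _ c2))
  -- `p p' = p' z p`
  have hz' : p * p' = p' * (p * z) := by
    rw [mul_inv_eq_iff_eq_mul.1 hpp', mul_assoc, hZ.central p hp]
  have c4 : p * (p' * t * p'⁻¹) * p⁻¹ = p' * (p * (z * t * z⁻¹) * p⁻¹) * p'⁻¹ := by
    calc p * (p' * t * p'⁻¹) * p⁻¹ = (p * p') * t * (p * p')⁻¹ := by group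
      _ = (p' * (p * z)) * t * (p' * (p * z))⁻¹ := by rw [hz']
      _ = _ := by group
  rw [c4] at c3
  have c5 := Mconj p⁻¹ (Commute.inv_left (hpx : Commute p x)).eq _ _
    (Mconj p'⁻¹ (Commute.inv_left (hp'x : Commute p' x)).eq _ _ c3)
  simpa [M, mul_assoc] using c5

open Cfsg.Agent.Lib.Classification

theorem extraAt_of_data {Q : Subgroup G} {z : G} (hD : TwoExtraData Q z) : ExtraAt Q z := by
  refine ⟨hD.mem, hD.ne, hD.sq, fun a ha b hb => ?_, hD.central, hD.center_le⟩
  rcases hD.conj_eq ha hb with e | e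
  · exact Or.inl e
  · exact Or.inr (by rw [e, hD.central b hb])

theorem extraData_of_data {Q : Subgroup G} {z : G} (hD : TwoExtraData Q z) :
    Cfsg.Agent.Lib.InvChar.ExtraData Q z := by
  refine ⟨hD.mem, hD.ne, hD.sq, fun a ha => (hD.central a ha).symm, fun a ha b hb => ?_, hD.sq_mem,
    fun c hc h => hD.center_le c hc fun q hq => (h q hq).symm⟩
  rcases hD.conj_eq ha hb with e | e
  · exact Or.inl (mul_inv_eq_iff_eq_mul.1 e)
  · right
    rw [mul_inv_eq_iff_eq_mul.1 e, hD.central b hb, mul_assoc, hD.central a ha, mul_assoc]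

/-- An extraspecial group of width at least two meets every centralizer non-abelianly. -/
theorem exists_noncomm {Q : Subgroup G} {z : G} (hD : TwoExtraData Q z) (h8 : 8 < Nat.card ↥Q)
    {x : G} (hx : x ∈ Q) :
    ∃ p ∈ Q, ∃ p' ∈ Q, p * x = x * p ∧ p' * x = x * p' ∧ p * p' * p⁻¹ = p' * z := by
  by_contra hne
  push Not at hne
  have hA : ∀ a ∈ Q ⊓ Subgroup.centralizer ({x} : Set G), ∀ b ∈ Q ⊓ Subgroup.centralizer ({x} : Set G),
      a * b = b * a := by
    intro a ha b hb
    refine mul_inv_eq_iff_eq_mul.1 (((extraAt_of_data hD).comm a ha.1 b hb.1).resolve_right ?_)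
    exact hne a ha.1 b hb.1 (Subgroup.mem_centralizer_singleton_iff.1 ha.2)
      (Subgroup.mem_centralizer_singleton_iff.1 hb.2)
  by_cases hc : ∃ u ∈ Q, ¬ u * x = x * u
  · obtain ⟨u, hu, hux⟩ := hc
    have hu' : u * x * u⁻¹ = x * z :=
      ((extraAt_of_data hD).comm u hu x hx).resolve_left fun e => hux (mul_inv_eq_iff_eq_mul.1 e)
    refine absurd ((extraData_of_data hD).card_le_eight _ hA inf_le_left u hu fun v hv => ?_) (by omega)
    rcases (extraAt_of_data hD).comm v hv x hx with e | e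
    · exact Or.inl ⟨hv, Subgroup.mem_centralizer_singleton_iff.2 (mul_inv_eq_iff_eq_mul.1 e)⟩
    · refine Or.inr ⟨Q.mul_mem (Q.inv_mem hu) hv, Subgroup.mem_centralizer_singleton_iff.2 ?_⟩
      refine mul_inv_eq_iff_eq_mul.1 ?_
      calc u⁻¹ * v * x * (u⁻¹ * v)⁻¹ = u⁻¹ * (v * x * v⁻¹) * u := by group
        _ = x := by rw [e, ← hu']; group
  · push Not at hc
    refine absurd ((extraData_of_data hD).card_le_eight _ hA inf_le_left 1 Q.one_mem fun v hv => ?_)
      (by omega)
    exact Or.inl ⟨hv, Subgroup.mem_centralizer_singleton_iff.2 (hc v hv)⟩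

theorem mem_centralizer_conj {Q : Subgroup G} {g : G} {a : G}
    (ha : a ∈ Subgroup.centralizer ((Q.map (MulAut.conj g).toMonoidHom : Subgroup G) : Set G)) :
    g⁻¹ * a * g ∈ Subgroup.centralizer (Q : Set G) := by
  intro q hq
  have := ha _ (Subgroup.mem_map_of_mem (MulAut.conj g).toMonoidHom hq)
  simp only [MulEquiv.coe_toMonoidHom, MulAut.conj_apply] at this
  calc q * (g⁻¹ * a * g) = g⁻¹ * (g * q * g⁻¹ * a) * g := by group
    _ = g⁻¹ * (a * (g * q * g⁻¹)) * g := by rw [this]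
    _ = g⁻¹ * a * g * q := by group

/-- Data of a conjugate of the centre inside `Q`. -/
theorem wide_symm {Q : Subgroup G} {z : G} (hD : TwoExtraData Q z)
    (hC : Subgroup.centralizer (Q : Set G) = Subgroup.zpowers z)
    (hN : Subgroup.centralizer ({z} : Set G) ≤ Subgroup.normalizer (Q : Set G))
    (h8 : 8 < Nat.card ↥Q) {g : G} (hx : g * z * g⁻¹ ∈ Q) :
    ExtraAt (Q.map (MulAut.conj g).toMonoidHom) (g * z * g⁻¹) ∧
      (∀ {c q : G}, c * (g * z * g⁻¹) = g * z * g⁻¹ * c → q ∈ Q.map (MulAut.conj g).toMonoidHom →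
        c * q * c⁻¹ ∈ Q.map (MulAut.conj g).toMonoidHom) ∧
      z ∈ Q.map (MulAut.conj g).toMonoidHom := by
  have hA := extraAt_of_data hD
  set B := Q.map (MulAut.conj g).toMonoidHom with hB
  have hmem : ∀ {v : G}, v ∈ B ↔ g⁻¹ * v * g ∈ Q := by
    intro v
    rw [hB, Subgroup.mem_map]
    constructor
    · rintro ⟨q, hq, rfl⟩; simpa [mul_assoc] using hq
    · intro h; exact ⟨_, h, by simp [mul_assoc]⟩
  have hcong : ∀ {a b : G}, g * a * g⁻¹ = b ↔ a = g⁻¹ * b * g := by
    intro a b; constructor <;> rintro rfl <;> group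
  have hX : ExtraAt B (g * z * g⁻¹) := by
    refine ⟨hmem.2 (by simpa [mul_assoc] using hA.mem), fun e => hA.ne_one (conj_eq_one_iff.1 e),
      by rw [show g * z * g⁻¹ * (g * z * g⁻¹) = g * (z * z) * g⁻¹ by group, hA.sq]; group,
      fun a ha b hb => ?_, fun b hb => ?_, fun a ha h => ?_⟩
    · rcases hA.comm _ (hmem.1 ha) _ (hmem.1 hb) with e | e
      · left
        calc a * b * a⁻¹ = g * (g⁻¹ * a * g * (g⁻¹ * b * g) * (g⁻¹ * a * g)⁻¹) * g⁻¹ := by group
          _ = b := by rw [e]; group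
      · right
        calc a * b * a⁻¹ = g * (g⁻¹ * a * g * (g⁻¹ * b * g) * (g⁻¹ * a * g)⁻¹) * g⁻¹ := by group
          _ = b * (g * z * g⁻¹) := by rw [e]; group
    · calc g * z * g⁻¹ * b = g * (z * (g⁻¹ * b * g)) * g⁻¹ := by group
        _ = g * (g⁻¹ * b * g * z) * g⁻¹ := by rw [hA.central _ (hmem.1 hb)]
        _ = b * (g * z * g⁻¹) := by group
    · rcases hA.center _ (hmem.1 ha) (fun b hb => by
        have := h (g * b * g⁻¹) (hmem.2 (by simpa [mul_assoc] using hb))
        calc g⁻¹ * a * g * b = g⁻¹ * (a * (g * b * g⁻¹)) * g := by group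
          _ = g⁻¹ * (g * b * g⁻¹ * a) * g := by rw [this]
          _ = b * (g⁻¹ * a * g) := by group) with e | e
      · left; calc a = g * (g⁻¹ * a * g) * g⁻¹ := by group
          _ = 1 := by rw [e]; group
      · right; calc a = g * (g⁻¹ * a * g) * g⁻¹ := by group
          _ = g * z * g⁻¹ := by rw [e]
  have hcA : ∀ {c q : G}, c * z = z * c → q ∈ Q → c * q * c⁻¹ ∈ Q := fun {c q} hc hq =>
    (Subgroup.mem_normalizer_iff.1 (hN (Subgroup.mem_centralizer_singleton_iff.2 hc)) q).1 hq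
  have hcB : ∀ {c q : G}, c * (g * z * g⁻¹) = g * z * g⁻¹ * c → q ∈ B → c * q * c⁻¹ ∈ B := by
    intro c q hc hq
    refine hmem.2 ?_
    have := hcA (c := g⁻¹ * c * g) (q := g⁻¹ * q * g) (by
      calc g⁻¹ * c * g * z = g⁻¹ * (c * (g * z * g⁻¹)) * g := by group
        _ = g⁻¹ * (g * z * g⁻¹ * c) * g := by rw [hc]
        _ = z * (g⁻¹ * c * g) := by group) (hmem.1 hq)
    convert this using 1; group
  refine ⟨hX, hcB, ?_⟩
  refine mem_of_wide hA hX (fun a ha => hmem.2 ?_) hcA hcB (fun {q} hq => (hA.central q hq).symm)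
    (fun {q} hq => (hX.central q hq).symm) (fun c hc q hq => hmem.2 ?_) hx
    (exists_noncomm hD h8 hx)
  · have h := mem_centralizer_conj ha
    rw [hC] at h
    exact (Subgroup.zpowers_le.2 hD.mem) h
  · have := hcA (c := g⁻¹ * c) (q := q) (by
      calc g⁻¹ * c * z = g⁻¹ * (c * z * c⁻¹) * c := by group
        _ = z * (g⁻¹ * c) := by rw [hc]; group) hq
    convert this using 1; group

end Cfsg.Agent.Lib.ThreeTransp
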