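import Cfsg.Agent.Lib.ThreeTransp.LargeBasic
import Cfsg.Agent.Lib.ThreeTransp.LargeSymm
import Cfsg.Agent.Lib.ThreeTransp.ExtraSub
import Cfsg.Agent.Lib.Coprime.Action

/-!
Large extraspecial subgroups in sections of centralizers.
-/

set_option autoImplicit false

namespace Cfsg.Agent.Lib.ThreeTransp

open Cfsg.Agent.Lib.Classification

variable {G : Type*} [Group G] [Finite G]

/-- Coprime action: an element moved by `S` is moved by an element fixed by the odd group `A`. -/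
theorem exists_fixed_noncomm {S A : Subgroup G} {u r : G} (h : ExtraAt S u) (hp : IsPGroup 2 ↥S)
    (hA : Odd (Nat.card ↥A)) (hAS : A ≤ Subgroup.normalizer (S : Set G))
    (hAu : ∀ a ∈ A, a * u = u * a) (hAr : ∀ a ∈ A, a * r = r * a) (hr : r ∈ S)
    (hr1 : r ≠ 1) (hru : r ≠ u) :
    ∃ y ∈ S, (∀ a ∈ A, a * y = y * a) ∧ y * r * y⁻¹ = r * u := by
  obtain ⟨q, hq, hqr⟩ : ∃ q ∈ S, q * r * q⁻¹ = r * u := by
    by_contra hne
    push Not at hne
    rcases h.center r hr (fun b hb => (mul_inv_eq_iff_eq_mul.1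
      ((h.comm b hb r hr).resolve_right (hne b hb))).symm) with e | e
    exacts [hr1 e, hru e]
  set N := S ⊓ Subgroup.centralizer ({r} : Set G) with hN
  have hmem : ∀ y, y ∈ N ↔ y ∈ S ∧ y * r * y⁻¹ = r := fun y => by
    rw [hN, Subgroup.mem_inf, Subgroup.mem_centralizer_singleton_iff, mul_inv_eq_iff_eq_mul]
  have hn : ∀ y ∈ N, ∀ c, (∀ v ∈ S, c * v * c⁻¹ ∈ S) → (∀ v ∈ S, c⁻¹ * v * c ∈ S) →
      (c * r * c⁻¹ = r ∨ c * r * c⁻¹ = r * u) → c * u = u * c → c * y * c⁻¹ ∈ N := by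
    intro y hy c hc _ hcr hcu
    obtain ⟨hyS, hyr⟩ := (hmem y).1 hy
    refine (hmem _).2 ⟨hc y hyS, ?_⟩
    have hyu : y * u * y⁻¹ = u := by rw [← h.central y hyS, mul_inv_cancel_right]
    have hcu' : c * u * c⁻¹ = u := by rw [hcu, mul_inv_cancel_right]
    rcases hcr with e | e
    · have e' : c⁻¹ * r * c = r := by
        calc c⁻¹ * r * c = c⁻¹ * (c * r * c⁻¹) * c := by rw [e]
          _ = r := by group
      calc c * y * c⁻¹ * r * (c * y * c⁻¹)⁻¹ = c * (y * (c⁻¹ * r * c) * y⁻¹) * c⁻¹ := by group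
        _ = r := by rw [e', hyr, e]
    · have e' : c⁻¹ * r * c = r * u := by
        calc c⁻¹ * r * c = c⁻¹ * ((r * u) * u) * c := by rw [mul_assoc r u u, h.sq, mul_one]
          _ = c⁻¹ * ((c * r * c⁻¹) * (c * u * c⁻¹)) * c := by rw [e, hcu']
          _ = r * u := by group
      calc c * y * c⁻¹ * r * (c * y * c⁻¹)⁻¹ = c * (y * (c⁻¹ * r * c) * y⁻¹) * c⁻¹ := by group
        _ = c * ((y * r * y⁻¹) * (y * u * y⁻¹)) * c⁻¹ := by rw [e']; group
        _ = (c * r * c⁻¹) * (c * u * c⁻¹) := by rw [hyr, hyu]; group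
        _ = r := by rw [e, hcu', mul_assoc, h.sq, mul_one]
  have hnS : ∀ y ∈ S, y ∈ Subgroup.normalizer (N : Set G) := by
    intro y hy
    have hc : ∀ {c : G}, c ∈ S → ∀ v ∈ S, c * v * c⁻¹ ∈ S := fun hc v hv =>
      S.mul_mem (S.mul_mem hc hv) (S.inv_mem hc)
    have key : ∀ {c : G}, c ∈ S → ∀ v ∈ N, c * v * c⁻¹ ∈ N := fun {c} hcS v hv =>
      hn v hv c (hc hcS) (fun v hv => by simpa using hc (S.inv_mem hcS) v hv) (h.comm c hcS r hr)
        (h.central c hcS).symm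
    exact Subgroup.mem_normalizer_iff.2 fun v => ⟨key hy v, fun hv => by
      simpa [mul_assoc] using key (S.inv_mem hy) _ hv⟩
  have hAN : A ≤ Subgroup.normalizer (N : Set G) := by
    have key : ∀ a ∈ A, ∀ v ∈ N, a * v * a⁻¹ ∈ N := fun a ha v hv =>
      hn v hv a (fun w hw => (Subgroup.mem_normalizer_iff.1 (hAS ha) w).1 hw)
        (fun w hw => (Subgroup.mem_normalizer_iff''.1 (hAS ha) w).1 hw)
        (Or.inl (mul_inv_eq_iff_eq_mul.2 (hAr a ha))) (hAu a ha)
    exact fun a ha => Subgroup.mem_normalizer_iff.2 fun v => ⟨key a ha v, fun hv => by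
      simpa [mul_assoc] using key a⁻¹ (A.inv_mem ha) _ hv⟩
  haveI : Fact (Nat.Prime 2) := ⟨Nat.prime_two⟩
  have hpN : IsPGroup 2 ↥N := hp.to_le inf_le_left
  obtain ⟨k, hk⟩ := IsPGroup.iff_card.1 hpN
  have hcop : (Nat.card A).Coprime (Nat.card N) := by
    rw [hk]; exact Nat.Coprime.pow_right k hA.coprime_two_right
  haveI := hpN.isNilpotent
  have hqu : q * u * q⁻¹ = u := by rw [← h.central q hq, mul_inv_cancel_right]
  obtain ⟨n, hnN, hc⟩ := Coprime.exists_mem_centralizer_of_fixed_coset hAN hcop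
    (Or.inr inferInstance) (hnS q hq) (k := q) (by
      intro a ha
      refine (hmem _).2 ⟨S.mul_mem ((Subgroup.mem_normalizer_iff.1 (hAS ha) q).1 hq) (S.inv_mem hq), ?_⟩
      have ha1 : a⁻¹ * r * a = r := by
        rw [mul_assoc, ← hAr a ha, inv_mul_cancel_left]
      have ha2 : a * (r * u) * a⁻¹ = r * u := by
        rw [← mul_assoc, hAr a ha, mul_assoc r a u, hAu a ha, ← mul_assoc, mul_inv_cancel_right]
      have hq' : q⁻¹ * r * q = r * u := by
        calc q⁻¹ * r * q = q⁻¹ * ((r * u) * u) * q := by rw [mul_assoc r u u, h.sq, mul_one]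
          _ = q⁻¹ * ((q * r * q⁻¹) * (q * u * q⁻¹)) * q := by rw [hqr, hqu]
          _ = r * u := by group
      calc a * q * a⁻¹ * q⁻¹ * r * (a * q * a⁻¹ * q⁻¹)⁻¹
          = a * (q * (a⁻¹ * (q⁻¹ * r * q) * a) * q⁻¹) * a⁻¹ := by group
        _ = r := ?_
      rw [hq']
      have : a⁻¹ * (r * u) * a = r * u := by
        calc a⁻¹ * (r * u) * a = a⁻¹ * (a * (r * u) * a⁻¹) * a := by rw [ha2]
          _ = r * u := by group
      rw [this, show q * (r * u) * q⁻¹ = (q * r * q⁻¹) * (q * u * q⁻¹) by group, hqr, hqu,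
        mul_assoc r u u, h.sq, mul_one, hAr a ha, mul_inv_cancel_right])
  obtain ⟨hnS', hnr⟩ := (hmem n).1 hnN
  refine ⟨q * n, S.mul_mem hq hnS', fun a ha => hc a ha, ?_⟩
  calc q * n * r * (q * n)⁻¹ = q * (n * r * n⁻¹) * q⁻¹ := by group
    _ = r * u := by rw [hnr, hqr]

theorem mem_pair {a b v : G} (haa : a * a = 1) (hbb : b * b = 1) (hba : b * a = a * b)
    (hv : v ∈ Subgroup.closure ({b, a} : Set G)) : v = 1 ∨ v = b ∨ v = a ∨ v = b * a := by
  have a1 : b * (b * a) = a := by rw [← mul_assoc, hbb, one_mul]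
  have a2 : a * (b * a) = b := by rw [hba, ← mul_assoc, haa, one_mul]
  have a3 : b * a * b = a := by rw [hba, mul_assoc, hbb, mul_one]
  have a4 : b * a * a = b := by rw [mul_assoc, haa, mul_one]
  have a5 : b * a * (b * a) = 1 := by rw [← mul_assoc, a3, haa]
  induction hv using Subgroup.closure_induction with
  | mem u hu => rcases hu with rfl | rfl <;> simp
  | one => simp
  | mul u w _ _ hu hw =>
    rcases hu with rfl | rfl | rfl | rfl <;> rcases hw with rfl | rfl | rfl | rfl <;>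
      simp only [one_mul, mul_one, hbb, haa, a1, a2, a3, a4, a5, ← hba] <;> tauto
  | inv u _ hu =>
    have hai : a⁻¹ = a := inv_eq_of_mul_eq_one_right haa
    have hbi : b⁻¹ = b := inv_eq_of_mul_eq_one_right hbb
    rcases hu with rfl | rfl | rfl | rfl <;> simp [hai, hbi, hba]

theorem not_mem_pair {a b v : G} (haa : a * a = 1) (hbb : b * b = 1) (hba : b * a = a * b)
    (h1 : v ≠ 1) (h2 : v ≠ b) (h3 : v ≠ a) (h4 : v ≠ b * a) :
    v ∉ Subgroup.closure ({b, a} : Set G) := fun h => by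
  rcases mem_pair haa hbb hba h with e | e | e | e
  exacts [h1 e, h2 e, h3 e, h4 e]

/-- The product of the two transvections carries `x` to `z`. -/
theorem conj_eq_of_swap {z x q t : G} (hzz : z * z = 1) (hxx : x * x = 1) (hzx : z * x = x * z)
    (hqx : q * x * q⁻¹ = x * z) (hqz : q * z = z * q) (htz : t * z * t⁻¹ = z * x)
    (htx : t * x = x * t) : (q * t)⁻¹ * x * (q * t)⁻¹⁻¹ = z := by
  have hqz' : q * z * q⁻¹ = z := by rw [hqz, mul_inv_cancel_right]
  have e1 : q⁻¹ * x * q = x * z := by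
    calc q⁻¹ * x * q = q⁻¹ * ((x * z) * z) * q := by rw [mul_assoc x z z, hzz, mul_one]
      _ = q⁻¹ * ((q * x * q⁻¹) * (q * z * q⁻¹)) * q := by rw [hqx, hqz']
      _ = x * z := by group
  have htx' : t * x * t⁻¹ = x := by rw [htx, mul_inv_cancel_right]
  have e2 : t⁻¹ * z * t = z * x := by
    calc t⁻¹ * z * t = t⁻¹ * ((z * x) * x) * t := by rw [mul_assoc z x x, hxx, mul_one]
      _ = t⁻¹ * ((t * z * t⁻¹) * (t * x * t⁻¹)) * t := by rw [htz, htx']
      _ = z * x := by group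
  have e3 : t⁻¹ * x * t = x := by rw [mul_assoc, ← htx, inv_mul_cancel_left]
  calc (q * t)⁻¹ * x * (q * t)⁻¹⁻¹ = t⁻¹ * (q⁻¹ * x * q) * t := by group
    _ = (t⁻¹ * x * t) * (t⁻¹ * z * t) := by rw [e1]; group
    _ = x * (x * z) := by rw [e3, e2, hzx]
    _ = z := by rw [← mul_assoc, hxx, one_mul]

/-- The image in a section of a subgroup of `Q` is large extraspecial. -/
theorem large_image {L : Type*} [Group L] [Finite L] {Q : Subgroup G} {z : G}
    (hD : TwoExtraData Q z) (hp : IsPGroup 2 ↥Q) {M R : Subgroup G} (π : ↥M →* L)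
    (hπ : Function.Surjective π) (hRQ : R ≤ Q) (hRM : R ≤ M) (hzR : z ∈ R) {x : G} (hxR : x ∈ R)
    (hxx : x * x = 1) (hz1 : π ⟨z, hRM hzR⟩ ≠ 1) (hx1 : π ⟨x, hRM hxR⟩ ≠ 1)
    (hxz : π ⟨x, hRM hxR⟩ ≠ π ⟨z, hRM hzR⟩)
    (hC : ∀ m : M, (∀ q : M, (q : G) ∈ R → π m * π q = π q * π m) →
      π m = 1 ∨ π m = π ⟨z, hRM hzR⟩)
    (hN : ∀ m : M, π m * π ⟨z, hRM hzR⟩ = π ⟨z, hRM hzR⟩ * π m → ∀ q : M, (q : G) ∈ R →
      ∃ q' : M, (q' : G) ∈ R ∧ π q' = π (m * q * m⁻¹))
    (B : Subgroup G) (hBM : B ≤ M) (hpB : IsPGroup 2 ↥B) (hzB : z ∈ B)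
    (hBx : ∀ b ∈ B, b * x = x * b)
    (hB : ∀ m : M, π m * π ⟨x, hRM hxR⟩ = π ⟨x, hRM hxR⟩ * π m → ∀ b : M, (b : G) ∈ B →
      ∃ b' : M, (b' : G) ∈ B ∧ π b' = π (m * b * m⁻¹)) :
    Cfsg.IsLargeExtraspecial ((R.subgroupOf M).map π) := by
  classical
  set S := (R.subgroupOf M).map π with hS
  set zb := π ⟨z, hRM hzR⟩ with hzb
  set xb := π ⟨x, hRM hxR⟩ with hxb
  have hmk : ∀ y : M, (y : G) ∈ R → π y ∈ S := fun y hy => ⟨y, hy, rfl⟩
  have hout : ∀ {s}, s ∈ S → ∃ y : M, (y : G) ∈ R ∧ π y = s := by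
    rintro _ ⟨y, hy, rfl⟩; exact ⟨y, hy, rfl⟩
  have hzS : zb ∈ S := hmk _ hzR
  have hxS : xb ∈ S := hmk _ hxR
  have hzsq : zb * zb = 1 := by
    rw [hzb, ← map_mul, ← map_one π]; exact congrArg π (Subtype.ext hD.sq)
  have hcenS : ∀ c ∈ S, (∀ q ∈ S, c * q = q * c) → c = 1 ∨ c = zb := by
    intro c hc h
    obtain ⟨m, -, rfl⟩ := hout hc
    exact hC m fun q hq => h _ (hmk q hq)
  have hDS : TwoExtraData S zb := by
    refine ⟨hzS, hzsq, hz1, fun q hq => ?_, hcenS, fun a ha b hb => ?_, fun a ha => ?_⟩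
    · obtain ⟨m, hm, rfl⟩ := hout hq
      rw [hzb, ← map_mul, ← map_mul]
      exact congrArg π (Subtype.ext (hD.central _ (hRQ hm)))
    · obtain ⟨a, ha', rfl⟩ := hout ha
      obtain ⟨b, hb', rfl⟩ := hout hb
      rw [← map_inv, ← map_inv, ← map_mul, ← map_mul, ← map_mul]
      rcases hD.comm _ (hRQ ha') _ (hRQ hb') with e | e
      · left; rw [show a * b * a⁻¹ * b⁻¹ = 1 from Subtype.ext e, map_one]
      · right; rw [hzb]; exact congrArg π (Subtype.ext e)
    · obtain ⟨a, ha', rfl⟩ := hout ha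
      rw [← map_mul]
      rcases hD.sq_mem _ (hRQ ha') with e | e
      · left; rw [show a * a = 1 from Subtype.ext e, map_one]
      · right; rw [hzb]; exact congrArg π (Subtype.ext e)
  have hpS : IsPGroup 2 ↥S :=
    ((hp.to_le hRQ).of_equiv (Subgroup.subgroupOfEquivOfLe hRM).symm).map π
  have hna : ∃ a ∈ S, ∃ b ∈ S, a * b ≠ b * a := by
    by_contra hne
    push Not at hne
    rcases hcenS xb hxS (hne xb hxS) with e | e
    exacts [hx1 e, hxz e]
  have hE := isExtraspecial_of_subgroup hDS hpS le_rfl hzS hcenS hna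
  obtain ⟨c, hc2, hcZ, hDc⟩ := exists_center_gen hE
  have hcz : c = zb := ((hcenS c hDc.mem (fun q hq => hDc.central q hq)).resolve_left hDc.ne)
  subst c
  refine isLarge_of_core hE ?_ ?_ hxS ?_ ?_ ?_
  · rw [hcZ]
    refine le_antisymm (fun a ha => ?_) ?_
    · obtain ⟨m, rfl⟩ := hπ a
      rcases hC m (fun q hq => (ha _ (hmk q hq)).symm) with e | e
      · rw [e]; exact one_mem _
      · rw [e]; exact Subgroup.mem_zpowers zb
    · rw [Subgroup.zpowers_le]
      exact fun q hq => (hDS.central q hq).symm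
  · rw [hcZ, Subgroup.zpowers_eq_closure, Subgroup.centralizer_closure]
    intro a ha
    obtain ⟨m, rfl⟩ := hπ a
    rw [Subgroup.mem_centralizer_singleton_iff] at ha
    have key : ∀ m : M, π m * zb = zb * π m → ∀ s ∈ S, π m * s * (π m)⁻¹ ∈ S := by
      intro m hm s hs
      obtain ⟨q, hq, rfl⟩ := hout hs
      obtain ⟨q', hq', he⟩ := hN m hm q hq
      rw [show π m * π q * (π m)⁻¹ = π q' by rw [he, map_mul, map_mul, map_inv]]
      exact hmk q' hq'
    refine Subgroup.mem_normalizer_iff.2 fun s => ⟨key m ha s, fun hs => ?_⟩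
    have h2 := key m⁻¹ (by rw [map_inv]; exact (Commute.inv_left ha).eq) _ hs
    simpa [mul_assoc] using h2
  · rw [hcZ]
    intro h
    rcases TwoExtraData.mem_zpowers hDS h with e | e
    exacts [hx1 e, hxz e]
  · exact orderOf_eq_prime (by rw [pow_two, hxb, ← map_mul, ← map_one π]
                               exact congrArg π (Subtype.ext hxx)) hx1
  · rw [hcZ, Subgroup.zpowers_le]
    set W := (B.subgroupOf M).map π with hW
    set Cx := Subgroup.centralizer ({xb} : Set L) with hCx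
    have hWC : W ≤ Cx := by
      rintro _ ⟨b, hb, rfl⟩
      rw [hCx, Subgroup.mem_centralizer_singleton_iff, hxb, ← map_mul, ← map_mul]
      exact congrArg π (Subtype.ext (hBx _ hb))
    have hn : (W.subgroupOf Cx).Normal := by
      refine ⟨fun u hu a => ?_⟩
      obtain ⟨b, hb, hbe⟩ := Subgroup.mem_map.1 (Subgroup.mem_subgroupOf.1 hu)
      obtain ⟨m, hm⟩ := hπ (a : L)
      obtain ⟨b', hb', he⟩ := hB m (by
        rw [hm]; exact Subgroup.mem_centralizer_singleton_iff.1 a.2) b hb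
      refine Subgroup.mem_subgroupOf.2 ⟨b', hb', ?_⟩
      rw [he, map_mul, map_mul, map_inv, hbe, hm]
      rfl
    have hpW : IsPGroup 2 ↥(W.subgroupOf Cx) :=
      ((hpB.of_equiv (Subgroup.subgroupOfEquivOfLe hBM).symm).map π).of_equiv
        (Subgroup.subgroupOfEquivOfLe hWC).symm
    have hzW : zb ∈ W := ⟨⟨z, hRM hzR⟩, hzB, rfl⟩
    exact ⟨⟨zb, hWC hzW⟩, (le_sSup ⟨hn, hpW⟩ : W.subgroupOf Cx ≤ Cfsg.pCore 2 _)
      (Subgroup.mem_subgroupOf.2 hzW), rfl⟩

end Cfsg.Agent.Lib.ThreeTransp
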