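import Cfsg.Agent.Lib.ThreeTransp.LargeBasic
import Cfsg.Agent.Lib.ThreeTransp.Invol
import Cfsg.Agent.Lib.Components.GenFitting
import Cfsg.Agent.Lib.LocalEven.FStarAction
import Cfsg.Agent.S5422
import Cfsg.Agent.S5433

/-!
Simplicity criteria for groups with an involution centralizer whose generalized Fitting subgroup is
extraspecial.
-/

set_option autoImplicit false

namespace Cfsg.Agent.Lib.ThreeTransp

open Cfsg.Agent.Lib.Classification

variable {G : Type*} [Group G] [Finite G]

/-- The basic data carried by an extraspecial `F*(C(z))`. -/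
theorem fstar_center_data {Q : Subgroup G} {z : G} (hz : orderOf z = 2)
    (hQC : Q ≤ Subgroup.centralizer ({z} : Set G))
    (hF : (Cfsg.generalizedFittingSubgroup ↥(Subgroup.centralizer ({z} : Set G))).map
      (Subgroup.centralizer ({z} : Set G)).subtype = Q)
    (hE : Cfsg.IsExtraspecial 2 ↥Q) :
    z ∈ Q ∧ (Subgroup.center ↥Q).map Q.subtype = Subgroup.zpowers z ∧
      Subgroup.centralizer (Q : Set G) = Subgroup.zpowers z ∧
      Subgroup.centralizer ({z} : Set G) ≤ Subgroup.normalizer (Q : Set G) := by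
  set C := Subgroup.centralizer ({z} : Set G) with hC
  have hzC : z ∈ C := Subgroup.mem_centralizer_singleton_iff.2 rfl
  have hcen : ∀ a : C, (∀ q ∈ Q, q * (a : G) = a * q) → (a : G) ∈ Q := by
    intro a ha
    rw [← hF]
    refine ⟨a, Cfsg.Agent.Lib.Components.centralizer_genFitting_le ?_, rfl⟩
    intro v hv
    exact Subtype.ext (ha v (by rw [← hF]; exact ⟨v, hv, rfl⟩))
  have hzQ : z ∈ Q := hcen ⟨z, hzC⟩ fun q hq => Subgroup.mem_centralizer_singleton_iff.1 (hQC hq)
  obtain ⟨z', hz', hZ, hD⟩ := exists_center_gen hE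
  have hzz : z = z' := by
    rcases hD.center_le z hzQ (fun q hq => (Subgroup.mem_centralizer_singleton_iff.1 (hQC hq)).symm)
      with e | e
    · rw [e, orderOf_one] at hz; exact absurd hz (by norm_num)
    · exact e
  subst hzz
  refine ⟨hzQ, hZ, le_antisymm ?_ ?_, ?_⟩
  · intro a ha
    have haC : a ∈ C := Subgroup.mem_centralizer_singleton_iff.2 (ha z hzQ).symm
    have haQ : a ∈ Q := hcen ⟨a, haC⟩ fun q hq => ha q hq
    rcases hD.center_le a haQ (fun q hq => (ha q hq).symm) with e | e
    · rw [e]; exact one_mem _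
    · rw [e]; exact Subgroup.mem_zpowers z
  · rw [Subgroup.zpowers_le]
    exact fun q hq => Subgroup.mem_centralizer_singleton_iff.1 (hQC hq)
  · haveI : (Cfsg.generalizedFittingSubgroup ↥C).Normal :=
      Cfsg.Agent.Lib.LocalEven.genFitting_normal
    intro c hc
    rw [Subgroup.mem_normalizer_iff]
    have key : ∀ c : C, ∀ q ∈ Q, (c : G) * q * (c : G)⁻¹ ∈ Q := by
      intro c q hq
      rw [← hF] at hq ⊢
      obtain ⟨v, hv, rfl⟩ := hq
      exact ⟨c * v * c⁻¹, Subgroup.Normal.conj_mem inferInstance v hv c, rfl⟩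
    refine fun q => ⟨key ⟨c, hc⟩ q, fun h => ?_⟩
    simpa [mul_assoc] using key (⟨c, hc⟩ : C)⁻¹ _ h

/-- A large extraspecial subgroup exists once the centre is not weakly closed. -/
theorem large_of_fstar {Q : Subgroup G} {z : G} (hz : orderOf z = 2)
    (hQC : Q ≤ Subgroup.centralizer ({z} : Set G))
    (hF : (Cfsg.generalizedFittingSubgroup ↥(Subgroup.centralizer ({z} : Set G))).map
      (Subgroup.centralizer ({z} : Set G)).subtype = Q)
    (hE : Cfsg.IsExtraspecial 2 ↥Q) (w : ℕ) (hw : 2 ≤ w) (hcard : Nat.card ↥Q = 2 ^ (2 * w + 1))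
    {g : G} (hx : g * z * g⁻¹ ∈ Q) (hne : g * z * g⁻¹ ≠ z) : Cfsg.IsLargeExtraspecial Q := by
  obtain ⟨hzQ, hZ, hC, hN⟩ := fstar_center_data hz hQC hF hE
  refine (Cfsg.Agent.S5422.result Q hE (by rw [hC, hZ]) ?_ w hw hcard g ?_ ?_).2.2
  · rw [hZ, Subgroup.zpowers_eq_closure, Subgroup.centralizer_closure]; exact hN
  · intro hg
    rw [hZ] at hg
    have h := (Subgroup.mem_normalizer_iff.1 hg z).1 (Subgroup.mem_zpowers z)
    obtain ⟨_, _, hD⟩ := exists_center_gen hE
    rcases TwoExtraData.mem_zpowers (TwoExtraData.of_isExtraspecial hE hzQ hz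
      (fun q hq => (Subgroup.mem_centralizer_singleton_iff.1 (hQC hq)).symm)) h with e | e
    · rw [conj_eq_one_iff] at e; rw [e, orderOf_one] at hz; exact absurd hz (by norm_num)
    · exact hne e
  · rw [hZ, MonoidHom.map_zpowers]
    exact Subgroup.zpowers_le.2 hx

/-- A group with a large extraspecial subgroup is simple when every normal subgroup containing the
central involution contains its centralizer. -/
theorem simple_of_large {Q : Subgroup G} {z : G} (hz : orderOf z = 2)
    (hQ : Cfsg.IsLargeExtraspecial Q)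
    (hZ : (Subgroup.center ↥Q).map Q.subtype = Subgroup.zpowers z)
    (hH : ∀ N : Subgroup G, N.Normal → z ∈ N → Subgroup.centralizer ({z} : Set G) ≤ N) :
    IsSimpleGroup G := by
  obtain ⟨hE, hC, hN, hodd⟩ := id hQ
  rw [hZ] at hC hN
  rw [Subgroup.zpowers_eq_closure z, Subgroup.centralizer_closure] at hN
  have hzC : z ∈ Subgroup.centralizer (Q : Set G) := by rw [hC]; exact Subgroup.mem_zpowers z
  have hzQ : z ∈ Q := Subgroup.map_subtype_le _ (hZ.ge (Subgroup.mem_zpowers z))
  have hzq : ∀ q ∈ Q, z * q = q * z := fun q hq => (hzC q hq).symm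
  have hD := TwoExtraData.of_isExtraspecial hE hzQ hz hzq
  have hQle : Q ≤ Subgroup.centralizer ({z} : Set G) := fun q hq =>
    Subgroup.mem_centralizer_singleton_iff.2 (hzq q hq).symm
  haveI : Nontrivial G := nontrivial_of_ne z 1 hD.ne
  refine ⟨fun N hNn => ?_⟩
  by_cases hzN : z ∈ N
  · right
    have hCN := hH N hNn hzN
    have := Cfsg.Agent.S5433.result Q hQ N (hQle.trans hCN)
    rw [eq_top_iff, ← this]
    refine sup_le le_rfl (le_trans ?_ hCN)
    intro c hc
    rw [Subgroup.mem_centralizer_singleton_iff]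
    have h1 : c * z * c⁻¹ ∈ Q := (Subgroup.mem_normalizer_iff.1 hc z).1 hzQ
    rcases hD.center_le _ h1 (fun q hq => (by
      have hq' : c⁻¹ * q * c ∈ Q := by
        apply (Subgroup.mem_normalizer_iff.1 hc _).2
        simpa [mul_assoc] using hq
      calc c * z * c⁻¹ * q = c * (z * (c⁻¹ * q * c)) * c⁻¹ := by group
        _ = c * (c⁻¹ * q * c * z) * c⁻¹ := by rw [hzq _ hq']
        _ = q * (c * z * c⁻¹) := by group)) with e | e
    · exact absurd (conj_eq_one_iff.1 e) hD.ne
    · exact mul_inv_eq_iff_eq_mul.1 e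
  · left
    -- `N` meets `Q` trivially, hence `z` inverts it
    have hNQ : ∀ q ∈ Q, q ∈ N → q = 1 := by
      intro q hq hqN
      by_contra hq1
      apply hzN
      by_cases hcc : ∀ b ∈ Q, q * b = b * q
      · rcases hD.center_le q hq hcc with e | e
        · exact absurd e hq1
        · exact e ▸ hqN
      · push Not at hcc
        obtain ⟨b, hb, hqb⟩ := hcc
        have e : b * q * b⁻¹ = z * q := (hD.conj_eq hb hq).resolve_left
          fun e => hqb (mul_inv_eq_iff_eq_mul.1 e).symm
        have := N.mul_mem (hNn.conj_mem q hqN b) (N.inv_mem hqN)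
        rwa [e, mul_inv_cancel_right] at this
    have hfz : ∀ k ∈ N, z * k = k * z → k = 1 := by
      intro k hk hzk
      have hmem : k ∈ Subgroup.centralizer (Q : Set G) := fun q hq => by
        have h1 : q * k * q⁻¹ * k⁻¹ ∈ N := N.mul_mem (hNn.conj_mem k hk q) (N.inv_mem hk)
        have h2 : q * k * q⁻¹ * k⁻¹ ∈ Q := by
          rw [show q * k * q⁻¹ * k⁻¹ = q * (k * q⁻¹ * k⁻¹) by group]
          exact Q.mul_mem hq ((Subgroup.mem_normalizer_iff.1
            (hN (Subgroup.mem_centralizer_singleton_iff.2 hzk.symm)) _).1 (Q.inv_mem hq))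
        exact mul_inv_eq_iff_eq_mul.1 (mul_inv_eq_one.1 (hNQ _ h2 h1))
      rw [hC] at hmem
      rcases TwoExtraData.mem_zpowers hD hmem with e | e
      · exact e
      · exact absurd (e ▸ hk) hzN
    have hinv := inverts_of_fpf hD.sq (fun k hk => hNn.conj_mem k hk z) hfz
    refine hodd N ?_ (Subgroup.normalizer_eq_top (H := N) ▸ le_top)
    rw [← Nat.not_even_iff_odd, even_iff_two_dvd]
    intro h2
    haveI : Fact (Nat.Prime 2) := ⟨Nat.prime_two⟩
    obtain ⟨t, ht⟩ := exists_prime_orderOf_dvd_card' (G := ↥N) 2 h2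
    have htt : (t : G)⁻¹ = t := inv_eq_of_mul_eq_one_right (by
      rw [← pow_two]; have := pow_orderOf_eq_one t; rw [ht] at this; exact congrArg Subtype.val this)
    have h := hinv t t.2
    rw [htt] at h
    have h1 := hfz t t.2 (mul_inv_eq_iff_eq_mul.1 h)
    rw [show t = 1 from Subtype.ext h1, orderOf_one] at ht
    exact absurd ht (by norm_num)

end Cfsg.Agent.Lib.ThreeTransp
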