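import Cfsg.Agent.Lib.ThreeTransp.LargeBasic
import Cfsg.Agent.Lib.Components.Local
import Cfsg.Agent.Lib.LocalEven.Subnormal
import Cfsg.Agent.Lib.SylowCounting.SignTrick

/-!
The normal structure of a finite group with a large extraspecial 2-subgroup.
-/

set_option autoImplicit false

namespace Cfsg.Agent.Lib.ThreeTransp

open Cfsg.Agent.Lib.Classification Cfsg.Agent.Lib.Components Subgroup

/-- A non-abelian simple group has no subgroup of odd index with at most two elements. -/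
theorem simple_not_small_sylow {K : Type*} [Group K] [Finite K] [IsSimpleGroup K]
    (hK : ¬ IsMulCommutative K) {S : Subgroup K} (hodd : Odd S.index)
    (hcard : Nat.card ↥S ≤ 2) (heven : 2 ∣ Nat.card K) : False := by
  haveI : Fact (Nat.Prime 2) := ⟨Nat.prime_two⟩
  obtain ⟨t, ht⟩ := exists_prime_orderOf_dvd_card' (G := K) 2 heven
  have htt : t * t = 1 := by rw [← pow_two, ← ht, pow_orderOf_eq_one]
  have ht1 : t ≠ 1 := fun e => by rw [e, orderOf_one] at ht; exact absurd ht (by norm_num)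
  have h4 := SylowCounting.four_dvd_index_sub_fixedBy hK (⊥ : Subgroup K) t htt
  have hfix : Nat.card (MulAction.fixedBy (K ⧸ (⊥ : Subgroup K)) t) = 0 := by
    rw [Nat.card_eq_zero]; left
    refine ⟨fun ⟨x, hx⟩ => ?_⟩
    obtain ⟨a, rfl⟩ := QuotientGroup.mk_surjective x
    rw [MulAction.mem_fixedBy, MulAction.Quotient.smul_mk, QuotientGroup.eq, Subgroup.mem_bot,
      smul_eq_mul, inv_mul_eq_one, mul_eq_right] at hx
    exact ht1 hx
  rw [hfix, Nat.sub_zero, Subgroup.index_bot] at h4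
  have hmul := S.card_mul_index
  have h0 := Nat.card_pos (α := ↥S)
  obtain ⟨j, hj⟩ := hodd
  obtain ⟨i, hi⟩ := h4
  rcases (by omega : Nat.card ↥S = 1 ∨ Nat.card ↥S = 2) with e | e <;> rw [e] at hmul <;> omega

variable {G : Type*} [Group G] [Finite G]

/-- Every non-trivial subgroup normalised by a large extraspecial subgroup contains its centre. -/
theorem center_mem_of_le_normalizer {Q : Subgroup G} {z : G} (hD : TwoExtraData Q z)
    (hp : IsPGroup 2 ↥Q) (hC : centralizer (Q : Set G) = zpowers z)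
    (hodd : ∀ K : Subgroup G, Odd (Nat.card K) → Q ≤ normalizer (K : Set G) → K = ⊥)
    {X : Subgroup G} (hQX : Q ≤ normalizer (X : Set G)) (hX : X ≠ ⊥) : z ∈ X := by
  haveI : Fact (Nat.Prime 2) := ⟨Nat.prime_two⟩
  have h2 : 2 ∣ Nat.card X := by
    rcases Nat.even_or_odd (Nat.card X) with h | h
    · exact even_iff_two_dvd.1 h
    · exact absurd (hodd X h hQX) hX
  have hm : ∀ q : Q, ∀ x : X, (q : G) * x * (q : G)⁻¹ ∈ X := fun q x =>
    (mem_normalizer_iff.1 (hQX q.2) x).1 x.2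
  letI act : MulAction Q X :=
    { smul := fun q x => ⟨(q : G) * x * (q : G)⁻¹, hm q x⟩
      one_smul := fun x => Subtype.ext (by show (1 : G) * x * (1 : G)⁻¹ = x; group)
      mul_smul := fun p q x => Subtype.ext (by
        show ((p : G) * q) * x * ((p : G) * q)⁻¹ = p * ((q : G) * x * (q : G)⁻¹) * (p : G)⁻¹
        group) }
  have h1 : (1 : X) ∈ MulAction.fixedPoints Q X := fun q => Subtype.ext (by
    show (q : G) * (1 : G) * (q : G)⁻¹ = 1; group)
  obtain ⟨y, hy, hy1⟩ := hp.exists_fixed_point_of_prime_dvd_card_of_fixed_point X h2 h1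
  have hyC : (y : G) ∈ centralizer (Q : Set G) := fun q hq =>
    mul_inv_eq_iff_eq_mul.1 (congrArg Subtype.val (hy ⟨q, hq⟩))
  rw [hC] at hyC
  rcases TwoExtraData.mem_zpowers hD hyC with e | e
  · exact absurd (Subtype.ext e.symm : (1 : X) = y) hy1
  · exact e ▸ y.2

theorem component_not_commute {Q : Subgroup G} {z : G} (hp : IsPGroup 2 ↥Q)
    (hC : centralizer (Q : Set G) = zpowers z)
    (hN : centralizer ({z} : Set G) ≤ normalizer (Q : Set G))
    {K : Subgroup G} (hK : Cfsg.IsComponent K) : ¬ K ≤ centralizer ({z} : Set G) := by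
  intro h
  haveI : Fact (Nat.Prime 2) := ⟨Nat.prime_two⟩
  haveI := hp.isNilpotent
  have hb := IsComponent.commutator_eq_bot_of_solvable hK (H := Q) inferInstance (h.trans hN)
  have hle := le_centralizer_of_commutator_eq_bot hb
  rw [hC] at hle
  refine IsComponent.not_isMulCommutative hK ⟨⟨fun a b => Subtype.ext ?_⟩⟩
  obtain ⟨i, hi⟩ := mem_zpowers_iff.1 (hle a.2)
  obtain ⟨j, hj⟩ := mem_zpowers_iff.1 (hle b.2)
  show (a : G) * b = b * a
  rw [← hi, ← hj, ← zpow_add, ← zpow_add, add_comm]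

/-- The statement of the structure theorem. -/
theorem large_structure {Q : Subgroup G} (hQ : Cfsg.IsLargeExtraspecial Q) {z : G}
    (hz : (center ↥Q).map Q.subtype = zpowers z) {M : Subgroup G}
    (hM : M = normalClosure ({z} : Set G)) :
    (IsMulCommutative ↥M ∧ Cfsg.generalizedFittingSubgroup G = Cfsg.pCore 2 G) ∨
    (M = Cfsg.generalizedFittingSubgroup G ∧ IsSimpleGroup ↥M ∧ ¬ IsMulCommutative ↥M) ∨
    (M = Cfsg.generalizedFittingSubgroup G ∧ ∃ (L : Subgroup G) (u : G), u ∈ Q ∧ IsSimpleGroup ↥L ∧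
      ¬ IsMulCommutative ↥L ∧ L ⊓ (L).map (MulAut.conj u).toMonoidHom = ⊥ ∧
      (∀ x ∈ L, ∀ y ∈ (L).map (MulAut.conj u).toMonoidHom, x * y = y * x) ∧
      L ⊔ (L).map (MulAut.conj u).toMonoidHom = M ∧ ∃ z₁ ∈ L, z = z₁ * (u * z₁ * u⁻¹) ∧
      (∃ R : Sylow 2 ↥L, (R : Subgroup ↥L) = (centralizer ({z₁} : Set G)).subgroupOf L ∧
        (frattini ↥(R : Subgroup ↥L)).map ((L.subtype).comp (R : Subgroup ↥L).subtype) ≤ zpowers z₁) ∧
      Q ≠ (Cfsg.pCore 2 ↥(centralizer ({z} : Set G))).map (centralizer ({z} : Set G)).subtype) := by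
  classical
  haveI : Fact (Nat.Prime 2) := ⟨Nat.prime_two⟩
  obtain ⟨hE, hC, hN, hodd⟩ := hQ
  rw [hz] at hC hN
  rw [Subgroup.zpowers_eq_closure z, Subgroup.centralizer_closure] at hN
  obtain ⟨z', hz', hZ', hD'⟩ := exists_center_gen hE
  have hzz : z' = z := by
    have h1 : z' ∈ zpowers z := by rw [← hz, hZ']; exact mem_zpowers z'
    have h2 : z ∈ zpowers z' := by rw [← hZ', hz]; exact mem_zpowers z
    rcases TwoExtraData.mem_zpowers hD' h2 with e | e
    · rw [e, zpowers_one_eq_bot, mem_bot] at h1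
      exact absurd h1 hD'.ne
    · exact e.symm
  subst z'
  have hD := hD'
  have hp : IsPGroup 2 ↥Q := hE.1.1
  have key : ∀ {X : Subgroup G}, Q ≤ normalizer (X : Set G) → X ≠ ⊥ → z ∈ X :=
    fun h h' => center_mem_of_le_normalizer hD hp hC hodd h h'
  have hnorm : ∀ {X : Subgroup G}, X.Normal → X ≠ ⊥ → z ∈ X := fun {X} hX h => by
    haveI := hX
    exact key (normalizer_eq_top (H := X) ▸ le_top) h
  have hO : Cfsg.pPrimeCore 2 G = ⊥ := hodd _ (Nat.coprime_two_right.1 (pPrimeCore_coprime 2))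
    (normalizer_eq_top (H := Cfsg.pPrimeCore 2 G) ▸ le_top)
  have hMn : M.Normal := hM ▸ normalClosure_normal
  have hzM : z ∈ M := hM ▸ subset_normalClosure rfl
  have hMle : ∀ {X : Subgroup G}, X.Normal → z ∈ X → M ≤ X := fun {X} hX h => by
    haveI := hX
    rw [hM]; exact normalClosure_le_normal (Set.singleton_subset_iff.2 h)
  have hncomp : ∀ {K : Subgroup G}, Cfsg.IsComponent K → ¬ K ≤ centralizer ({z} : Set G) :=
    fun h => component_not_commute hp hC hN h
  by_cases hR : Cfsg.pCore 2 G = ⊥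
  swap
  · left
    set R := Cfsg.pCore 2 G with hRdef
    haveI hRn : R.Normal := Cfsg.pCore_normal 2 G
    have hRp : IsPGroup 2 ↥R := pCore_isPGroup 2
    have hzR : z ∈ R := hnorm hRn hR
    set Z := (center ↥R).map R.subtype with hZ
    haveI hZn : Z.Normal := inferInstance
    have hZne : Z ≠ ⊥ := by
      haveI : Nontrivial ↥R := (Subgroup.nontrivial_iff_ne_bot _).2 hR
      intro h
      rw [hZ, map_eq_bot_iff_of_injective _ R.subtype_injective] at h
      exact (Subgroup.nontrivial_iff_ne_bot _).1 hRp.center_nontrivial h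
    have hMZ : M ≤ Z := hMle hZn (hnorm hZn hZne)
    refine ⟨⟨⟨fun a b => Subtype.ext ?_⟩⟩, genFitting_eq_pCore_of hO ?_⟩
    · obtain ⟨a', ha', hae⟩ := hMZ a.2
      obtain ⟨b', -, hbe⟩ := hMZ b.2
      show (a : G) * b = b * a
      rw [← hae, ← hbe]
      exact congrArg Subtype.val (mem_center_iff.1 ha' b').symm
    · rw [layer_eq_bot_iff]
      intro K hK
      refine hncomp hK fun k hk => mem_centralizer_singleton_iff.2 ?_
      exact ((layer_le_centralizer_pCore (p := 2) (IsComponent.le_layer hK hk)) z hzR).symm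
  right
  -- the Fitting subgroup is trivial
  have hF : Cfsg.fittingSubgroup G = ⊥ := by
    rw [fittingSubgroup_eq_pCore 2 hO, hR]
  have hFs : Cfsg.generalizedFittingSubgroup G = Cfsg.layer G := by
    rw [Cfsg.generalizedFittingSubgroup, hF, sup_bot_eq]
  set N := Cfsg.layer G with hNdef
  haveI hNn : N.Normal := by
    rw [hNdef, Cfsg.layer]
    exact sSup_normal_of_conj fun g K hK => IsComponent.map_conj hK g
  have hNne : N ≠ ⊥ := by
    intro h
    have h1 : centralizer (Cfsg.generalizedFittingSubgroup G : Set G) ≤ _ := centralizer_genFitting_le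
    have htop : (⊤ : Subgroup G) ≤ centralizer (Cfsg.generalizedFittingSubgroup G : Set G) := by
      intro g _ v hv
      rw [hFs, h] at hv
      rw [(mem_bot.1 hv : v = 1)]; simp
    have h2 := htop.trans h1
    rw [hFs, h] at h2
    exact hD.ne (mem_bot.1 (h2 (mem_top z)))
  have hzN : z ∈ N := hnorm hNn hNne
  have hcenN : (center ↥N).map N.subtype = ⊥ := by
    rw [eq_bot_iff, ← hF]
    haveI : ((center ↥N).map N.subtype).Normal := inferInstance
    refine le_fittingSubgroup inferInstance (isNilpotent_of_isMulCommutative ⟨⟨fun a b => Subtype.ext ?_⟩⟩)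
    obtain ⟨a', ha', hae⟩ := a.2
    obtain ⟨b', -, hbe⟩ := b.2
    show (a : G) * b = b * a
    rw [← hae, ← hbe]
    exact congrArg Subtype.val (mem_center_iff.1 ha' b').symm
  -- components are simple with trivial centre
  have hcen : ∀ {K : Subgroup G}, Cfsg.IsComponent K → ∀ x ∈ K, (∀ y ∈ K, y * x = x * y) → x = 1 := by
    intro K hK x hx hxc
    have hxN : x ∈ N := IsComponent.le_layer hK hx
    have : x ∈ (center ↥N).map N.subtype := by
      refine ⟨⟨x, hxN⟩, mem_center_iff.2 fun y => Subtype.ext ?_, rfl⟩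
      show (y : G) * x = x * y
      refine (show (y : G) ∈ centralizer ({x} : Set G) → (y : G) * x = x * y from
        fun h => mem_centralizer_singleton_iff.1 h) ?_
      refine (layer_le_iff.2 fun L hL => ?_) y.2
      intro l hl
      rw [mem_centralizer_singleton_iff]
      rcases eq_or_ne L K with rfl | hne
      · exact hxc l hl
      · exact commute_of_commutator_eq_bot (IsComponent.commutator_eq_bot_of_ne hL hK hne) hl hx
    rwa [hcenN, mem_bot] at this
  have hsimple : ∀ {K : Subgroup G}, Cfsg.IsComponent K → IsSimpleGroup ↥K := by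
    intro K hK
    haveI : Nontrivial ↥K := (Subgroup.nontrivial_iff_ne_bot _).2 (IsComponent.ne_bot hK)
    refine ⟨fun X hX => ?_⟩
    rcases IsQuasisimple.normal_eq_top_or_le_center hK.2 X with h | h
    · exact Or.inr h
    · left
      rw [eq_bot_iff]
      intro a ha
      exact mem_bot.2 (Subtype.ext (hcen hK a a.2 fun y hy =>
        congrArg Subtype.val (mem_center_iff.1 (h ha) ⟨y, hy⟩)))
  have hcm : ∀ {K L : Subgroup G}, Cfsg.IsComponent K → Cfsg.IsComponent L → K ≠ L →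
      ∀ x ∈ K, ∀ y ∈ L, x * y = y * x := fun hK hL hne x hx y hy =>
    commute_of_commutator_eq_bot (IsComponent.commutator_eq_bot_of_ne hK hL hne) hx hy
  have hMN : M = N := by
    refine le_antisymm (hMle hNn hzN) (layer_le_iff.2 fun K hK => ?_)
    rcases IsComponent.le_or_commutator_eq_bot hK hMn.isSubnormal with h | h
    · exact h
    · exact absurd (fun k hk => mem_centralizer_singleton_iff.2
        (commute_of_commutator_eq_bot h hk hzM)) (hncomp hK)
  obtain ⟨K, hK⟩ : ∃ K : Subgroup G, Cfsg.IsComponent K := by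
    by_contra h
    push Not at h
    exact hNne (layer_eq_bot_iff.2 h)
  have hnab : ¬ IsMulCommutative ↥K := IsComponent.not_isMulCommutative hK
  -- the conjugates of `K` under `Q` are all the components
  let cj : G → Subgroup G := fun q => K.map (MulAut.conj q).toMonoidHom
  have hcj : ∀ q, Cfsg.IsComponent (cj q) := fun q => IsComponent.map_conj hK q
  have hmem : ∀ {q x : G}, x ∈ cj q ↔ q⁻¹ * x * q ∈ K := by
    intro q x
    constructor
    · rintro ⟨k, hk, rfl⟩; simpa [mul_assoc] using hk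
    · intro h; exact ⟨q⁻¹ * x * q, h, by simp [mul_assoc]⟩
  have hcjm : ∀ {q x : G}, x ∈ K → q * x * q⁻¹ ∈ cj q := fun hx => ⟨_, hx, rfl⟩
  have horb : ∀ L, Cfsg.IsComponent L → ∃ q ∈ Q, L = cj q := by
    intro L hL
    by_contra hne
    push Not at hne
    set X := closure {x : G | ∃ q ∈ Q, x ∈ cj q} with hX
    have hQX : Q ≤ normalizer (X : Set G) := by
      intro p hp'
      have h1 : ∀ p ∈ Q, ∀ x ∈ X, p * x * p⁻¹ ∈ X := by
        intro p hp' x hx
        induction hx using closure_induction with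
        | mem v hv =>
          obtain ⟨q, hq, hv⟩ := hv
          refine subset_closure ⟨p * q, Q.mul_mem hp' hq, hmem.2 ?_⟩
          have := hmem.1 hv
          simpa [mul_assoc] using this
        | one => simp
        | mul a b _ _ ha hb =>
          rw [show p * (a * b) * p⁻¹ = (p * a * p⁻¹) * (p * b * p⁻¹) by group]
          exact mul_mem ha hb
        | inv a _ ha =>
          rw [show p * a⁻¹ * p⁻¹ = (p * a * p⁻¹)⁻¹ by group]
          exact inv_mem ha
      exact mem_normalizer_iff.2 fun x => ⟨h1 p hp' x, fun h => by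
        simpa [mul_assoc] using h1 p⁻¹ (Q.inv_mem hp') _ h⟩
    have hXne : X ≠ ⊥ := by
      intro h
      refine IsComponent.ne_bot hK (eq_bot_iff.2 fun k hk => ?_)
      rw [← h]
      exact subset_closure ⟨1, Q.one_mem, hmem.2 (by simpa using hk)⟩
    refine hncomp hL fun l hl => mem_centralizer_singleton_iff.2 ?_
    have hle : X ≤ centralizer ({l} : Set G) := by
      rw [hX, closure_le]
      rintro v ⟨q, hq, hv⟩
      exact mem_centralizer_singleton_iff.2 (hcm (hcj q) hL (Ne.symm (hne q hq)) v hv l hl)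
    exact (mem_centralizer_singleton_iff.1 (hle (key hQX hXne))).symm
  have hinf : ∀ {q : G}, cj q ≠ K → ∀ x ∈ cj q, x ∈ K → x = 1 := by
    intro q hq x hxq hxK
    exact hcen hK x hxK fun y hy => (hcm (hcj q) hK hq x hxq y hy).symm
  by_cases hk1 : ∀ q ∈ Q, cj q = K
  · left
    have hNK : N = K := by
      refine le_antisymm (layer_le_iff.2 fun L hL => ?_) (IsComponent.le_layer hK)
      obtain ⟨q, hq, rfl⟩ := horb L hL
      exact (hk1 q hq).le
    rw [hFs, ← hMN]
    refine ⟨rfl, ?_⟩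
    rw [hMN, hNK]
    exact ⟨hsimple hK, hnab⟩
  push Not at hk1
  obtain ⟨u, hu, huK⟩ := hk1
  haveI := hsimple hK
  -- the centralizer of `z` in `K`
  set C := K ⊓ centralizer ({z} : Set G) with hCdef
  have hcQ : ∀ {c q : G}, c ∈ C → q ∈ Q → q * c * q⁻¹ * c⁻¹ ∈ Q := by
    intro c q hc hq
    rw [show q * c * q⁻¹ * c⁻¹ = q * (c * q⁻¹ * c⁻¹) by group]
    exact Q.mul_mem hq ((mem_normalizer_iff.1 (hN hc.2) _).1 (Q.inv_mem hq))
  have hpow : ∀ {q c : G} (n : ℕ), cj q ≠ K → c ∈ K →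
      (q * c * q⁻¹ * c⁻¹) ^ n = q * c ^ n * q⁻¹ * (c ^ n)⁻¹ := by
    intro q c n hq hc
    have hco : Commute (q * c * q⁻¹) c⁻¹ :=
      Commute.inv_right (hcm (hcj q) hK hq _ (hcjm hc) c hc)
    rw [hco.mul_pow, conj_pow, inv_pow]
  have hdiag : ∀ {q c : G}, cj q ≠ K → c ∈ K → q * c * q⁻¹ * c⁻¹ = 1 → c = 1 := by
    intro q c hq hc h
    have e : q * c * q⁻¹ = c := mul_inv_eq_one.1 h
    exact hinf hq c (e ▸ hcjm hc) hc
  have hC2 : IsPGroup 2 ↥C := by
    rw [IsPGroup]
    intro c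
    obtain ⟨n, hn⟩ := hp ⟨_, hcQ c.2 hu⟩
    refine ⟨n, Subtype.ext ?_⟩
    have h := congrArg Subtype.val hn
    simp only [SubmonoidClass.coe_pow, OneMemClass.coe_one] at h ⊢
    rw [hpow _ huK c.2.1] at h
    exact hdiag huK (pow_mem c.2.1 _) h
  set CK := (centralizer ({z} : Set G)).subgroupOf K with hCK
  have hCKp : IsPGroup 2 ↥CK := by
    refine hC2.of_injective
      ({ toFun := fun c => ⟨((c : ↥K) : G), (c : ↥K).2, mem_subgroupOf.1 c.2⟩
         map_one' := rfl
         map_mul' := fun _ _ => rfl } : ↥CK →* ↥C) ?_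
    intro a b h
    exact Subtype.ext (Subtype.ext (congrArg (fun v : ↥C => (v : G)) h))
  -- it is a Sylow subgroup
  obtain ⟨R₀, hR₀⟩ := hCKp.exists_le_sylow
  obtain ⟨P, hPn, hPz⟩ : ∃ P : Sylow 2 ↥N, True ∧ ∀ x : ↥N, x ∈ (P : Subgroup ↥N) →
      (x : G) * z = z * x := by
    obtain ⟨S⟩ : Nonempty (Sylow 2 G) := inferInstance
    obtain ⟨S', hS'⟩ := hp.exists_le_sylow
    have hzS : z ∈ centralizer ((S' : Subgroup G) : Set G) := by
      have hne : (center ↥(S' : Subgroup G)).map (S' : Subgroup G).subtype ≠ ⊥ := by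
        haveI : Nontrivial ↥(S' : Subgroup G) := (Subgroup.nontrivial_iff_ne_bot _).2
          fun h => hD.ne (mem_bot.1 (h ▸ hS' hD.mem))
        intro h
        rw [map_eq_bot_iff_of_injective _ (Subgroup.subtype_injective _)] at h
        exact (Subgroup.nontrivial_iff_ne_bot _).1 S'.isPGroup'.center_nontrivial h
      obtain ⟨c, hc, hc1⟩ := (Subgroup.ne_bot_iff_exists_ne_one.1 hne) |>
        (fun ⟨⟨c, hc⟩, h⟩ => ⟨c, hc, fun e => h (Subtype.ext e)⟩ :
          _ → ∃ c, c ∈ (center ↥(S' : Subgroup G)).map (S' : Subgroup G).subtype ∧ c ≠ 1)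
      obtain ⟨c', hc', rfl⟩ := hc
      have hcQ' : (c' : G) ∈ centralizer (Q : Set G) := fun q hq =>
        congrArg Subtype.val (mem_center_iff.1 hc' ⟨q, hS' hq⟩)
      rw [hC] at hcQ'
      rcases TwoExtraData.mem_zpowers hD hcQ' with e | e
      · exact absurd e hc1
      · intro s hs
        rw [← e]
        exact congrArg Subtype.val (mem_center_iff.1 hc' ⟨s, hs⟩)
    have hnd : ¬ 2 ∣ (((S' : Subgroup G) ⊓ N).subgroupOf N).index := fun h => by
      refine S'.not_dvd_index (h.trans ?_)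
      have h1 : ((S' : Subgroup G) ⊓ N).subgroupOf N = (S' : Subgroup G).subgroupOf N := by
        rw [inf_subgroupOf_right]
      rw [h1]
      show (S' : Subgroup G).relIndex N ∣ (S' : Subgroup G).index
      have hc := Coprime.card_sup_mul_card_inf (N := N) (H := (S' : Subgroup G))
        (normalizer_eq_top (H := N) ▸ le_top)
      have ha := Coprime.relIndex_mul_card (le_sup_right : (S' : Subgroup G) ≤ N ⊔ (S' : Subgroup G))
      have hb := Coprime.relIndex_mul_card (inf_le_left : N ⊓ (S' : Subgroup G) ≤ N)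
      rw [inf_comm, inf_relIndex_right] at hb
      rw [inf_comm] at hc
      have heq : (S' : Subgroup G).relIndex (N ⊔ (S' : Subgroup G)) =
          (S' : Subgroup G).relIndex N := by
        refine Nat.eq_of_mul_eq_mul_left
          (Nat.mul_pos (Nat.card_pos (α := ↥(S' : Subgroup G)))
            (Nat.card_pos (α := ↥((S' : Subgroup G) ⊓ N : Subgroup G)))) ?_
        rw [mul_right_comm, ha, hc, mul_assoc, hb, mul_comm]
      rw [← heq, ← relIndex_mul_index (le_sup_right : (S' : Subgroup G) ≤ N ⊔ (S' : Subgroup G))]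
      exact dvd_mul_right _ _
    have hpS : IsPGroup 2 ↥(((S' : Subgroup G) ⊓ N).subgroupOf N) :=
      (S'.isPGroup'.to_le inf_le_left).of_equiv (subgroupOfEquivOfLe inf_le_right).symm
    refine ⟨hpS.toSylow hnd, trivial, fun x hx => ?_⟩
    exact hzS x (mem_subgroupOf.1 hx).1
  obtain ⟨P', hP'⟩ := (R₀.isPGroup'.map (inclusion (IsComponent.le_layer hK))).exists_le_sylow
  obtain ⟨n, hn⟩ := MulAction.exists_smul_eq ↥N P P'
  have hnK : ∀ k ∈ K, (n : G)⁻¹ * k * n ∈ K := fun k hk =>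
    (mem_normalizer_iff''.1 (IsComponent.layer_le_normalizer hK n.2) k).1 hk
  have hRC : ∀ r : ↥K, r ∈ (R₀ : Subgroup ↥K) → (n : G)⁻¹ * r * n ∈ C := by
    intro r hr
    have h1 : inclusion (IsComponent.le_layer hK) r ∈ (P' : Subgroup ↥N) :=
      hP' ⟨r, hr, rfl⟩
    rw [← hn, Sylow.coe_subgroup_smul, mem_smul_pointwise_iff_exists] at h1
    obtain ⟨s, hs, he⟩ := h1
    have he' : (n : G) * s * (n : G)⁻¹ = (r : G) := congrArg Subtype.val he
    have e2 : (n : G)⁻¹ * r * n = s := by rw [← he']; group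
    exact ⟨hnK r r.2, mem_centralizer_singleton_iff.2 (e2 ▸ hPz s hs)⟩
  have hcardle : Nat.card ↥(R₀ : Subgroup ↥K) ≤ Nat.card ↥CK := by
    refine Nat.card_le_card_of_injective
      (fun r => ⟨⟨(n : G)⁻¹ * (r : ↥K) * n, (hRC r r.2).1⟩, mem_subgroupOf.2 (hRC r r.2).2⟩) ?_
    intro a b h
    have h' : (n : G)⁻¹ * ((a : ↥K) : G) * n = (n : G)⁻¹ * ((b : ↥K) : G) * n :=
      congrArg (fun v : ↥CK => ((v : ↥K) : G)) h
    exact Subtype.ext (Subtype.ext (mul_left_cancel (mul_right_cancel h')))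
  have hCKeq : CK = (R₀ : Subgroup ↥K) := Subgroup.eq_of_le_of_card_ge hR₀ hcardle
  have hKeven : 2 ∣ Nat.card ↥K := by
    by_contra h2
    have hle : N ≤ (Cfsg.pPrimeCore 2 ↥N).map N.subtype := by
      refine layer_le_iff.2 fun L hL => ?_
      obtain ⟨q, hq, rfl⟩ := horb L hL
      intro x hx
      refine ⟨⟨x, IsComponent.le_layer hL hx⟩, ?_, rfl⟩
      refine le_pPrimeCore (IsComponent.normal_in_layer hL) ?_ (mem_subgroupOf.2 hx)
      rw [Nat.card_congr (subgroupOfEquivOfLe (IsComponent.le_layer hL)).toEquiv,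
        show Nat.card ↥(cj q) = Nat.card ↥K from
          (Nat.card_congr (K.equivMapOfInjective _ (MulAut.conj q).injective).toEquiv).symm]
      exact Nat.coprime_two_right.2 (Nat.not_even_iff_odd.1 (fun h => h2 (even_iff_two_dvd.1 h)))
    have hNodd : Odd (Nat.card ↥N) := by
      refine Nat.coprime_two_right.1 ?_
      have h := pPrimeCore_coprime (G := ↥N) 2
      rw [Nat.card_congr ((Cfsg.pPrimeCore 2 ↥N).equivMapOfInjective N.subtype
        N.subtype_injective).toEquiv] at h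
      exact Nat.Coprime.coprime_dvd_left (card_dvd_of_le hle) h
    exact hNne (hodd N hNodd (normalizer_eq_top (H := N) ▸ le_top))
  have hsmall : ∀ a : G, ¬ ∀ c ∈ C, c = 1 ∨ c = a := by
    intro a ha
    refine simple_not_small_sylow hnab (S := CK) ?_ ?_ hKeven
    · rw [hCKeq]
      exact Nat.not_even_iff_odd.1 fun h => R₀.not_dvd_index (even_iff_two_dvd.1 h)
    · have hsub : ∀ c : ↥CK, ((c : ↥K) : G) = 1 ∨ ((c : ↥K) : G) = a := fun c =>
        ha _ ⟨(c : ↥K).2, mem_subgroupOf.1 c.2⟩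
      refine le_trans (Nat.card_le_card_of_injective
        (fun c : ↥CK => decide (((c : ↥K) : G) = 1)) ?_) (by simp)
      intro x y h
      have h' : ((x : ↥K) : G) = 1 ↔ ((y : ↥K) : G) = 1 := decide_eq_decide.1 h
      refine Subtype.ext (Subtype.ext ?_)
      rcases hsub x with e | e <;> rcases hsub y with e' | e'
      · rw [e, e']
      · rw [e, h'.1 e]
      · rw [h'.2 e', e']
      · rw [e, e']
  -- at most two components
  have htwo : ∀ q ∈ Q, cj q = K ∨ cj q = cj u := by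
    by_contra hne
    push Not at hne
    obtain ⟨p, hp', hpK, hpu⟩ := hne
    have hCab : ∀ c ∈ C, ∀ d ∈ C, c * d * c⁻¹ * d⁻¹ = 1 := by
      intro c hc d hd
      have hcK := hc.1
      have hdK := hd.1
      have hcu := hcQ hc hu
      have hdp := hcQ hd hp'
      have c1 : Commute (u * c * u⁻¹) (p * d * p⁻¹) :=
        hcm (hcj u) (hcj p) (Ne.symm hpu) _ (hcjm hcK) _ (hcjm hdK)
      have c2 : Commute (u * c * u⁻¹) d⁻¹ :=
        Commute.inv_right (hcm (hcj u) hK huK _ (hcjm hcK) _ hdK)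
      have c3 : Commute c (p * d * p⁻¹) := hcm hK (hcj p) (Ne.symm hpK) _ hcK _ (hcjm hdK)
      have e : (u * c * u⁻¹ * c⁻¹) * (p * d * p⁻¹ * d⁻¹) * (u * c * u⁻¹ * c⁻¹)⁻¹ *
          (p * d * p⁻¹ * d⁻¹)⁻¹ = c⁻¹ * d⁻¹ * c * d := by
        calc (u * c * u⁻¹ * c⁻¹) * (p * d * p⁻¹ * d⁻¹) * (u * c * u⁻¹ * c⁻¹)⁻¹ *
            (p * d * p⁻¹ * d⁻¹)⁻¹
            = (u * c * u⁻¹) * (c⁻¹ * (p * d * p⁻¹)) * d⁻¹ * c * (u * c * u⁻¹)⁻¹ * d *
              (p * d * p⁻¹)⁻¹ := by group
          _ = (u * c * u⁻¹) * ((p * d * p⁻¹) * c⁻¹) * d⁻¹ * c * (u * c * u⁻¹)⁻¹ * d *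
              (p * d * p⁻¹)⁻¹ := by rw [c3.inv_left.eq]
          _ = (p * d * p⁻¹) * ((u * c * u⁻¹) * (c⁻¹ * d⁻¹ * c)) * (u * c * u⁻¹)⁻¹ * d *
              (p * d * p⁻¹)⁻¹ := by rw [← mul_assoc (u * c * u⁻¹), c1.eq]; group
          _ = (p * d * p⁻¹) * ((c⁻¹ * d⁻¹ * c) * (u * c * u⁻¹)) * (u * c * u⁻¹)⁻¹ * d *
              (p * d * p⁻¹)⁻¹ := by
            rw [(show Commute (u * c * u⁻¹) (c⁻¹ * d⁻¹ * c) from hcm (hcj u) hK huK _ (hcjm hcK) _
              (K.mul_mem (K.mul_mem (K.inv_mem hcK) (K.inv_mem hdK)) hcK)).eq]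
          _ = ((p * d * p⁻¹) * (c⁻¹ * d⁻¹ * c * d)) * (p * d * p⁻¹)⁻¹ := by group
          _ = c⁻¹ * d⁻¹ * c * d := by
            rw [(show Commute (p * d * p⁻¹) (c⁻¹ * d⁻¹ * c * d) from hcm (hcj p) hK hpK _ (hcjm hdK) _
              (K.mul_mem (K.mul_mem (K.mul_mem (K.inv_mem hcK) (K.inv_mem hdK)) hcK) hdK)).eq,
              mul_inv_cancel_right]
      have hin : c⁻¹ * d⁻¹ * c * d ∈ K :=
        K.mul_mem (K.mul_mem (K.mul_mem (K.inv_mem hcK) (K.inv_mem hdK)) hcK) hdK
      rcases hD.comm _ hcu _ hdp with h | h <;> rw [e] at h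
      · have hcd : c * d = d * c := by
          calc c * d = d * c * (c⁻¹ * d⁻¹ * c * d) := by group
            _ = d * c := by rw [h, mul_one]
        rw [hcd]; group
      · exfalso
        exact hncomp (hcj u) fun v hv => mem_centralizer_singleton_iff.2
          (hcm (hcj u) hK huK v hv z (h ▸ hin))
    have hsq : ∀ c ∈ C, c * c = 1 := by
      intro c hc
      have hcu := hcQ hc hu
      have h := hpow 2 huK hc.1
      rw [pow_two, pow_two] at h
      rcases hD.sq_mem _ hcu with e | e <;> rw [h] at e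
      · exact hdiag huK (K.mul_mem hc.1 hc.1) e
      · exfalso
        refine hncomp (hcj p) fun v hv => mem_centralizer_singleton_iff.2 ?_
        rw [← e]
        have w1 : Commute v (u * (c * c) * u⁻¹) :=
          hcm (hcj p) (hcj u) hpu v hv _ (hcjm (K.mul_mem hc.1 hc.1))
        have w2 : Commute v (c * c)⁻¹ :=
          hcm (hcj p) hK hpK v hv _ (K.inv_mem (K.mul_mem hc.1 hc.1))
        exact (w1.mul_right w2).eq
    have hproj : ∀ c ∈ C, c ≠ 1 → ∀ v ∈ cj p, ((p * c * p⁻¹)⁻¹ * z) * v = v * ((p * c * p⁻¹)⁻¹ * z) := by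
      intro c hc hc1 v hv
      have hcK := hc.1
      have hw : p * (u * c * u⁻¹ * c⁻¹) * p⁻¹ * (u * c * u⁻¹ * c⁻¹)⁻¹ =
          ((p * u) * c * (p * u)⁻¹) * ((p * c * p⁻¹)⁻¹ * (c * (u * c * u⁻¹)⁻¹)) := by group
      have hpc : p * c * p⁻¹ * (p * c * p⁻¹) = 1 := by
        rw [show p * c * p⁻¹ * (p * c * p⁻¹) = p * (c * c) * p⁻¹ by group, hsq c hc]; group
      have hne' : cj (p * u) ≠ cj p := by
        intro he
        refine huK (Subgroup.ext fun x => ?_)
        have hx := Subgroup.ext_iff.1 he (p * x * p⁻¹)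
        simp only [hmem] at hx
        simpa [mul_assoc, hmem] using hx
      -- the factors outside the component at `p`
      have k1 : Commute ((p * u) * c * (p * u)⁻¹) v :=
        hcm (hcj _) (hcj p) hne' _ (hcjm hcK) v hv
      have k2 : Commute c v := hcm hK (hcj p) (Ne.symm hpK) c hcK v hv
      have k3 : Commute (u * c * u⁻¹) v := hcm (hcj u) (hcj p) (Ne.symm hpu) _ (hcjm hcK) v hv
      have kA : Commute ((p * u) * c * (p * u)⁻¹) (p * c * p⁻¹) :=
        hcm (hcj _) (hcj p) hne' _ (hcjm hcK) _ (hcjm hcK)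
      rcases hD.comm p hp' _ (hcQ hc hu) with e | e <;> rw [hw] at e
      · exfalso
        refine hc1 ?_
        have hy : (p * c * p⁻¹) =
            ((p * u) * c * (p * u)⁻¹) * (c * (u * c * u⁻¹)⁻¹) := by
          calc p * c * p⁻¹ = (p * c * p⁻¹) * (((p * u) * c * (p * u)⁻¹) * ((p * c * p⁻¹)⁻¹ *
                (c * (u * c * u⁻¹)⁻¹))) := by rw [e, mul_one]
            _ = ((p * c * p⁻¹) * ((p * u) * c * (p * u)⁻¹)) * (p * c * p⁻¹)⁻¹ *
                (c * (u * c * u⁻¹)⁻¹) := by group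
            _ = _ := by rw [← kA.eq]; group
        have h1 : ∀ v' ∈ cj p, v' * (p * c * p⁻¹) = (p * c * p⁻¹) * v' := by
          intro v' hv'
          rw [hy]
          have q1 : Commute ((p * u) * c * (p * u)⁻¹) v' := hcm (hcj _) (hcj p) hne' _ (hcjm hcK) v' hv'
          have q2 : Commute c v' := hcm hK (hcj p) (Ne.symm hpK) c hcK v' hv'
          have q3 : Commute (u * c * u⁻¹) v' := hcm (hcj u) (hcj p) (Ne.symm hpu) _ (hcjm hcK) v' hv'
          exact (q1.mul_left (q2.mul_left q3.inv_left)).symm.eq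
        have h2 := hcen (hcj p) _ (hcjm hcK) h1
        exact conj_eq_one_iff.1 h2
      · rw [← e]
        have hy : (p * c * p⁻¹)⁻¹ * (((p * u) * c * (p * u)⁻¹) * ((p * c * p⁻¹)⁻¹ *
            (c * (u * c * u⁻¹)⁻¹))) =
            ((p * u) * c * (p * u)⁻¹) * (c * (u * c * u⁻¹)⁻¹) := by
          rw [inv_eq_of_mul_eq_one_right hpc, ← mul_assoc, ← kA.eq, mul_assoc, ← mul_assoc (p * c * p⁻¹),
            hpc, one_mul]
        rw [hy]
        exact ((k1.mul_left (k2.mul_left k3.inv_left))).eq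
    have huniq : ∀ c ∈ C, ∀ d ∈ C, c ≠ 1 → d ≠ 1 → c = d := by
      intro c hc d hd hc1 hd1
      have hh : ∀ v ∈ cj p, v * ((p * c * p⁻¹)⁻¹ * (p * d * p⁻¹)) =
          (p * c * p⁻¹)⁻¹ * (p * d * p⁻¹) * v := by
        intro v hv
        have a1 : Commute ((p * c * p⁻¹)⁻¹ * z) v := hproj c hc hc1 v hv
        have a2 : Commute ((p * d * p⁻¹)⁻¹ * z) v := hproj d hd hd1 v hv
        have := (a1.mul_left a2.inv_left).symm.eq
        rwa [show (p * c * p⁻¹)⁻¹ * z * ((p * d * p⁻¹)⁻¹ * z)⁻¹ =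
          (p * c * p⁻¹)⁻¹ * (p * d * p⁻¹) by group] at this
      have h1 := hcen (hcj p) _ ((cj p).mul_mem ((cj p).inv_mem (hcjm hc.1)) (hcjm hd.1)) hh
      exact mul_left_cancel (mul_right_cancel (inv_mul_eq_one.1 h1))
    by_cases hne1 : ∃ d ∈ C, d ≠ 1
    · obtain ⟨d, hd, hd1⟩ := hne1
      exact hsmall d fun c hc => (em (c = 1)).imp_right fun h => huniq c hc d hd h hd1
    · push Not at hne1
      exact hsmall 1 fun c hc => Or.inl (hne1 c hc)
  right
  set K' := cj u with hK'def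
  have hK' : Cfsg.IsComponent K' := hcj u
  have hcm' : ∀ x ∈ K, ∀ y ∈ K', x * y = y * x := hcm hK hK' (Ne.symm huK)
  have hinf' : ∀ x ∈ K', x ∈ K → x = 1 := hinf huK
  have hsup : K ⊔ K' = N := by
    refine le_antisymm (sup_le (IsComponent.le_layer hK) (IsComponent.le_layer hK'))
      (layer_le_iff.2 fun L hL => ?_)
    obtain ⟨q, hq, rfl⟩ := horb L hL
    rcases htwo q hq with e | e <;> rw [e]
    · exact le_sup_left
    · exact le_sup_right
  have hdec : ∀ x ∈ N, ∃ a ∈ K, ∃ b ∈ K', x = a * b := by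
    intro x hx
    rw [← hsup] at hx
    exact Coprime.exists_mul_of_mem_sup
      ((show K' ≤ centralizer (K : Set G) from fun y hy k hk => hcm' k hk y hy).trans
        (centralizer_le_normalizer _)) hx
  have huniq : ∀ {a a' b b' : G}, a ∈ K → a' ∈ K → b ∈ K' → b' ∈ K' → a * b = a' * b' →
      a = a' ∧ b = b' := by
    intro a a' b b' ha ha' hb hb' e
    have h : a'⁻¹ * a = b' * b⁻¹ := by
      calc a'⁻¹ * a = a'⁻¹ * (a * b) * b⁻¹ := by group
        _ = b' * b⁻¹ := by rw [e]; group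
    have h1 := hinf' _ (h ▸ K'.mul_mem hb' (K'.inv_mem hb)) (K.mul_mem (K.inv_mem ha') ha)
    obtain rfl : a' = a := inv_mul_eq_one.1 h1
    exact ⟨rfl, mul_left_cancel e⟩
  obtain ⟨a, ha, b, hb, hzab⟩ := hdec z hzN
  have huz : u * z * u⁻¹ = z := by rw [← hD.central u hu, mul_inv_cancel_right]
  have huu : u * u * z = z * (u * u) := (hD.central _ (Q.mul_mem hu hu)).symm
  have hb' : b = u * a * u⁻¹ := by
    have h2 : u * u ∈ normalizer (K : Set G) := by
      rcases hD.sq_mem u hu with e | e <;> rw [e]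
      · exact one_mem _
      · exact IsComponent.layer_le_normalizer hK hzN
    have hbK : u * b * u⁻¹ ∈ K := by
      have h3 : u⁻¹ * b * u ∈ K := hmem.1 hb
      have := (mem_normalizer_iff.1 h2 _).1 h3
      simpa [mul_assoc] using this
    have e : a * b = (u * b * u⁻¹) * (u * a * u⁻¹) := by
      calc a * b = u * z * u⁻¹ := by rw [huz, hzab]
        _ = u * (a * b) * u⁻¹ := by rw [hzab]
        _ = (u * a * u⁻¹) * (u * b * u⁻¹) := by group
        _ = _ := (hcm' _ hbK _ (hcjm ha)).symm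
    exact (huniq ha hbK hb (hcjm ha) e).2
  subst hb'
  have hCa : ∀ c ∈ K, c * z = z * c ↔ c * a = a * c := by
    intro c hc
    constructor
    · intro h
      have e : (c * a * c⁻¹) * (u * a * u⁻¹) = a * (u * a * u⁻¹) := by
        calc (c * a * c⁻¹) * (u * a * u⁻¹) = c * a * (c⁻¹ * (u * a * u⁻¹)) := by group
          _ = c * z * c⁻¹ := by
            rw [hcm' c⁻¹ (K.inv_mem hc) _ (hcjm ha), hzab]; group
          _ = a * (u * a * u⁻¹) := by rw [h, mul_inv_cancel_right, hzab]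
      exact mul_inv_eq_iff_eq_mul.1 (mul_right_cancel e)
    · intro h
      rw [hzab]
      exact ((show Commute c a from h).mul_right (hcm' c hc _ hb)).eq
  have hca : ∀ c ∈ C, u * c * u⁻¹ * c⁻¹ = z → c = a⁻¹ := by
    intro c hc e
    have e' : c⁻¹ * (u * c * u⁻¹) = a * (u * a * u⁻¹) := by
      rw [hcm' c⁻¹ (K.inv_mem hc.1) _ (hcjm hc.1), e, hzab]
    rw [← (huniq (K.inv_mem hc.1) ha (hcjm hc.1) hb e').1, inv_inv]
  have ha2 : a⁻¹ = a := by
    have e : (a * a) * ((u * a * u⁻¹) * (u * a * u⁻¹)) = 1 * 1 := by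
      calc (a * a) * ((u * a * u⁻¹) * (u * a * u⁻¹))
          = a * (a * (u * a * u⁻¹)) * (u * a * u⁻¹) := by group
        _ = a * ((u * a * u⁻¹) * a) * (u * a * u⁻¹) := by rw [hcm' a ha _ hb]
        _ = z * z := by rw [hzab]; group
        _ = 1 * 1 := by rw [hD.sq, one_mul]
    exact inv_eq_of_mul_eq_one_right (huniq (K.mul_mem ha ha) K.one_mem (K'.mul_mem hb hb)
      K'.one_mem e).1
  have hfr : ∀ c ∈ C, c * c = 1 ∨ c * c = a := by
    intro c hc
    have h := hpow 2 huK hc.1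
    rw [pow_two, pow_two] at h
    rcases hD.sq_mem _ (hcQ hc hu) with e | e <;> rw [h] at e
    · exact Or.inl (hdiag huK (K.mul_mem hc.1 hc.1) e)
    · exact Or.inr ((hca _ (C.mul_mem hc hc) e).trans ha2)
  rw [hFs, ← hMN]
  refine ⟨rfl, K, u, hu, hsimple hK, hnab, ?_, hcm', hMN ▸ hsup, a, ha, hzab, ⟨R₀, ?_, ?_⟩, ?_⟩
  · rw [eq_bot_iff]; intro x hx; exact mem_bot.2 (hinf' x hx.2 hx.1)
  · rw [← hCKeq]
    ext c
    rw [mem_subgroupOf, mem_subgroupOf, mem_centralizer_singleton_iff, mem_centralizer_singleton_iff]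
    exact hCa c c.2
  · have hmemC : ∀ x : ↥K, x ∈ (R₀ : Subgroup ↥K) → (x : G) ∈ C := fun x hx =>
      ⟨x.2, mem_subgroupOf.1 (show x ∈ CK from hCKeq ▸ hx)⟩
    rintro _ ⟨x, hx, rfl⟩
    set T := ((R₀ : Subgroup ↥K)).map K.subtype with hT
    let e := (R₀ : Subgroup ↥K).equivMapOfInjective K.subtype K.subtype_injective
    have hTC : ∀ v ∈ T, v ∈ C := by rintro _ ⟨v, hv, rfl⟩; exact hmemC v hv
    have hac : ∀ v ∈ T, Commute v a := fun v hv =>
      ((hCa v (hTC v hv).1).1 (mem_centralizer_singleton_iff.1 (hTC v hv).2))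
    have hle : (frattini ↥T).map T.subtype ≤ zpowers a := by
      have hsq : ∀ v ∈ T, v * v ∈ zpowers a := fun v hv => by
        rcases hfr v (hTC v hv) with h | h <;> rw [h]
        · exact one_mem _
        · exact mem_zpowers a
      have hza : ∀ w ∈ zpowers a, ∀ v ∈ T, Commute v w := by
        rintro _ ⟨i, rfl⟩ v hv; exact (hac v hv).zpow_right i
      refine LocalEven.frattini_map_le (p := 2) ?_ (fun v hv => by rw [pow_two]; exact hsq v hv)
      intro v hv w hw
      have hconj : ∀ s ∈ zpowers a, v * s * v⁻¹ = s := fun s hs => by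
        rw [(hza s hs v hv).eq, mul_inv_cancel_right]
      rw [show v * w * v⁻¹ * w⁻¹ = (v * w) * (v * w) * (w⁻¹ * (v⁻¹ * v⁻¹) * w) * (w⁻¹ * w⁻¹) by group]
      refine mul_mem (mul_mem (hsq _ (T.mul_mem hv hw)) ?_) (hsq _ (T.inv_mem hw))
      have h1 := hsq _ (T.inv_mem hv)
      have h2 : w⁻¹ * (v⁻¹ * v⁻¹) * w = v⁻¹ * v⁻¹ := by
        rw [(hza _ h1 _ (T.inv_mem hw)).eq, inv_mul_cancel_right]
      rw [h2]; exact h1
    haveI : Finite ↥(R₀ : Subgroup ↥K) := inferInstance
    exact hle ⟨e x, Cores.map_frattini_le e.toMonoidHom e.surjective ⟨x, hx, rfl⟩, rfl⟩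
  · intro hQ2
    set Cz := centralizer ({z} : Set G) with hCz
    set W := (N ⊓ Cz).subgroupOf Cz with hW
    have hWn : W.Normal := by
      refine ⟨fun x hx c => ?_⟩
      rw [hW, mem_subgroupOf] at hx ⊢
      exact ⟨hNn.conj_mem _ hx.1 c, (c * x * c⁻¹).2⟩
    have hWp : IsPGroup 2 ↥W := by
      intro x
      obtain ⟨y, hy, y', hy', e⟩ := hdec _ (mem_subgroupOf.1 x.2).1
      have hxz : ((x : ↥Cz) : G) * z = z * (x : ↥Cz) :=
        mem_centralizer_singleton_iff.1 (x : ↥Cz).2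
      rw [e, hzab] at hxz
      have c1 := hcm' a ha y' hy'
      have c2 := hcm' y hy _ hb
      have e2 : (y * a) * (y' * (u * a * u⁻¹)) = (a * y) * ((u * a * u⁻¹) * y') := by
        calc (y * a) * (y' * (u * a * u⁻¹)) = y * (a * y') * (u * a * u⁻¹) := by group
          _ = y * (y' * a) * (u * a * u⁻¹) := by rw [c1]
          _ = y * y' * (a * (u * a * u⁻¹)) := by group
          _ = a * (u * a * u⁻¹) * (y * y') := hxz
          _ = a * ((u * a * u⁻¹) * y) * y' := by group
          _ = (a * y) * ((u * a * u⁻¹) * y') := by rw [← c2]; group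
      obtain ⟨e3, e4⟩ := huniq (K.mul_mem hy ha) (K.mul_mem ha hy) (K'.mul_mem hy' hb)
        (K'.mul_mem hb hy') e2
      have hyC : y ∈ C := ⟨hy, mem_centralizer_singleton_iff.2 ((hCa y hy).2 e3)⟩
      have hy'C : u⁻¹ * y' * u ∈ C := by
        refine ⟨hmem.1 hy', mem_centralizer_singleton_iff.2 ((hCa _ (hmem.1 hy')).2 ?_)⟩
        calc u⁻¹ * y' * u * a = u⁻¹ * (y' * (u * a * u⁻¹)) * u := by group
          _ = u⁻¹ * ((u * a * u⁻¹) * y') * u := by rw [e4]
          _ = a * (u⁻¹ * y' * u) := by group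
      obtain ⟨m1, hm1⟩ := hC2 ⟨y, hyC⟩
      obtain ⟨m2, hm2⟩ := hC2 ⟨_, hy'C⟩
      have e5 : y ^ 2 ^ m1 = 1 := congrArg Subtype.val hm1
      have e6 : y' ^ 2 ^ m2 = 1 := by
        have := congrArg Subtype.val hm2
        simp only [SubmonoidClass.coe_pow, OneMemClass.coe_one] at this
        rw [show y' = u * (u⁻¹ * y' * u) * u⁻¹ by group, conj_pow, this]; group
      refine ⟨m1 + m2, Subtype.ext (Subtype.ext ?_)⟩
      simp only [SubmonoidClass.coe_pow, OneMemClass.coe_one]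
      rw [e, (show Commute y y' from hcm' y hy y' hy').mul_pow, pow_add, pow_mul, e5, one_pow, one_mul,
        mul_comm, pow_mul, e6, one_pow]
    have hCQ : ∀ c ∈ C, c ∈ Q := by
      intro c hc
      rw [hQ2]
      exact ⟨⟨c, hc.2⟩, le_pCore hWn hWp (mem_subgroupOf.2 ⟨IsComponent.le_layer hK hc.1, hc.2⟩), rfl⟩
    refine hsmall a fun c hc => ?_
    rcases hD.comm u hu c (hCQ c hc) with e | e
    · exact Or.inl (hdiag huK hc.1 e)
    · exact Or.inr ((hca c hc e).trans ha2)

end Cfsg.Agent.Lib.ThreeTransp
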