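import Cfsg.Agent.Lib.ThreeTransp.CoreClasses
import Cfsg.Agent.Lib.Components.GenFitting
import Cfsg.Agent.Lib.SylowCounting.ThreeTrans

/-!
Three-transposition classes: the cores and the layer.
-/

set_option autoImplicit false

namespace Cfsg.Agent.Lib.ThreeTransp

open Cfsg
open scoped commutatorElement

variable {G : Type*} [Group G] [Finite G] {D : Set G}

/-- A pairwise non-commuting set of members closed under mutual conjugation: all products of two
members lie in one 3-subgroup. -/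
theorem exists_threeGroup_of_unique (hD : IsThreeTranspositionSet D) {E : Set G} (hED : E ⊆ D)
    {d : G} (hdE : d ∈ E) (hone : ∀ x ∈ E, ∀ y ∈ E, Commute x y → x = y)
    (hclosed : ∀ x ∈ E, ∀ y ∈ E, x * y * x⁻¹ ∈ E) :
    ∃ P : Subgroup G, IsPGroup 3 ↥P ∧ ∀ x ∈ E, ∀ y ∈ E, x * y ∈ P := by
  set H := Subgroup.closure E with hH
  have hinH : ∀ {y : G}, y ∈ E → y ∈ H := fun hy => Subgroup.subset_closure hy
  have hinv : ∀ h ∈ H, ∀ y ∈ E, h * y * h⁻¹ ∈ E ∧ h⁻¹ * y * h ∈ E := by
    intro h hh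
    induction hh using Subgroup.closure_induction with
    | mem u hu =>
      intro y hy
      refine ⟨hclosed u hu y hy, ?_⟩
      have := hclosed u hu y hy
      rwa [inv_inv_self (hD.1 u (hED hu))] at this ⊢
    | one => intro y hy; simp [hy]
    | mul u v _ _ h1 h2 =>
      intro y hy
      constructor
      · have := (h1 _ (h2 y hy).1).1
        convert this using 1; group
      · have := (h2 _ (h1 y hy).2).2
        convert this using 1; group
    | inv u _ h1 =>
      intro y hy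
      refine ⟨by simpa using (h1 y hy).2, by simpa using (h1 y hy).1⟩
  have hH3 : IsThreeTranspositionGroup {h : ↥H | (h : G) ∈ E} := by
    refine ⟨⟨fun h hh => ?_, fun p hp q hq => ?_⟩, fun g h hh => (hinv g g.2 _ hh).1,
      Subgroup.closure_closure_coe_preimage⟩
    · rw [← Subgroup.orderOf_coe]; exact hD.1 _ (hED hh)
    · rcases hD.2 _ (hED hp) _ (hED hq) with e | e
      · exact Or.inl (Subtype.ext e)
      · exact Or.inr (Subtype.ext e)
  have hw1 : commutingWidth {h : ↥H | (h : G) ∈ E} = 1 :=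
    width_eq_one_of_unique (d := (⟨d, hinH hdE⟩ : ↥H)) hdE fun p hp q hq hpq =>
      Subtype.ext (hone _ hp _ hq (congrArg Subtype.val hpq.eq))
  exact ⟨(pCore 3 ↥H).map H.subtype, (Lib.Cores.pCore_isPGroup 3 ↥H).map _, fun x hx y hy =>
    ⟨_, mul_mem_pCore_of_width_one hH3 hw1 (x := (⟨x, hinH hx⟩ : ↥H)) (y := ⟨y, hinH hy⟩) hx hy,
      rfl⟩⟩

/-- If the conjugates of `d` under the layer have pairwise products generating a solvable group then
`d` centralizes the layer. -/
theorem commute_layer_of_solvable {d : G} (hd : d * d = 1)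
    (hs : Group.IsSolvable ↥(Subgroup.closure {u : G | ∃ g ∈ layer G, u = d * (g * d * g⁻¹)})) :
    ∀ g ∈ layer G, Commute d g := by
  set L := layer G
  set A := Subgroup.closure {u : G | ∃ g ∈ L, u = d * (g * d * g⁻¹)} with hA
  have hLn : L.Normal := inferInstance
  have hdi : d⁻¹ = d := inv_eq_of_mul_eq_one_right hd
  have hnorm : ∀ h ∈ L, ∀ a ∈ A, h * a * h⁻¹ ∈ A := by
    intro h hh a ha
    induction ha using Subgroup.closure_induction with
    | mem u hu =>
      obtain ⟨g, hg, rfl⟩ := hu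
      have h1 : d * (h * d * h⁻¹) ∈ A := Subgroup.subset_closure ⟨h, hh, rfl⟩
      have h2 : d * (h * g * d * (h * g)⁻¹) ∈ A :=
        Subgroup.subset_closure ⟨h * g, L.mul_mem hh hg, rfl⟩
      have := A.mul_mem (A.inv_mem h1) h2
      convert this using 1
      rw [mul_inv_rev, mul_inv_rev, mul_inv_rev, inv_inv, hdi]
      simp only [mul_assoc]
      rw [← mul_assoc d d, hd, one_mul]
      simp [mul_assoc]
    | one => simp
    | mul u v _ _ h1 h2 => have := A.mul_mem h1 h2; convert this using 1; group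
    | inv u _ h1 => have := A.inv_mem h1; convert this using 1; group
  have hAn : L ≤ Subgroup.normalizer (A : Set G) := by
    intro h hh
    rw [Subgroup.mem_normalizer_iff]
    refine fun a => ⟨hnorm h hh a, fun ha => ?_⟩
    have := hnorm h⁻¹ (L.inv_mem hh) _ ha
    simpa [mul_assoc] using this
  have hcomm : ∀ a ∈ A, ∀ g ∈ L, Commute a g := by
    intro a ha g hg
    have hle : L ≤ Subgroup.centralizer (A : Set G) :=
      Lib.Components.layer_le_iff.2 fun K hK => Subgroup.commutator_eq_bot_iff_le_centralizer.1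
        (Lib.Components.IsComponent.commutator_eq_bot_of_solvable hK hs
          ((Lib.Components.IsComponent.le_layer hK).trans hAn))
    exact Subgroup.mem_centralizer_iff.1 (hle hg) a ha
  intro g hg
  have hgL : g ∈ ⁅L, L⁆ := (Lib.Components.layer_commutator_self G).symm ▸ hg
  have hle : ⁅L, L⁆ ≤ Subgroup.centralizer ({d} : Set G) := by
    rw [Subgroup.commutator_le]
    intro p hp q hq
    rw [commutatorElement_def]
    refine Subgroup.mem_centralizer_singleton_iff.2 ?_
    have e1 : ∀ x ∈ L, ∀ y ∈ L, Commute (d * (x * d * x⁻¹)) y := fun x hx y hy =>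
      hcomm _ (Subgroup.subset_closure ⟨x, hx, rfl⟩) y hy
    have e2 : ∀ x ∈ L, d * x * d = (d * (x * d * x⁻¹)) * x := fun x _ => by group
    have e3 : ∀ x, d * x⁻¹ * d = (d * x * d)⁻¹ := fun x => by
      rw [mul_inv_rev, mul_inv_rev, hdi]; simp only [mul_assoc]
    have key : d * (p * q * p⁻¹ * q⁻¹) * d = p * q * p⁻¹ * q⁻¹ := by
      calc d * (p * q * p⁻¹ * q⁻¹) * d
          = (d * p * d⁻¹) * (d * q * d⁻¹) * (d * p⁻¹ * d⁻¹) * (d * q⁻¹ * d) := by group
        _ = (d * p * d) * (d * q * d) * (d * p * d)⁻¹ * (d * q * d)⁻¹ := by rw [hdi, e3, e3]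
        _ = p * q * p⁻¹ * q⁻¹ := by
          rw [e2 p hp, e2 q hq]
          generalize hα : d * (p * d * p⁻¹) = α
          generalize hβ : d * (q * d * q⁻¹) = β
          have a1 : Commute α q := hα ▸ e1 p hp q hq
          have b1 : Commute β p := hβ ▸ e1 q hq p hp
          have ab : Commute α β := by
            rw [← hβ, ← mul_assoc d (q * d) q⁻¹, ← mul_assoc d q d]
            have hdq : d * q * d ∈ L := by
              have := hLn.conj_mem q hq d; rwa [hdi] at this
            exact (hα ▸ e1 p hp _ hdq).mul_right a1.inv_right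
          rw [mul_inv_rev, mul_inv_rev]
          calc α * p * (β * q) * (p⁻¹ * α⁻¹) * (q⁻¹ * β⁻¹)
              = α * (p * β) * q * p⁻¹ * (α⁻¹ * q⁻¹) * β⁻¹ := by simp only [mul_assoc]
            _ = (α * β) * (p * q * p⁻¹ * q⁻¹) * (α⁻¹ * β⁻¹) := by
              rw [← b1.eq, a1.inv_left.inv_right.eq]; simp only [mul_assoc]
            _ = p * q * p⁻¹ * q⁻¹ := by
              have hc : Commute (α * β) (p * q * p⁻¹ * q⁻¹) := by
                have a2 : Commute α p := hα ▸ e1 p hp p hp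
                have b2 : Commute β q := hβ ▸ e1 q hq q hq
                exact (((a2.mul_left b1).mul_right (a1.mul_left b2)).mul_right
                  (a2.mul_left b1).inv_right).mul_right (a1.mul_left b2).inv_right
              rw [hc.eq, mul_assoc, ← mul_assoc (α * β) α⁻¹, ab.eq, mul_inv_cancel_right,
                mul_inv_cancel, mul_one]
    calc p * q * p⁻¹ * q⁻¹ * d = d * (p * q * p⁻¹ * q⁻¹) * d * d := by rw [key]
      _ = d * (p * q * p⁻¹ * q⁻¹) := by rw [mul_assoc _ d d, hd, mul_one]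
  exact (Subgroup.mem_centralizer_singleton_iff.1 (hle hgL)).symm

theorem central_of_commute_all (hgen : Subgroup.closure D = ⊤) {x : G} (h : ∀ d ∈ D, Commute d x) :
    x ∈ Subgroup.center G := by
  rw [Subgroup.mem_center_iff]
  intro y
  have : Subgroup.closure D ≤ Subgroup.centralizer ({x} : Set G) :=
    (Subgroup.closure_le _).2 fun d hd => Subgroup.mem_centralizer_singleton_iff.2 (h d hd)
  exact Subgroup.mem_centralizer_singleton_iff.1 (this (hgen ▸ Subgroup.mem_top y))

theorem exists_moved (hgen : Subgroup.closure D = ⊤) {N : Subgroup G}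
    (h : ¬ N ≤ Subgroup.center G) : ∃ d ∈ D, ∃ g ∈ N, g * d * g⁻¹ ≠ d := by
  by_contra hne
  push Not at hne
  exact h fun g hg => central_of_commute_all hgen fun d hd =>
    (mul_inv_eq_iff_eq_mul.1 (hne d hd g hg)).symm

theorem layer_eq_bot_of_central (hgen : Subgroup.closure D = ⊤)
    (h : ∀ d ∈ D, ∀ g ∈ layer G, Commute d g) : layer G = ⊥ := by
  rw [eq_bot_iff, ← Lib.Components.layer_commutator_self G, Subgroup.commutator_le]
  intro p hp q _
  have := Subgroup.mem_center_iff.1 (central_of_commute_all hgen fun d hd => h d hd p hp) q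
  rw [Subgroup.mem_bot, commutatorElement_def, ← this, mul_inv_cancel_right, mul_inv_cancel]

theorem layer_eq_bot_of_core_two (hD : IsThreeTranspositionClass D)
    (h2 : ¬ pCore 2 G ≤ Subgroup.center G) : layer G = ⊥ := by
  obtain ⟨⟨hS, hc, hgen⟩, hconj⟩ := class_data hD
  haveI : Fact (Nat.Prime 2) := ⟨Nat.prime_two⟩
  obtain ⟨d0, hd0, g0, hg0, hne0⟩ := exists_moved hgen h2
  refine layer_eq_bot_of_central hgen fun d hd => commute_layer_of_solvable (inv_sq (hS.1 d hd)) ?_
  obtain ⟨c, rfl⟩ := hconj d0 hd0 d hd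
  have hn : (pCore 2 G).Normal := inferInstance
  obtain ⟨d, hddef⟩ : ∃ d', d' = c * d0 * c⁻¹ := ⟨_, rfl⟩
  rw [← hddef] at hd ⊢
  obtain ⟨v, hvdef⟩ : ∃ v, v = c * (g0 * d0 * g0⁻¹) * c⁻¹ := ⟨_, rfl⟩
  have hv : v ∈ D := hvdef ▸ hc c _ (hc g0 d0 hd0)
  have hne : d ≠ v := fun e => hne0 (mul_left_cancel (mul_right_cancel (hddef.symm.trans (e.trans hvdef)))).symm
  have ht : d * v ∈ pCore 2 G := by
    have h1 := Subgroup.mul_mem _ (hn.conj_mem _ hg0 d0) (Subgroup.inv_mem _ hg0)
    have := hn.conj_mem _ h1 c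
    rw [inv_inv_self (hS.1 d0 hd0)] at this
    rw [hddef, hvdef]
    convert this using 1; group
  have hdv : Commute d v := ((sameComm_of_mem_pCore hS hd hv ht d hd).2 (Commute.refl d)).symm
  have hcom : ∀ g ∈ layer G, ∀ h ∈ layer G, Commute (g * d * g⁻¹) (h * d * h⁻¹) := by
    have hLt : ∀ g ∈ layer G, g * (d * v) * g⁻¹ = d * v := by
      intro g hg
      have := Subgroup.commutator_eq_bot_iff_le_centralizer.1
        (Lib.Components.commutator_layer_eq_bot_of_solvable (H := pCore 2 G)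
          (IsNilpotent.to_isSolvable (h := (Lib.Cores.pCore_isPGroup 2 G).isNilpotent))) hg
      rw [← Subgroup.mem_centralizer_iff.1 this _ ht, mul_inv_cancel_right]
    have h1 : ∀ g ∈ layer G, Commute d (g * d * g⁻¹) := by
      intro g hg
      refine (Lib.SylowCounting.tt_commute_two hS (hc g d hd) (hc g v hv) hd (fun e => hne
        (mul_left_cancel (mul_right_cancel e))) (commute_conj.2 hdv) ?_).1
      rw [show g * d * g⁻¹ * (g * v * g⁻¹) = g * (d * v) * g⁻¹ by group, hLt g hg]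
      exact (Commute.refl d).mul_right hdv
    intro g hg h hh
    have := (commute_conj (a := g)).2 (h1 (g⁻¹ * h) (Subgroup.mul_mem _ (Subgroup.inv_mem _ hg) hh))
    convert this using 1; group
  have habel : IsMulCommutative ↥(Subgroup.closure {u : G | ∃ g ∈ layer G, u = d * (g * d * g⁻¹)}) := by
    refine Subgroup.isMulCommutative_closure ?_
    rintro _ ⟨g, hg, rfl⟩ _ ⟨h, hh, rfl⟩
    have h1 : ∀ g ∈ layer G, Commute d (g * d * g⁻¹) := fun g hg => by
      simpa using hcom 1 (Subgroup.one_mem _) g hg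
    exact ((((Commute.refl d).mul_right (h1 h hh)).mul_left
      ((h1 g hg).symm.mul_right (hcom g hg h hh)))).eq
  haveI : Group.IsNilpotent ↥(Subgroup.closure {u : G | ∃ g ∈ layer G, u = d * (g * d * g⁻¹)}) :=
    Lib.Components.isNilpotent_of_isMulCommutative habel
  exact IsNilpotent.to_isSolvable

theorem layer_eq_bot_of_core_three (hD : IsThreeTranspositionClass D)
    (h3 : ¬ pCore 3 G ≤ Subgroup.center G) : layer G = ⊥ := by
  obtain ⟨⟨hS, hc, hgen⟩, hconj⟩ := class_data hD
  haveI : Fact (Nat.Prime 3) := ⟨Nat.prime_three⟩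
  obtain ⟨d0, hd0, g0, hg0, hne0⟩ := exists_moved hgen h3
  refine layer_eq_bot_of_central hgen fun d hd => commute_layer_of_solvable (inv_sq (hS.1 d hd)) ?_
  obtain ⟨c, rfl⟩ := hconj d0 hd0 d hd
  have hn : (pCore 3 G).Normal := inferInstance
  obtain ⟨d, hddef⟩ : ∃ d', d' = c * d0 * c⁻¹ := ⟨_, rfl⟩
  rw [← hddef] at hd ⊢
  obtain ⟨w, hwdef⟩ : ∃ w, w = c * (g0 * d0 * g0⁻¹) * c⁻¹ := ⟨_, rfl⟩
  have hw : w ∈ D := hwdef ▸ hc c _ (hc g0 d0 hd0)
  have hne : d ≠ w := fun e => hne0 (mul_left_cancel (mul_right_cancel (hddef.symm.trans (e.trans hwdef)))).symm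
  have ht : d * w ∈ pCore 3 G := by
    have h1 := Subgroup.mul_mem _ (hn.conj_mem _ hg0 d0) (Subgroup.inv_mem _ hg0)
    have := hn.conj_mem _ h1 c
    rw [inv_inv_self (hS.1 d0 hd0)] at this
    rw [hddef, hwdef]
    convert this using 1; group
  have hnbr := nbr_of_mem_pCore hS hd hw ht
  have hdw : ¬ Commute d w := fun h => hne (eq_or_not_commute hd hd hw (Or.inl rfl) rfl hnbr.symm h)
  have hd2 := inv_sq (hS.1 d hd)
  have hw2 := inv_sq (hS.1 w hw)
  have hone : ∀ g ∈ layer G, ∀ h ∈ layer G, Commute (g * d * g⁻¹) (h * d * h⁻¹) →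
      g * d * g⁻¹ = h * d * h⁻¹ := by
    have h1 : ∀ g ∈ layer G, Commute d (g * d * g⁻¹) → g * d * g⁻¹ = d := by
      intro g hg hcd
      by_contra hne'
      have hy : g * d * g⁻¹ ∈ nbr D d := ⟨hc g d hd, hne', hcd⟩
      rw [hnbr] at hy
      obtain ⟨-, -, hwd'⟩ := hy
      have hLt : g * (d * w) * g⁻¹ = d * w := by
        have := Subgroup.commutator_eq_bot_iff_le_centralizer.1
          (Lib.Components.commutator_layer_eq_bot_of_solvable (H := pCore 3 G)
            (IsNilpotent.to_isSolvable (h := (Lib.Cores.pCore_isPGroup 3 G).isNilpotent))) hg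
        rw [← Subgroup.mem_centralizer_iff.1 this _ ht, mul_inv_cancel_right]
      have hfix : (g * d * g⁻¹) * (d * w) = (d * w) * (g * d * g⁻¹) :=
        (hcd.symm.mul_right hwd'.symm).eq
      have hflip : (g * d * g⁻¹) * (d * w) = (w * d) * (g * d * g⁻¹) := by
        calc (g * d * g⁻¹) * (d * w) = (g * d * g⁻¹) * (g * (d * w) * g⁻¹) := by rw [hLt]
          _ = g * (d * (d * w)) * g⁻¹ := by group
          _ = g * ((w * d) * d) * g⁻¹ := by
            rw [← mul_assoc d d, hd2, one_mul, mul_assoc w d d, hd2, mul_one]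
          _ = (g * (d * w) * g⁻¹)⁻¹ * (g * d * g⁻¹) := by
            simp only [mul_inv_rev, inv_inv, inv_inv_self (hS.1 d hd), inv_inv_self (hS.1 w hw)]
            group
          _ = _ := by rw [hLt, mul_inv_rev, inv_inv_self (hS.1 d hd), inv_inv_self (hS.1 w hw)]
      exact hdw (mul_right_cancel (hfix.symm.trans hflip))
    intro g hg h hh hgh
    have h2 := h1 (g⁻¹ * h) (Subgroup.mul_mem _ (Subgroup.inv_mem _ hg) hh) ((commute_conj (a := g)).1
      (by convert hgh using 1; group))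
    calc g * d * g⁻¹ = g * (g⁻¹ * h * d * (g⁻¹ * h)⁻¹) * g⁻¹ := by rw [h2]
      _ = h * d * h⁻¹ := by group
  let E : Set G := {y | ∃ g ∈ layer G, y = g * d * g⁻¹}
  obtain ⟨P, hP, hmem⟩ := exists_threeGroup_of_unique hS (E := E) (d := d)
    (by rintro _ ⟨g, -, rfl⟩; exact hc g d hd) ⟨1, Subgroup.one_mem _, by simp⟩
    (by rintro _ ⟨g, hg, rfl⟩ _ ⟨h, hh, rfl⟩; exact hone g hg h hh)
    (by
      rintro _ ⟨g, hg, rfl⟩ _ ⟨h, hh, rfl⟩
      exact ⟨g * (d * (g⁻¹ * h) * d⁻¹), Subgroup.mul_mem _ hg ((inferInstance : (layer G).Normal).conj_mem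
        _ (Subgroup.mul_mem _ (Subgroup.inv_mem _ hg) hh) d), by group⟩)
  have hle : Subgroup.closure {u : G | ∃ g ∈ layer G, u = d * (g * d * g⁻¹)} ≤ P := by
    rw [Subgroup.closure_le]
    rintro _ ⟨g, hg, rfl⟩
    exact hmem d ⟨1, Subgroup.one_mem _, by simp⟩ _ ⟨g, hg, rfl⟩
  haveI := (hP.to_le hle).isNilpotent
  exact IsNilpotent.to_isSolvable

theorem pCore_central_of_five_le (hD : IsThreeTranspositionGroup D) {p : ℕ} (hp : p.Prime)
    (h3 : 3 < p) : pCore p G ≤ Subgroup.center G := by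
  haveI := Fact.mk hp
  obtain ⟨hS, hc, hgen⟩ := hD
  intro x hx
  refine central_of_commute_all hgen fun d hd => ?_
  have hy : d * (x * d * x⁻¹) ∈ pCore p G := by
    have := Subgroup.mul_mem _ ((inferInstance : (pCore p G).Normal).conj_mem _ hx d)
      (Subgroup.inv_mem _ hx)
    rw [inv_inv_self (hS.1 d hd)] at this
    convert this using 1; group
  have : d = x * d * x⁻¹ := by
    rcases hS.2 d hd _ (hc x d hd) with e | e
    · exact eq_of_mul_mem_pGroup (Lib.Cores.pCore_isPGroup p G)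
        ((Nat.coprime_primes hp Nat.prime_two).2 (by omega)) (hS.1 _ (hc x d hd)) hy e
    · exact eq_of_mul_mem_pGroup (Lib.Cores.pCore_isPGroup p G)
        ((Nat.coprime_primes hp Nat.prime_three).2 (by omega)) (hS.1 _ (hc x d hd)) hy e
  exact (mul_inv_eq_iff_eq_mul.1 this.symm).symm

theorem class_trichotomy (hD : IsThreeTranspositionClass D) (hD2 : ∃ a ∈ D, ∃ b ∈ D, a ≠ b) :
    (∀ p : ℕ, p.Prime → 3 < p → pCore p G ≤ Subgroup.center G) ∧
      ((¬ pCore 2 G ≤ Subgroup.center G ∧ pCore 3 G ≤ Subgroup.center G ∧ layer G = ⊥) ∨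
        (pCore 2 G ≤ Subgroup.center G ∧ ¬ pCore 3 G ≤ Subgroup.center G ∧ layer G = ⊥) ∨
        (pCore 2 G ≤ Subgroup.center G ∧ pCore 3 G ≤ Subgroup.center G ∧ layer G ≠ ⊥)) := by
  obtain ⟨hG, hconj⟩ := class_data hD
  obtain ⟨hS, hc, hgen⟩ := hG
  have hp := fun p hp h3 => pCore_central_of_five_le (p := p) (class_data hD).1 hp h3
  refine ⟨hp, ?_⟩
  have hexcl : pCore 2 G ≤ Subgroup.center G ∨ pCore 3 G ≤ Subgroup.center G := by
    by_contra h
    push Not at h
    obtain ⟨d, hd, g, hg, hne⟩ := exists_moved hgen h.1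
    obtain ⟨d', hd', g', hg', hne'⟩ := exists_moved hgen h.2
    obtain ⟨c, hc'⟩ := hconj d' hd' d hd
    have hn3 : (pCore 3 G).Normal := inferInstance
    have h1 : g * d * g⁻¹ ∈ {v : G | v ∈ D ∧ ∀ e ∈ D, Commute v e ↔ Commute d e} := by
      rw [(class_core_two hD hd).2]; exact ⟨g, hg, rfl⟩
    have h2 : (c * g' * c⁻¹) * d * (c * g' * c⁻¹)⁻¹ ∈ {w : G | w ∈ D ∧ nbr D d = nbr D w} := by
      rw [(class_core_three hD hd).2]; exact ⟨_, hn3.conj_mem _ hg' c, rfl⟩
    obtain ⟨hvD, hv⟩ := h1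
    obtain ⟨hwD, hw⟩ := h2
    have hwd : (c * g' * c⁻¹) * d * (c * g' * c⁻¹)⁻¹ ≠ d := by
      intro e
      apply hne'
      rw [hc'] at e
      calc g' * d' * g'⁻¹ = c⁻¹ * ((c * g' * c⁻¹) * (c * d' * c⁻¹) * (c * g' * c⁻¹)⁻¹) * c := by group
        _ = d' := by rw [e]; group
    generalize (c * g' * c⁻¹) * d * (c * g' * c⁻¹)⁻¹ = w at hwD hw hwd
    generalize g * d * g⁻¹ = v at hvD hv hne
    have hvn : v ∈ nbr D d := ⟨hvD, hne, ((hv d hd).2 (Commute.refl d)).symm⟩
    have hvw : Commute v w := (hw ▸ hvn : v ∈ nbr D w).2.2.symm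
    exact hwd (eq_or_not_commute hd hd hwD (Or.inl rfl) rfl hw.symm ((hv w hwD).1 hvw)).symm
  have hnot : pCore 2 G ≤ Subgroup.center G → pCore 3 G ≤ Subgroup.center G → layer G ≠ ⊥ := by
    intro h2 h3 hL
    have hF : fittingSubgroup G ≤ Subgroup.center G := Lib.Cores.fittingSubgroup_le_of_pCore_le
      fun q hq => by
        by_cases e2 : q = 2
        · exact e2 ▸ h2
        by_cases e3 : q = 3
        · exact e3 ▸ h3
        exact hp q hq (by have := hq.two_le; omega)
    have hF' : generalizedFittingSubgroup G ≤ Subgroup.center G := by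
      show layer G ⊔ fittingSubgroup G ≤ _
      rw [hL, bot_sup_eq]; exact hF
    obtain ⟨a, ha, b, hb, hab⟩ := hD2
    obtain ⟨g, hg⟩ := hconj a ha b hb
    have hgC : g ∈ Subgroup.center G := hF' (Lib.Components.centralizer_genFitting_le
      (Subgroup.mem_centralizer_iff.2 fun u hu => (Subgroup.mem_center_iff.1 (hF' hu) g).symm))
    exact hab (by rw [hg, ← Subgroup.mem_center_iff.1 hgC a, mul_inv_cancel_right])
  by_cases h2 : pCore 2 G ≤ Subgroup.center G
  · by_cases h3 : pCore 3 G ≤ Subgroup.center G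
    · exact Or.inr (Or.inr ⟨h2, h3, hnot h2 h3⟩)
    · exact Or.inr (Or.inl ⟨h2, h3, layer_eq_bot_of_core_three hD h3⟩)
  · exact Or.inl ⟨h2, hexcl.resolve_left h2, layer_eq_bot_of_core_two hD h2⟩

end Cfsg.Agent.Lib.ThreeTransp
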