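import Cfsg.Agent.Lib.ThreeTransp.LeechFormUnique
import Cfsg.Agent.Lib.ThreeTransp.GolayFixed
import Cfsg.Agent.Lib.ThreeTransp.GolayInvariant

/-!
# Irreducibility of the lattice modulo 2
-/

namespace Cfsg.Agent.Lib.ThreeTransp

open Cfsg
open Cfsg.Agent.Lib.Compute
open Cfsg.Agent.Lib.GolayOrbit (exists_to_baseOctad)
open scoped Pointwise

/-- A subgroup containing all doubles, invariant under the monomial maps and the sextet map. -/
structure InvSub (H : AddSubgroup Lam) : Prop where
  double : ∀ w : Lam, w + w ∈ H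
  perm : ∀ (σ : Equiv.Perm GolayPt) (hσ : σ ∈ M24), ∀ v ∈ H, permMap hσ v ∈ H
  sign : ∀ (c : Finset GolayPt) (hc : c ∈ supports (golayCode : Set (GolayPt → ZMod 2))),
    ∀ v ∈ H, signMap hc v ∈ H
  xi : ∀ v ∈ H, xiMap v ∈ H

theorem support_mem {c : GolayPt → ZMod 2} (hc : c ∈ golayCode) :
    support₂ c ∈ supports (golayCode : Set (GolayPt → ZMod 2)) := ⟨c, hc, rfl⟩

/-- For a word `w` outside the code some code word meets it oddly. -/
theorem exists_odd_meet {w : GolayPt → ZMod 2} (hw : w ∉ golayCode) :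
    ∃ c ∈ golayCode, ∑ i, w i * c i = 1 := by
  by_contra hc
  push Not at hc
  exact hw (mem_code_of_orth fun c hcc => (zmod2_cases _).resolve_right (hc c hcc))

/-- For a code word other than `0, 1` two code words give an odd triple intersection. -/
theorem exists_odd_triple {a : GolayPt → ZMod 2} (ha : a ∈ golayCode) (h0 : a ≠ 0) (h1 : a ≠ 1) :
    ∃ b ∈ golayCode, ∃ c ∈ golayCode, ∑ i, a i * b i * c i = 1 := by
  by_contra hne
  push Not at hne
  let R : Submodule (ZMod 2) (GolayPt → ZMod 2) :=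
    { carrier := {v | v ∈ golayCode ∧ ∀ b ∈ golayCode, v * b ∈ golayCode}
      add_mem' := fun {u v} hu hv => ⟨add_mem hu.1 hv.1, fun b hb => by
        rw [add_mul]; exact add_mem (hu.2 b hb) (hv.2 b hb)⟩
      zero_mem' := ⟨zero_mem _, fun b _ => by rw [zero_mul]; exact zero_mem _⟩
      smul_mem' := fun k v hv => by
        rcases zmod2_cases k with rfl | rfl
        · exact ⟨by simp, fun b hb => by simp⟩
        · simpa using hv }
  have haR : a ∈ R := ⟨ha, fun b hb => mem_code_of_orth fun c hc =>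
    (zmod2_cases _).resolve_right (fun e => hne b hb c hc (by simpa [Pi.mul_apply] using e))⟩
  have hinv : Inv24 R := by
    rintro σ hσ v ⟨hv, hvb⟩
    refine ⟨(mem_M24_iff σ).mp hσ v hv, fun b hb => ?_⟩
    have hb' : (fun p => b (σ p)) ∈ golayCode := (mem_M24_iff σ⁻¹).mp (inv_mem hσ) b hb
    have h := (mem_M24_iff σ).mp hσ _ (hvb _ hb')
    convert h using 1
    funext p
    simp
  obtain ⟨p, q, hpq⟩ : ∃ p q, a p ≠ a q := by
    by_contra hc
    push Not at hc
    rcases zmod2_cases (a none) with e | e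
    · exact h0 (funext fun p => by rw [hc p none, e]; rfl)
    · exact h1 (funext fun p => by rw [hc p none, e]; rfl)
  have hC := golayCode_le_of_invariant hinv haR hpq
  have hb1 : wordOf 0x800c75 ∈ golayCode := wordOf_mem_of_inCode (by decide +kernel)
  have hb2 : wordOf 0x400a4f ∈ golayCode := wordOf_mem_of_inCode (by decide +kernel)
  have hp := (hC hb1).2 _ hb2
  have h4 : hammingNorm (wordOf 0x800c75 * wordOf 0x400a4f) = 4 := by decide +kernel
  rcases hammingNorm_mem_golayCode hp with e | e | e | e | e <;> omega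

namespace InvSub

variable {H : AddSubgroup Lam} (h : InvSub H)
include h

/-- The doubled restriction to a code word. -/
theorem restrict {c : GolayPt → ZMod 2} (hc : c ∈ golayCode) {x : Lam} (hx : x ∈ H) :
    ∃ y ∈ H, ∀ p, (y : GolayPt → ℤ) p = if c p = 1 then 2 * (x : GolayPt → ℤ) p else 0 := by
  refine ⟨x - signMap (support_mem hc) x, sub_mem hx (h.sign _ _ x hx), fun p => ?_⟩
  show (x : GolayPt → ℤ) p - (if p ∈ support₂ c then -(x : GolayPt → ℤ) p else (x : GolayPt → ℤ) p) = _
  rcases zmod2_cases (c p) with e | e <;> simp [mem_support₂, e]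
  ring

theorem eight_eq {y : Lam} {u : GolayPt → ℤ} (hy : ∀ p, (y : GolayPt → ℤ) p = 8 * u p) :
    y - (∑ p, u p) • ff ∈ H := by
  have e : y = ∑ p, u p • vv p p := by
    refine Subtype.ext (funext fun r => ?_)
    rw [AddSubgroup.val_finsetSum, Finset.sum_apply, hy r]
    simp only [AddSubgroup.coe_zsmul, Pi.smul_apply, smul_eq_mul]
    show _ = ∑ p, u p * pairFun p p r
    simp only [pairFun, mul_add, Finset.sum_add_distrib, mul_ite, mul_zero, Finset.sum_ite_eq,
      Finset.mem_univ, if_true]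
    ring
  rw [e, Finset.sum_smul, ← Finset.sum_sub_distrib]
  refine sum_mem fun p _ => ?_
  rw [← zsmul_sub, vv_diag p none]
  refine zsmul_mem ?_ _
  show vv none none + (dd p none + dd p none) - ff ∈ H
  rw [show vv none none = ff from rfl, add_sub_cancel_left]
  exact h.double _

theorem eight_mem (hff : ff ∈ H) {y : Lam} (hy : ∀ p, (8 : ℤ) ∣ (y : GolayPt → ℤ) p) : y ∈ H := by
  choose u hu using hy
  simpa using add_mem (h.eight_eq hu) (zsmul_mem hff (∑ p, u p))

theorem ff_of_eight {y : Lam} (hyH : y ∈ H) {u : GolayPt → ℤ}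
    (hy : ∀ p, (y : GolayPt → ℤ) p = 8 * u p) (hodd : (∑ p, (u p : ZMod 2)) = 1) : ff ∈ H := by
  have h1 : (∑ p, u p) • ff ∈ H := by simpa using sub_mem hyH (h.eight_eq hy)
  rw [← Int.cast_sum, show (1 : ZMod 2) = ((1 : ℤ) : ZMod 2) by simp,
    ZMod.intCast_eq_intCast_iff'] at hodd
  obtain ⟨k, hk⟩ : ∃ k, ∑ p, u p = 2 * k + 1 := ⟨(∑ p, u p) / 2, by omega⟩
  rw [hk, add_smul, one_smul, two_mul, add_smul] at h1
  simpa using sub_mem h1 (h.double (k • ff))

theorem ff_of_four {x : Lam} (hxH : x ∈ H) (hx2 : ∀ w : Lam, x ≠ w + w) {w : GolayPt → ℤ}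
    (hx : ∀ p, (x : GolayPt → ℤ) p = 4 * w p) : ff ∈ H := by
  obtain ⟨m, v, hf, -, hs⟩ := mem_leechLattice_iff.mp x.2
  have hm : ∀ p, m + 2 * v p = 4 * w p := fun p => by rw [← hx p, hf p]
  have hsum : (2 : ℤ) ∣ ∑ p, w p := by
    have e : 4 * ∑ p, w p = 24 * m + 2 * ∑ p, v p := by
      rw [Finset.mul_sum, Finset.mul_sum, ← sum_const_golayPt m, ← Finset.sum_add_distrib]
      exact Finset.sum_congr rfl fun i _ => (hm i).symm
    have h0 := hm none
    simp only [Int.ModEq] at hs
    omega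
  by_cases hw : redTwo w ∈ golayCode
  · by_cases h4 : (4 : ℤ) ∣ ∑ p, w p
    · refine absurd ?_ (hx2 ⟨fun p => 2 * w p, mem_leechLattice_iff.mpr
        ⟨0, w, fun p => by simp, hw, by simp only [Int.ModEq]; omega⟩⟩)
      refine Subtype.ext (funext fun p => ?_)
      show (x : GolayPt → ℤ) p = 2 * w p + 2 * w p
      rw [hx p]; ring
    · let w' : GolayPt → ℤ := fun p => w p + if p = none then 2 else 0
      have hw' : redTwo w' = redTwo w := funext fun p => by
        by_cases hp : p = none <;> simp [redTwo, w', hp, show (2 : ZMod 2) = 0 from rfl]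
      have hs' : ∑ p, w' p = (∑ p, w p) + 2 := by simp [w', Finset.sum_add_distrib]
      set v' : Lam := ⟨fun p => 2 * w' p, mem_leechLattice_iff.mpr
        ⟨0, w', fun p => by simp, hw' ▸ hw, by simp only [Int.ModEq]; omega⟩⟩
      have e : ff = v' + v' - x := by
        refine Subtype.ext (funext fun p => ?_)
        show pairFun none none p = 2 * w' p + 2 * w' p - (x : GolayPt → ℤ) p
        rw [hx p]; simp only [w', pairFun]; split_ifs <;> ring
      rw [e]; exact sub_mem (h.double _) hxH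
  · obtain ⟨c, hc, hcs⟩ := exists_odd_meet hw
    obtain ⟨y, hy, hyp⟩ := h.restrict hc hxH
    refine h.ff_of_eight hy (u := fun p => if c p = 1 then w p else 0) (fun p => ?_) ?_
    · rw [hyp p, hx p]; split_ifs <;> ring
    · refine (Finset.sum_congr rfl fun p _ => ?_).trans hcs
      rcases zmod2_cases (c p) with e | e <;> simp [e, redTwo]

theorem ff_mem {x : Lam} (hxH : x ∈ H) (hx2 : ∀ w : Lam, x ≠ w + w) : ff ∈ H := by
  obtain ⟨m, w, hf, hw, hs⟩ := mem_leechLattice_iff.mp x.2
  have mask : ∀ {b : ℕ}, inCode b = true → wordOf b ∈ golayCode := fun hb => wordOf_mem_of_inCode hb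
  rcases Int.emod_two_eq_zero_or_one m with hm | hm
  · obtain ⟨n, rfl⟩ : (2 : ℤ) ∣ m := Int.dvd_of_emod_eq_zero hm
    let u : GolayPt → ℤ := fun p => n + w p
    have hxu : ∀ p, (x : GolayPt → ℤ) p = 2 * u p := fun p => by rw [hf p]; simp only [u]; ring
    have hu : redTwo u = (n : ZMod 2) • (1 : GolayPt → ZMod 2) + redTwo w := by
      funext p; simp [redTwo, u]
    have huC : redTwo u ∈ golayCode := hu ▸ add_mem (Submodule.smul_mem _ _ one_mem_golayCode) hw
    by_cases h0 : redTwo u = 0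
    · have h4 : ∀ p, (x : GolayPt → ℤ) p = 4 * (u p / 2) := by
        intro p
        have := congrFun h0 p
        simp only [redTwo, Pi.zero_apply, ZMod.intCast_zmod_eq_zero_iff_dvd] at this
        rw [hxu p]; omega
      exact h.ff_of_four hxH hx2 h4
    by_cases h1 : redTwo u = 1
    · let t : Lam := ⟨fun p => if p = none then 5 else 1, mem_leechLattice_iff.mpr
        ⟨1, fun p => if p = none then 2 else 0, fun p => by by_cases hp : p = none <;> simp [hp], by
          have : redTwo (fun p : GolayPt => if p = none then 2 else 0) = 0 := by decide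
          rw [this]; exact zero_mem _, by decide⟩⟩
      refine h.ff_of_four (add_mem hxH (h.double t)) (fun v e => hx2 (v - t) ?_)
        (w := fun p => ((u p + if p = none then 5 else 1) / 2)) (fun p => ?_)
      · have e' : x = v + v - (t + t) := eq_sub_of_add_eq e
        rw [e']; abel
      · show (x : GolayPt → ℤ) p + ((if p = none then 5 else 1) + (if p = none then 5 else 1)) = _
        have := congrFun h1 p
        simp only [redTwo, Pi.one_apply] at this
        rw [show (1 : ZMod 2) = ((1 : ℤ) : ZMod 2) by simp, ZMod.intCast_eq_intCast_iff'] at this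
        rw [hxu p]; split_ifs <;> omega
    obtain ⟨b, hb, c, hc, hbc⟩ := exists_odd_triple huC h0 h1
    obtain ⟨y, hy, hyp⟩ := h.restrict hb hxH
    obtain ⟨z, hz, hzp⟩ := h.restrict hc hy
    refine h.ff_of_eight hz (u := fun p => if c p = 1 then (if b p = 1 then u p else 0) else 0)
      (fun p => ?_) ?_
    · rw [hzp p, hyp p, hxu p]; split_ifs <;> ring
    · refine (Finset.sum_congr rfl fun p _ => ?_).trans hbc
      rcases zmod2_cases (c p) with e | e <;> rcases zmod2_cases (b p) with e' | e' <;>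
        simp [e, e', redTwo]
  · obtain ⟨y, hy, hyp⟩ := h.restrict (mask (b := 0x800c75) (by decide +kernel)) hxH
    obtain ⟨z, hz, hzp⟩ := h.restrict (mask (b := 0x400a4f) (by decide +kernel)) hy
    obtain ⟨s, hs', hsp⟩ := h.restrict (mask (b := 0x1007b4) (by decide +kernel)) hz
    refine h.ff_of_eight hs'
      (u := fun p => if p = enc.symm 2 then (x : GolayPt → ℤ) p else 0) (fun p => ?_) ?_
    · have hmeet : ∀ p : GolayPt, (wordOf 0x800c75 p = 1 ∧ wordOf 0x400a4f p = 1 ∧
          wordOf 0x1007b4 p = 1) ↔ p = enc.symm 2 := by decide +kernel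
      rw [hsp p, hzp p, hyp p]
      by_cases hp : p = enc.symm 2
      · obtain ⟨a1, a2, a3⟩ := (hmeet p).mpr hp
        rw [if_pos a3, if_pos a2, if_pos a1, if_pos hp]; ring
      · have := mt (hmeet p).mp hp
        rw [if_neg hp]
        rcases zmod2_cases (wordOf 0x800c75 p) with a1 | a1 <;>
          rcases zmod2_cases (wordOf 0x400a4f p) with a2 | a2 <;>
          rcases zmod2_cases (wordOf 0x1007b4 p) with a3 | a3 <;>
          first | (simp [a1, a2, a3]; done) | exact absurd ⟨a1, a2, a3⟩ this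
    · rw [← Int.cast_sum, Finset.sum_ite_eq', if_pos (Finset.mem_univ _), hf,
        show (1 : ZMod 2) = ((1 : ℤ) : ZMod 2) by simp, ZMod.intCast_eq_intCast_iff']
      omega

theorem pair_mem (hff : ff ∈ H) (i j : GolayPt) : vv i j ∈ H := by
  have hd : ∀ k : GolayPt, vv k k ∈ H := fun k => by
    rw [vv_diag k none]; exact add_mem hff (h.double _)
  suffices ∃ a b : GolayPt, a ≠ b ∧ vv a b ∈ H by
    obtain ⟨a, b, hab, hv⟩ := this
    by_cases hij : i = j
    · subst hij; exact hd i
    obtain ⟨g1, a1, b1⟩ := exists_smul_two hab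
    obtain ⟨g2, a2, b2⟩ := exists_smul_two hij
    have e1 := h.perm _ (g1 * g2⁻¹).2 _ hv
    set g : Equiv.Perm GolayPt := ((g1 * g2⁻¹ : M24) : Equiv.Perm GolayPt)
    have ea : g i = a := by
      rw [← a1, ← a2]; show ((g1 * g2⁻¹) • (g2 • enc.symm (0 : Fin 24))) = _
      rw [smul_smul, inv_mul_cancel_right]
    have eb : g j = b := by
      rw [← b1, ← b2]; show ((g1 * g2⁻¹) • (g2 • enc.symm (1 : Fin 24))) = _
      rw [smul_smul, inv_mul_cancel_right]
    rwa [← ea, ← eb, perm_vv] at e1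
  have hpat : ∀ p : GolayPt, (4 : ℤ) ∣ xiTwo (pairFun none none) p / 2 ∧
      (¬ (8 : ℤ) ∣ xiTwo (pairFun none none) p / 2 ↔
        p = none ∨ p = enc.symm 5 ∨ p = enc.symm 14 ∨ p = enc.symm 17) := by decide +kernel
  have hxff := h.xi _ hff
  set x := xiMap ff with hx
  have ha : enc.symm (5 : Fin 24) ≠ enc.symm 0 := by decide +kernel
  obtain ⟨σ, hσ, hσa, hσb, hσS⟩ := exists_swap ha
    ({none, enc.symm 14, enc.symm 17} : Finset GolayPt) (by decide +kernel) (by decide +kernel)
    (Finset.card_le_three)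
  refine ⟨enc.symm 5, enc.symm 0, ha, ?_⟩
  have hmem := sub_mem (sub_mem (h.perm σ hσ x hxff) hxff)
    (h.eight_mem hff (y := permMap hσ x - x - vv (enc.symm 5) (enc.symm 0)) ?_)
  · simpa using hmem
  intro p
  show (8 : ℤ) ∣ xiTwo (pairFun none none) (σ p) / 2 - xiTwo (pairFun none none) p / 2
    - pairFun (enc.symm 5) (enc.symm 0) p
  obtain ⟨h4a, h8a⟩ := hpat (σ p)
  obtain ⟨h4b, h8b⟩ := hpat p
  have hin : ∀ {y : GolayPt}, y ∈ ({none, enc.symm 14, enc.symm 17} : Finset GolayPt) → σ p = y → p = y :=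
    fun {y} hy e => σ.injective (e.trans (hσS y hy).symm)
  have f0 : enc.symm (0 : Fin 24) ≠ none ∧ enc.symm (0 : Fin 24) ≠ enc.symm 14 ∧
      enc.symm (0 : Fin 24) ≠ enc.symm 17 ∧ enc.symm (5 : Fin 24) ≠ none ∧
      enc.symm (5 : Fin 24) ≠ enc.symm 14 ∧ enc.symm (5 : Fin 24) ≠ enc.symm 17 := by decide +kernel
  obtain ⟨f1, f2, f3, f4, f5, f6⟩ := f0
  simp only [pairFun]
  by_cases hp5 : p = enc.symm 5
  · subst hp5
    rw [hσa] at h4a h8a ⊢
    have n1 : ¬ ¬ (8 : ℤ) ∣ xiTwo (pairFun none none) (enc.symm 0) / 2 := fun e => by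
      rcases h8a.mp e with e | e | e | e
      exacts [f1 e, ha e.symm, f2 e, f3 e]
    have n2 := h8b.mpr (Or.inr (Or.inl rfl))
    rw [if_pos rfl, if_neg ha]
    have n1' := not_not.mp n1
    omega
  by_cases hp0 : p = enc.symm 0
  · subst hp0
    rw [hσb] at h4a h8a ⊢
    have n2 : (8 : ℤ) ∣ xiTwo (pairFun none none) (enc.symm 0) / 2 := not_not.mp fun e => by
      rcases h8b.mp e with e | e | e | e
      exacts [f1 e, ha e.symm, f2 e, f3 e]
    have n1 := h8a.mpr (Or.inr (Or.inl rfl))
    rw [if_pos rfl, if_neg ha.symm]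
    omega
  rw [if_neg hp5, if_neg hp0]
  by_cases hT : p = none ∨ p = enc.symm 14 ∨ p = enc.symm 17
  · have : σ p = p := hσS p (by simpa using hT)
    rw [this]; simp
  · have n2 : (8 : ℤ) ∣ xiTwo (pairFun none none) p / 2 := not_not.mp fun e => by
      rcases h8b.mp e with e | e | e | e
      exacts [hT (Or.inl e), hp5 e, hT (Or.inr (Or.inl e)), hT (Or.inr (Or.inr e))]
    have n1 : (8 : ℤ) ∣ xiTwo (pairFun none none) (σ p) / 2 := not_not.mp fun e => by
      rcases h8a.mp e with e | e | e | e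
      · exact hT (Or.inl (hin (by simp) e))
      · exact hp0 (σ.injective (e.trans hσb.symm))
      · exact hT (Or.inr (Or.inl (hin (by simp) e)))
      · exact hT (Or.inr (Or.inr (hin (by simp) e)))
    omega

theorem oct_mem (hff : ff ∈ H) {O : Finset GolayPt} (hO : O ∈ octads) : twoInd O ∈ H := by
  have hs : setOf24 sexOct ∈ octads := setOf24_mem_octads (by decide +kernel) (by decide +kernel)
  set V := vv (enc.symm 6) (enc.symm 8)
  have e : twoInd (setOf24 sexOct) = xiMap V + V := by
    refine Subtype.ext (funext fun p => ?_)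
    show (twoInd (setOf24 sexOct) : GolayPt → ℤ) p
      = xiTwo (pairFun (enc.symm 6) (enc.symm 8)) p / 2 + pairFun (enc.symm 6) (enc.symm 8) p
    rw [xi_pair_identity, twoInd_apply hs]
    simp only []
    split_ifs <;> omega
  have hsH : twoInd (setOf24 sexOct) ∈ H := by
    rw [e]; exact add_mem (h.xi _ (h.pair_mem hff _ _)) (h.pair_mem hff _ _)
  obtain ⟨g, hg, he⟩ := exists_to_baseOctad hO
  obtain ⟨g', hg', he'⟩ := exists_to_baseOctad hs
  have e2 : (g'⁻¹ * g) • O = setOf24 sexOct := by rw [mul_smul, he, ← he', inv_smul_smul]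
  rw [← perm_twoInd (mul_mem (inv_mem hg') hg) hO, e2]
  exact h.perm _ _ _ hsH

/-- The lattice modulo 2 is irreducible. -/
theorem eq_top {x : Lam} (hxH : x ∈ H) (hx2 : ∀ w : Lam, x ≠ w + w) : H = ⊤ := by
  have hff := h.ff_mem hxH hx2
  set o : Lam := ⟨oddVec, oddVec_mem⟩
  have hgen : ∀ v : Lam, (v : GolayPt → ℤ) none • oddVec ∈ H.map leechLattice.subtype → v ∈ H := by
    intro v hv
    obtain ⟨y, hy, e⟩ := leech_mem (H := H.map leechLattice.subtype)
      (fun i => ⟨vv i none, h.pair_mem hff _ _, rfl⟩)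
      (fun b hb => by
        obtain ⟨hc, h8⟩ := basis_octads b hb
        exact ⟨twoInd (setOf24 b.1), h.oct_mem hff (setOf24_mem_octads hc h8),
          twoInd_apply (setOf24_mem_octads hc h8)⟩) v.2 hv
    rwa [show v = y from Subtype.ext e.symm]
  have hsupp : setOf24 oddOct ∈ supports (golayCode : Set (GolayPt → ZMod 2)) :=
    ⟨wordOf oddOct, wordOf_mem_of_inCode (by decide +kernel), support₂_wordOf _⟩
  have heven : xiMap (signMap hsupp o) ∈ H := by
    refine hgen _ ?_
    obtain ⟨k, hk⟩ : (2 : ℤ) ∣ (xiMap (signMap hsupp o) : GolayPt → ℤ) none := xi_odd_even none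
    refine ⟨k • o + k • o, h.double _, funext fun p => ?_⟩
    show k * oddVec p + k * oddVec p = (xiMap (signMap hsupp o) : GolayPt → ℤ) none * oddVec p
    rw [hk]; ring
  have ho' : signMap hsupp o ∈ H := by simpa [xiMap_xiMap] using h.xi _ heven
  have ho : o ∈ H := by
    have := h.sign _ hsupp _ ho'
    have e : signMap hsupp (signMap hsupp o) = o := Subtype.ext (funext fun i => by
      by_cases hi : i ∈ setOf24 oddOct <;> simp [signMap, hi])
    rwa [e] at this
  exact (AddSubgroup.eq_top_iff' H).mpr fun v => hgen v ⟨_, zsmul_mem ho _, rfl⟩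

end InvSub

end Cfsg.Agent.Lib.ThreeTransp
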