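import Cfsg.Agent.Lib.Compute.GolayFacts
import Cfsg.Agent.Lib.Compute.Leech

/-!
# Negation as the square of a lattice automorphism
-/

namespace Cfsg.Agent.Lib.ThreeTransp

open Cfsg
open Cfsg.Agent.Lib.Compute

theorem projInv_mem_M24' : projInv ∈ M24 :=
  mem_M24_of_app
    (P := 0x1000c00080006000e0004000a00030012000700150002001000050014000d001300090011000f000b00160017)
    (by decide +kernel) (by decide +kernel)

/-- The sign set of the square root of negation. -/
def signSet : Finset GolayPt := setOf24 0xbc069e

theorem signSet_mem : signSet ∈ supports (golayCode : Set (GolayPt → ZMod 2)) :=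
  ⟨wordOf 0xbc069e, wordOf_mem_of_inCode (by decide +kernel), support₂_wordOf _⟩

theorem signSet_swap : ∀ i, (projInv i ∈ signSet ↔ i ∉ signSet) ∧ projInv (projInv i) = i := by
  decide +kernel

/-- Permute the coordinates by `x ↦ -1/x`, then change signs on `signSet`. -/
def rootFun (x : GolayPt → ℤ) : GolayPt → ℤ :=
  fun i => if i ∈ signSet then -x (projInv i) else x (projInv i)

theorem rootFun_mem {x : GolayPt → ℤ} (hx : x ∈ leechLattice) : rootFun x ∈ leechLattice :=
  sign_mem_leechLattice signSet_mem (perm_mem_leechLattice projInv_mem_M24' hx)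

theorem rootFun_rootFun (x : GolayPt → ℤ) : rootFun (rootFun x) = -x := by
  funext i
  obtain ⟨h1, h2⟩ := signSet_swap i
  by_cases h : i ∈ signSet <;> simp [rootFun, h, h1, h2]

theorem rootFun_add (x y : GolayPt → ℤ) : rootFun (x + y) = rootFun x + rootFun y := by
  funext i
  by_cases h : i ∈ signSet <;> simp [rootFun, h, add_comm]

theorem sqNorm_rootFun (x : GolayPt → ℤ) : sqNorm (rootFun x) = sqNorm x := by
  simp only [sqNorm]
  rw [← Equiv.sum_comp projInv (fun i => x i ^ 2)]
  exact Finset.sum_congr rfl fun i _ => by by_cases h : i ∈ signSet <;> simp [rootFun, h]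

/-- The square root of negation as a permutation of the lattice. -/
def rootEquiv : Equiv.Perm leechLattice where
  toFun v := ⟨rootFun v, rootFun_mem v.2⟩
  invFun v := ⟨-rootFun v, neg_mem (rootFun_mem v.2)⟩
  left_inv v := Subtype.ext (by simp [rootFun_rootFun])
  right_inv v := Subtype.ext (by
    show rootFun (-rootFun v) = v
    have : rootFun (-rootFun v) = -rootFun (rootFun v) := by
      funext i
      by_cases h : i ∈ signSet <;> simp [rootFun, h]
    rw [this, rootFun_rootFun, neg_neg])

theorem rootEquiv_mem : rootEquiv ∈ Co0 :=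
  ⟨fun v w => Subtype.ext (rootFun_add v w), fun v => sqNorm_rootFun v⟩

end Cfsg.Agent.Lib.ThreeTransp
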