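import Cfsg.Prelude.Def_SporadicB
import Cfsg.Agent.Lib.ThreeTransp.CoxeterFive
import Cfsg.Agent.Lib.LocalEven.PCore

/-!
Conjugation-invariant sets of 3-transpositions in which the neighbours of every member in the
commuting graph generate a symmetric group of degree three.
-/

set_option autoImplicit false

namespace Cfsg.Agent.Lib.ThreeTransp.LocalThree

open Cfsg
open scoped Pointwise

variable {G : Type*} [Group G]

/-- The neighbours in the commuting graph. -/
def nbr (D : Set G) (d : G) : Set G := {y | y ∈ D ∧ y ≠ d ∧ Commute d y}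

/-- The hypotheses. -/
structure Setting (D : Set G) : Prop where
  set : IsThreeTranspositionSet D
  conj : ∀ g : G, ∀ d ∈ D, g * d * g⁻¹ ∈ D
  loc : ∀ d ∈ D, Nonempty (↥(Subgroup.closure (nbr D d)) ≃* Equiv.Perm (Fin 3))
  core : ∀ d ∈ D, Nat.card (Cfsg.pCore 3 ↥(Subgroup.centralizer ({d} : Set G))) = 3

theorem closure_pair_eq {S : Set G} {p q : G} (h : S = {p, q, p * q * p}) :
    Subgroup.closure S = Subgroup.closure {p, q} := by
  refine le_antisymm ((Subgroup.closure_le _).2 ?_) (Subgroup.closure_mono ?_)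
  · have hp : p ∈ Subgroup.closure ({p, q} : Set G) := Subgroup.subset_closure (by simp)
    have hq : q ∈ Subgroup.closure ({p, q} : Set G) := Subgroup.subset_closure (by simp)
    rw [h]
    rintro _ (rfl | rfl | rfl)
    exacts [hp, hq, Subgroup.mul_mem _ (Subgroup.mul_mem _ hp hq) hp]
  · rw [h]; rintro _ (rfl | rfl) <;> simp

set_option synthInstance.maxSize 2048 in
set_option synthInstance.maxHeartbeats 200000 in
theorem perm_three_key : ∀ σ τ υ : Equiv.Perm (Fin 3), σ * σ = 1 → σ ≠ 1 → τ * τ = 1 → τ ≠ 1 → υ * υ = 1 → υ ≠ 1 →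
      σ ≠ τ → σ * τ ≠ τ * σ ∧ (υ = σ ∨ υ = τ ∨ υ = σ * τ * σ) := by decide

variable {D : Set G} (hS : Setting D)
include hS

theorem inv_mul_self {d : G} (hd : d ∈ D) : d * d = 1 := by
  rw [← pow_two, ← hS.set.1 d hd, pow_orderOf_eq_one]

theorem inv_eq {d : G} (hd : d ∈ D) : d⁻¹ = d := inv_eq_of_mul_eq_one_right (inv_mul_self hS hd)

theorem conj_mem {g d : G} (hg : g ∈ D) (hd : d ∈ D) : g * d * g ∈ D := by
  have := hS.conj g d hd; rwa [inv_eq hS hg] at this

theorem braid {a b : G} (ha : a ∈ D) (hb : b ∈ D) (h : ¬ Commute a b) :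
    a * (b * a) = b * (a * b) := by
  rcases hS.set.2 a ha b hb with e | e
  · exact absurd (show a * b = b * a by
      rw [pow_two] at e
      calc a * b = (a * b)⁻¹ := (inv_eq_of_mul_eq_one_right e).symm
        _ = b * a := by rw [mul_inv_rev, inv_eq hS ha, inv_eq hS hb]) h
  · rw [pow_succ, pow_two] at e
    have h2 := eq_inv_of_mul_eq_one_left e
    simp only [mul_inv_rev, inv_eq hS ha, inv_eq hS hb] at h2
    calc a * (b * a) = a * b * (a * b) * b := by rw [mul_assoc, mul_assoc, mul_assoc, inv_mul_self hS hb, mul_one]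
      _ = b * a * b := by rw [h2]
      _ = b * (a * b) := mul_assoc _ _ _

theorem ne_of_not_commute {a b : G} (h : ¬ Commute a b) : a ≠ b := fun e => h (e ▸ Commute.refl a)

theorem third_ne {a b : G} (ha : a ∈ D) (hb : b ∈ D) (h : ¬ Commute a b) :
    a * b * a ≠ a ∧ a * b * a ≠ b ∧ ¬ Commute (a * b * a) a ∧ ¬ Commute (a * b * a) b := by
  have hne := ne_of_not_commute hS h
  have h1 : ¬ Commute (a * b * a) a := fun e => h (by
    have e' : a * b * a * a = a * (a * b * a) := e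
    rw [mul_assoc (a * b), inv_mul_self hS ha, mul_one, ← mul_assoc, ← mul_assoc, inv_mul_self hS ha, one_mul] at e'
    exact e')
  have h2 : ¬ Commute (a * b * a) b := fun e => h (by
    have hb' := braid hS ha hb h
    rw [mul_assoc] at e
    rw [hb'] at e
    have e' : b * (a * b) * b = b * (b * (a * b)) := e
    rw [mul_assoc b, mul_assoc a, inv_mul_self hS hb, mul_one, ← mul_assoc b b, inv_mul_self hS hb, one_mul] at e'
    exact e'.symm)
  exact ⟨fun e => h1 (by rw [e]), fun e => h2 (by rw [e]), h1, h2⟩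

theorem nbr_symm {a b : G} (ha : a ∈ D) (hb : b ∈ nbr D a) : a ∈ nbr D b := ⟨ha, hb.2.1.symm, hb.2.2.symm⟩

theorem conj_nbr {g a y : G} (hy : y ∈ nbr D a) :
    g * y * g⁻¹ ∈ nbr D (g * a * g⁻¹) := by
  refine ⟨hS.conj g y hy.1, fun e => hy.2.1 (mul_left_cancel (mul_right_cancel e)), ?_⟩
  show g * a * g⁻¹ * (g * y * g⁻¹) = g * y * g⁻¹ * (g * a * g⁻¹)
  calc g * a * g⁻¹ * (g * y * g⁻¹) = g * (a * y) * g⁻¹ := by group
    _ = g * (y * a) * g⁻¹ := by rw [hy.2.2.eq]
    _ = _ := by group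

/-- The neighbourhood of a member consists of three members. -/
theorem nbr_struct [Finite G] {d : G} (hd : d ∈ D) :
    ∃ p q, p ∈ nbr D d ∧ q ∈ nbr D d ∧ ¬ Commute p q ∧ nbr D d = {p, q, p * q * p} := by
  classical
  obtain ⟨e⟩ := hS.loc d hd
  set K := Subgroup.closure (nbr D d) with hK
  have hcardK : Nat.card K = 6 := by
    rw [Nat.card_congr e.toEquiv, Nat.card_perm, Nat.card_fin]; rfl
  let ι : ∀ y ∈ nbr D d, K := fun y hy => ⟨y, Subgroup.subset_closure hy⟩
  have hsq : ∀ y (hy : y ∈ nbr D d), e (ι y hy) * e (ι y hy) = 1 := fun y hy => by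
    rw [← map_mul, show ι y hy * ι y hy = 1 from Subtype.ext (inv_mul_self hS hy.1), map_one]
  have hne1 : ∀ y (hy : y ∈ nbr D d), e (ι y hy) ≠ 1 := fun y hy h => by
    rw [MulEquiv.map_eq_one_iff] at h
    have h' : y = 1 := congrArg Subtype.val h
    have := hS.set.1 y hy.1
    rw [h', orderOf_one] at this
    omega
  have key := perm_three_key
  have htwo : ∃ p ∈ nbr D d, ∃ q ∈ nbr D d, p ≠ q := by
    by_contra hno
    push Not at hno
    have hle : ∃ p : G, Subgroup.closure (nbr D d) ≤ Subgroup.zpowers p ∧ orderOf p ≤ 2 := by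
      by_cases h : ∃ p, p ∈ nbr D d
      · obtain ⟨p, hp⟩ := h
        refine ⟨p, (Subgroup.closure_le _).2 fun y hy => ?_, (hS.set.1 p hp.1).le⟩
        rw [hno y hy p hp]; exact Subgroup.mem_zpowers p
      · push Not at h
        exact ⟨1, (Subgroup.closure_le _).2 fun y hy => absurd hy (h y), by simp⟩
    obtain ⟨p, hp, hp2⟩ := hle
    have h1 := Subgroup.card_le_of_le hp
    rw [Nat.card_zpowers, ← hK, hcardK] at h1
    omega
  obtain ⟨p, hp, q, hq, hpq⟩ := htwo
  have hne : e (ι p hp) ≠ e (ι q hq) := fun h => hpq (congrArg Subtype.val (e.injective h))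
  have hnc : ¬ Commute p q := fun h =>
    (key _ _ _ (hsq p hp) (hne1 p hp) (hsq q hq) (hne1 q hq) (hsq p hp) (hne1 p hp) hne).1 (by
      rw [← map_mul, ← map_mul]; exact congrArg e (Subtype.ext h.eq))
  have hmem : p * q * p ∈ nbr D d := by
    refine ⟨conj_mem hS hp.1 hq.1, fun h => hq.2.1 ?_, (hp.2.2.mul_right hq.2.2).mul_right hp.2.2⟩
    have hpd : p * d * p = d := by
      rw [← hp.2.2.eq, mul_assoc, inv_mul_self hS hp.1, mul_one]
    calc q = p * (p * q * p) * p := by
          rw [← mul_assoc, ← mul_assoc, inv_mul_self hS hp.1, one_mul, mul_assoc, inv_mul_self hS hp.1, mul_one]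
      _ = d := by rw [h, hpd]
  refine ⟨p, q, hp, hq, hnc, Set.Subset.antisymm (fun y hy => ?_) ?_⟩
  · rcases (key _ _ _ (hsq p hp) (hne1 p hp) (hsq q hq) (hne1 q hq) (hsq y hy) (hne1 y hy) hne).2 with h | h | h
    · exact Or.inl (congrArg Subtype.val (e.injective h))
    · exact Or.inr (Or.inl (congrArg Subtype.val (e.injective h)))
    · rw [← map_mul, ← map_mul] at h
      exact Or.inr (Or.inr (congrArg Subtype.val (e.injective h)))
  · rintro _ (rfl | rfl | rfl)
    exacts [hp, hq, hmem]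

theorem ncard_nbr [Finite G] {d : G} (hd : d ∈ D) : (nbr D d).ncard = 3 := by
  obtain ⟨p, q, hp, hq, hnc, e⟩ := nbr_struct hS hd
  obtain ⟨h1, h2, -, -⟩ := third_ne hS hp.1 hq.1 hnc
  rw [e, Set.ncard_insert_of_notMem (by simp [ne_of_not_commute hS hnc, h1.symm]), Set.ncard_pair h2.symm]

theorem nbr_not_commute [Finite G] {d y z : G} (hd : d ∈ D) (hy : y ∈ nbr D d) (hz : z ∈ nbr D d)
    (hne : y ≠ z) : ¬ Commute y z := by
  obtain ⟨p, q, hp, hq, hnc, e⟩ := nbr_struct hS hd
  obtain ⟨-, -, h3, h4⟩ := third_ne hS hp.1 hq.1 hnc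
  rw [e] at hy hz
  rcases hy with rfl | rfl | rfl <;> rcases hz with rfl | rfl | rfl
  all_goals first
    | exact absurd rfl hne
    | exact hnc
    | exact fun h => hnc h.symm
    | exact h3
    | exact h4
    | exact fun h => h3 h.symm
    | exact fun h => h4 h.symm

theorem nbr_eq [Finite G] {d y z : G} (hd : d ∈ D) (hy : y ∈ nbr D d) (hz : z ∈ nbr D d)
    (hne : y ≠ z) : nbr D d = {y, z, y * z * y} := by
  have hnc := nbr_not_commute hS hd hy hz hne
  obtain ⟨h1, h2, -, -⟩ := third_ne hS hy.1 hz.1 hnc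
  have hcd : Commute d (y * z * y) := (hy.2.2.mul_right hz.2.2).mul_right hy.2.2
  have hmem : y * z * y ∈ nbr D d := by
    refine ⟨conj_mem hS hy.1 hz.1, fun h => hz.2.1 ?_, hcd⟩
    calc z = y * (y * z * y) * y := by
          rw [← mul_assoc, ← mul_assoc, inv_mul_self hS hy.1, one_mul, mul_assoc, inv_mul_self hS hy.1, mul_one]
      _ = d := by rw [h, ← hy.2.2.eq, mul_assoc, inv_mul_self hS hy.1, mul_one]
  refine (Set.eq_of_subset_of_ncard_le ?_ ?_).symm
  · rintro _ (rfl | rfl | rfl)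
    exacts [hy, hz, hmem]
  · rw [ncard_nbr hS hd, Set.ncard_insert_of_notMem (by simp [hne, h1.symm]), Set.ncard_pair h2.symm]

/-- A member outside is moved by a product of two commuting members into its neighbourhood. -/
theorem edge_nbr {a b x : G} (ha : a ∈ D) (hb : b ∈ D) (hx : x ∈ D) (hab : Commute a b) (hne : a ≠ b)
    (hxa : ¬ Commute x a) (hxb : ¬ Commute x b) : a * b * x * (a * b)⁻¹ ∈ nbr D x := by
  have h1 := braid hS hx ha hxa
  have h2 := braid hS hx hb hxb
  have e : a * b * x * (a * b)⁻¹ = a * (b * (x * (b * a))) := by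
    rw [mul_inv_rev, inv_eq hS ha, inv_eq hS hb]; simp only [mul_assoc]
  have haX : ∀ r, a * (a * r) = r := fun r => by rw [← mul_assoc, inv_mul_self hS ha, one_mul]
  have hxX : ∀ r, x * (x * r) = r := fun r => by rw [← mul_assoc, inv_mul_self hS hx, one_mul]
  refine ⟨hS.conj _ x hx, fun h => ?_, ?_⟩
  · rw [e] at h
    apply hne
    have h3 : b * (x * b) = a * (x * a) := by
      calc b * (x * b) = a * (a * (b * (x * (b * a)))) * a := by
            rw [haX]; simp only [mul_assoc]; rw [inv_mul_self hS ha, mul_one]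
        _ = a * (x * a) := by rw [h, mul_assoc]
    rw [← h1, ← h2] at h3
    exact (mul_right_cancel (mul_left_cancel h3)).symm
  · rw [e]
    have hu : x * (a * (b * (x * (b * a)))) * x = a * (b * (x * (b * a))) := by
      calc x * (a * (b * (x * (b * a)))) * x = x * a * (b * (x * b)) * (a * x) := by simp only [mul_assoc]
        _ = x * a * (x * (b * x)) * (a * x) := by rw [h2]
        _ = x * (a * x) * b * (x * (a * x)) := by simp only [mul_assoc]
        _ = a * (x * a) * b * (a * (x * a)) := by rw [h1]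
        _ = a * x * (a * b * a) * (x * a) := by simp only [mul_assoc]
        _ = a * x * b * (x * a) := by rw [hab.eq, mul_assoc b a a, inv_mul_self hS ha, mul_one]
        _ = a * (x * (b * x)) * a := by simp only [mul_assoc]
        _ = a * (b * (x * (b * a))) := by rw [h2]; simp only [mul_assoc]
    show x * _ = _ * x
    conv_lhs => rw [← hu]
    simp only [mul_assoc]
    rw [hxX]

/-- The product of two noncommuting members commutes with no member not commuting with one of them. -/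
theorem no_fix {b b' y : G} (hb : b ∈ D) (hb' : b' ∈ D) (hy : y ∈ D) (hnc : ¬ Commute b b')
    (hyb : ¬ Commute y b) : ¬ Commute (b * b') y := by
  intro hc
  have hbb : ∀ r, b * (b * r) = r := fun r => by rw [← mul_assoc, inv_mul_self hS hb, one_mul]
  -- `b` is conjugate to `y` by `y b`
  have hbc : b = y * b * y * (y * b)⁻¹ := by
    have h := braid hS hy hb hyb
    rw [mul_inv_rev, inv_eq hS hy, inv_eq hS hb]
    calc b = b * (y * b) * (b * y) := by
          simp only [mul_assoc]; rw [hbb, inv_mul_self hS hy, mul_one]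
      _ = y * (b * y) * (b * y) := by rw [h]
      _ = y * b * y * (b * y) := by simp only [mul_assoc]
  set r := b * b' with hr
  have hbr : b * r * b = r⁻¹ := by
    rw [hr, mul_inv_rev, inv_eq hS hb, inv_eq hS hb']
    rw [← mul_assoc b b b', inv_mul_self hS hb, one_mul]
  have hyr : y * r * y = r := by
    rw [← hc.eq, mul_assoc, inv_mul_self hS hy, mul_one]
  have hw : y * b * r * (y * b)⁻¹ = r⁻¹ := by
    rw [mul_inv_rev, inv_eq hS hy, inv_eq hS hb]
    calc y * b * r * (b * y) = y * (b * r * b) * y := by simp only [mul_assoc]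
      _ = y * r⁻¹ * y := by rw [hbr]
      _ = (y * r * y)⁻¹ := by simp only [mul_inv_rev, inv_eq hS hy, mul_assoc]
      _ = r⁻¹ := by rw [hyr]
  have hbr' : b * r⁻¹ * b = r⁻¹ := by
    have h : Commute (y * b * y * (y * b)⁻¹) (y * b * r * (y * b)⁻¹) := by
      show _ = _
      calc y * b * y * (y * b)⁻¹ * (y * b * r * (y * b)⁻¹) = y * b * (y * r) * (y * b)⁻¹ := by group
        _ = y * b * (r * y) * (y * b)⁻¹ := by rw [hc.eq]
        _ = _ := by group
    rw [← hbc, hw] at h
    rw [h.eq, mul_assoc, inv_mul_self hS hb, mul_one]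
  apply hnc
  have h1 : b * r * b = r := by
    have := congrArg (·⁻¹) hbr'
    simpa only [mul_inv_rev, inv_inv, inv_eq hS hb, mul_assoc] using this
  show b * b' = b' * b
  have h2 : r = r⁻¹ := h1.symm.trans hbr
  rw [hr, mul_inv_rev, inv_eq hS hb, inv_eq hS hb'] at h2
  exact h2

/-- Two edges at a vertex send an outside member to different neighbours. -/
theorem same_edge_false [Finite G] {P Q Q' x : G} (hP : P ∈ D) (hQ : Q ∈ nbr D P) (hQ' : Q' ∈ nbr D P)
    (hne : Q ≠ Q') (hx : x ∈ D) (hxQ : ¬ Commute x Q)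
    (e : P * Q * x * (P * Q)⁻¹ = P * Q' * x * (P * Q')⁻¹) : False := by
  have e' : Q * x * Q⁻¹ = Q' * x * Q'⁻¹ := by
    rw [mul_inv_rev, mul_inv_rev] at e
    simp only [← mul_assoc] at e
    have e1 := mul_right_cancel e
    simp only [mul_assoc] at e1
    simpa only [mul_assoc] using mul_left_cancel e1
  refine no_fix hS hQ.1 hQ'.1 hx (nbr_not_commute hS hP hQ hQ' hne) hxQ ?_
  rw [inv_eq hS hQ.1, inv_eq hS hQ'.1] at e'
  show Q * Q' * x = x * (Q * Q')
  calc Q * Q' * x = Q * (Q' * x * Q') * Q' := by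
        simp only [mul_assoc]; rw [inv_mul_self hS hQ'.1, mul_one]
    _ = Q * (Q * x * Q) * Q' := by rw [e']
    _ = x * (Q * Q') := by
        simp only [← mul_assoc]; rw [inv_mul_self hS hQ.1, one_mul]

open Equiv in
/-- No square in the commuting graph: the symmetric group of degree five. -/
theorem petersen_case [Finite G] (hne : D.Nonempty)
    (hsq : ∀ a a' b b', a ∈ D → a' ∈ D → a ≠ a' → b ≠ b' → b ∈ nbr D a → b' ∈ nbr D a →
      b ∈ nbr D a' → b' ∈ nbr D a' → False) :
    Nonempty (↥(Subgroup.closure D) ≃* Perm (Fin 5)) := by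
  classical
  obtain ⟨a, ha⟩ := hne
  obtain ⟨b₀, b₁, h0, h1, hb01, -⟩ := nbr_struct hS ha
  obtain ⟨d, hd, hda⟩ : ∃ d ∈ nbr D b₁, d ≠ a :=
    Set.exists_ne_of_one_lt_ncard (by rw [ncard_nbr hS h1.1]; norm_num) a
  have had : ¬ Commute a d := nbr_not_commute hS h1.1 (nbr_symm hS ha h1) hd hda.symm
  have hdb0 : ¬ Commute d b₀ := by
    intro h
    have hdne : d ≠ b₀ := fun e => hb01 (e ▸ hd.2.2.symm)
    have hd1 : d ∈ D := hd.1
    exact hsq a d b₀ b₁ ha hd1 hda.symm (ne_of_not_commute hS hb01) h0 h1 ⟨h0.1, hdne.symm, h⟩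
      (nbr_symm hS h1.1 hd)
  have hcox : CoxFive (![a, d, b₀, b₁] : Fin 4 → G) := by
    refine ⟨fun i => ?_, ?_, ?_, ?_, h0.2.2.symm.eq, h1.2.2.symm.eq, hd.2.2.eq⟩
    · fin_cases i
      exacts [inv_mul_self hS ha, inv_mul_self hS hd.1, inv_mul_self hS h0.1, inv_mul_self hS h1.1]
    · exact (braid hS ha hd.1 had).symm
    · exact (braid hS hd.1 h0.1 hdb0).symm
    · exact (braid hS h0.1 h1.1 hb01).symm
  obtain ⟨φ, hφ⟩ := s5Hom_exists hcox
  have hφ0 : φ (swap 0 1) = a := hφ 0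
  have hφ1 : φ (swap 1 2) = d := hφ 1
  have hinj := s5Hom_injective φ (by rw [hφ0, hφ1]; exact hda.symm)
  let T : Fin 5 → Fin 5 → G := fun i j => φ (swap i j)
  have hTmem : ∀ i j, i ≠ j → T i j ∈ D := by
    intro i j hij
    obtain ⟨σ, hσ⟩ := isConj_iff.1 (Perm.isConj_swap (show (0 : Fin 5) ≠ 1 by decide) hij)
    show φ (swap i j) ∈ D
    rw [← hσ, map_mul, map_mul, map_inv, hφ0]
    exact hS.conj _ a ha
  have hdisj : ∀ i j k l : Fin 5, i ≠ j → k ≠ l → i ≠ k → i ≠ l → j ≠ k → j ≠ l →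
      T k l ∈ nbr D (T i j) := by
    intro i j k l hij hkl h1 h2 h3 h4
    refine ⟨hTmem k l hkl, fun h => ?_, ?_⟩
    · have h5 := Equiv.congr_fun (hinj h) i
      rw [swap_apply_left, swap_apply_of_ne_of_ne h1 h2] at h5
      exact hij h5
    · show φ (swap i j) * φ (swap k l) = φ (swap k l) * φ (swap i j)
      rw [← map_mul, ← map_mul]
      exact congrArg φ (Perm.Disjoint.commute (fun x => by
        by_cases hx : x = i ∨ x = j
        · rcases hx with rfl | rfl
          · exact Or.inr (swap_apply_of_ne_of_ne h1 h2)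
          · exact Or.inr (swap_apply_of_ne_of_ne h3 h4)
        · push Not at hx
          exact Or.inl (swap_apply_of_ne_of_ne hx.1 hx.2))).eq
  have hthree : ∀ i j : Fin 5, i ≠ j → ∃ k l m, k ≠ l ∧ k ≠ m ∧ l ≠ m ∧
      i ≠ k ∧ i ≠ l ∧ i ≠ m ∧ j ≠ k ∧ j ≠ l ∧ j ≠ m := by decide
  have hnbrT : ∀ i j, i ≠ j → ∀ y ∈ nbr D (T i j), ∃ k l, k ≠ l ∧ T k l = y := by
    intro i j hij y hy
    obtain ⟨k, l, m, hkl, hkm, hlm, hik, hil, him, hjk, hjl, hjm⟩ := hthree i j hij
    have hne : T k l ≠ T k m := fun h => by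
      have h5 := Equiv.congr_fun (hinj h) k
      rw [swap_apply_left, swap_apply_left] at h5
      exact hlm h5
    have hn := nbr_eq hS (hTmem i j hij) (hdisj i j k l hij hkl hik hil hjk hjl)
      (hdisj i j k m hij hkm hik him hjk hjm) hne
    rw [hn] at hy
    rcases hy with rfl | rfl | rfl
    · exact ⟨k, l, hkl, rfl⟩
    · exact ⟨k, m, hkm, rfl⟩
    · refine ⟨l, m, hlm, ?_⟩
      show φ (swap l m) = φ (swap k l) * φ (swap k m) * φ (swap k l)
      rw [← map_mul, ← map_mul]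
      congr 1
      have h6 := swap_apply_apply (swap k l) k m
      rw [swap_apply_left, swap_apply_of_ne_of_ne hkm.symm hlm.symm, swap_inv] at h6
      exact h6
  have hall : ∀ x ∈ D, ∃ i j, i ≠ j ∧ T i j = x := by
    by_contra hno
    push Not at hno
    obtain ⟨x, hx, hxT⟩ := hno
    have hnc : ∀ i j, i ≠ j → ¬ Commute x (T i j) := by
      intro i j hij hc
      obtain ⟨k, l, hkl, e⟩ := hnbrT i j hij x ⟨hx, fun h => hxT i j hij h.symm, hc.symm⟩
      exact hxT k l hkl e
    have h3 : (nbr D x).ncard = 3 := ncard_nbr hS hx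
    rw [← Nat.card_coe_set_eq] at h3
    let ε : nbr D x ≃ Fin 3 := Finite.equivFinOfCardEq h3
    let col : G → Fin 3 := fun y => if h : y ∈ nbr D x then ε ⟨y, h⟩ else 0
    let c : Fin 5 → Fin 5 → Fin 5 → Fin 5 → Fin 3 := fun i j k l =>
      col (T i j * T k l * x * (T i j * T k l)⁻¹)
    -- colours of two edges at a vertex
    have hcne : ∀ P Q Q' : G, P ∈ D → Q ∈ nbr D P → Q' ∈ nbr D P → Q ≠ Q' → ¬ Commute x P →
        ¬ Commute x Q → ¬ Commute x Q' →
        col (P * Q * x * (P * Q)⁻¹) ≠ col (P * Q' * x * (P * Q')⁻¹) := by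
      intro P Q Q' hP hQ hQ' hne hxP hxQ hxQ' hc
      have m1 := edge_nbr hS hP hQ.1 hx hQ.2.2 hQ.2.1.symm hxP hxQ
      have m2 := edge_nbr hS hP hQ'.1 hx hQ'.2.2 hQ'.2.1.symm hxP hxQ'
      simp only [col, dif_pos m1, dif_pos m2] at hc
      exact same_edge_false hS hP hQ hQ' hne hx hxQ (congrArg Subtype.val (ε.injective hc))
    have hTeq : ∀ i j k l : Fin 5, swap i j = swap k l → T i j = T k l := fun i j k l h => congrArg φ h
    have hTne : ∀ i j k l : Fin 5, swap i j ≠ swap k l → T i j ≠ T k l := fun i j k l h e => h (hinj e)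
    have hadj : ∀ i j k l i' j' k' l' : Fin 5,
        (i ≠ j ∧ k ≠ l ∧ i ≠ k ∧ i ≠ l ∧ j ≠ k ∧ j ≠ l) →
        (i' ≠ j' ∧ k' ≠ l' ∧ i' ≠ k' ∧ i' ≠ l' ∧ j' ≠ k' ∧ j' ≠ l') →
        ((swap i j = swap i' j' ∧ swap k l ≠ swap k' l') ∨ (swap i j = swap k' l' ∧ swap k l ≠ swap i' j') ∨
          (swap k l = swap i' j' ∧ swap i j ≠ swap k' l') ∨ (swap k l = swap k' l' ∧ swap i j ≠ swap i' j')) →
        c i j k l ≠ c i' j' k' l' := by
      rintro i j k l i' j' k' l' ⟨h1, h2, g1, g2, g3, g4⟩ ⟨h1', h2', g1', g2', g3', g4'⟩ h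
      have hQ := hdisj i j k l h1 h2 g1 g2 g3 g4
      have hQ' := hdisj i' j' k' l' h1' h2' g1' g2' g3' g4'
      have hP := nbr_symm hS (hTmem i j h1) hQ
      have hP' := nbr_symm hS (hTmem i' j' h1') hQ'
      have n1 := hnc i j h1
      have n2 := hnc k l h2
      have n1' := hnc i' j' h1'
      have n2' := hnc k' l' h2'
      rcases h with ⟨e, f⟩ | ⟨e, f⟩ | ⟨e, f⟩ | ⟨e, f⟩ <;> (have e2 := hTeq _ _ _ _ e; have f2 := hTne _ _ _ _ f)
      · simp only [c]; rw [← e2] at hQ' ⊢
        exact hcne _ _ _ (hTmem i j h1) hQ hQ' f2 n1 n2 n2'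
      · simp only [c]
        rw [hQ'.2.2.eq, ← e2]
        exact hcne _ _ _ (hTmem i j h1) hQ (e2.symm ▸ hP') f2 n1 n2 n1'
      · simp only [c]
        rw [hQ.2.2.eq, ← e2]
        exact hcne _ _ _ (hTmem k l h2) hP (e2.symm ▸ hQ') f2 n2 n1 n2'
      · simp only [c]
        rw [hQ.2.2.eq, hQ'.2.2.eq, ← e2]
        exact hcne _ _ _ (hTmem k l h2) hP (e2.symm ▸ hP') f2 n2 n1 n1'
    refine petersen_colour (c 0 1 2 3) (c 0 1 2 4) ?_ (c 0 1 3 4) ?_ ?_ (c 2 3 0 4) ?_ (c 2 3 1 4) ?_ ?_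
      (c 2 4 1 3) ?_ (c 2 4 0 3) ?_ ?_ (c 3 4 1 2) ?_ (c 3 4 0 2) ?_ ?_
      (c 0 4 1 3) ?_ ?_ (c 0 4 1 2) ?_ ?_ ?_ (c 1 4 0 3) ?_ ?_ (c 1 4 0 2) ?_ ?_ ?_
      (c 1 3 0 2) ?_ ?_ ?_ ?_ (c 0 3 1 2) ?_ ?_ ?_ ?_ <;>
      exact hadj _ _ _ _ _ _ _ _ (by decide) (by decide) (by decide)
  have hrange : Subgroup.closure D = φ.range := by
    refine le_antisymm ((Subgroup.closure_le _).2 fun x hx => ?_) ?_
    · obtain ⟨i, j, -, rfl⟩ := hall x hx
      exact ⟨_, rfl⟩
    · rw [MonoidHom.range_eq_map, ← Perm.closure_isSwap, MonoidHom.map_closure]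
      refine Subgroup.closure_mono ?_
      rintro _ ⟨σ, ⟨i, j, hij, rfl⟩, rfl⟩
      exact hTmem i j hij
  rw [hrange]
  exact ⟨(MonoidHom.ofInjective hinj).symm⟩

omit hS in
theorem isPGroup_of_generated [Finite G] {ι : Type*} (p : ℕ) [Fact p.Prime] (P : ι → Subgroup G) (M : Subgroup G)
    (hM : M = ⨆ i, P i) (hp : ∀ i, IsPGroup p (P i)) (hn : ∀ i, M ≤ Subgroup.normalizer (P i : Set G)) :
    IsPGroup p M := by
  obtain ⟨Q⟩ : Nonempty (Sylow p M) := inferInstance
  have hall : ∀ i, (P i).subgroupOf M ≤ (Q : Subgroup M) := by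
    intro i
    haveI : ((P i).subgroupOf M).Normal := Subgroup.normal_subgroupOf_of_le_normalizer (hn i)
    obtain ⟨Q', hQ'⟩ := ((hp i).comap_of_injective M.subtype M.subtype_injective).exists_le_sylow
    obtain ⟨m, hm⟩ := MulAction.exists_smul_eq M Q' Q
    rw [← hm]
    intro z hz
    show z ∈ MulAut.conj m • (Q' : Subgroup M)
    rw [Subgroup.mem_pointwise_smul_iff_inv_smul_mem]
    refine hQ' ?_
    simpa [MulAut.smul_def] using this.conj_mem z hz m⁻¹
  have htop : (Q : Subgroup M) = ⊤ := by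
    rw [eq_top_iff]
    rintro ⟨z, hz⟩ -
    have h1 : M ≤ (Q : Subgroup M).map M.subtype := by
      conv_lhs => rw [hM]
      refine iSup_le fun i w hw => ?_
      have hwM : w ∈ M := by rw [hM]; exact Subgroup.mem_iSup_of_mem i hw
      exact ⟨⟨w, hwM⟩, hall i (show (⟨w, hwM⟩ : M) ∈ (P i).subgroupOf M from hw), rfl⟩
    obtain ⟨w, hw, e⟩ := h1 hz
    rwa [← show w = ⟨z, hz⟩ from Subtype.ext e]
  exact (htop ▸ Q.isPGroup' : IsPGroup p (⊤ : Subgroup M)).of_equiv Subgroup.topEquiv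

open Equiv in
/-- A square in the commuting graph: the direct product of two symmetric groups of degree three. -/
theorem square_case [Finite G] {a₁ a₂ b₁ b₂ : G} (ha₁ : a₁ ∈ D) (ha₂ : a₂ ∈ D) (hane : a₁ ≠ a₂)
    (hbne : b₁ ≠ b₂) (h11 : b₁ ∈ nbr D a₁) (h12 : b₂ ∈ nbr D a₁) (h21 : b₁ ∈ nbr D a₂) (h22 : b₂ ∈ nbr D a₂) :
    Nonempty (↥(Subgroup.closure D) ≃* Perm (Fin 3) × Perm (Fin 3)) := by
  classical
  haveI : Fact (Nat.Prime 3) := ⟨Nat.prime_three⟩
  set A := nbr D b₁ with hA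
  set B := nbr D a₁ with hB
  have m1 : a₁ ∈ A := nbr_symm hS ha₁ h11
  have m2 : a₂ ∈ A := nbr_symm hS ha₂ h21
  have hAeq : A = {a₁, a₂, a₁ * a₂ * a₁} := nbr_eq hS h11.1 m1 m2 hane
  have hBeq : B = {b₁, b₂, b₁ * b₂ * b₁} := nbr_eq hS ha₁ h11 h12 hbne
  have hancomm : ¬ Commute a₁ a₂ := nbr_not_commute hS h11.1 m1 m2 hane
  have hbncomm : ¬ Commute b₁ b₂ := nbr_not_commute hS ha₁ h11 h12 hbne
  have hcomm : ∀ u ∈ A, ∀ v ∈ B, Commute u v := by
    have e1 : ∀ v ∈ B, Commute a₁ v := fun v hv => hv.2.2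
    have e2 : ∀ v ∈ B, Commute a₂ v := by
      intro v hv
      rw [hBeq] at hv
      rcases hv with rfl | rfl | rfl
      exacts [h21.2.2, h22.2.2, (h21.2.2.mul_right h22.2.2).mul_right h21.2.2]
    intro u hu v hv
    rw [hAeq] at hu
    rcases hu with rfl | rfl | rfl
    exacts [e1 v hv, e2 v hv, ((e1 v hv).mul_left (e2 v hv)).mul_left (e1 v hv)]
  have hAD : ∀ u ∈ A, u ∈ D := fun u hu => hu.1
  have hBD : ∀ v ∈ B, v ∈ D := fun v hv => hv.1
  have hAB : ∀ u ∈ A, ∀ v ∈ B, u ≠ v := by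
    rintro u hu v hv rfl
    -- `u` would commute with `a₁`
    by_cases he : u = a₁
    · exact hv.2.1 he
    · exact nbr_not_commute hS h11.1 hu m1 he hv.2.2.symm
  have hnA : ∀ u ∈ A, nbr D u = B := by
    intro u hu
    refine (Set.eq_of_subset_of_ncard_le (fun v hv => show v ∈ nbr D u from And.intro (hBD v hv) (And.intro (hAB u hu v hv).symm (hcomm u hu v hv))) ?_).symm
    rw [ncard_nbr hS (hAD u hu), ncard_nbr hS ha₁]
  have hnB : ∀ v ∈ B, nbr D v = A := by
    intro v hv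
    refine (Set.eq_of_subset_of_ncard_le (fun u hu => show u ∈ nbr D v from And.intro (hAD u hu) (And.intro (hAB u hu v hv) (hcomm u hu v hv).symm)) ?_).symm
    rw [ncard_nbr hS (hBD v hv), ncard_nbr hS h11.1]
  set C : Set G := A ∪ B with hC
  have hclosedC : ∀ z ∈ C, ∀ y ∈ nbr D z, y ∈ C := by
    rintro z (hz | hz) y hy
    · rw [hnA z hz] at hy; exact Or.inr hy
    · rw [hnB z hz] at hy; exact Or.inl hy
  have hCD : ∀ z ∈ C, z ∈ D := fun z hz => hz.elim (hAD z) (hBD z)
  have hout : ∀ x ∈ D, x ∉ C → ∀ z ∈ C, ¬ Commute x z := fun x hx hxC z hz h =>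
    hxC (hclosedC z hz x ⟨hx, fun e => hxC (e ▸ hz), h.symm⟩)
  -- every member lies in the component
  have hall : ∀ x ∈ D, x ∈ C := by
    by_contra hno
    push Not at hno
    obtain ⟨x, hx, hxC⟩ := hno
    have hxnc := hout x hx hxC
    have hval : ∀ u ∈ A, ∀ v ∈ B, u * v * x * (u * v)⁻¹ ∈ nbr D x := fun u hu v hv =>
      edge_nbr hS (hAD u hu) (hBD v hv) hx (hcomm u hu v hv) (hAB u hu v hv) (hxnc u (Or.inl hu)) (hxnc v (Or.inr hv))
    have hinjB : ∀ u ∈ A, ∀ v ∈ B, ∀ v' ∈ B, u * v * x * (u * v)⁻¹ = u * v' * x * (u * v')⁻¹ → v = v' := by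
      intro u hu v hv v' hv' e
      by_contra hne
      exact same_edge_false hS (hAD u hu) (by rw [hnA u hu]; exact hv) (by rw [hnA u hu]; exact hv') hne hx
        (hxnc v (Or.inr hv)) e
    -- two edges with equal values
    obtain ⟨u, hu, v, hv, u', hu', v', hv', hne, heq⟩ : ∃ u ∈ A, ∃ v ∈ B, ∃ u' ∈ A, ∃ v' ∈ B,
        ¬ (u = u' ∧ v = v') ∧ u * v * x * (u * v)⁻¹ = u' * v' * x * (u' * v')⁻¹ := by
      by_contra h
      push Not at h
      have h2 : (A ×ˢ B).ncard ≤ (nbr D x).ncard :=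
        Set.ncard_le_ncard_of_injOn (fun w => w.1 * w.2 * x * (w.1 * w.2)⁻¹)
          (fun w hw => hval _ hw.1 _ hw.2)
          (fun w hw w' hw' e => by
            by_contra hne
            exact h w.1 hw.1 w.2 hw.2 w'.1 hw'.1 w'.2 hw'.2 (fun e1 e2 => hne (Prod.ext e1 e2)) e)
      rw [Set.ncard_prod, hA, hB, ncard_nbr hS h11.1, ncard_nbr hS ha₁, ncard_nbr hS hx] at h2
      omega
    have huu : u ≠ u' := fun e => hne ⟨e, hinjB u hu v hv v' hv' (by rw [heq, e])⟩
    have hvv : v ≠ v' := fun e => by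
      subst e
      have h := same_edge_false hS (hBD v hv) (Q := u) (Q' := u') (by rw [hnB v hv]; exact hu)
        (by rw [hnB v hv]; exact hu') huu hx (hxnc u (Or.inl hu))
      apply h
      rw [← (hcomm u hu v hv).eq, ← (hcomm u' hu' v hv).eq]
      exact heq
    set r := u' * u with hr
    set s := v' * v with hs
    set g := r * s with hg
    have hgx : g * x = x * g := by
      have e1 : g = (u' * v')⁻¹ * (u * v) := by
        rw [hg, hr, hs, mul_inv_rev, inv_eq hS (hBD v' hv'), inv_eq hS (hAD u' hu'),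
          ← (hcomm u' hu' v' hv').eq]
        simp only [mul_assoc]
        rw [← mul_assoc u v' v, (hcomm u hu v' hv').eq, mul_assoc]
      rw [e1]
      calc (u' * v')⁻¹ * (u * v) * x = (u' * v')⁻¹ * (u * v * x * (u * v)⁻¹) * (u * v) := by group
        _ = (u' * v')⁻¹ * (u' * v' * x * (u' * v')⁻¹) * (u * v) := by rw [heq]
        _ = x * ((u' * v')⁻¹ * (u * v)) := by group
    have hur : u * r * u = r⁻¹ := by
      rw [hr, mul_inv_rev, inv_eq hS (hAD u hu), inv_eq hS (hAD u' hu'), mul_assoc, mul_assoc,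
        inv_mul_self hS (hAD u hu), mul_one]
    have hgy : ∀ v₀ ∈ B, g * (u * v₀ * x * (u * v₀)⁻¹) = u * v₀ * x * (u * v₀)⁻¹ * g := by
      intro v₀ hv₀
      have hcu : Commute u s := (hcomm u hu v' hv').mul_right (hcomm u hu v hv)
      have hv₀r : Commute v₀ r := ((hcomm u' hu' v₀ hv₀).symm).mul_right (hcomm u hu v₀ hv₀).symm
      have hv₀s : v₀ * s * v₀ = s⁻¹ := by
        have hBv := nbr_eq hS ha₁ hv' hv hvv.symm
        have hv₀' : v₀ ∈ ({v', v, v' * v * v'} : Set G) := by rw [← hBv]; exact hv₀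
        have a1 := inv_mul_self hS (hBD v hv)
        have a2 := inv_mul_self hS (hBD v' hv')
        have a1X : ∀ r, v * (v * r) = r := fun r => by rw [← mul_assoc, a1, one_mul]
        have a2X : ∀ r, v' * (v' * r) = r := fun r => by rw [← mul_assoc, a2, one_mul]
        rw [hs, mul_inv_rev, inv_eq hS (hBD v hv), inv_eq hS (hBD v' hv')]
        rcases hv₀' with rfl | rfl | rfl
        · simp only [mul_assoc, a2X]
        · simp only [mul_assoc, a1, mul_one]
        · simp only [mul_assoc, a2X, a2, mul_one]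
          have hb := braid hS (hBD v' hv') (hBD v hv) (nbr_not_commute hS ha₁ hv' hv hvv.symm)
          calc v' * (v * (v * (v' * (v * v')))) = v * v' := by rw [a1X, a2X]
            _ = v * v' := rfl
      set w := u * v₀ with hw
      have hwinv : w⁻¹ = v₀ * u := by rw [hw, mul_inv_rev, inv_eq hS (hAD u hu), inv_eq hS (hBD v₀ hv₀)]
      have hcv : Commute u v₀ := hcomm u hu v₀ hv₀
      have hwg : w⁻¹ * g * w = g⁻¹ := by
        rw [hwinv, hw, hg]
        calc v₀ * u * (r * s) * (u * v₀) = v₀ * (u * r * (s * u)) * v₀ := by simp only [mul_assoc]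
          _ = v₀ * (u * r * (u * s)) * v₀ := by rw [hcu.eq]
          _ = v₀ * ((u * r * u) * s) * v₀ := by simp only [mul_assoc]
          _ = v₀ * (r⁻¹ * s) * v₀ := by rw [hur]
          _ = r⁻¹ * (v₀ * s * v₀) := by rw [← mul_assoc v₀, hv₀r.inv_right.eq]; simp only [mul_assoc]
          _ = r⁻¹ * s⁻¹ := by rw [hv₀s]
          _ = (r * s)⁻¹ := by
            have hrs : Commute r s := ((hcomm u' hu' v' hv').mul_right (hcomm u' hu' v hv)).mul_left
              ((hcomm u hu v' hv').mul_right (hcomm u hu v hv))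
            exact hrs.inv_inv.eq.trans (mul_inv_rev r s).symm
      have hgx' : g⁻¹ * x = x * g⁻¹ := (Commute.inv_left (show Commute g x from hgx)).eq
      calc g * (w * x * w⁻¹) = w * ((w⁻¹ * g * w) * x) * w⁻¹ := by group
        _ = w * (x * (w⁻¹ * g * w)) * w⁻¹ := by rw [hwg, hgx']
        _ = w * x * w⁻¹ * g := by group
    -- the canonical `3`-groups of the translates
    let P : G → Subgroup G := fun h => Subgroup.closure
      {w | ∃ y ∈ C, ∃ z ∈ C, ¬ Commute y z ∧ w = h * (y * z) * h⁻¹}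
    let M : Subgroup G := ⨆ h, P h
    have hP1 : IsPGroup 3 (P 1) := by
      have hsplit : ∀ y ∈ C, ∀ z ∈ C, ¬ Commute y z → (y ∈ A ∧ z ∈ A) ∨ (y ∈ B ∧ z ∈ B) := by
        rintro y (hy | hy) z (hz | hz) hn
        · exact Or.inl ⟨hy, hz⟩
        · exact absurd (hcomm y hy z hz) hn
        · exact absurd (hcomm z hz y hy).symm hn
        · exact Or.inr ⟨hy, hz⟩
      have hgen3 : ∀ {d p q : G}, d ∈ D → p ∈ nbr D d → q ∈ nbr D d → p ≠ q →
          ∀ y ∈ nbr D d, ∀ z ∈ nbr D d, ¬ Commute y z → y * z ∈ Subgroup.zpowers (p * q) := by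
        intro d p q hd hp hq hpq y hy z hz hn
        rw [nbr_eq hS hd hp hq hpq] at hy hz
        have hmem : p * q ∈ Subgroup.zpowers (p * q) := Subgroup.mem_zpowers _
        have hinv : q * p ∈ Subgroup.zpowers (p * q) := by
          have := Subgroup.inv_mem _ hmem
          rwa [mul_inv_rev, inv_eq hS hp.1, inv_eq hS hq.1] at this
        have hb := braid hS hp.1 hq.1 (nbr_not_commute hS hd hp hq hpq)
        have a1X : ∀ r, p * (p * r) = r := fun r => by rw [← mul_assoc, inv_mul_self hS hp.1, one_mul]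
        have a2X : ∀ r, q * (q * r) = r := fun r => by rw [← mul_assoc, inv_mul_self hS hq.1, one_mul]
        rcases hy with hy | hy | hy <;> rcases hz with hz | hz | hz <;>
          (try simp only [Set.mem_singleton_iff] at hy hz) <;> rw [hy, hz] at hn ⊢
        · exact absurd (Commute.refl _) hn
        · exact hmem
        · simp only [mul_assoc, a1X]; exact hinv
        · exact hinv
        · exact absurd (Commute.refl _) hn
        · rw [mul_assoc p q p, hb, a2X]; exact hmem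
        · rw [mul_assoc (p * q), inv_mul_self hS hp.1, mul_one]; exact hmem
        · rw [show p * q * p * q = p * (q * (p * q)) by simp only [mul_assoc], ← hb, a1X]; exact hinv
        · exact absurd (Commute.refl _) hn
      have hcube : ∀ {p q : G}, p ∈ D → q ∈ D → ¬ Commute p q → IsPGroup 3 (Subgroup.zpowers (p * q)) := by
        intro p q hp hq hn
        refine IsPGroup.of_card (n := 1) ?_
        rw [Nat.card_zpowers, pow_one]
        refine orderOf_eq_prime ?_ (fun e => hn (by rw [eq_inv_of_mul_eq_one_left e, inv_eq hS hq]))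
        rcases hS.set.2 p hp q hq with e | e
        · exact absurd (show p * q = q * p by
            rw [pow_two] at e
            rw [← inv_eq_of_mul_eq_one_right e, mul_inv_rev, inv_eq hS hp, inv_eq hS hq]) hn
        · exact e
      have hle : P 1 ≤ Subgroup.zpowers (a₁ * a₂) ⊔ Subgroup.zpowers (b₁ * b₂) := by
        refine (Subgroup.closure_le _).2 ?_
        rintro w ⟨y, hy, z, hz, hn, rfl⟩
        rw [one_mul, inv_one, mul_one]
        rcases hsplit y hy z hz hn with ⟨h1, h2⟩ | ⟨h1, h2⟩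
        · exact Subgroup.mem_sup_left (hgen3 h11.1 m1 m2 hane y h1 z h2 hn)
        · exact Subgroup.mem_sup_right (hgen3 ha₁ h11 h12 hbne y h1 z h2 hn)
      refine IsPGroup.to_le ?_ hle
      refine IsPGroup.to_sup_of_normal_right' (hcube ha₁ ha₂ hancomm) (hcube h11.1 h12.1 hbncomm) ?_
      rw [Subgroup.zpowers_le]
      refine Subgroup.centralizer_le_normalizer _ (Subgroup.mem_centralizer_iff.2 ?_)
      intro w hw
      obtain ⟨k, rfl⟩ := hw
      exact ((((hcomm a₁ m1 b₁ h11).mul_left (hcomm a₂ m2 b₁ h11)).mul_right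
        ((hcomm a₁ m1 b₂ h12).mul_left (hcomm a₂ m2 b₂ h12))).zpow_right k).eq.symm
    have hPconj : ∀ h k : G, P (k * h) = (P h).map (MulAut.conj k).toMonoidHom := by
      intro h k
      simp only [P, MonoidHom.map_closure]
      congr 1
      ext w
      constructor
      · rintro ⟨y, hy, z, hz, hn, rfl⟩
        exact ⟨_, ⟨y, hy, z, hz, hn, rfl⟩, by simp [mul_assoc]⟩
      · rintro ⟨_, ⟨y, hy, z, hz, hn, rfl⟩, rfl⟩
        exact ⟨y, hy, z, hz, hn, by simp [mul_assoc]⟩
    have hPp : ∀ h, IsPGroup 3 (P h) := fun h => by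
      rw [show h = h * 1 from (mul_one h).symm, hPconj]
      exact hP1.map _
    -- translates are equal or disjoint
    have hchar : ∀ z ∈ C, ∀ w, w ∈ C ↔ w ∈ nbr D z ∨ ∃ y ∈ nbr D z, w ∈ nbr D y := by
      intro z hz w
      constructor
      · intro hw
        rcases hz with hz | hz <;> rcases hw with hw | hw
        · exact Or.inr ⟨b₁, by rw [hnA z hz]; exact h11, by rw [hnB b₁ h11]; exact hw⟩
        · exact Or.inl (by rw [hnA z hz]; exact hw)
        · exact Or.inl (by rw [hnB z hz]; exact hw)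
        · exact Or.inr ⟨a₁, by rw [hnB z hz]; exact m1, by rw [hnA a₁ m1]; exact hw⟩
      · rintro (h | ⟨y, hy, h⟩)
        · exact hclosedC z hz w h
        · exact hclosedC y (hclosedC z hz y hy) w h
    have hedge : ∀ u₀ ∈ A, ∀ v₀ ∈ B, ∀ h, ∀ z ∈ C,
        h⁻¹ * (u₀ * v₀ * (h * z * h⁻¹) * (u₀ * v₀)⁻¹) * h ∈ C := by
      intro u₀ hu₀ v₀ hv₀ h z hz
      have hz' : h * z * h⁻¹ ∈ D := hS.conj h z (hCD z hz)
      by_cases hzC : h * z * h⁻¹ ∈ C
      · -- the translate is the component itself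
        have hmap : ∀ w, w ∈ C → h * w * h⁻¹ ∈ C := by
          intro w hw
          rw [hchar _ hzC]
          rcases (hchar z hz w).1 hw with h1 | ⟨y, hy, h1⟩
          · exact Or.inl (conj_nbr hS h1)
          · exact Or.inr ⟨_, conj_nbr hS hy, conj_nbr hS h1⟩
        have hsurj : ∀ w ∈ C, h⁻¹ * w * h ∈ C := by
          intro w hw
          have hback : ∀ {p q : G}, q ∈ nbr D (h * p * h⁻¹) → h⁻¹ * q * h ∈ nbr D p := by
            intro p q hq
            have := conj_nbr hS (g := h⁻¹) hq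
            simpa [mul_assoc] using this
          rcases (hchar _ hzC w).1 hw with h1 | ⟨y, hy, h1⟩
          · exact (hchar z hz _).2 (Or.inl (hback h1))
          · refine (hchar z hz _).2 (Or.inr ⟨_, hback hy, ?_⟩)
            exact hback (p := h⁻¹ * y * h) (by rwa [show h * (h⁻¹ * y * h) * h⁻¹ = y by group])
        refine hsurj _ ?_
        have hfix : ∀ t ∈ C, u₀ * v₀ * t * (u₀ * v₀)⁻¹ ∈ C := by
          have huv : u₀ ∈ C := Or.inl hu₀
          have hst : ∀ t ∈ C, ∀ q ∈ C, q * t * q⁻¹ ∈ C := by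
            intro t ht q hq
            by_cases hc : Commute q t
            · rw [hc.eq, mul_inv_cancel_right]; exact ht
            · rw [inv_eq hS (hCD q hq)]
              obtain ⟨d, hd, hqd, htd⟩ : ∃ d ∈ C, q ∈ nbr D d ∧ t ∈ nbr D d := by
                rcases hq with hq | hq <;> rcases ht with ht | ht
                · exact ⟨b₁, Or.inr h11, by rw [hnB b₁ h11]; exact hq, by rw [hnB b₁ h11]; exact ht⟩
                · exact absurd (hcomm q hq t ht) hc
                · exact absurd (hcomm t ht q hq).symm hc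
                · exact ⟨a₁, Or.inl m1, hq, ht⟩
              refine hclosedC d hd _ ?_
              rw [nbr_eq hS (hCD d hd) hqd htd (fun e => hc (e ▸ Commute.refl q))]
              simp
          intro t ht
          have := hst _ (hst t ht v₀ (Or.inr hv₀)) u₀ huv
          rw [mul_inv_rev]
          simpa [mul_assoc] using this
        exact hfix _ hzC
      · have h1 := edge_nbr hS (hAD u₀ hu₀) (hBD v₀ hv₀) hz' (hcomm u₀ hu₀ v₀ hv₀) (hAB u₀ hu₀ v₀ hv₀)
          (hout _ hz' hzC u₀ (Or.inl hu₀)) (hout _ hz' hzC v₀ (Or.inr hv₀))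
        refine hclosedC z hz _ ?_
        have := conj_nbr hS (g := h⁻¹) h1
        simpa [mul_assoc] using this
    -- every product of two noncommuting members of the component preserves every translate
    have hgenpres : ∀ y ∈ C, ∀ z ∈ C, ¬ Commute y z → ∀ h, ∀ c ∈ C,
        h⁻¹ * (y * z * (h * c * h⁻¹) * (y * z)⁻¹) * h ∈ C := by
      intro y hy z hz hn h c hc
      obtain ⟨u₀, hu₀, v₀, hv₀, u₁, hu₁, v₁, hv₁, e⟩ : ∃ u₀ ∈ A, ∃ v₀ ∈ B, ∃ u₁ ∈ A, ∃ v₁ ∈ B,
          y * z = (u₀ * v₀) * (u₁ * v₁) := by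
        rcases hy with hy | hy <;> rcases hz with hz | hz
        · refine ⟨y, hy, b₁, h11, z, hz, b₁, h11, ?_⟩
          rw [← (hcomm z hz b₁ h11).eq.symm, mul_assoc, ← mul_assoc b₁ b₁, inv_mul_self hS h11.1, one_mul]
        · exact absurd (hcomm y hy z hz) hn
        · exact absurd (hcomm z hz y hy).symm hn
        · refine ⟨a₁, m1, y, hy, a₁, m1, z, hz, ?_⟩
          rw [(hcomm a₁ m1 y hy).eq, mul_assoc, ← mul_assoc a₁ a₁, inv_mul_self hS ha₁, one_mul]
      rw [e]
      have := hedge u₀ hu₀ v₀ hv₀ h _ (hedge u₁ hu₁ v₁ hv₁ h c hc)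
      simpa [mul_assoc] using this
    have hMn : ∀ h, M ≤ Subgroup.normalizer (P h : Set G) := by
      intro h
      refine iSup_le fun k => (Subgroup.closure_le _).2 ?_
      rintro w ⟨y, hy, z, hz, hn, rfl⟩
      set w := k * (y * z) * k⁻¹ with hw
      have hpres : ∀ c ∈ C, h⁻¹ * (w * (h * c * h⁻¹) * w⁻¹) * h ∈ C := by
        intro c hc
        have := hgenpres y hy z hz hn (k⁻¹ * h) c hc
        simpa [hw, mul_assoc] using this
      have hle : ∀ p ∈ P h, w * p * w⁻¹ ∈ P h := by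
        have hmap : (P h).map (MulAut.conj w).toMonoidHom ≤ P h := by
          simp only [P, MonoidHom.map_closure]
          refine Subgroup.closure_mono ?_
          rintro _ ⟨_, ⟨y₁, hy₁, z₁, hz₁, hn₁, rfl⟩, rfl⟩
          refine ⟨_, hpres y₁ hy₁, _, hpres z₁ hz₁, fun hc => hn₁ ?_, ?_⟩
          · have hc' := hc.map (MulAut.conj ((h⁻¹ * w * h)⁻¹)).toMonoidHom
            simpa [mul_assoc] using hc'
          · simp [mul_assoc]
        exact fun p hp => hmap ⟨p, hp, rfl⟩
      exact Subgroup.mem_normalizer_iff.2 fun p => ⟨hle p, fun hp => by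
        have hmap : (P h).map (MulAut.conj w).toMonoidHom = P h :=
          Subgroup.eq_of_le_of_card_ge (by rintro _ ⟨q, hq, rfl⟩; exact hle q hq)
            (by rw [Subgroup.card_map_of_injective (MulAut.conj w).injective])
        rw [← hmap] at hp
        obtain ⟨q, hq, e⟩ := hp
        have e' : w * q * w⁻¹ = w * p * w⁻¹ := e
        rwa [← mul_left_cancel (mul_right_cancel e')]⟩
    have hMp : IsPGroup 3 M := isPGroup_of_generated 3 P M rfl hPp hMn
    have hMnorm : M.Normal := ⟨fun w hw k => by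
      have hle : M.map (MulAut.conj k).toMonoidHom ≤ M := by
        rw [Subgroup.map_iSup]
        exact iSup_le fun h => by rw [← hPconj]; exact le_iSup P (k * h)
      exact hle ⟨w, hw, rfl⟩⟩
    have hmem : ∀ h y z, y ∈ C → z ∈ C → ¬ Commute y z → h * (y * z) * h⁻¹ ∈ M := fun h y z hy hz hn =>
      Subgroup.mem_iSup_of_mem h (Subgroup.subset_closure ⟨y, hy, z, hz, hn, rfl⟩)
    -- `x` lies in a translate
    have hxa := hxnc a₁ (Or.inl m1)
    set h₀ := a₁ * x with hh₀
    have hxh : x = h₀ * a₁ * h₀⁻¹ := by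
      have hb := braid hS hx ha₁ hxa
      rw [hh₀, mul_inv_rev, inv_eq hS hx, inv_eq hS ha₁]
      calc x = a₁ * (a₁ * (x * a₁)) * a₁ := by
            rw [← mul_assoc a₁ a₁, inv_mul_self hS ha₁, one_mul, mul_assoc, inv_mul_self hS ha₁, mul_one]
        _ = a₁ * (x * (a₁ * x)) * a₁ := by rw [← hb]
        _ = a₁ * x * a₁ * (x * a₁) := by simp only [mul_assoc]
    set y₁ := h₀ * b₁ * h₀⁻¹ with hy₁
    set y₂ := h₀ * b₂ * h₀⁻¹ with hy₂
    have hy₁x : y₁ ∈ nbr D x := by rw [hxh]; exact conj_nbr hS h11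
    have hy₂x : y₂ ∈ nbr D x := by rw [hxh]; exact conj_nbr hS h12
    set t := y₁ * y₂ with ht
    have htM : t ∈ M := by
      have := hmem h₀ b₁ b₂ (Or.inr h11) (Or.inr h12) hbncomm
      rwa [show h₀ * (b₁ * b₂) * h₀⁻¹ = t by rw [ht, hy₁, hy₂]; group] at this
    have hgM : g ∈ M := by
      have e1 := hmem 1 u' u (Or.inl hu') (Or.inl hu) (nbr_not_commute hS h11.1 hu' hu huu.symm)
      have e2 := hmem 1 v' v (Or.inr hv') (Or.inr hv) (nbr_not_commute hS ha₁ hv' hv hvv.symm)
      simp only [one_mul, inv_one, mul_one] at e1 e2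
      exact M.mul_mem e1 e2
    set Z := Subgroup.centralizer ({x} : Set G) with hZ
    haveI : (M.subgroupOf Z).Normal := hMnorm.comap _
    have hcard := hS.core x hx
    rw [← hZ] at hcard
    have hle : M.subgroupOf Z ≤ Cfsg.pCore 3 ↥Z :=
      Cfsg.Agent.Lib.LocalEven.le_pCore inferInstance (hMp.comap_of_injective _ Z.subtype_injective)
    have htZ : t ∈ Z := Subgroup.mem_centralizer_singleton_iff.2 (hy₁x.2.2.mul_right hy₂x.2.2).symm.eq
    have hgZ : g ∈ Z := Subgroup.mem_centralizer_singleton_iff.2 hgx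
    have ht1 : t ≠ 1 := fun e => nbr_not_commute hS hx hy₁x hy₂x
      (fun e' => hbne (mul_left_cancel (mul_right_cancel e'))) (by
        rw [eq_inv_of_mul_eq_one_left e, inv_eq hS hy₂x.1])
    have hcy : Subgroup.zpowers (⟨t, htZ⟩ : Z) = Cfsg.pCore 3 ↥Z := by
      refine Subgroup.eq_of_le_of_card_ge (Subgroup.zpowers_le.2 (hle htM)) ?_
      rw [hcard, Nat.card_zpowers]
      have hord := (Cfsg.pCore 3 ↥Z).orderOf_dvd_natCard (hle (x := ⟨t, htZ⟩) htM)
      rw [hcard] at hord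
      rcases (Nat.dvd_prime Nat.prime_three).1 hord with e | e
      · exact absurd (congrArg Subtype.val (orderOf_eq_one_iff.1 e)) ht1
      · rw [e]
    have hgt : (⟨g, hgZ⟩ : Z) ∈ Subgroup.zpowers (⟨t, htZ⟩ : Z) := hcy ▸ hle (x := ⟨g, hgZ⟩) hgM
    obtain ⟨k, hk⟩ := hgt
    have hk' : t ^ k = g := congrArg Subtype.val hk
    -- `g` commutes with the neighbours of `x`, hence is trivial
    have hgy₁ : g * y₁ = y₁ * g := by
      have hsub : (fun v₀ => u * v₀ * x * (u * v₀)⁻¹) '' B = nbr D x := by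
        refine Set.eq_of_subset_of_ncard_le (by rintro _ ⟨v₀, hv₀, rfl⟩; exact hval u hu v₀ hv₀) ?_
        rw [Set.ncard_image_of_injOn (fun v₀ hv₀ v₁ hv₁ e => hinjB u hu v₀ hv₀ v₁ hv₁ e), hB,
          ncard_nbr hS ha₁, ncard_nbr hS hx]
      rw [← hsub] at hy₁x
      obtain ⟨v₀, hv₀, e⟩ := hy₁x
      rw [← e]; exact hgy v₀ hv₀
    have hy₁t : y₁ * t * y₁ = t⁻¹ := by
      rw [ht, mul_inv_rev, inv_eq hS hy₁x.1, inv_eq hS hy₂x.1, ← mul_assoc y₁ y₁,
        inv_mul_self hS hy₁x.1, one_mul]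
    have hg1 : g = 1 := by
      have e1 : y₁ * g * y₁ = g⁻¹ := by
        rw [← hk', ← inv_zpow, ← hy₁t]
        conv_rhs => rw [show y₁ * t * y₁ = y₁ * t * y₁⁻¹ by rw [inv_eq hS hy₁x.1], conj_zpow]
        rw [inv_eq hS hy₁x.1]
      rw [← hgy₁, mul_assoc, inv_mul_self hS hy₁x.1, mul_one] at e1
      have e2 : g ^ 2 = 1 := by rw [pow_two]; nth_rewrite 2 [e1]; exact mul_inv_cancel g
      have e3 : g ^ 3 = 1 := by
        obtain ⟨n, hn⟩ := hMp ⟨g, hgM⟩
        have hn' : g ^ 3 ^ n = 1 := congrArg Subtype.val hn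
        have h6 : orderOf g ∣ Nat.gcd 2 (3 ^ n) := Nat.dvd_gcd (orderOf_dvd_of_pow_eq_one e2) (orderOf_dvd_of_pow_eq_one hn')
        rw [Nat.Coprime.gcd_eq_one (Nat.Coprime.pow_right n (by norm_num))] at h6
        rw [orderOf_eq_one_iff.1 (Nat.dvd_one.1 h6), one_pow]
      rw [pow_succ, e2, one_mul] at e3
      exact e3
    apply nbr_not_commute hS ha₁ hv' hv hvv.symm
    have hc : Commute v' r := ((hcomm u' hu' v' hv').symm).mul_right (hcomm u hu v' hv').symm
    have hrs : r = s⁻¹ := eq_inv_of_mul_eq_one_left hg1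
    rw [hrs, hs, mul_inv_rev, inv_eq hS (hBD v hv), inv_eq hS (hBD v' hv')] at hc
    have hc' : v' * (v * v') = v * v' * v' := hc
    rw [mul_assoc v v' v', inv_mul_self hS (hBD v' hv'), mul_one] at hc'
    show v' * v = v * v'
    calc v' * v = v' * (v * v') * v' := by
          rw [mul_assoc, mul_assoc, inv_mul_self hS (hBD v' hv'), mul_one]
      _ = v * v' := by rw [hc']
  -- the isomorphism
  set H₁ := Subgroup.closure A with hH₁
  set H₂ := Subgroup.closure B with hH₂
  have hsupeq : Subgroup.closure D = H₁ ⊔ H₂ := by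
    refine le_antisymm ((Subgroup.closure_le _).2 fun z hz => ?_)
      (sup_le (Subgroup.closure_mono hAD) (Subgroup.closure_mono hBD))
    rcases hall z hz with h | h
    exacts [Subgroup.mem_sup_left (Subgroup.subset_closure h), Subgroup.mem_sup_right (Subgroup.subset_closure h)]
  have hcc : ∀ (p : H₁) (q : H₂), Commute (p : G) (q : G) := by
    intro p q
    have h1 : H₁ ≤ Subgroup.centralizer (H₂ : Set G) := by
      rw [hH₂, Subgroup.centralizer_closure]
      exact (Subgroup.closure_le _).2 fun z hz => Subgroup.mem_centralizer_iff.2 fun w hw => (hcomm z hz w hw).symm.eq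
    exact ((Subgroup.mem_centralizer_iff.1 (h1 p.2)) q q.2).symm
  obtain ⟨e₁⟩ := hS.loc b₁ h11.1
  obtain ⟨e₂⟩ := hS.loc a₁ ha₁
  let Φ : H₁ × H₂ →* G := MonoidHom.noncommCoprod H₁.subtype H₂.subtype hcc
  have hΦ : Function.Injective Φ := by
    rw [injective_iff_map_eq_one]
    rintro ⟨p, q⟩ h
    have h' : (p : G) * q = 1 := h
    have hcent : ∀ σ : Perm (Fin 3), (∀ τ, σ * τ = τ * σ) → σ = 1 := by decide
    have hp1 : p = 1 := by
      have hpz : ∀ w : H₁, p * w = w * p := by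
        intro w
        refine Subtype.ext ?_
        have hpq : (p : G) = (q : G)⁻¹ := eq_inv_of_mul_eq_one_left h'
        show (p : G) * w = w * p
        rw [hpq]
        exact ((hcc w q).inv_right).eq.symm
      have := hcent (e₁ p) fun τ => by
        obtain ⟨w, rfl⟩ := e₁.surjective τ
        rw [← map_mul, ← map_mul, hpz]
      exact (MulEquiv.map_eq_one_iff e₁).1 this
    subst hp1
    rw [OneMemClass.coe_one, one_mul] at h'
    exact Prod.ext rfl (Subtype.ext h')
  have hr : Φ.range = Subgroup.closure D := by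
    rw [hsupeq]
    exact (MonoidHom.noncommCoprod_range H₁.subtype H₂.subtype hcc).trans (by rw [Subgroup.range_subtype, Subgroup.range_subtype])
  exact ⟨((MulEquiv.subgroupCongr hr).symm.trans (MonoidHom.ofInjective hΦ).symm).trans (e₁.prodCongr e₂)⟩

theorem main [Finite G] (hne : D.Nonempty) :
    Nonempty (↥(Subgroup.closure D) ≃* Equiv.Perm (Fin 5)) ∨
      Nonempty (↥(Subgroup.closure D) ≃* Equiv.Perm (Fin 3) × Equiv.Perm (Fin 3)) := by
  by_cases h : ∃ a a' b b', a ∈ D ∧ a' ∈ D ∧ a ≠ a' ∧ b ≠ b' ∧ b ∈ nbr D a ∧ b' ∈ nbr D a ∧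
      b ∈ nbr D a' ∧ b' ∈ nbr D a'
  · obtain ⟨a, a', b, b', h1, h2, h3, h4, h5, h6, h7, h8⟩ := h
    exact Or.inr (square_case hS h1 h2 h3 h4 h5 h6 h7 h8)
  · exact Or.inl (petersen_case hS hne fun a a' b b' h1 h2 h3 h4 h5 h6 h7 h8 =>
      h ⟨a, a', b, b', h1, h2, h3, h4, h5, h6, h7, h8⟩)

end Cfsg.Agent.Lib.ThreeTransp.LocalThree
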