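import Cfsg.Prelude.Def_AxialAlgebras

/-!
Majorana pairs: transport along automorphisms, and the decomposition of a fixed vector.
-/

set_option autoImplicit false

namespace Cfsg.Agent.Lib.ThreeTransp.Majorana

open Cfsg.Axial

variable {V : Type*} [AddCommGroup V] [Module ℝ V] {mul : V →ₗ[ℝ] V →ₗ[ℝ] V}
  {B : LinearMap.BilinForm ℝ V}

theorem mem_eigen {a v : V} {c : ℝ} : v ∈ eigen mul a c ↔ mul a v = c • v :=
  Module.End.mem_eigenspace_iff

theorem eigen_map (e : V ≃ₗ[ℝ] V) (he : ∀ u v, e (mul u v) = mul (e u) (e v)) (a : V) (c : ℝ) :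
    eigen mul (e a) c = (eigen mul a c).map (e : V →ₗ[ℝ] V) := by
  ext v
  rw [mem_eigen, Submodule.mem_map]
  constructor
  · intro h
    refine ⟨e.symm v, mem_eigen.2 (e.injective ?_), e.apply_symm_apply v⟩
    rw [he, e.apply_symm_apply, map_smul, e.apply_symm_apply, h]
  · rintro ⟨u, hu, rfl⟩
    show mul (e a) (e u) = c • e u
    rw [← he, mem_eigen.1 hu, map_smul]

theorem eigenSum_map (e : V ≃ₗ[ℝ] V) (he : ∀ u v, e (mul u v) = mul (e u) (e v)) (a : V) (S : Set ℝ) :
    eigenSum mul (e a) S = (eigenSum mul a S).map (e : V →ₗ[ℝ] V) := by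
  simp only [eigenSum, Submodule.map_iSup, eigen_map e he]

theorem pair_map {μ : V ≃ₗ[ℝ] V} {a : V} (h : IsMajoranaPair mul B μ a) (e : V ≃ₗ[ℝ] V)
    (he : ∀ u v, e (mul u v) = mul (e u) (e v)) (hcomm : ∀ v, μ (e v) = e (μ v)) :
    IsMajoranaPair mul B μ (e a) := by
  obtain ⟨hm, hB, ⟨⟨ha0, haa, htop, hfus⟩, hprim⟩, hfix, hneg⟩ := h
  refine ⟨hm, hB, ⟨⟨fun h => ha0 (e.map_eq_zero_iff.1 h), by rw [← he, haa], ?_, ?_⟩, ?_⟩, ?_, ?_⟩
  · rw [eigenSum_map e he, htop, Submodule.map_top, LinearEquiv.range]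
  · intro c hc d hd u hu v hv
    rw [eigen_map e he, Submodule.mem_map] at hu hv
    obtain ⟨u, hu, rfl⟩ := hu
    obtain ⟨v, hv, rfl⟩ := hv
    rw [eigenSum_map e he]
    refine ⟨mul u v, hfus c hc d hd u hu v hv, ?_⟩
    exact he u v
  · rw [eigen_map e he, hprim, Submodule.map_span, Set.image_singleton]; rfl
  · intro v hv
    rw [eigenSum_map e he] at hv
    obtain ⟨u, hu, rfl⟩ := hv
    show μ (e u) = e u
    rw [hcomm]; exact congrArg e (hfix u hu)
  · intro v hv
    rw [eigen_map e he] at hv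
    obtain ⟨u, hu, rfl⟩ := hv
    show μ (e u) = -e u
    rw [hcomm, ← map_neg]; exact congrArg e (hneg u hu)

theorem decompose {μ : V ≃ₗ[ℝ] V} {a v : V} (h : IsMajoranaPair mul B μ a) (hv : μ v = v) :
    ∃ (r : ℝ) (z w : V), mul a z = 0 ∧ mul a w = (1 / 4 : ℝ) • w ∧ v = r • a + z + w := by
  obtain ⟨-, -, ⟨⟨-, -, htop, -⟩, hprim⟩, hfix, hneg⟩ := h
  have hsplit : eigenSum mul a majoranaSpectrum ≤
      eigenSum mul a {1, 0, 1 / 4} ⊔ eigen mul a (1 / 32) := by
    refine iSup₂_le fun c hc => ?_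
    simp only [majoranaSpectrum, Set.mem_insert_iff, Set.mem_singleton_iff] at hc
    rcases hc with rfl | rfl | rfl | rfl
    · exact le_sup_of_le_left (le_biSup (eigen mul a) (by simp : (1 : ℝ) ∈ ({1, 0, 1 / 4} : Set ℝ)))
    · exact le_sup_of_le_left (le_biSup (eigen mul a) (by simp : (0 : ℝ) ∈ ({1, 0, 1 / 4} : Set ℝ)))
    · exact le_sup_of_le_left (le_biSup (eigen mul a) (by simp : (1 / 4 : ℝ) ∈ ({1, 0, 1 / 4} : Set ℝ)))
    · exact le_sup_right
  rw [htop] at hsplit
  obtain ⟨x, hx, y, hy, hxy⟩ := Submodule.mem_sup.1 (hsplit (Submodule.mem_top (x := v)))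
  have e1 : μ x = x := hfix x hx
  have e2 : μ y = -y := hneg y hy
  have hy0 : y = 0 := by
    have h1 : x + -y = x + y := by rw [hxy]; conv_rhs => rw [← hv, ← hxy, map_add, e1, e2]
    have h2 : (2 : ℝ) • y = 0 := by
      calc (2 : ℝ) • y = y - -y := by module
        _ = 0 := sub_eq_zero.2 (add_left_cancel h1).symm
    exact (smul_eq_zero.1 h2).resolve_left (by norm_num)
  rw [hy0, add_zero] at hxy
  subst hxy
  simp only [eigenSum, iSup_insert, iSup_singleton] at hx
  obtain ⟨p, hp, q, hq, rfl⟩ := Submodule.mem_sup.1 hx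
  obtain ⟨z, hz, w, hw, rfl⟩ := Submodule.mem_sup.1 hq
  rw [hprim] at hp
  obtain ⟨r, rfl⟩ := Submodule.mem_span_singleton.1 hp
  exact ⟨r, z, w, by rw [mem_eigen.1 hz, zero_smul], mem_eigen.1 hw, by abel⟩

theorem fusion_one_zero {μ : V ≃ₗ[ℝ] V} {a u v : V} (h : IsMajoranaPair mul B μ a) {c d : ℝ}
    (hc : c ∈ majoranaSpectrum) (hd : d ∈ majoranaSpectrum)
    (hu : mul a u = c • u) (hv : mul a v = d • v) :
    mul u v ∈ eigenSum mul a (monsterLaw (1 / 4) (1 / 32) c d) :=
  h.2.2.1.1.2.2.2 c hc d hd u (mem_eigen.2 hu) v (mem_eigen.2 hv)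

/-- The facts used about the components of a fixed idempotent. -/
theorem components {μ : V ≃ₗ[ℝ] V} {a b z w : V} {r : ℝ} (hV : IsMajoranaAmbient mul B)
    (h : IsMajoranaPair mul B μ a) (hn : B a a = 1)
    (hz : mul a z = 0) (hw : mul a w = (1 / 4 : ℝ) • w) (hb : b = r • a + z + w)
    (hbb : mul b b = b) :
    mul z w = ((1 - r / 2) / 2) • w ∧ B w w = 4 * r * (1 - r) ∧
      ∃ p, mul a p = 0 ∧ mul w w = (r * (1 - r)) • a + p ∧ mul z z = z - p := by
  obtain ⟨hcomm, hBs, hBpos, hassoc, -⟩ := hV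
  obtain ⟨-, -, ⟨⟨-, haa, -, -⟩, hprim⟩, -, -⟩ := id h
  have hz' : mul a z = (0 : ℝ) • z := by rw [zero_smul]; exact hz
  have m0 : (0 : ℝ) ∈ majoranaSpectrum := by simp [majoranaSpectrum]
  have m4 : (1 / 4 : ℝ) ∈ majoranaSpectrum := by simp [majoranaSpectrum]
  have hzz : mul a (mul z z) = 0 := by
    have h1 := fusion_one_zero h m0 m0 hz' hz'
    have hl : monsterLaw (1 / 4 : ℝ) (1 / 32) 0 0 = {0} := by
      simp only [monsterLaw]; norm_num
    rw [hl] at h1
    simp only [eigenSum, iSup_singleton] at h1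
    rw [mem_eigen.1 h1, zero_smul]
  have hzw : mul a (mul z w) = (1 / 4 : ℝ) • mul z w := by
    have h1 := fusion_one_zero h m0 m4 hz' hw
    have hl : monsterLaw (1 / 4 : ℝ) (1 / 32) 0 (1 / 4) = {1 / 4} := by
      simp only [monsterLaw]; norm_num
    rw [hl] at h1
    simp only [eigenSum, iSup_singleton] at h1
    exact mem_eigen.1 h1
  obtain ⟨α, p, hp, hww⟩ : ∃ α p, mul a p = 0 ∧ mul w w = α • a + p := by
    have h1 := fusion_one_zero h m4 m4 hw hw
    have hl : monsterLaw (1 / 4 : ℝ) (1 / 32) (1 / 4) (1 / 4) = {1, 0} := by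
      simp only [monsterLaw]; norm_num
    rw [hl] at h1
    simp only [eigenSum, iSup_pair] at h1
    obtain ⟨x, hx, p, hp, hxp⟩ := Submodule.mem_sup.1 h1
    rw [hprim] at hx
    obtain ⟨α, rfl⟩ := Submodule.mem_span_singleton.1 hx
    exact ⟨α, p, by rw [mem_eigen.1 hp, zero_smul], hxp.symm⟩
  have hap : B a p = 0 := by
    have := hassoc a a p
    rw [hp, haa, map_zero] at this
    exact this.symm
  have hα : α = B w w / 4 := by
    have h1 := hassoc a w w
    rw [hww, map_add, map_smul, hn, hap, hw, map_smul, LinearMap.smul_apply, smul_eq_mul,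
      smul_eq_mul] at h1
    linarith
  set X : V := (r / 2 - 1) • w + (2 : ℝ) • mul z w with hX
  set Y : V := mul z z + p - z with hY
  have hsum : (r * r + α - r) • a + X + Y = 0 := by
    have h1 : mul b b - b = 0 := sub_eq_zero.2 hbb
    rw [← h1, hb, hX, hY]
    simp only [map_add, map_smul, LinearMap.add_apply, LinearMap.smul_apply, haa, hz, hw,
      hcomm z a, hcomm w a, hcomm w z, hww]
    module
  have aX : mul a X = (1 / 4 : ℝ) • X := by
    rw [hX, map_add, map_smul, map_smul, hw, hzw]; module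
  have aY : mul a Y = 0 := by
    rw [hY, map_sub, map_add, hzz, hp, hz]; simp
  have e1 : (r * r + α - r) • a + (1 / 4 : ℝ) • X = 0 := by
    have := congrArg (mul a) hsum
    simpa [map_add, map_smul, haa, aX, aY] using this
  have e2 : (r * r + α - r) • a + (1 / 16 : ℝ) • X = 0 := by
    have := congrArg (mul a) e1
    simp only [map_add, map_smul, haa, aX, map_zero, smul_smul] at this
    rw [← this]; norm_num
  have hX0 : X = 0 := by
    have : (3 / 16 : ℝ) • X = 0 := by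
      calc (3 / 16 : ℝ) • X = ((r * r + α - r) • a + (1 / 4 : ℝ) • X) -
          ((r * r + α - r) • a + (1 / 16 : ℝ) • X) := by module
        _ = 0 := by rw [e1, e2, sub_zero]
    exact (smul_eq_zero.1 this).resolve_left (by norm_num)
  have ha0 : a ≠ 0 := fun e => by rw [e] at hn; simp at hn
  have hc0 : r * r + α - r = 0 := by
    rw [hX0, smul_zero, add_zero] at e1
    exact (smul_eq_zero.1 e1).resolve_right ha0
  have hY0 : Y = 0 := by rw [hX0, hc0, zero_smul, zero_add, zero_add] at hsum; exact hsum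
  refine ⟨?_, by linarith, p, hp, by rw [hww]; congr 2; linarith, ?_⟩
  · calc mul z w = (1 / 2 : ℝ) • X + ((1 - r / 2) / 2) • w := by rw [hX]; module
      _ = _ := by rw [hX0, smul_zero, zero_add]
  · calc mul z z = Y + (z - p) := by rw [hY]; abel
      _ = _ := by rw [hY0, zero_add]

end Cfsg.Agent.Lib.ThreeTransp.Majorana
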