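import Mathlib

/-!
Groups of order 54 generated by two inverted elements of order three with central commutator.
-/

set_option autoImplicit false

namespace Cfsg.Agent.Lib.ThreeTransp

open scoped commutatorElement

/-- Generators of a group of the shape `3^(1+2):2`. -/
structure Rel54 {G : Type*} [Group G] (a u y : G) : Prop where
  sq : a * a = 1
  cubeU : u ^ 3 = 1
  cubeY : y ^ 3 = 1
  invU : a * u * a = u⁻¹
  invY : a * y * a = y⁻¹
  commU : Commute u ⁅u, y⁆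
  commY : Commute y ⁅u, y⁆
  gen : Subgroup.closure {a, u, y} = ⊤
  ne : ⁅u, y⁆ ≠ 1

namespace Rel54

/-- Coordinates. -/
abbrev Word : Type := Fin 2 × Fin 3 × Fin 3 × Fin 3

/-- The value of a word. -/
def word {G : Type*} [Group G] (a u y : G) (w : Word) : G :=
  a ^ (w.1 : ℕ) * (u ^ (w.2.1 : ℕ) * y ^ (w.2.2.1 : ℕ) * ⁅u, y⁆ ^ (w.2.2.2 : ℕ))

/-- The product of two words. -/
def wmul (v w : Word) : Word :=
  let i := if w.1 = 0 then v.2.1 else -v.2.1
  let j := if w.1 = 0 then v.2.2.1 else -v.2.2.1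
  (v.1 + w.1, i + w.2.1, j + w.2.2.1, v.2.2.2 + w.2.2.2 - j * w.2.1)

theorem wmul_inv : ∀ i j k : Fin 3, wmul (0, i, j, k) (0, -i, -j, -k - j * i) = (0, 0, 0, 0) := by decide
theorem wmul_commU : ∀ i j k : Fin 3, ((0, 0, 0, j) : Word) =
    wmul (wmul (wmul (0, 1, 0, 0) (0, i, j, k)) (0, 2, 0, 0)) (0, -i, -j, -k - j * i) := by decide
theorem wmul_commY : ∀ i j k : Fin 3, ((0, 0, 0, -i) : Word) =
    wmul (wmul (wmul (0, 0, 1, 0) (0, i, j, k)) (0, 0, 2, 0)) (0, -i, -j, -k - j * i) := by decide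
theorem wmul_cube : ∀ i j k : Fin 3,
    wmul (wmul (0, i, j, k) (0, i, j, k)) (0, i, j, k) = (0, 0, 0, 0) := by decide
theorem wmul_left_inv : ∀ v, ∃ v', wmul v' v = (0, 0, 0, 0) := by decide +kernel
theorem wmul_cancel : ∀ v' v w, wmul v' v = (0, 0, 0, 0) → wmul v' w = (0, 0, 0, 0) → v = w := by
  decide +kernel
theorem fin_val_comb : ∀ j k i' k' : Fin 3,
    (2 * ((i' : ℕ) * (j : ℕ)) + ((k : ℕ) + (k' : ℕ))) % 3 = ((k + k' - j * i' : Fin 3) : ℕ) := by decide
theorem fin_val_neg : ∀ i : Fin 3, (2 * (i : ℕ)) % 3 = ((-i : Fin 3) : ℕ) := by decide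

variable {G : Type*} [Group G] {a u y : G}

theorem cubeZ (h : Rel54 a u y) : ⁅u, y⁆ ^ 3 = 1 := by
  have h1 : u * y * u⁻¹ = ⁅u, y⁆ * y := by rw [commutatorElement_def]; group
  have h2 : (u * y * u⁻¹) ^ 3 = 1 := by rw [conj_pow, h.cubeY]; group
  rwa [h1, (h.commY.symm).mul_pow, h.cubeY, mul_one] at h2

theorem invZ (h : Rel54 a u y) : a * ⁅u, y⁆ * a = ⁅u, y⁆ := by
  have e : ∀ p q : G, a * (p * q) * a = a * p * a * (a * q * a) := fun p q => by
    calc a * (p * q) * a = a * p * 1 * q * a := by group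
      _ = _ := by rw [← h.sq]; group
  have h1 : a * u⁻¹ * a = u := by
    calc a * u⁻¹ * a = a * (a * u * a) * a := by rw [h.invU]
      _ = (a * a) * u * (a * a) := by group
      _ = u := by rw [h.sq]; group
  have h2 : a * y⁻¹ * a = y := by
    calc a * y⁻¹ * a = a * (a * y * a) * a := by rw [h.invY]
      _ = (a * a) * y * (a * a) := by group
      _ = y := by rw [h.sq]; group
  rw [commutatorElement_def, e, e, e, h.invU, h.invY, h1, h2]
  -- the commutator of the inverses equals the commutator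
  have hc : Commute (u⁻¹ * y⁻¹) ⁅u, y⁆ := (h.commU.inv_left).mul_left h.commY.inv_left
  calc u⁻¹ * y⁻¹ * u * y = u⁻¹ * y⁻¹ * ⁅u, y⁆ * (y * u) := by rw [commutatorElement_def]; group
    _ = ⁅u, y⁆ * (u⁻¹ * y⁻¹) * (y * u) := by rw [hc.eq]
    _ = u * y * u⁻¹ * y⁻¹ := by rw [commutatorElement_def]; group

theorem conj_a (h : Rel54 a u y) (i j k : ℕ) :
    u ^ i * y ^ j * ⁅u, y⁆ ^ k * a = a * (u⁻¹ ^ i * y⁻¹ ^ j * ⁅u, y⁆ ^ k) := by
  have e : ∀ (p q : G), a * p * a = q → ∀ i : ℕ, a * q ^ i = p ^ i * a := fun p q hp i => by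
    induction i with
    | zero => simp
    | succ i ih =>
      rw [pow_succ, ← mul_assoc, ih, ← hp, pow_succ]
      calc p ^ i * a * (a * p * a) = p ^ i * (a * a) * p * a := by group
        _ = p ^ i * p * a := by rw [h.sq, mul_one]
  calc u ^ i * y ^ j * ⁅u, y⁆ ^ k * a = u ^ i * y ^ j * (⁅u, y⁆ ^ k * a) := by group
    _ = u ^ i * (y ^ j * a) * ⁅u, y⁆ ^ k := by rw [← e _ _ h.invZ k]; group
    _ = (u ^ i * a) * y⁻¹ ^ j * ⁅u, y⁆ ^ k := by rw [← e _ _ h.invY j]; group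
    _ = _ := by rw [← e _ _ h.invU i]; group

theorem y_pow_u (h : Rel54 a u y) (j i : ℕ) :
    y ^ j * u ^ i = u ^ i * y ^ j * (⁅u, y⁆ ^ (i * j))⁻¹ := by
  set z := ⁅u, y⁆ with hz
  have h1 : ∀ i : ℕ, u ^ i * y * (u ^ i)⁻¹ = z ^ i * y := by
    intro i
    induction i with
    | zero => simp
    | succ i ih =>
      calc u ^ (i + 1) * y * (u ^ (i + 1))⁻¹ = u * (u ^ i * y * (u ^ i)⁻¹) * u⁻¹ := by
            rw [pow_succ']; group
        _ = u * z ^ i * (y * u⁻¹) := by rw [ih]; group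
        _ = z ^ i * u * (y * u⁻¹) := by rw [(h.commU.pow_right i).eq]
        _ = z ^ i * (z * y) := by rw [hz, commutatorElement_def]; group
        _ = z ^ (i + 1) * y := by rw [pow_succ]; group
  have h2 : u ^ i * y ^ j * (u ^ i)⁻¹ = z ^ (i * j) * y ^ j := by
    rw [← conj_pow, h1, (h.commY.symm.pow_left i).mul_pow, ← pow_mul]
  have h3 : Commute (y ^ j) (z ^ (i * j)) := (h.commY.pow_left j).pow_right _
  have h4 : Commute (u ^ i) (z ^ (i * j)) := (h.commU.pow_left i).pow_right _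
  calc y ^ j * u ^ i = (z ^ (i * j))⁻¹ * (z ^ (i * j) * y ^ j) * u ^ i := by group
    _ = (z ^ (i * j))⁻¹ * (u ^ i * y ^ j) := by rw [← h2]; group
    _ = _ := ((h4.mul_left h3).inv_right).eq.symm

theorem pow_fin {g : G} {m : ℕ} [NeZero m] (hg : g ^ m = 1) (i : Fin m) (n : ℕ)
    (hn : n % m = (i : ℕ)) : g ^ n = g ^ (i : ℕ) := by
  rw [← hn, pow_eq_pow_mod n hg]

theorem pow_neg {g : G} (hg : g ^ 3 = 1) : ∀ i : Fin 3, g⁻¹ ^ (i : ℕ) = g ^ ((-i : Fin 3) : ℕ) := by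
  have h : g⁻¹ = g ^ 2 := inv_eq_of_mul_eq_one_right (by rw [← pow_succ', hg])
  intro i
  rw [h, ← pow_mul]
  exact pow_fin hg (-i) _ (fin_val_neg i)

theorem word_mul (h : Rel54 a u y) (v w : Word) :
    word a u y v * word a u y w = word a u y (wmul v w) := by
  obtain ⟨e, i, j, k⟩ := v
  obtain ⟨e', i', j', k'⟩ := w
  set z := ⁅u, y⁆ with hz
  have hzc : ∀ n : ℕ, Commute (z ^ n) u ∧ Commute (z ^ n) y := fun n =>
    ⟨h.commU.symm.pow_left n, h.commY.symm.pow_left n⟩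
  have hprod : ∀ (i j k i' j' k' : Fin 3),
      u ^ (i : ℕ) * y ^ (j : ℕ) * z ^ (k : ℕ) * (u ^ (i' : ℕ) * y ^ (j' : ℕ) * z ^ (k' : ℕ)) =
        u ^ ((i + i' : Fin 3) : ℕ) * y ^ ((j + j' : Fin 3) : ℕ) *
          z ^ ((k + k' - j * i' : Fin 3) : ℕ) := by
    intro i j k i' j' k'
    have hinv : (z ^ ((i' : ℕ) * (j : ℕ)))⁻¹ = z ^ (2 * ((i' : ℕ) * (j : ℕ))) :=
      inv_eq_of_mul_eq_one_right (by
        rw [← pow_add, show (i' : ℕ) * (j : ℕ) + 2 * ((i' : ℕ) * (j : ℕ)) = 3 * ((i' : ℕ) * (j : ℕ)) by ring,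
          pow_mul, h.cubeZ, one_pow])
    calc u ^ (i : ℕ) * y ^ (j : ℕ) * z ^ (k : ℕ) * (u ^ (i' : ℕ) * y ^ (j' : ℕ) * z ^ (k' : ℕ))
        = u ^ (i : ℕ) * y ^ (j : ℕ) * (z ^ (k : ℕ) * u ^ (i' : ℕ)) * y ^ (j' : ℕ) * z ^ (k' : ℕ) := by
          group
      _ = u ^ (i : ℕ) * (y ^ (j : ℕ) * u ^ (i' : ℕ)) * (z ^ (k : ℕ) * y ^ (j' : ℕ)) * z ^ (k' : ℕ) := by
          rw [((hzc _).1.pow_right _).eq]; group
      _ = u ^ (i : ℕ) * u ^ (i' : ℕ) * y ^ (j : ℕ) *
            (z ^ (2 * ((i' : ℕ) * (j : ℕ))) * y ^ (j' : ℕ)) * (z ^ (k : ℕ) * z ^ (k' : ℕ)) := by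
          rw [h.y_pow_u, hinv, ((hzc _).2.pow_right _).eq]; group
      _ = u ^ ((i : ℕ) + (i' : ℕ)) * y ^ ((j : ℕ) + (j' : ℕ)) *
            z ^ (2 * ((i' : ℕ) * (j : ℕ)) + ((k : ℕ) + (k' : ℕ))) := by
          rw [((hzc _).2.pow_right _).eq, pow_add, pow_add, pow_add z, pow_add z]; group
      _ = _ := by
          rw [pow_fin h.cubeU (i + i') _ (Fin.val_add i i').symm,
            pow_fin h.cubeY (j + j') _ (Fin.val_add j j').symm,
            pow_fin h.cubeZ (k + k' - j * i') _ (fin_val_comb j k i' k')]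
  have ha2 : a ^ 2 = 1 := by rw [pow_two, h.sq]
  have hX : ∀ (i j k : Fin 3), u ^ (i : ℕ) * y ^ (j : ℕ) * z ^ (k : ℕ) * a ^ (e' : ℕ) =
      a ^ (e' : ℕ) * (u ^ ((if e' = 0 then i else -i : Fin 3) : ℕ) *
        y ^ ((if e' = 0 then j else -j : Fin 3) : ℕ) * z ^ (k : ℕ)) := by
    intro i j k
    rcases (show ∀ e : Fin 2, e = 0 ∨ e = 1 by decide) e' with rfl | rfl
    · simp
    · rw [if_neg (by decide), if_neg (by decide), Fin.val_one, pow_one, h.conj_a, pow_neg h.cubeU,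
        pow_neg h.cubeY]
  show a ^ (e : ℕ) * (u ^ (i : ℕ) * y ^ (j : ℕ) * z ^ (k : ℕ)) *
    (a ^ (e' : ℕ) * (u ^ (i' : ℕ) * y ^ (j' : ℕ) * z ^ (k' : ℕ))) = _
  calc _ = a ^ (e : ℕ) * (u ^ (i : ℕ) * y ^ (j : ℕ) * z ^ (k : ℕ) * a ^ (e' : ℕ)) *
        (u ^ (i' : ℕ) * y ^ (j' : ℕ) * z ^ (k' : ℕ)) := by group
    _ = (a ^ (e : ℕ) * a ^ (e' : ℕ)) * ((u ^ ((if e' = 0 then i else -i : Fin 3) : ℕ) *
          y ^ ((if e' = 0 then j else -j : Fin 3) : ℕ) * z ^ (k : ℕ)) *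
        (u ^ (i' : ℕ) * y ^ (j' : ℕ) * z ^ (k' : ℕ))) := by rw [hX]; group
    _ = _ := by
      rw [hprod, ← pow_add, pow_fin ha2 (e + e') _ (Fin.val_add e e').symm]
      rfl

theorem word_zero : word a u y (0, 0, 0, 0) = 1 := by simp [word]

theorem word_surjective (h : Rel54 a u y) : Function.Surjective (word a u y) := by
  let S : Subgroup G :=
    { carrier := Set.range (word a u y)
      one_mem' := ⟨_, word_zero⟩
      mul_mem' := by
        rintro _ _ ⟨v, rfl⟩ ⟨w, rfl⟩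
        exact ⟨_, (h.word_mul v w).symm⟩
      inv_mem' := by
        rintro _ ⟨v, rfl⟩
        obtain ⟨w, hw⟩ : ∃ w, wmul v w = (0, 0, 0, 0) := by revert v; decide +kernel
        exact ⟨w, eq_inv_of_mul_eq_one_right (by rw [h.word_mul, hw, word_zero])⟩ }
  have hS : Subgroup.closure {a, u, y} ≤ S := by
    rw [Subgroup.closure_le]
    rintro _ (rfl | rfl | rfl)
    · exact ⟨(1, 0, 0, 0), by simp [word]⟩
    · exact ⟨(0, 1, 0, 0), by simp [word]⟩
    · exact ⟨(0, 0, 1, 0), by simp [word]⟩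
  rw [h.gen] at hS
  exact fun g => hS (Subgroup.mem_top g)

theorem word_injective (h : Rel54 a u y) : Function.Injective (word a u y) := by
  have hz1 : ∀ k : Fin 3, word a u y (0, 0, 0, k) = 1 → k = 0 := by
    intro k hk
    have hk' : ⁅u, y⁆ ^ (k : ℕ) = 1 := by simpa [word] using hk
    rcases (show ∀ k : Fin 3, k = 0 ∨ k = 1 ∨ k = 2 by decide) k with rfl | rfl | rfl
    · rfl
    · exact absurd (by simpa using hk') h.ne
    · refine absurd ?_ h.ne
      have h3 := h.cubeZ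
      rw [pow_succ, show ⁅u, y⁆ ^ 2 = 1 by simpa using hk', one_mul] at h3
      exact h3
  have hu : word a u y (0, 1, 0, 0) * word a u y (0, 2, 0, 0) = 1 := by
    rw [h.word_mul, show wmul (0, 1, 0, 0) (0, 2, 0, 0) = (0, 0, 0, 0) by decide, word_zero]
  have hy : word a u y (0, 0, 1, 0) * word a u y (0, 0, 2, 0) = 1 := by
    rw [h.word_mul, show wmul (0, 0, 1, 0) (0, 0, 2, 0) = (0, 0, 0, 0) by decide, word_zero]
  have key : ∀ w, word a u y w = 1 → w = (0, 0, 0, 0) := by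
    rintro ⟨e, i, j, k⟩ hw
    rcases (show ∀ e : Fin 2, e = 0 ∨ e = 1 by decide) e with rfl | rfl
    · have hinv : word a u y (0, -i, -j, -k - j * i) = 1 := by
        have h1 := h.word_mul (0, i, j, k) (0, -i, -j, -k - j * i)
        rw [hw, one_mul, wmul_inv, word_zero] at h1
        exact h1
      have cu : word a u y (0, 0, 0, j) = 1 := by
        rw [wmul_commU i j k, ← h.word_mul, ← h.word_mul, ← h.word_mul, hw, hinv, mul_one, mul_one, hu]
      have cy : word a u y (0, 0, 0, -i) = 1 := by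
        rw [wmul_commY i j k, ← h.word_mul, ← h.word_mul, ← h.word_mul, hw, hinv, mul_one, mul_one, hy]
      obtain rfl := hz1 j cu
      obtain rfl : i = 0 := neg_eq_zero.1 (hz1 _ cy)
      rw [hz1 k hw]
    · exfalso
      have hv : word a u y (0, i, j, k) * word a u y (0, i, j, k) * word a u y (0, i, j, k) = 1 := by
        rw [h.word_mul, h.word_mul,
          wmul_cube,
          word_zero]
      have hav : a⁻¹ = word a u y (0, i, j, k) :=
        inv_eq_of_mul_eq_one_right (by simpa [word] using hw)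
      rw [← hav, inv_eq_of_mul_eq_one_right h.sq, h.sq, one_mul] at hv
      have h1 := h.invU
      rw [hv, one_mul, mul_one] at h1
      have h2 : u = 1 := by
        have h3 := h.cubeU
        rw [pow_succ, pow_two] at h3
        calc u = u⁻¹ * u * u := by rw [inv_mul_cancel, one_mul]
          _ = u * u * u := by rw [← h1]
          _ = 1 := h3
      exact h.ne (by rw [h2, commutatorElement_one_left])
  intro v w hvw
  obtain ⟨v', hv'⟩ := wmul_left_inv v
  have h1 : word a u y (wmul v' w) = 1 := by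
    rw [← h.word_mul, ← hvw, h.word_mul, hv', word_zero]
  exact wmul_cancel v' v w hv' (key _ h1)

/-- Two such groups are isomorphic. -/
theorem nonempty_equiv {G' : Type*} [Group G'] {a' u' y' : G'} (h : Rel54 a u y) (h' : Rel54 a' u' y') :
    Nonempty (G ≃* G') := by
  let e := Equiv.ofBijective (word a u y) ⟨h.word_injective, h.word_surjective⟩
  let e' := Equiv.ofBijective (word a' u' y') ⟨h'.word_injective, h'.word_surjective⟩
  refine ⟨{ toEquiv := e.symm.trans e', map_mul' := fun p q => ?_ }⟩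
  obtain ⟨v, rfl⟩ := e.surjective p
  obtain ⟨w, rfl⟩ := e.surjective q
  have hm : e v * e w = e (wmul v w) := h.word_mul v w
  show e' (e.symm (e v * e w)) = e' (e.symm (e v)) * e' (e.symm (e w))
  rw [hm, Equiv.symm_apply_apply, Equiv.symm_apply_apply, Equiv.symm_apply_apply]
  exact (h'.word_mul v w).symm

theorem card_eq (h : Rel54 a u y) : Nat.card G = 54 := by
  rw [← Nat.card_congr (Equiv.ofBijective (word a u y) ⟨h.word_injective, h.word_surjective⟩)]
  simp [Word]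

end Rel54

end Cfsg.Agent.Lib.ThreeTransp
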