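import Cfsg.Agent.Lib.Characters.AltMultiplier

/-!
Moore's presentation of the alternating groups.
-/

set_option autoImplicit false

namespace Cfsg.Agent.Lib.ThreeTransp.Moore

open Equiv

variable {G : Type*} [Group G]

/-- Moore's relations on the first `m + 1` generators. -/
structure Rel (x : ℕ → G) (m : ℕ) : Prop where
  cube : x 0 ^ 3 = 1
  sq : ∀ i, 1 ≤ i → i ≤ m → x i ^ 2 = 1
  braid : ∀ i, i + 1 ≤ m → (x i * x (i + 1)) ^ 3 = 1
  far : ∀ i j, i + 1 < j → j ≤ m → (x i * x j) ^ 2 = 1

theorem Rel.mono {x : ℕ → G} {m k : ℕ} (h : Rel x m) (hk : k ≤ m) : Rel x k :=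
  ⟨h.cube, fun i h1 h2 => h.sq i h1 (h2.trans hk), fun i h1 => h.braid i (h1.trans hk),
    fun i j h1 h2 => h.far i j h1 (h2.trans hk)⟩

/-- Coset representatives. -/
def reps (x : ℕ → G) : ℕ → Set G
  | 0 => {1, x 0, x 0 * x 0}
  | m + 1 => insert 1 ((fun t => x (m + 1) * t) '' reps x m)

theorem one_mem_reps (x : ℕ → G) : ∀ m, (1 : G) ∈ reps x m
  | 0 => Or.inl rfl
  | _ + 1 => Set.mem_insert _ _

/-- The subgroup on the generators below `m`. -/
def sub (x : ℕ → G) (m : ℕ) : Subgroup G := Subgroup.closure {g | ∃ i < m, g = x i}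

theorem mem_sub {x : ℕ → G} {i m : ℕ} (h : i < m) : x i ∈ sub x m :=
  Subgroup.subset_closure ⟨i, h, rfl⟩

theorem sub_mono {x : ℕ → G} {k m : ℕ} (h : k ≤ m) : sub x k ≤ sub x m :=
  Subgroup.closure_mono fun _ ⟨i, hi, e⟩ => ⟨i, lt_of_lt_of_le hi h, e⟩

theorem inv_x0 {x : ℕ → G} {m : ℕ} (hr : Rel x m) : (x 0)⁻¹ = x 0 * x 0 :=
  inv_eq_of_mul_eq_one_right (by rw [← mul_assoc, ← pow_three']; exact hr.cube)

theorem conj_far {x : ℕ → G} {m i : ℕ} (hr : Rel x m) (hi : i + 1 < m) :
    x m * x i * x m = (x i)⁻¹ := by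
  have h := hr.far i m hi le_rfl
  rw [pow_two] at h
  calc x m * x i * x m = (x i)⁻¹ * (x i * x m * (x i * x m)) := by group
    _ = (x i)⁻¹ := by rw [h, mul_one]

theorem conj_sub {x : ℕ → G} {m k : ℕ} (hr : Rel x m) (hk : k < m) {h : G} (hh : h ∈ sub x k) :
    x m * h * (x m)⁻¹ ∈ sub x k := by
  have hXi : (x m)⁻¹ = x m := inv_eq_of_mul_eq_one_right
    (by rw [← pow_two]; exact hr.sq m (by omega) le_rfl)
  induction hh using Subgroup.closure_induction with
  | mem g hg =>
    obtain ⟨i, hi, rfl⟩ := hg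
    rw [hXi, conj_far hr (by omega)]
    exact inv_mem (mem_sub hi)
  | one => simp
  | mul a b _ _ ha hb =>
    rw [show x m * (a * b) * (x m)⁻¹ = (x m * a * (x m)⁻¹) * (x m * b * (x m)⁻¹) by group]
    exact mul_mem ha hb
  | inv a _ ha =>
    rw [show x m * a⁻¹ * (x m)⁻¹ = (x m * a * (x m)⁻¹)⁻¹ by group]
    exact inv_mem ha

theorem conj_reps {x : ℕ → G} {m : ℕ} (hr : Rel x m) : ∀ j, j + 2 ≤ m → ∀ t ∈ reps x j,
    x m * t * x m ∈ reps x j := by
  intro j
  induction j with
  | zero =>
    intro hj t ht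
    have hX : x m * x m = 1 := by rw [← pow_two]; exact hr.sq m (by omega) le_rfl
    have h0 := conj_far (i := 0) hr (by omega)
    rcases ht with rfl | rfl | rfl
    · rw [mul_one, hX]; exact Or.inl rfl
    · rw [h0, inv_x0 hr]; exact Or.inr (Or.inr rfl)
    · rw [← inv_x0 hr, show x m * (x 0)⁻¹ * x m = (x m * x m) * (x m * x 0 * x m)⁻¹ * (x m * x m) by
        group, h0, hX, inv_inv, one_mul, mul_one]
      exact Or.inr (Or.inl rfl)
  | succ j ih =>
    intro hj t ht
    have hX : x m * x m = 1 := by rw [← pow_two]; exact hr.sq m (by omega) le_rfl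
    rcases ht with rfl | ⟨s, hs, rfl⟩
    · rw [mul_one, hX]; exact Set.mem_insert _ _
    · refine Set.mem_insert_of_mem _ ⟨x m * s * x m, ih (by omega) s hs, ?_⟩
      have h1 := conj_far (i := j + 1) hr (by omega)
      have h2 : (x (j + 1))⁻¹ = x (j + 1) :=
        inv_eq_of_mul_eq_one_right (by rw [← pow_two]; exact hr.sq _ (by omega) (by omega))
      calc x (j + 1) * (x m * s * x m) = (x m * x (j + 1) * x m) * (x m * s * x m) := by rw [h1, h2]
        _ = x m * x (j + 1) * (x m * x m) * (s * x m) := by group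
        _ = x m * (x (j + 1) * s) * x m := by rw [hX, mul_one]; group

theorem step {x : ℕ → G} : ∀ m, Rel x m → ∀ t ∈ reps x m, ∀ i ≤ m,
    ∃ h ∈ sub x m, ∃ t' ∈ reps x m, t * x i = h * t' := by
  intro m
  induction m with
  | zero =>
    intro hr t ht i hi
    obtain rfl : i = 0 := by omega
    rcases ht with rfl | rfl | rfl
    · exact ⟨1, one_mem _, x 0, Or.inr (Or.inl rfl), by group⟩
    · exact ⟨1, one_mem _, x 0 * x 0, Or.inr (Or.inr rfl), by group⟩
    · exact ⟨1, one_mem _, 1, Or.inl rfl, by rw [mul_one, ← inv_x0 hr, inv_mul_cancel]⟩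
  | succ m ih =>
    intro hr t ht i hi
    set X := x (m + 1) with hX'
    have hX : X * X = 1 := by rw [← pow_two]; exact hr.sq _ (by omega) le_rfl
    have hXi : X⁻¹ = X := inv_eq_of_mul_eq_one_right hX
    rcases ht with rfl | ⟨s, hs, rfl⟩
    · rcases eq_or_lt_of_le hi with rfl | hlt
      · exact ⟨1, one_mem _, X * 1,
          Set.mem_insert_of_mem _ ⟨1, one_mem_reps x m, rfl⟩, by rw [mul_one, one_mul]⟩
      · exact ⟨x i, mem_sub hlt, 1, one_mem_reps x _, by rw [one_mul, mul_one]⟩
    · show ∃ h ∈ sub x (m + 1), ∃ t' ∈ reps x (m + 1), X * s * x i = h * t'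
      rcases eq_or_lt_of_le hi with rfl | hlt
      · rcases m with _ | k
        · have hb := hr.braid 0 le_rfl
          rw [pow_three'] at hb
          rcases hs with rfl | rfl | rfl
          · exact ⟨1, one_mem _, 1, one_mem_reps x _, by rw [mul_one, hX, one_mul]⟩
          · refine ⟨(x 0)⁻¹, inv_mem (mem_sub zero_lt_one), X * (x 0 * x 0),
              Set.mem_insert_of_mem _ ⟨_, Or.inr (Or.inr rfl), rfl⟩, ?_⟩
            rw [← inv_x0 hr]
            calc X * x 0 * x 1 = (x 0)⁻¹ * (x 0 * X * (x 0 * X) * (x 0 * X)) * (X⁻¹ * (x 0)⁻¹) := by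
                  rw [hX']; group
              _ = (x 0)⁻¹ * (X * (x 0)⁻¹) := by rw [hb, hXi, mul_one]
          · refine ⟨x 0, mem_sub zero_lt_one, X * x 0,
              Set.mem_insert_of_mem _ ⟨_, Or.inr (Or.inl rfl), rfl⟩, ?_⟩
            rw [← inv_x0 hr]
            calc X * (x 0)⁻¹ * x 1 = X⁻¹ * (x 0)⁻¹ * X⁻¹ := by rw [hXi, hX']
              _ = (x 0 * X * (x 0 * X) * (x 0 * X))⁻¹ * (x 0 * (X * x 0)) := by group
              _ = x 0 * (X * x 0) := by rw [hb, inv_one, one_mul]
        · rcases hs with rfl | ⟨r, hr', rfl⟩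
          · exact ⟨1, one_mem _, 1, one_mem_reps x _, by rw [mul_one, hX, one_mul]⟩
          · refine ⟨x (k + 1), mem_sub (by omega), X * (x (k + 1) * (X * r * X)),
              Set.mem_insert_of_mem _ ⟨_, Set.mem_insert_of_mem _ ⟨_, conj_reps hr k le_rfl r hr', rfl⟩, rfl⟩, ?_⟩
            set Y := x (k + 1) with hY'
            have hY : Y * Y = 1 := by rw [← pow_two]; exact hr.sq _ (by omega) (by omega)
            have hYi : Y⁻¹ = Y := inv_eq_of_mul_eq_one_right hY
            have hb := hr.braid (k + 1) le_rfl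
            rw [← hX', ← hY', pow_three'] at hb
            have hbr : X * Y * X = Y * X * Y := by
              calc X * Y * X = Y⁻¹ * (Y * X * (Y * X) * (Y * X)) * (X⁻¹ * Y⁻¹) := by group
                _ = Y * X * Y := by rw [hb, hXi, hYi, mul_one, mul_assoc]
            calc X * (Y * r) * X = (X * Y * X) * (X⁻¹ * r * X) := by group
              _ = Y * (X * (Y * (X * r * X))) := by rw [hbr, hXi]; group
      · obtain ⟨h, hh, t', ht', e⟩ := ih (hr.mono (Nat.le_succ m)) s hs i (by omega)
        refine ⟨X * h * X⁻¹, sub_mono (Nat.le_succ m) (conj_sub hr (Nat.lt_succ_self m) hh), X * t',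
          Set.mem_insert_of_mem _ ⟨t', ht', rfl⟩, ?_⟩
        rw [mul_assoc, e]; group

/-- Moore's bound. -/
theorem bound {x : ℕ → G} : ∀ k, (∀ m, k = m + 1 → Rel x m) →
    ∃ F : Finset G, 2 * F.card ≤ (k + 2).factorial ∧ ∀ g ∈ sub x k, g ∈ F := by
  classical
  intro k
  induction k with
  | zero =>
    intro _
    refine ⟨{1}, by simp [Nat.factorial], fun g hg => ?_⟩
    rw [sub, show {g : G | ∃ i < 0, g = x i} = ∅ by ext; simp, Subgroup.closure_empty,
      Subgroup.mem_bot] at hg
    simp [hg]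
  | succ k ih =>
    intro hr
    have hk := hr k rfl
    obtain ⟨F, hF, hFmem⟩ := ih fun m hm => hk.mono (by omega)
    have hT : ∀ m, (reps x m).Finite ∧ (reps x m).ncard ≤ m + 3 := by
      intro m
      induction m with
      | zero =>
        refine ⟨by simp [reps], ?_⟩
        refine (Set.ncard_insert_le _ _).trans (Nat.add_le_add_right
          ((Set.ncard_insert_le _ _).trans ?_) 1)
        simp
      | succ m ihm =>
        refine ⟨(ihm.1.image _).insert 1, (Set.ncard_insert_le _ _).trans ?_⟩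
        have := Set.ncard_image_le (f := fun t => x (m + 1) * t) ihm.1
        omega
    refine ⟨Finset.image₂ (· * ·) F (hT k).1.toFinset, ?_, ?_⟩
    · refine (Nat.mul_le_mul_left 2 (Finset.card_image₂_le _ _ _)).trans ?_
      rw [← Set.ncard_eq_toFinset_card _ (hT k).1]
      calc 2 * (F.card * (reps x k).ncard) = (reps x k).ncard * (2 * F.card) := by ring
        _ ≤ (k + 3) * (k + 2).factorial := Nat.mul_le_mul (hT k).2 hF
        _ = (k + 1 + 2).factorial := (Nat.factorial_succ (k + 2)).symm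
    · intro g hg
      suffices h : ∃ h ∈ sub x k, ∃ t ∈ reps x k, g = h * t by
        obtain ⟨h, hh, t, ht, rfl⟩ := h
        exact Finset.mem_image₂_of_mem (hFmem h hh) ((hT k).1.mem_toFinset.2 ht)
      have hone : ∀ g, (∃ h ∈ sub x k, ∃ t ∈ reps x k, g = h * t) → ∀ i ≤ k,
          ∃ h ∈ sub x k, ∃ t ∈ reps x k, g * x i = h * t := by
        rintro _ ⟨h, hh, t, ht, rfl⟩ i hi
        obtain ⟨h', hh', t', ht', e⟩ := step k hk t ht i hi
        exact ⟨h * h', mul_mem hh hh', t', ht', by rw [mul_assoc, e, mul_assoc]⟩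
      induction hg using Subgroup.closure_induction_right with
      | one => exact ⟨1, one_mem _, 1, one_mem_reps x k, by rw [mul_one]⟩
      | mul_right a _ y hy ih =>
        obtain ⟨i, hi, rfl⟩ := hy
        exact hone a ih i (by omega)
      | mul_inv_cancel a _ y hy ih =>
        obtain ⟨i, hi, rfl⟩ := hy
        rcases Nat.eq_zero_or_pos i with rfl | hpos
        · rw [inv_x0 hk, ← mul_assoc]
          exact hone _ (hone a ih 0 (by omega)) 0 (by omega)
        · rw [inv_eq_of_mul_eq_one_right (by rw [← pow_two]; exact hk.sq i hpos (by omega))]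
          exact hone a ih i (by omega)

open Cfsg.Agent.Lib.Characters.AltMultiplier in
/-- Moore's presentation. -/
theorem moore (n : ℕ) (hn : 3 ≤ n) :
    Nonempty (PresentedGroup
      ({g : FreeGroup (Fin (n - 2)) | ∃ i : Fin (n - 2), i.val = 0 ∧ g = FreeGroup.of i ^ 3} ∪
       {g | ∃ i : Fin (n - 2), 1 ≤ i.val ∧ g = FreeGroup.of i ^ 2} ∪
       {g | ∃ i j : Fin (n - 2), j.val = i.val + 1 ∧ g = (FreeGroup.of i * FreeGroup.of j) ^ 3} ∪
       {g | ∃ i j : Fin (n - 2), i.val + 1 < j.val ∧ g = (FreeGroup.of i * FreeGroup.of j) ^ 2})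
      ≃* alternatingGroup (Fin n)) := by
  classical
  set R : Set (FreeGroup (Fin (n - 2))) :=
      ({g : FreeGroup (Fin (n - 2)) | ∃ i : Fin (n - 2), i.val = 0 ∧ g = FreeGroup.of i ^ 3} ∪
       {g | ∃ i : Fin (n - 2), 1 ≤ i.val ∧ g = FreeGroup.of i ^ 2} ∪
       {g | ∃ i j : Fin (n - 2), j.val = i.val + 1 ∧ g = (FreeGroup.of i * FreeGroup.of j) ^ 3} ∪
       {g | ∃ i j : Fin (n - 2), i.val + 1 < j.val ∧ g = (FreeGroup.of i * FreeGroup.of j) ^ 2}) with hR
  let e : ℕ → Fin n := fun i => ⟨i % n, Nat.mod_lt _ (by omega)⟩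
  have he : ∀ {i j}, i < n → j < n → i ≠ j → e i ≠ e j := by
    intro i j hi hj hij h
    have := congrArg Fin.val h
    simp only [e, Nat.mod_eq_of_lt hi, Nat.mod_eq_of_lt hj] at this
    exact hij this
  let p : ℕ → Perm (Fin n) := fun i => swap (e 0) (e 1) * swap (e (i + 1)) (e (i + 2))
  have hconj01 : swap (e 0) (e 1) * swap (e 1) (e 2) * swap (e 0) (e 1) = swap (e 0) (e 2) := by
    have h := swap_apply_apply (swap (e 0) (e 1)) (e 1) (e 2)
    rw [swap_inv, swap_apply_right,
      swap_apply_of_ne_of_ne (he (by omega) (by omega) (by omega)) (he (by omega) (by omega) (by omega))] at h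
    exact h.symm
  have hcomm : ∀ {a b c d : Fin n}, a ≠ c → a ≠ d → b ≠ c → b ≠ d →
      swap a b * swap c d = swap c d * swap a b := by
    intro a b c d h1 h2 h3 h4
    have h := swap_apply_apply (swap c d) a b
    rw [swap_inv, swap_apply_of_ne_of_ne h1 h2, swap_apply_of_ne_of_ne h3 h4] at h
    calc swap a b * swap c d = swap c d * swap a b * swap c d * swap c d := by rw [← h]
      _ = swap c d * swap a b := by rw [mul_assoc, swap_mul_self, mul_one]
  have hp0 : (p 0).IsThreeCycle := by
    show (swap (e 0) (e 1) * swap (e 1) (e 2)).IsThreeCycle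
    rw [swap_comm (e 0) (e 1)]
    exact Perm.isThreeCycle_swap_mul_swap_same (he (by omega) (by omega) (by omega))
      (he (by omega) (by omega) (by omega)) (he (by omega) (by omega) (by omega))
  have hcube : ∀ {σ : Perm (Fin n)}, σ.IsThreeCycle → σ ^ 3 = 1 := fun hσ => by
    rw [← hσ.orderOf, pow_orderOf_eq_one]
  have hsq2 : ∀ {a b c d : Fin n}, a ≠ c → a ≠ d → b ≠ c → b ≠ d →
      (swap a b * swap c d) ^ 2 = 1 := by
    intro a b c d h1 h2 h3 h4
    rw [pow_two]
    conv_lhs => arg 2; rw [hcomm h1 h2 h3 h4]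
    rw [mul_assoc, ← mul_assoc (swap c d) (swap c d), swap_mul_self, one_mul, swap_mul_self]
  have hmem : ∀ i, i < n - 2 → p i ∈ alternatingGroup (Fin n) := fun i hi => by
    rw [Perm.mem_alternatingGroup, map_mul, Perm.sign_swap (he (by omega) (by omega) (by omega)),
      Perm.sign_swap (he (by omega) (by omega) (by omega))]
    rfl
  let f : Fin (n - 2) → alternatingGroup (Fin n) := fun i => ⟨p i, hmem i i.2⟩
  have hpair : ∀ i j : ℕ, 1 ≤ i → i < j → j < n - 2 → p i * p j =
      swap (e (i + 1)) (e (i + 2)) * swap (e (j + 1)) (e (j + 2)) := by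
    intro i j h1 h2 h3
    show swap (e 0) (e 1) * swap (e (i + 1)) (e (i + 2)) *
      (swap (e 0) (e 1) * swap (e (j + 1)) (e (j + 2))) = _
    rw [hcomm (he (by omega) (by omega) (by omega)) (he (by omega) (by omega) (by omega))
      (he (by omega) (by omega) (by omega)) (he (by omega) (by omega) (by omega)),
      mul_assoc, ← mul_assoc (swap (e 0) (e 1)) (swap (e 0) (e 1)), swap_mul_self, one_mul]
  have hzero : ∀ j : ℕ, p 0 * p j = swap (e 0) (e 2) * swap (e (j + 1)) (e (j + 2)) := by
    intro j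
    show swap (e 0) (e 1) * swap (e 1) (e 2) * (swap (e 0) (e 1) * _) = _
    rw [← mul_assoc, hconj01]
  have hrels : ∀ r ∈ R, FreeGroup.lift f r = 1 := by
    intro r hr
    rw [hR] at hr
    simp only [Set.mem_union, Set.mem_ofPred_eq] at hr
    rcases hr with ((⟨i, hi, rfl⟩ | ⟨i, hi, rfl⟩) | ⟨i, j, hij, rfl⟩) | ⟨i, j, hij, rfl⟩ <;>
      rw [map_pow] <;> (try rw [map_mul]) <;> simp only [FreeGroup.lift_apply_of] <;>
      refine Subtype.ext ?_ <;>
      simp only [SubmonoidClass.coe_pow, Subgroup.coe_mul, OneMemClass.coe_one, f]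
    · rw [hi]; exact hcube hp0
    · have := i.2
      exact hsq2 (he (by omega) (by omega) (by omega)) (he (by omega) (by omega) (by omega))
        (he (by omega) (by omega) (by omega)) (he (by omega) (by omega) (by omega))
    · have := j.2
      rw [hij]
      refine hcube ?_
      rcases Nat.eq_zero_or_pos i.val with h0 | h0
      · rw [h0, hzero, swap_comm (e 0) (e 2)]
        exact Perm.isThreeCycle_swap_mul_swap_same (he (by omega) (by omega) (by omega))
          (he (by omega) (by omega) (by omega)) (he (by omega) (by omega) (by omega))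
      · rw [hpair _ _ h0 (Nat.lt_succ_self _) (by omega), swap_comm (e (i.val + 1)) (e (i.val + 2))]
        exact Perm.isThreeCycle_swap_mul_swap_same (he (by omega) (by omega) (by omega))
          (he (by omega) (by omega) (by omega)) (he (by omega) (by omega) (by omega))
    · have := j.2
      rcases Nat.eq_zero_or_pos i.val with h0 | h0
      · rw [h0, hzero]
        exact hsq2 (he (by omega) (by omega) (by omega)) (he (by omega) (by omega) (by omega))
          (he (by omega) (by omega) (by omega)) (he (by omega) (by omega) (by omega))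
      · rw [hpair _ _ h0 (by omega) j.2]
        exact hsq2 (he (by omega) (by omega) (by omega)) (he (by omega) (by omega) (by omega))
          (he (by omega) (by omega) (by omega)) (he (by omega) (by omega) (by omega))
  let φ : PresentedGroup R →* alternatingGroup (Fin n) := PresentedGroup.toGroup hrels
  -- the bound
  let x : ℕ → PresentedGroup R := fun i => if h : i < n - 2 then PresentedGroup.of ⟨i, h⟩ else 1
  have hx : ∀ i (h : i < n - 2), x i = PresentedGroup.mk R (FreeGroup.of ⟨i, h⟩) :=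
    fun i h => dif_pos h
  have hone : ∀ g ∈ R, PresentedGroup.mk R g = 1 := fun g hg =>
    (QuotientGroup.eq_one_iff _).2 (Subgroup.subset_normalClosure hg)
  have hrel : ∀ m, n - 2 = m + 1 → Rel x m := by
    intro m hm
    refine ⟨?_, fun i h1 h2 => ?_, fun i h1 => ?_, fun i j h1 h2 => ?_⟩
    · rw [hx 0 (by omega), ← map_pow]
      exact hone _ (Or.inl (Or.inl (Or.inl ⟨_, rfl, rfl⟩)))
    · rw [hx i (by omega), ← map_pow]
      exact hone _ (Or.inl (Or.inl (Or.inr ⟨_, h1, rfl⟩)))
    · rw [hx i (by omega), hx (i + 1) (by omega), ← map_mul, ← map_pow]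
      exact hone _ (Or.inl (Or.inr ⟨_, _, rfl, rfl⟩))
    · rw [hx i (by omega), hx j (by omega), ← map_mul, ← map_pow]
      exact hone _ (Or.inr ⟨_, _, h1, rfl⟩)
  obtain ⟨F, hF, hFmem⟩ := bound (n - 2) hrel
  have htop : ∀ g : PresentedGroup R, g ∈ sub x (n - 2) := by
    intro g
    have h : g ∈ Subgroup.closure (Set.range (PresentedGroup.of (rels := R))) := by
      rw [PresentedGroup.closure_range_of]; trivial
    refine (Subgroup.closure_le _).2 ?_ h
    rintro _ ⟨i, rfl⟩
    exact Subgroup.subset_closure ⟨i.val, i.2, (hx i.val i.2).symm⟩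
  have hinj : Function.Injective (fun g : PresentedGroup R => (⟨g, hFmem g (htop g)⟩ : F)) :=
    fun a b h => congrArg Subtype.val h
  haveI : Finite (PresentedGroup R) := Finite.of_injective _ hinj
  have hcard : 2 * Nat.card (PresentedGroup R) ≤ 2 * Nat.card (alternatingGroup (Fin n)) := by
    haveI : Nontrivial (Fin n) := Fin.nontrivial_iff_two_le.2 (by omega)
    rw [two_mul_nat_card_alternatingGroup, Nat.card_perm, Nat.card_fin]
    refine le_trans (Nat.mul_le_mul_left 2 ?_) (le_trans hF (le_of_eq ?_))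
    · rw [← Nat.card_eq_finsetCard]; exact Nat.card_le_card_of_injective _ hinj
    · rw [Nat.sub_add_cancel (by omega)]
  have hsurj : Function.Surjective φ := by
    set K := φ.range.map (alternatingGroup (Fin n)).subtype with hK
    have hgen : ∀ i, i < n - 2 → p i ∈ K := fun i hi =>
      ⟨f ⟨i, hi⟩, ⟨PresentedGroup.of ⟨i, hi⟩, PresentedGroup.toGroup.of hrels⟩, rfl⟩
    have hcyc : ∀ k, k + 2 < n → cyc (e 0) (e 1) (e (k + 2)) ∈ K := by
      intro k
      induction k with
      | zero =>
        intro h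
        have : cyc (e 0) (e 1) (e 2) = p 0 := by
          show swap (e 0) (e 2) * swap (e 0) (e 1) = swap (e 0) (e 1) * swap (e 1) (e 2)
          rw [← hconj01, mul_assoc, swap_mul_self, mul_one]
        rw [this]; exact hgen 0 (by omega)
      | succ k ih =>
        intro h
        have hg := hgen (k + 1) (by omega)
        set g := p (k + 1) with hgdef
        have a0 : g (e 0) = e 1 := by
          show (swap (e 0) (e 1) * swap (e (k + 1 + 1)) (e (k + 1 + 2))) (e 0) = e 1
          rw [Perm.mul_apply, swap_apply_of_ne_of_ne (he (by omega) (by omega) (by omega))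
            (he (by omega) (by omega) (by omega)), swap_apply_left]
        have a1 : g (e 1) = e 0 := by
          show (swap (e 0) (e 1) * swap (e (k + 1 + 1)) (e (k + 1 + 2))) (e 1) = e 0
          rw [Perm.mul_apply, swap_apply_of_ne_of_ne (he (by omega) (by omega) (by omega))
            (he (by omega) (by omega) (by omega)), swap_apply_right]
        have a2 : g (e (k + 2)) = e (k + 1 + 2) := by
          show (swap (e 0) (e 1) * swap (e (k + 2)) (e (k + 1 + 2))) (e (k + 2)) = _
          rw [Perm.mul_apply, swap_apply_left, swap_apply_of_ne_of_ne (he (by omega) (by omega) (by omega))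
            (he (by omega) (by omega) (by omega))]
        have key : g * cyc (e 0) (e 1) (e (k + 2)) * g⁻¹ = (cyc (e 0) (e 1) (e (k + 1 + 2)))⁻¹ := by
          have h1 := swap_apply_apply g (e 0) (e (k + 2))
          have h2 := swap_apply_apply g (e 0) (e 1)
          rw [a0, a2] at h1
          rw [a0, a1, swap_comm] at h2
          have h3 := swap_apply_apply (swap (e 0) (e 1)) (e 0) (e (k + 1 + 2))
          rw [swap_inv, swap_apply_left, swap_apply_of_ne_of_ne (he (by omega) (by omega) (by omega))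
            (he (by omega) (by omega) (by omega))] at h3
          rw [cyc, cyc, show g * (swap (e 0) (e (k + 2)) * swap (e 0) (e 1)) * g⁻¹ =
            (g * swap (e 0) (e (k + 2)) * g⁻¹) * (g * swap (e 0) (e 1) * g⁻¹) by group,
            ← h1, ← h2, h3, mul_assoc, swap_mul_self, mul_one, mul_inv_rev, swap_inv, swap_inv]
        have hm := K.inv_mem (K.mul_mem (K.mul_mem hg (ih (by omega))) (K.inv_mem hg))
        rwa [key, inv_inv] at hm
    have hall := alt_le_of_mem (he (by omega) (by omega) (by omega) : e 0 ≠ e 1) K (fun i h0 h1 => by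
      obtain ⟨i, hi⟩ := i
      have hei : e i = ⟨i, hi⟩ := Fin.ext (Nat.mod_eq_of_lt hi)
      have hne0 : i ≠ 0 := fun h => h0 (by rw [← hei, h])
      have hne1 : i ≠ 1 := fun h => h1 (by rw [← hei, h])
      obtain ⟨k, rfl⟩ : ∃ k, i = k + 2 := ⟨i - 2, by omega⟩
      rw [← hei]
      exact hcyc k hi) (Subgroup.map_subtype_le _)
    intro a
    obtain ⟨b, ⟨c, rfl⟩, hb⟩ := hall a.2
    exact ⟨c, Subtype.ext hb⟩
  exact ⟨MulEquiv.ofBijective φ ((Nat.bijective_iff_surjective_and_card φ).2
    ⟨hsurj, le_antisymm (by omega) (Nat.card_le_card_of_surjective φ hsurj)⟩)⟩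

end Cfsg.Agent.Lib.ThreeTransp.Moore
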