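import Cfsg.Agent.Lib.ThreeTransp.SmallOrders

/-!
The neighbours of a member of a 3-transposition class form one class of the subgroup they generate,
in a group without solvable normal subgroup.
-/

set_option autoImplicit false

namespace Cfsg.Agent.Lib.ThreeTransp

open Cfsg

variable {G : Type*} [Group G] [Finite G] {D : Set G}

/-- The class of `y` under the subgroup generated by the neighbours of `x`. -/
def cls (D : Set G) (x y : G) : Set G :=
  {w | ∃ g ∈ Subgroup.closure (nbr D x), g * y * g⁻¹ = w}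

theorem mem_cls_self (x y : G) : y ∈ cls D x y := ⟨1, one_mem _, by simp⟩

theorem cls_subset (hc : ∀ g : G, ∀ d ∈ D, g * d * g⁻¹ ∈ D) {x y : G} (hy : y ∈ nbr D x) :
    cls D x y ⊆ nbr D x := by
  rintro w ⟨g, hg, rfl⟩
  have hx : g * x * g⁻¹ = x := by
    have hle : Subgroup.closure (nbr D x) ≤ Subgroup.centralizer ({x} : Set G) :=
      (Subgroup.closure_le _).2 fun e he => Subgroup.mem_centralizer_singleton_iff.2 he.2.2.symm
    rw [Subgroup.mem_centralizer_singleton_iff.1 (hle hg), mul_inv_cancel_right]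
  have h := (nbr_conj hc g x (g * y * g⁻¹)).2 (by simpa [mul_assoc] using hy)
  rwa [hx] at h

theorem cls_eq {x y w : G} (hw : w ∈ cls D x y) : cls D x w = cls D x y := by
  obtain ⟨g, hg, rfl⟩ := hw
  ext u
  constructor
  · rintro ⟨h, hh, rfl⟩
    exact ⟨h * g, mul_mem hh hg, by group⟩
  · rintro ⟨h, hh, rfl⟩
    exact ⟨h * g⁻¹, mul_mem hh (inv_mem hg), by group⟩

theorem mem_cls_of_not_commute (hS : IsThreeTranspositionSet D) {x y w : G} (hy : y ∈ nbr D x)
    (hw : w ∈ nbr D x) (h : ¬ Commute y w) : w ∈ cls D x y :=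
  ⟨y * w, mul_mem (Subgroup.subset_closure hy) (Subgroup.subset_closure hw),
    (conj_of_not_commute hS hy.1 hw.1 h).symm⟩

/-- A set of neighbours closed under not commuting contains the classes it meets. -/
theorem cls_subset_of_closed (hS : IsThreeTranspositionSet D)
    (hc : ∀ g : G, ∀ d ∈ D, g * d * g⁻¹ ∈ D) {x y : G} {T : Set G} (hT : T ⊆ nbr D x) (hy : y ∈ T)
    (hcl : ∀ t ∈ T, ∀ e ∈ nbr D x, ¬ Commute t e → e ∈ T) : cls D x y ⊆ T := by
  have hstep : ∀ e ∈ nbr D x, ∀ t ∈ T, e * t * e⁻¹ ∈ T := by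
    intro e he t ht
    by_cases h : Commute t e
    · rwa [← h.eq, mul_inv_cancel_right]
    · have he' : e ∈ T := hcl t ht e he h
      have hn : e * t * e⁻¹ ∈ nbr D x :=
        cls_subset hc (hT ht) ⟨e, Subgroup.subset_closure he, rfl⟩
      refine hcl e he' _ hn fun hcm => h ?_
      have h2 : Commute (e * e * e⁻¹) (e * t * e⁻¹) := by rwa [mul_inv_cancel_right]
      exact (commute_conj.1 h2).symm
  rintro w ⟨g, hg, rfl⟩
  induction hg using Subgroup.closure_induction_left generalizing y with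
  | one => simpa using hy
  | mul_left e he g _ ih =>
    have := hstep e he _ (ih hy)
    simpa [mul_assoc] using this
  | inv_mul_cancel e he g _ ih =>
    have := hstep e he _ (ih hy)
    rw [inv_inv_self (hS.1 e he.1)] at this
    rw [inv_inv_self (hS.1 e he.1), mul_inv_rev, inv_inv_self (hS.1 e he.1)]
    simpa [mul_assoc] using this

/-- `y` generates a class of least size among all classes of neighbours. -/
def MinPair (D : Set G) (x y : G) : Prop :=
  x ∈ D ∧ y ∈ nbr D x ∧ ∀ x' ∈ D, ∀ y' ∈ nbr D x', (cls D x y).ncard ≤ (cls D x' y').ncard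

theorem MinPair.of_mem {x y w : G} (h : MinPair D x y) (hc : ∀ g : G, ∀ d ∈ D, g * d * g⁻¹ ∈ D)
    (hw : w ∈ cls D x y) : MinPair D x w :=
  ⟨h.1, cls_subset hc h.2.1 hw, fun x' hx' y' hy' => by rw [cls_eq hw]; exact h.2.2 x' hx' y' hy'⟩

theorem cls_conj (g x y : G) (hc : ∀ g : G, ∀ d ∈ D, g * d * g⁻¹ ∈ D) :
    cls D (g * x * g⁻¹) (g * y * g⁻¹) = (fun w => g * w * g⁻¹) '' cls D x y := by
  have hn : nbr D (g * x * g⁻¹) = (MulAut.conj g).toMonoidHom '' nbr D x := by
    ext u
    rw [nbr_conj hc]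
    exact ⟨fun hu => ⟨_, hu, by simp [mul_assoc]⟩, by rintro ⟨v, hv, rfl⟩; simpa [mul_assoc] using hv⟩
  have hcl : Subgroup.closure (nbr D (g * x * g⁻¹)) =
      (Subgroup.closure (nbr D x)).map (MulAut.conj g).toMonoidHom := by
    rw [hn, MonoidHom.map_closure]
  ext w
  constructor
  · rintro ⟨h, hh, rfl⟩
    rw [hcl] at hh
    obtain ⟨k, hk, rfl⟩ := hh
    exact ⟨k * y * k⁻¹, ⟨k, hk, rfl⟩, by simp [mul_assoc]⟩
  · rintro ⟨_, ⟨k, hk, rfl⟩, rfl⟩
    exact ⟨g * k * g⁻¹, hcl ▸ ⟨k, hk, by simp⟩, by group⟩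

theorem MinPair.conj {x y : G} (h : MinPair D x y) (hc : ∀ g : G, ∀ d ∈ D, g * d * g⁻¹ ∈ D) (g : G) :
    MinPair D (g * x * g⁻¹) (g * y * g⁻¹) := by
  refine ⟨hc g x h.1, (nbr_conj hc g x _).2 (by simpa [mul_assoc] using h.2.1), fun x' hx' y' hy' => ?_⟩
  rw [cls_conj g x y hc, Set.ncard_image_of_injective _ (fun a b e => by simpa using e)]
  exact h.2.2 x' hx' y' hy'

/-- The basic data: a class whose two equivalence relations are trivial. -/
structure NbrData (D : Set G) : Prop where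
  set : IsThreeTranspositionSet D
  stable : ∀ g : G, ∀ d ∈ D, g * d * g⁻¹ ∈ D
  gen : Subgroup.closure D = ⊤
  trans : ∀ a ∈ D, ∀ b ∈ D, ∃ g : G, b = g * a * g⁻¹
  same : ∀ a ∈ D, ∀ b ∈ D, SameComm D b a → b = a
  nbrEq : ∀ a ∈ D, ∀ b ∈ D, nbr D a = nbr D b → a = b

theorem NbrData.nbr_card (hd : NbrData D) {a b : G} (ha : a ∈ D) (hb : b ∈ D) :
    (nbr D a).ncard = (nbr D b).ncard := by
  obtain ⟨g, rfl⟩ := hd.trans a ha b hb
  have hn : nbr D (g * a * g⁻¹) = (fun w => g * w * g⁻¹) '' nbr D a := by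
    ext u
    rw [nbr_conj hd.stable]
    exact ⟨fun hu => ⟨_, hu, by group⟩, by rintro ⟨v, hv, rfl⟩; simpa [mul_assoc] using hv⟩
  rw [hn, Set.ncard_image_of_injective _ (fun p q e => by simpa using e)]

theorem nbr_symm {a b : G} (ha : a ∈ D) (h : b ∈ nbr D a) : a ∈ nbr D b :=
  ⟨ha, fun e => h.2.1 e.symm, h.2.2.symm⟩

/-- Some neighbour in the class of a neighbour `y` of `x` does not commute with `y`. -/
theorem NbrData.exists_not_commute (hd : NbrData D) {x y : G} (hx : x ∈ D) (hy : y ∈ nbr D x) :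
    ∃ y' ∈ nbr D x, ¬ Commute y y' := by
  by_contra hall
  push Not at hall
  have hsub : insert x (nbr D x \ {y}) ⊆ nbr D y := by
    rintro w (rfl | ⟨hw, hne⟩)
    · exact nbr_symm hx hy
    · exact ⟨hw.1, hne, hall w hw⟩
  have heq : insert x (nbr D x \ {y}) = nbr D y := by
    refine Set.eq_of_subset_of_ncard_le hsub ?_ (Set.toFinite _)
    rw [Set.ncard_insert_of_notMem (fun h => h.1.2.1 rfl) (Set.toFinite _),
      Set.ncard_diff_singleton_add_one hy (Set.toFinite _), hd.nbr_card hy.1 hx]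
  refine hy.2.1 (hd.same x hx y hy.1 fun e he => ⟨fun h => ?_, fun h => ?_⟩)
  · by_cases hey : e = y
    · rw [hey]; exact hy.2.2
    · have hmem : e ∈ nbr D y := ⟨he, hey, h⟩
      rw [← heq] at hmem
      rcases hmem with rfl | hmem
      · exact Commute.refl _
      · exact hmem.1.2.2
  · by_cases hey : e = y
    · rw [hey]
    · by_cases hex : e = x
      · rw [hex]; exact hy.2.2.symm
      · exact (hsub (Or.inr ⟨⟨he, hex, h⟩, hey⟩)).2.2

/-- **Swapping a least class.** -/
theorem NbrData.swap (hd : NbrData D) {x y : G} (h : MinPair D x y) :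
    MinPair D y x ∧ nbr D y \ cls D y x = nbr D x \ cls D x y := by
  obtain ⟨hx, hy, hmin⟩ := h
  have hy' : x ∈ nbr D y := nbr_symm hx hy
  set X1 := cls D x y with hX1
  set X' := nbr D x \ X1 with hX'
  set B := cls D y x with hB
  have hX1sub : X1 ⊆ nbr D x := cls_subset hd.stable hy
  have hBsub : B ⊆ nbr D y := cls_subset hd.stable hy'
  -- the rest of the neighbours of `x` are neighbours of `y`
  have hX'y : X' ⊆ nbr D y := fun w hw => ⟨hw.1.1, fun e => hw.2 (e ▸ mem_cls_self x y), by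
    by_contra hc
    exact hw.2 (mem_cls_of_not_commute hd.set hy hw.1 hc)⟩
  set Cx : Set (Set G) := cls D x '' nbr D x with hCx
  set Cy : Set (Set G) := cls D y '' nbr D y with hCy
  have hX1mem : X1 ∈ Cx := ⟨y, hy, rfl⟩
  have hBmem : B ∈ Cy := ⟨x, hy', rfl⟩
  -- the classes at `x` and at `y` are equally many
  have hcard : Cx.ncard = Cy.ncard := by
    obtain ⟨g, rfl⟩ := hd.trans x hx y hy.1
    have : Cy = (Set.image fun w => g * w * g⁻¹) '' Cx := by
      ext S
      constructor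
      · rintro ⟨w, hw, rfl⟩
        rw [nbr_conj hd.stable] at hw
        refine ⟨_, ⟨_, hw, rfl⟩, ?_⟩
        rw [← cls_conj g x _ hd.stable]
        congr 1
        group
      · rintro ⟨_, ⟨w, hw, rfl⟩, rfl⟩
        exact ⟨g * w * g⁻¹, (nbr_conj hd.stable g x _).2 (by simpa [mul_assoc] using hw),
          cls_conj g x w hd.stable⟩
    rw [this, Set.ncard_image_of_injective Cx
      (Set.image_injective.2 fun a b e => by simpa using e)]
  -- a class at `x` other than `X1` lies in one class at `y`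
  have hpush : ∀ w ∈ X', ∀ u ∈ cls D x w, u ∈ cls D y w := by
    intro w hw
    have key : cls D x w ⊆ {u | u ∈ X' ∧ u ∈ cls D y w} := by
      refine cls_subset_of_closed hd.set hd.stable (fun u hu => hu.1.1) ⟨hw, mem_cls_self y w⟩ ?_
      rintro t ⟨ht, htc⟩ e he hte
      have he' : e ∈ X' := ⟨he, fun h1 => ht.2 (by
        rw [hX1, ← cls_eq h1]
        exact mem_cls_of_not_commute hd.set he ht.1 fun hc => hte hc.symm)⟩
      refine ⟨he', ?_⟩
      rw [← cls_eq htc]
      exact mem_cls_of_not_commute hd.set (hX'y ht) (hX'y he') hte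
    exact fun u hu => (key hu).2
  -- the induced map hits all classes at `y` but possibly `B`
  have hsurj : ∀ Q ∈ Cy, Q ≠ B → ∃ w ∈ X', cls D y w = Q := by
    rintro Q ⟨q, hq, rfl⟩ hne
    by_contra hno
    push Not at hno
    have hQsub : cls D y q ⊆ X1 := by
      intro u hu
      have hu' := cls_subset hd.stable hq hu
      by_contra hu1
      have hux : u ≠ x := fun e => hne (by rw [hB, ← e, cls_eq hu])
      have hcx : Commute x u := by
        by_contra hc
        exact hne (by rw [← cls_eq hu, hB, cls_eq (mem_cls_of_not_commute hd.set hy' hu' hc)])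
      exact hno u ⟨⟨hu'.1, hux, hcx⟩, hu1⟩ (cls_eq hu)
    have hlt : (cls D y q).ncard < X1.ncard := by
      refine Set.ncard_lt_ncard ⟨hQsub, fun hh => ?_⟩ (Set.toFinite _)
      exact (cls_subset hd.stable hq (hh (mem_cls_self x y))).2.1 rfl
    exact absurd (hmin y hy.1 q hq) (not_le.2 hlt)
  -- hence `B` is not hit
  have hBdisj : ∀ w ∈ X', cls D y w ≠ B := by
    intro w0 hw0 hB0
    have hle : Cy.ncard ≤ ((cls D y '' X')).ncard := by
      refine Set.ncard_le_ncard (fun Q hQ => ?_) (Set.toFinite _)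
      by_cases hQB : Q = B
      · exact ⟨w0, hw0, hB0.trans hQB.symm⟩
      · exact hsurj Q hQ hQB
    have hle2 : (cls D y '' X').ncard ≤ (Cx \ {X1}).ncard := by
      have hex : ∀ S ∈ Cx \ {X1}, ∃ Q, ∀ w ∈ X', cls D x w = S → cls D y w = Q := by
        rintro S ⟨⟨u, hu, rfl⟩, hS⟩
        refine ⟨cls D y u, fun w hw hweq => ?_⟩
        have hu1 : u ∈ cls D x w := hweq ▸ mem_cls_self x u
        exact (cls_eq (hpush w hw u hu1)).symm
      choose f hf using hex
      let F : Set G → Set G := fun S => by classical exact if h : S ∈ Cx \ {X1} then f S h else ∅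
      refine le_trans (Set.ncard_le_ncard (t := F '' (Cx \ {X1})) ?_ (Set.toFinite _))
        (Set.ncard_image_le (Set.toFinite _))
      rintro _ ⟨w, hw, rfl⟩
      have hmem : cls D x w ∈ Cx \ {X1} :=
        ⟨⟨w, hw.1, rfl⟩, fun e => hw.2 (e ▸ mem_cls_self x w)⟩
      exact ⟨_, hmem, by simp only [F, dif_pos hmem]; exact (hf _ hmem w hw rfl).symm⟩
    have h3 := Set.ncard_diff_singleton_add_one hX1mem (Set.toFinite _)
    omega
  -- sizes
  have hBX' : ∀ w ∈ B, w ∉ X' := fun w hw hw' => hBdisj w hw' (by rw [cls_eq hw])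
  have hsub : B ⊆ nbr D y \ X' := fun w hw => ⟨hBsub hw, hBX' w hw⟩
  have hc1 := Set.ncard_diff_add_ncard_of_subset hX'y (Set.toFinite _)
  have hc2 := Set.ncard_diff_add_ncard_of_subset hX1sub (Set.toFinite _)
  have hBge : X1.ncard ≤ B.ncard := hmin y hy.1 x hy'
  have hBeq : B = nbr D y \ X' := by
    refine Set.eq_of_subset_of_ncard_le hsub ?_ (Set.toFinite _)
    have := hd.nbr_card hy.1 hx
    rw [← hX'] at hc2
    omega
  refine ⟨⟨hy.1, hy', fun x' hx' y' hyy => ?_⟩, ?_⟩
  · refine le_trans (le_of_eq ?_) (hmin x' hx' y' hyy)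
    have := hd.nbr_card hy.1 hx
    rw [← hX'] at hc2
    rw [← hB, hBeq]
    omega
  · ext w
    rw [hBeq]
    simp only [Set.mem_diff]
    exact ⟨fun hw => by_contra fun h => hw.2 ⟨hw.1, h⟩, fun hw => ⟨hX'y hw, fun h => h.2 hw⟩⟩

/-- **A member has only one least class.** -/
theorem NbrData.min_unique (hd : NbrData D) {x y z : G} (hy : MinPair D x y) (hz : MinPair D x z) :
    z ∈ cls D x y := by
  by_contra hne
  have hX1 := cls_subset hd.stable hy.2.1
  have hzX' : z ∈ nbr D x \ cls D x y := ⟨hz.2.1, hne⟩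
  have hyX' : y ∈ nbr D x \ cls D x z := ⟨hy.2.1, fun h => hne (by
    rw [cls_eq h]; exact mem_cls_self x z)⟩
  obtain ⟨z', hz', hzz'⟩ := hd.exists_not_commute hy.1 hz.2.1
  obtain ⟨hsw, hswX⟩ := hd.swap hy
  obtain ⟨hswz, hswzX⟩ := hd.swap hz
  -- a neighbour `a` of `z` not commuting with `x`
  have hcount : (nbr D x \ nbr D z).ncard = (nbr D z \ nbr D x).ncard := by
    have h1 := Set.ncard_inter_add_ncard_diff_eq_ncard (nbr D x) (nbr D z) (Set.toFinite _)
    have h2 := Set.ncard_inter_add_ncard_diff_eq_ncard (nbr D z) (nbr D x) (Set.toFinite _)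
    rw [Set.inter_comm] at h2
    have := hd.nbr_card hy.1 hz.2.1.1
    omega
  have htwo : 1 < (nbr D x \ nbr D z).ncard := by
    refine (Set.one_lt_ncard (Set.toFinite _)).2 ⟨z, ⟨hz.2.1, fun h => h.2.1 rfl⟩, z',
      ⟨hz', fun h => hzz' h.2.2⟩, fun e => hzz' (e ▸ Commute.refl z)⟩
  rw [hcount] at htwo
  obtain ⟨a, ha, hax⟩ := Set.exists_ne_of_one_lt_ncard htwo x
  have hxa : ¬ Commute x a := fun h => ha.2 ⟨ha.1.1, hax, h⟩
  have haz : a ∈ cls D z x := mem_cls_of_not_commute hd.set hswz.2.1 ha.1 hxa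
  -- `a` commutes with everything in `nbr D x \ cls D x z`
  have h1 : nbr D x \ cls D x z ⊆ nbr D a := by
    obtain ⟨-, he⟩ := hd.swap (hswz.of_mem hd.stable haz)
    rw [cls_eq haz, hswzX] at he
    exact fun w hw => (he.symm ▸ hw : w ∈ nbr D a \ _).1
  have hay : a ∈ nbr D y := nbr_symm ha.1.1 (h1 hyX')
  have hay' : a ∈ cls D y x := mem_cls_of_not_commute hd.set hsw.2.1 hay hxa
  have h2 : nbr D x \ cls D x y ⊆ nbr D a := by
    obtain ⟨-, he⟩ := hd.swap (hsw.of_mem hd.stable hay')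
    rw [cls_eq hay', hswX] at he
    exact fun w hw => (he.symm ▸ hw : w ∈ nbr D a \ _).1
  have hsub : nbr D x ⊆ nbr D a := by
    intro w hw
    by_cases hw1 : w ∈ cls D x y
    · refine h1 ⟨hw, fun hw2 => hne ?_⟩
      rw [← cls_eq hw1, cls_eq hw2]
      exact mem_cls_self x z
    · exact h2 ⟨hw, hw1⟩
  exact hax (hd.nbrEq x hy.1 a ha.1.1 (Set.eq_of_subset_of_ncard_le hsub
    (hd.nbr_card ha.1.1 hy.1).le (Set.toFinite _))).symm

/-- Linked by least classes. -/
def Linked (D : Set G) : G → G → Prop := Relation.EqvGen (MinPair D)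

theorem Linked.conj (hc : ∀ g : G, ∀ d ∈ D, g * d * g⁻¹ ∈ D) (g : G) {a b : G} (h : Linked D a b) :
    Linked D (g * a * g⁻¹) (g * b * g⁻¹) := by
  induction h with
  | rel a b h => exact .rel _ _ (h.conj hc g)
  | refl a => exact .refl _
  | symm a b _ ih => exact .symm _ _ ih
  | trans a b c _ _ ih1 ih2 => exact .trans _ _ _ ih1 ih2

/-- The neighbours outside the least class. -/
def outside (D : Set G) (u : G) : Set G := {v | v ∈ nbr D u ∧ ¬ MinPair D u v}

theorem NbrData.outside_eq (hd : NbrData D) {u v : G} (h : MinPair D u v) :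
    outside D u = nbr D u \ cls D u v := by
  ext w
  constructor
  · exact fun ⟨h1, h2⟩ => ⟨h1, fun hw => h2 (h.of_mem hd.stable hw)⟩
  · exact fun ⟨h1, h2⟩ => ⟨h1, fun hw => h2 (hd.min_unique h hw)⟩

theorem NbrData.linked_outside (hd : NbrData D) {a b : G} (h : Linked D a b) :
    outside D a = outside D b ∧ (a ∈ D ↔ b ∈ D) := by
  induction h with
  | rel a b h =>
    obtain ⟨hs, he⟩ := hd.swap h
    exact ⟨by rw [hd.outside_eq h, hd.outside_eq hs, he], fun _ => h.2.1.1, fun _ => h.1⟩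
  | refl a => exact ⟨rfl, Iff.rfl⟩
  | symm a b _ ih => exact ⟨ih.1.symm, ih.2.symm⟩
  | trans a b c _ _ ih1 ih2 => exact ⟨ih1.1.trans ih2.1, ih1.2.trans ih2.2⟩

/-- Blocks commute completely or not at all. -/
theorem NbrData.linked_commute (hd : NbrData D) {u u' v : G} (hu : u ∈ D) (hv : v ∈ D)
    (hl : Linked D u u') (hn : ¬ Linked D u v) (hc : Commute u v) : Commute u' v := by
  have hmem : v ∈ outside D u :=
    ⟨⟨hv, fun e => hn (e ▸ .refl u), hc⟩, fun h => hn (.rel _ _ h)⟩
  rw [(hd.linked_outside hl).1] at hmem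
  exact hmem.1.2.2

/-- Linked members act alike on the blocks. -/
theorem NbrData.linked_act (hd : NbrData D) {u u' d : G} (hu : u ∈ D) (hd' : d ∈ D)
    (hl : Linked D u u') : Linked D (u * d * u⁻¹) (u' * d * u'⁻¹) := by
  have hu' : u' ∈ D := (hd.linked_outside hl).2.1 hu
  by_cases h : Linked D u d
  · have h1 : Linked D (u * d * u⁻¹) u := by
      have := Linked.conj hd.stable u (Relation.EqvGen.symm _ _ h)
      rwa [mul_inv_cancel_right] at this
    have h2 : Linked D (u' * d * u'⁻¹) u' := by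
      have := ((hl.symm _ _).trans _ _ _ h).symm _ _ |> Linked.conj hd.stable u'
      rwa [mul_inv_cancel_right] at this
    exact h1.trans _ _ _ (hl.trans _ _ _ (h2.symm _ _))
  by_cases hc : Commute u d
  · have hc' := hd.linked_commute hu hd' hl h hc
    rw [hc.eq, mul_inv_cancel_right, hc'.eq, mul_inv_cancel_right]
    exact .refl _
  · have hn' : ¬ Linked D u' d := fun e => h (hl.trans _ _ _ e)
    have hc' : ¬ Commute u' d := fun e => hc (hd.linked_commute hu' hd' (hl.symm _ _) hn' e)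
    have e1 : ∀ w ∈ D, ¬ Commute w d → w * d * w⁻¹ = d * w * d⁻¹ := fun w hw hwd => by
      rw [tt_conj_self hd.set hw, tt_conj_self hd.set hd']
      exact (tt_comm_or_braid hd.set hw hd' hwd).1
    rw [e1 u hu hc, e1 u' hu' hc']
    exact hl.conj hd.stable d

/-- **The neighbours of a member form one class.** -/
theorem mem_cls_of_nbr (hsol : ∀ N : Subgroup G, N.Normal → Group.IsSolvable ↥N → N = ⊥)
    (hD : IsThreeTranspositionClass D) {x y y' : G} (hx : x ∈ D) (hy : y ∈ nbr D x)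
    (hy' : y' ∈ nbr D x) : y' ∈ cls D x y := by
  classical
  obtain ⟨⟨hS, hc, hgen⟩, htr⟩ := class_data hD
  have hcore : ∀ p : ℕ, p.Prime → pCore p G = ⊥ := by
    intro p hp
    haveI : Fact p.Prime := ⟨hp⟩
    refine hsol _ inferInstance ?_
    have hP : IsPGroup p (pCore p G) := Cfsg.Agent.Lib.Cores.pCore_isPGroup p G
    exact isSolvable_pGroup _ hP
  have hd : NbrData D :=
    { set := hS, stable := hc, gen := hgen, trans := htr
      same := fun a ha b hb h => by
        have := mul_mem_pCore_two hS hc ha hb h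
        rw [hcore 2 Nat.prime_two, Subgroup.mem_bot] at this
        rw [eq_inv_of_mul_eq_one_right this, inv_inv_self (hS.1 a ha)]
      nbrEq := fun a ha b hb h => by
        have := mul_mem_pCore_three hS hc ha hb h.symm
        rw [hcore 3 Nat.prime_three, Subgroup.mem_bot] at this
        rw [eq_inv_of_mul_eq_one_right this, inv_inv_self (hS.1 a ha)] }
  by_contra hne
  -- a least class
  obtain ⟨⟨x0, y0⟩, h0, hmin⟩ := Set.exists_min_image {p : G × G | p.1 ∈ D ∧ p.2 ∈ nbr D p.1}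
    (fun p => (cls D p.1 p.2).ncard) (Set.toFinite _) ⟨(x, y), hx, hy⟩
  obtain ⟨g, hg⟩ := htr x0 h0.1 x hx
  have hm : MinPair D x (g * y0 * g⁻¹) := by
    rw [hg]
    exact MinPair.conj ⟨h0.1, h0.2, fun a ha b hb => hmin (a, b) ⟨ha, hb⟩⟩ hc g
  set y1 := g * y0 * g⁻¹
  -- a neighbour outside it
  obtain ⟨z, hzn, hz⟩ : ∃ z ∈ nbr D x, z ∉ cls D x y1 := by
    by_contra hall
    push Not at hall
    exact hne (cls_eq (hall y hy) ▸ hall y' hy')
  let N : Subgroup G :=
    { carrier := {g | ∀ d ∈ D, Linked D (g * d * g⁻¹) d}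
      one_mem' := fun d _ => by rw [one_mul, inv_one, mul_one]; exact Relation.EqvGen.refl d
      mul_mem' := fun {a b} ha hb d hd' => by
        have := (hb d hd').conj hc a
        rw [show a * (b * d * b⁻¹) * a⁻¹ = a * b * d * (a * b)⁻¹ by group] at this
        exact this.trans _ _ _ (ha d hd')
      inv_mem' := fun {a} ha d hd' => by
        have := (ha d hd').conj hc a⁻¹
        rw [show a⁻¹ * (a * d * a⁻¹) * a⁻¹⁻¹ = d by group] at this
        exact this.symm _ _ }
  have hN : N.Normal := ⟨fun n hn k d hd' => by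
    have := (hn _ (hc k⁻¹ d hd')).conj hc k
    rwa [show k * (n * (k⁻¹ * d * k⁻¹⁻¹) * n⁻¹) * k⁻¹ = k * n * k⁻¹ * d * (k * n * k⁻¹)⁻¹ by group,
      show k * (k⁻¹ * d * k⁻¹⁻¹) * k⁻¹ = d by group] at this⟩
  let K : Subgroup G := Subgroup.closure {g | ∃ u w, Linked D x u ∧ Linked D x w ∧ u * w = g}
  have hmemD : ∀ u, Linked D x u → u ∈ D := fun u hu => (hd.linked_outside hu).2.1 hx
  have hKN : K ≤ N := by
    rw [Subgroup.closure_le]
    rintro _ ⟨u, w, hu, hw, rfl⟩ d hd'
    have h1 := hd.linked_act (hmemD u hu) (hc w d hd') ((hu.symm _ _).trans _ _ _ hw)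
    rw [show u * (w * d * w⁻¹) * u⁻¹ = u * w * d * (u * w)⁻¹ by group,
      show w * (w * d * w⁻¹) * w⁻¹ = (w * w) * d * (w * w)⁻¹ by group, inv_sq (hS.1 w (hmemD w hw)),
      one_mul, inv_one, mul_one] at h1
    exact h1
  have hK : ∀ n ∈ N, ∀ k ∈ K, n * k * n⁻¹ ∈ K := by
    intro n hn k hk
    have hle : K ≤ K.comap (MulAut.conj n).toMonoidHom := by
      rw [Subgroup.closure_le]
      rintro _ ⟨u, w, hu, hw, rfl⟩
      refine Subgroup.subset_closure ⟨n * u * n⁻¹, n * w * n⁻¹, ?_, ?_, ?_⟩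
      · exact hu.trans _ _ _ ((hn u (hmemD u hu)).symm _ _)
      · exact hw.trans _ _ _ ((hn w (hmemD w hw)).symm _ _)
      · simp [mul_assoc]
    exact hle hk
  have hzout : z ∈ outside D x := ⟨hzn, fun h => hz (hd.min_unique hm h)⟩
  have hzK : ∀ k ∈ K, Commute z k := by
    have hle : K ≤ Subgroup.centralizer ({z} : Set G) := by
      rw [Subgroup.closure_le]
      rintro _ ⟨u, w, hu, hw, rfl⟩
      refine Subgroup.mem_centralizer_singleton_iff.2 (Commute.mul_left ?_ ?_).eq
      · exact ((hd.linked_outside hu).1 ▸ hzout : z ∈ outside D u).1.2.2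
      · exact ((hd.linked_outside hw).1 ▸ hzout : z ∈ outside D w).1.2.2
    exact fun k hk => (Subgroup.mem_centralizer_singleton_iff.1 (hle hk)).symm
  have hbot := eq_bot_of_subnormal_centralised hsol hD hN hKN hK hzn.1 hzK
  have hxy : x * y1 ∈ K := Subgroup.subset_closure ⟨x, y1, .refl x, .rel _ _ hm, rfl⟩
  rw [hbot, Subgroup.mem_bot] at hxy
  exact hm.2.1.2.1 (by rw [eq_inv_of_mul_eq_one_right hxy, inv_inv_self (hS.1 x hx)])

end Cfsg.Agent.Lib.ThreeTransp
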