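import Cfsg.Agent.Lib.ThreeTransp.OrthTrans

/-!
Crossed homomorphisms of `Ω(Q)` over the field with two elements into the natural module.
-/

set_option autoImplicit false

namespace Cfsg.Agent.Lib.ThreeTransp.OrthTrans

open Matrix

variable {ι : Type} [Fintype ι] [DecidableEq ι] (S : QSpace ι)

namespace QSpace

/-- Generation by transvections, given one intermediate vector for each orthogonal pair. -/
theorem O_le_R_of {x : ι → ZMod 2} (hx : S.Q x = 1)
    (htrans : ∀ u w, S.Q u = 1 → S.Q w = 1 → u ≠ w → S.B u w = 0 →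
      ∃ z, S.Q z = 1 ∧ S.B u z = 1 ∧ S.B w z = 1) : S.O ≤ S.R := by
  intro g hg
  have bot : ∀ a ∈ (⊥ : Submodule (ZMod 2) (ι → ZMod 2)), ∀ b, S.B a b = 0 := fun a ha b => by
    rw [(Submodule.mem_bot _).mp ha, map_zero, LinearMap.zero_apply]
  obtain ⟨r, hr, hrx⟩ : ∃ r ∈ S.R, (r : Matrix ι ι (ZMod 2)) *ᵥ
      ((g : Matrix ι ι (ZMod 2)) *ᵥ x) = x := by
    set u := (g : Matrix ι ι (ZMod 2)) *ᵥ x with hu'
    have hu : S.Q u = 1 := by rw [hu', S.iso_Q hg, hx]
    rcases eq_or_ne u x with e | hne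
    · exact ⟨1, one_mem _, by rw [e, Units.val_one, Matrix.one_mulVec]⟩
    rcases z2_cases (S.B u x) with h | h
    swap
    · obtain ⟨r, hr, -, h'⟩ := S.exists_move ⊥ (hu.trans hx.symm) (fun a ha => bot a ha _)
        (fun a ha => bot a ha _) h
      exact ⟨r, hr, h'⟩
    obtain ⟨z, hz, huz, hxz⟩ := htrans u x hu hx hne h
    obtain ⟨r, hr, -, h'⟩ := S.exists_move_two ⊥ (hu.trans hz.symm) (hz.trans hx.symm)
      (fun a ha => by rw [bot a ha, bot a ha]) (fun a ha => by rw [bot a ha, bot a ha]) huz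
      (by rw [S.B_comm, hxz])
    exact ⟨r, hr, h'⟩
  have h1 : r * g ∈ S.R := by
    refine S.fix_mem_R hx _ (Submodule.span (ZMod 2) {x}) le_rfl (Submodule.mem_span_singleton_self x)
      ?_ ?_ _ (mul_mem (S.R_le hr) hg) ?_
    · intro a ha
      obtain ⟨t, rfl⟩ := Submodule.mem_span_singleton.mp ha
      simp [S.B_self]
    · intro a ha _
      obtain ⟨t, rfl⟩ := Submodule.mem_span_singleton.mp ha
      rcases z2_cases t with rfl | rfl <;> simp
    · intro a ha
      obtain ⟨t, rfl⟩ := Submodule.mem_span_singleton.mp ha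
      rw [Matrix.mulVec_smul, Units.val_mul, ← Matrix.mulVec_mulVec, hrx]
  have : g = r⁻¹ * (r * g) := by group
  rw [this]
  exact mul_mem (inv_mem hr) h1

/-- The action on vectors. -/
def act (g : ↥S.O) (x : ι → ZMod 2) : ι → ZMod 2 :=
  ((g : GL ι (ZMod 2)) : Matrix ι ι (ZMod 2)) *ᵥ x

theorem act_mul (g h : ↥S.O) (x : ι → ZMod 2) : S.act (g * h) x = S.act g (S.act h x) := by
  rw [act, act, act, Subgroup.coe_mul, Units.val_mul, ← Matrix.mulVec_mulVec]

theorem act_one (x : ι → ZMod 2) : S.act 1 x = x := by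
  rw [act, OneMemClass.coe_one, Units.val_one, Matrix.one_mulVec]

theorem act_add (g : ↥S.O) (x y : ι → ZMod 2) : S.act g (x + y) = S.act g x + S.act g y :=
  Matrix.mulVec_add _ _ _

theorem act_sub (g : ↥S.O) (x y : ι → ZMod 2) : S.act g (x - y) = S.act g x - S.act g y :=
  Matrix.mulVec_sub _ _ _

theorem B_act (g : ↥S.O) (x y : ι → ZMod 2) : S.B (S.act g x) (S.act g y) = S.B x y :=
  S.iso_B g.2 x y

/-- The transvection as an isometry. -/
def tr (u : {u : ι → ZMod 2 // S.Q u = 1}) : ↥S.O := ⟨S.refl u, S.refl_mem u.2⟩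

theorem act_tr (u : {u : ι → ZMod 2 // S.Q u = 1}) (x : ι → ZMod 2) :
    S.act (S.tr u) x = x + S.B u x • (u : ι → ZMod 2) := S.refl_mulVec u x

theorem tr_sq (u : {u : ι → ZMod 2 // S.Q u = 1}) : S.tr u * S.tr u = 1 :=
  Subtype.ext (Units.ext (S.reflM_mul_self u))

theorem tr_inv (u : {u : ι → ZMod 2 // S.Q u = 1}) : (S.tr u)⁻¹ = S.tr u :=
  inv_eq_of_mul_eq_one_right (S.tr_sq u)

theorem conj_tr (g : ↥S.O) (u : {u : ι → ZMod 2 // S.Q u = 1}) :
    g * S.tr u * g⁻¹ = S.tr ⟨S.act g u, (S.iso_Q g.2 u).trans u.2⟩ :=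
  Subtype.ext (S.conj_refl g.2 u)

theorem tr_comm {u a : {u : ι → ZMod 2 // S.Q u = 1}} (h : S.B u a = 0) :
    S.tr u * S.tr a = S.tr a * S.tr u := by
  have h1 := S.conj_tr (S.tr u) a
  have e : (⟨S.act (S.tr u) a, (S.iso_Q (S.tr u).2 a).trans a.2⟩ :
      {u : ι → ZMod 2 // S.Q u = 1}) = a := Subtype.ext (by
    show S.act (S.tr u) a = a
    rw [act_tr, h, zero_smul, add_zero])
  rw [e] at h1
  exact mul_inv_eq_iff_eq_mul.1 h1

theorem braid {u a : {u : ι → ZMod 2 // S.Q u = 1}} (h : S.B u a = 1) :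
    S.tr u * S.tr a * S.tr u = S.tr a * S.tr u * S.tr a := by
  have h1 := S.conj_tr (S.tr u) a
  have h2 := S.conj_tr (S.tr a) u
  rw [tr_inv] at h1 h2
  rw [h1, h2]
  congr 1
  refine Subtype.ext ?_
  show S.act (S.tr u) a = S.act (S.tr a) u
  rw [act_tr, act_tr, h, S.B_comm, h, one_smul, one_smul, add_comm]

/-- The rotations generate the commutator subgroup. -/
theorem commutator_le_rot (hgen : S.O ≤ S.R) :
    commutator ↥S.O ≤ Subgroup.closure {r : ↥S.O | ∃ u a, S.B (u : {u : ι → ZMod 2 // S.Q u = 1}).1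
      (a : {u : ι → ZMod 2 // S.Q u = 1}).1 = 1 ∧ r = S.tr u * S.tr a} := by
  set T := {r : ↥S.O | ∃ u a, S.B (u : {u : ι → ZMod 2 // S.Q u = 1}).1
      (a : {u : ι → ZMod 2 // S.Q u = 1}).1 = 1 ∧ r = S.tr u * S.tr a}
  set N := Subgroup.closure T with hN
  haveI hNn : N.Normal := by
    refine ⟨fun x hx g => ?_⟩
    induction hx using Subgroup.closure_induction with
    | mem r hr =>
      obtain ⟨u, a, h, rfl⟩ := hr
      refine Subgroup.subset_closure ⟨⟨S.act g u, (S.iso_Q g.2 u).trans u.2⟩,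
        ⟨S.act g a, (S.iso_Q g.2 a).trans a.2⟩, ?_, ?_⟩
      · exact (S.B_act g u a).trans h
      · rw [← S.conj_tr g u, ← S.conj_tr g a]; group
    | one => simp
    | mul p q _ _ hp hq =>
      rw [show g * (p * q) * g⁻¹ = (g * p * g⁻¹) * (g * q * g⁻¹) by group]
      exact N.mul_mem hp hq
    | inv p _ hp =>
      rw [show g * p⁻¹ * g⁻¹ = (g * p * g⁻¹)⁻¹ by group]
      exact N.inv_mem hp
  set π := QuotientGroup.mk' N with hπ
  have htop : (Subgroup.closure (Set.range S.tr) : Subgroup ↥S.O) = ⊤ := by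
    refine eq_top_iff.2 fun g _ => ?_
    have hle : S.R ≤ (Subgroup.closure (Set.range S.tr)).map S.O.subtype := by
      rw [R, Subgroup.closure_le]
      rintro r ⟨v, hv, rfl⟩
      exact ⟨S.tr ⟨v, hv⟩, Subgroup.subset_closure ⟨_, rfl⟩, rfl⟩
    obtain ⟨g', hg', hgg⟩ := hle (hgen g.2)
    rwa [← Subtype.ext (hgg : (g' : GL ι (ZMod 2)) = g)]
  have hgencomm : ∀ u a, π (S.tr u) * π (S.tr a) = π (S.tr a) * π (S.tr u) := by
    intro u a
    rcases z2_cases (S.B u.1 a.1) with h | h
    · rw [← map_mul, ← map_mul, S.tr_comm h]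
    · have h1 : π (S.tr u * S.tr a) = 1 :=
        (QuotientGroup.eq_one_iff _).2 (Subgroup.subset_closure ⟨u, a, h, rfl⟩)
      rw [← map_mul, ← map_mul, h1,
        show S.tr a * S.tr u = (S.tr u * S.tr a)⁻¹ by rw [_root_.mul_inv_rev, tr_inv, tr_inv],
        map_inv, h1, inv_one]
  have hall : ∀ g h : ↥S.O, π g * π h = π h * π g := by
    intro g
    have hg : g ∈ Subgroup.closure (Set.range S.tr) := by rw [htop]; trivial
    intro h
    have hh : h ∈ Subgroup.closure (Set.range S.tr) := by rw [htop]; trivial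
    have h1 : ∀ u, Commute (π (S.tr u)) (π h) := by
      intro u
      clear hg
      induction hh using Subgroup.closure_induction with
      | mem r hr => obtain ⟨a, rfl⟩ := hr; exact hgencomm u a
      | one => rw [map_one]; exact Commute.one_right _
      | mul p q _ _ hp hq => rw [map_mul]; exact hp.mul_right hq
      | inv p _ hp => rw [map_inv]; exact hp.inv_right
    clear hh
    induction hg using Subgroup.closure_induction with
    | mem r hr => obtain ⟨a, rfl⟩ := hr; exact h1 a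
    | one => rw [map_one]; exact Commute.one_left _
    | mul p q _ _ hp hq => rw [map_mul]; exact (Commute.mul_left hp hq).eq
    | inv p _ hp => rw [map_inv]; exact (Commute.inv_left hp).eq
  rw [_root_.commutator_def, Subgroup.commutator_le]
  intro g _ h _
  refine (QuotientGroup.eq_one_iff _).1 ?_
  show π _ = 1
  rw [commutatorElement_def, map_mul, map_mul, map_mul, map_inv, map_inv, hall]
  group

theorem rot_mem {u a : {u : ι → ZMod 2 // S.Q u = 1}} (h : S.B u a = 1) :
    S.tr u * S.tr a ∈ commutator ↥S.O := by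
  have h1 := Subgroup.commutator_mem_commutator (Subgroup.mem_top (S.tr a))
    (Subgroup.mem_top (S.tr u))
  rw [← _root_.commutator_def, commutatorElement_def, tr_inv, tr_inv] at h1
  rwa [← S.braid h, mul_assoc (S.tr u * S.tr a), S.tr_sq, mul_one] at h1

/-- Every crossed homomorphism on the commutator subgroup into the natural module is principal. -/
theorem principal (hgen : S.O ≤ S.R)
    (hpart : ∀ u, S.Q u = 1 → ∃ a, S.Q a = 1 ∧ S.B u a = 1)
    (hext : ∀ ε : (ι → ZMod 2) → ZMod 2,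
      (∀ u a, S.Q u = 1 → S.Q a = 1 → S.Q (u + a) = 1 → ε (u + a) = ε u + ε a) →
      ∃ v, ∀ u, S.Q u = 1 → ε u = S.B v u)
    (f : ↥(commutator ↥S.O) → ι → ZMod 2)
    (hf : ∀ g h : ↥(commutator ↥S.O), f (g * h) = f g + S.act g (f h)) :
    ∃ v, ∀ g : ↥(commutator ↥S.O), f g = S.act g v - v := by
  classical
  let V' := {u : ι → ZMod 2 // S.Q u = 1}
  -- the rotation at a pair
  let r : ∀ u a : V', S.B u.1 a.1 = 1 → ↥(commutator ↥S.O) :=
    fun u a h => ⟨S.tr u * S.tr a, S.rot_mem h⟩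
  have hf1 : f 1 = 0 := by
    have h := hf 1 1
    rw [mul_one, OneMemClass.coe_one, act_one] at h
    exact left_eq_add.1 h
  have hact : ∀ (u a : V') (h : S.B u.1 a.1 = 1) (x : ι → ZMod 2),
      S.act (r u a h : ↥(commutator ↥S.O)) x =
        x + S.B a.1 x • a.1 + (S.B u.1 x + S.B a.1 x) • u.1 := by
    intro u a h x
    show S.act (S.tr u * S.tr a) x = _
    rw [act_mul, act_tr, act_tr, map_add, LinearMap.map_smul, h, smul_eq_mul, mul_one]
  -- inverse of a rotation
  have hswap : ∀ (u a : V') (h : S.B u.1 a.1 = 1) (h' : S.B a.1 u.1 = 1),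
      f (r a u h') = S.act (r a u h' : ↥(commutator ↥S.O)) (f (r u a h)) := by
    intro u a h h'
    have e : r a u h' * r u a h = 1 := Subtype.ext (by
      show S.tr a * S.tr u * (S.tr u * S.tr a) = 1
      rw [mul_assoc, ← mul_assoc (S.tr u) (S.tr u), S.tr_sq, one_mul, S.tr_sq])
    have h2 := hf (r a u h') (r u a h)
    rw [e, hf1] at h2
    exact (add_right_eq _ h2.symm).trans (zero_add _)
  -- the value at a rotation lies in its plane
  have hval : ∀ (u a : V') (h : S.B u.1 a.1 = 1),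
      f (r u a h) = S.B a.1 (f (r u a h)) • u.1 + S.B u.1 (f (r u a h)) • a.1 := by
    intro u a h
    set g := r u a h with hg
    have h3 : g * g * g = 1 := Subtype.ext (by
      show S.tr u * S.tr a * (S.tr u * S.tr a) * (S.tr u * S.tr a) = 1
      calc S.tr u * S.tr a * (S.tr u * S.tr a) * (S.tr u * S.tr a)
          = (S.tr u * S.tr a * S.tr u) * (S.tr a * S.tr u * S.tr a) := by simp only [mul_assoc]
        _ = (S.tr u * S.tr a * S.tr u) * (S.tr u * S.tr a * S.tr u) := by rw [S.braid h]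
        _ = S.tr u * (S.tr a * (S.tr u * S.tr u) * S.tr a) * S.tr u := by simp only [mul_assoc]
        _ = 1 := by rw [S.tr_sq, mul_one, S.tr_sq, mul_one, S.tr_sq])
    have h2 := hf (g * g) g
    rw [h3, hf1, hf g g, Subgroup.coe_mul,
      S.act_mul ((g : ↥(commutator ↥S.O)) : ↥S.O) ((g : ↥(commutator ↥S.O)) : ↥S.O)] at h2
    set x := f g with hx
    set α := S.B a.1 x
    set β := S.B u.1 x
    have e1 : S.act (g : ↥(commutator ↥S.O)) x = x + α • a.1 + (β + α) • u.1 := hact u a h x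
    have ea : S.B a.1 (x + α • a.1 + (β + α) • u.1) = β := by
      rw [map_add, map_add, LinearMap.map_smul, LinearMap.map_smul, S.B_self, S.B_comm a.1 u.1, h]
      show α + α * 0 + (β + α) * 1 = β
      rw [mul_zero, add_zero, mul_one, ← add_assoc, add_comm α β, add_assoc, CharTwo.add_self_eq_zero,
        add_zero]
    have eu : S.B u.1 (x + α • a.1 + (β + α) • u.1) = β + α := by
      rw [map_add, map_add, LinearMap.map_smul, LinearMap.map_smul, S.B_self, h]
      show β + α * 1 + (β + α) * 0 = β + α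
      rw [mul_one, mul_zero, add_zero]
    rw [e1, hact u a h, show S.B a.1 (x + α • a.1 + (β + α) • u.1) = β from ea,
      show S.B u.1 (x + α • a.1 + (β + α) • u.1) = β + α from eu] at h2
    have e2 : β + α + β = α := by
      rw [add_comm β α, add_assoc, CharTwo.add_self_eq_zero, add_zero]
    rw [e2] at h2
    refine (add_right_eq (x := x) (y := α • u.1 + β • a.1) (0 : ι → ZMod 2) ?_).trans (zero_add _)
    rw [h2]
    generalize x + α • a.1 + (β + α) • u.1 = y
    funext i
    simp only [Pi.add_apply, Pi.smul_apply, Pi.zero_apply, smul_eq_mul]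
    generalize x i = p; generalize y i = q; generalize α * u.1 i = s; generalize β * a.1 i = t
    revert p q s t; decide
  -- the scalar
  let φ : ∀ u a : V', S.B u.1 a.1 = 1 → ZMod 2 :=
    fun u a h => S.B u.1 (f (r u a h)) + S.B a.1 (f (r u a h))
  have hpsi : ∀ (u a : V') (h : S.B u.1 a.1 = 1) (h' : S.B a.1 u.1 = 1),
      φ a u h' = S.B u.1 (f (r u a h)) := by
    intro u a h h'
    show S.B a.1 (f (r a u h')) + S.B u.1 (f (r a u h')) = _
    rw [hswap u a h h', hact a u h']
    simp only [map_add, LinearMap.map_smul, smul_eq_mul, S.B_self, h, h']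
    generalize S.B u.1 (f (r u a h)) = p; generalize S.B a.1 (f (r u a h)) = q; revert p q; decide
  have horth : ∀ (u a b : V') (ha : S.B u.1 a.1 = 1) (hb : S.B u.1 b.1 = 1),
      S.B a.1 b.1 = 0 → φ u a ha = φ u b hb := by
    intro u a b ha hb hab
    by_cases hne : a = b
    · subst hne; rfl
    have ha' : S.B a.1 u.1 = 1 := by rw [S.B_comm]; exact ha
    set T := r a u ha' * r u b hb with hT
    have hTval : ((T : ↥(commutator ↥S.O)) : ↥S.O) = S.tr a * S.tr b := by
      show S.tr a * S.tr u * (S.tr u * S.tr b) = _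
      rw [mul_assoc, ← mul_assoc (S.tr u) (S.tr u), S.tr_sq, one_mul]
    have hT2 : T * T = 1 := Subtype.ext (by
      show (T : ↥S.O) * (T : ↥S.O) = 1
      rw [hTval, mul_assoc, ← mul_assoc (S.tr b), ← S.tr_comm hab, mul_assoc, S.tr_sq, mul_one,
        S.tr_sq])
    have h2 := hf T T
    rw [hT2, hf1, hTval, act_mul, act_tr, act_tr, map_add, LinearMap.map_smul, hab,
      smul_eq_mul, mul_zero, add_zero] at h2
    set y := f T with hy
    have hya : S.B a.1 y = 0 := by
      rcases z2_cases (S.B a.1 y) with e | e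
      · exact e
      exfalso
      rw [e, one_smul] at h2
      rcases z2_cases (S.B b.1 y) with e' | e' <;> rw [e'] at h2
      · rw [zero_smul, add_zero, ← add_assoc, self_add, zero_add] at h2
        have := a.2
        rw [← h2, S.Q_zero] at this
        exact zero_ne_one this
      · rw [one_smul, ← add_assoc, ← add_assoc, self_add, zero_add] at h2
        exact hne (Subtype.ext ((add_right_eq 0 (add_comm b.1 a.1 ▸ h2.symm)).trans (zero_add _)))
    have hyv : y = f (r a u ha') + S.act (r a u ha' : ↥(commutator ↥S.O)) (f (r u b hb)) := hf _ _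
    rw [hyv, hact a u ha', hval u b hb] at hya
    simp only [map_add, LinearMap.map_smul, smul_eq_mul, S.B_self, ha', hab, hb,
      S.B_comm b.1 u.1] at hya
    have e1 : φ u a ha = S.B a.1 (f (r a u ha')) := hpsi a u ha' ha
    rw [e1]
    show _ = S.B u.1 (f (r u b hb)) + S.B b.1 (f (r u b hb))
    revert hya
    generalize S.B a.1 (f (r a u ha')) = p
    generalize S.B u.1 (f (r u b hb)) = q
    generalize S.B b.1 (f (r u b hb)) = t
    revert p q t; decide
  have hwd : ∀ (u a b : V') (ha : S.B u.1 a.1 = 1) (hb : S.B u.1 b.1 = 1), φ u a ha = φ u b hb := by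
    intro u a b ha hb
    rcases z2_cases (S.B a.1 b.1) with h | h
    · exact horth u a b ha hb h
    have hb' : S.B b.1 u.1 = 1 := by rw [S.B_comm]; exact hb
    have hc1 : S.Q (u.1 + b.1) = 1 := by rw [S.polar, u.2, b.2, hb]; decide
    let c : V' := ⟨u.1 + b.1, hc1⟩
    have hc : S.B u.1 c.1 = 1 := by
      show S.B u.1 (u.1 + b.1) = 1
      rw [map_add, S.B_self, hb, zero_add]
    have hac : S.B a.1 c.1 = 0 := by
      show S.B a.1 (u.1 + b.1) = 0
      rw [map_add, h, S.B_comm, ha, one_add_one]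
    have hrc : r u c hc = r b u hb' := Subtype.ext (by
      show S.tr u * S.tr c = S.tr b * S.tr u
      have h1 := S.conj_tr (S.tr u) b
      rw [tr_inv] at h1
      have e : (⟨S.act (S.tr u) b, (S.iso_Q (S.tr u).2 b).trans b.2⟩ : V') = c := Subtype.ext (by
        show S.act (S.tr u) b = u.1 + b.1
        rw [act_tr, hb, one_smul, add_comm])
      rw [e] at h1
      rw [← h1, ← mul_assoc, ← mul_assoc, S.tr_sq, one_mul])
    rw [horth u a c ha hc hac]
    show S.B u.1 (f (r u c hc)) + S.B (u.1 + b.1) (f (r u c hc)) = _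
    rw [hrc, map_add, LinearMap.add_apply, ← add_assoc, CharTwo.add_self_eq_zero, zero_add]
    exact (hpsi b u hb' hb).symm
  choose p hp1 hp2 using hpart
  let ε : (ι → ZMod 2) → ZMod 2 := fun u =>
    if h : S.Q u = 1 then φ ⟨u, h⟩ ⟨p u h, hp1 u h⟩ (hp2 u h) else 0
  have hε : ∀ (u a : V') (h : S.B u.1 a.1 = 1), ε u.1 = φ u a h := by
    intro u a h
    show (if h : S.Q u.1 = 1 then _ else 0) = _
    rw [dif_pos u.2]
    exact hwd ⟨u.1, u.2⟩ ⟨p u.1 u.2, hp1 u.1 u.2⟩ a (hp2 u.1 u.2) h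
  obtain ⟨v, hv⟩ := hext ε (by
    intro u a hu ha hua
    have h : S.B u a = 1 := by
      have := S.polar u a
      rw [hua, hu, ha, one_add_one, zero_add] at this
      exact this.symm
    let U : V' := ⟨u, hu⟩
    let A : V' := ⟨a, ha⟩
    let W : V' := ⟨u + a, hua⟩
    have hAU : S.B A.1 U.1 = 1 := (S.B_comm a u).trans h
    have hUW : S.B U.1 W.1 = 1 := by
      show S.B u (u + a) = 1
      rw [map_add, S.B_self, h, zero_add]
    have hWU : S.B W.1 U.1 = 1 := (S.B_comm _ _).trans hUW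
    have hrw : r U W hUW = r A U hAU := Subtype.ext (by
      show S.tr U * S.tr W = S.tr A * S.tr U
      have h1 := S.conj_tr (S.tr U) A
      rw [tr_inv] at h1
      have e : (⟨S.act (S.tr U) A, (S.iso_Q (S.tr U).2 A).trans A.2⟩ : V') = W := Subtype.ext (by
        show S.act (S.tr U) a = u + a
        rw [act_tr]
        show a + S.B u a • u = u + a
        rw [h, one_smul, add_comm])
      rw [e] at h1
      rw [← h1, ← mul_assoc, ← mul_assoc, S.tr_sq, one_mul])
    rw [hε W U hWU, hε U A h, hε A U hAU, hpsi U W hUW hWU, hrw, hpsi A U hAU h]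
    show _ = _ + (S.B a (f (r A U hAU)) + S.B u (f (r A U hAU)))
    generalize S.B u (f (r A U hAU)) = s; generalize S.B A.1 (f (r A U hAU)) = t
    revert s t; decide)
  refine ⟨v, fun g => ?_⟩
  have hpr : ∀ (u a : V') (h : S.B u.1 a.1 = 1),
      f (r u a h) = S.act (r u a h : ↥(commutator ↥S.O)) v - v := by
    intro u a h
    have h' : S.B a.1 u.1 = 1 := by rw [S.B_comm]; exact h
    have e1 : S.B u.1 v = S.B u.1 (f (r u a h)) + S.B a.1 (f (r u a h)) := by
      rw [S.B_comm, ← hv u.1 u.2, hε u a h]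
    have e2 : S.B a.1 v = S.B u.1 (f (r u a h)) := by
      rw [S.B_comm, ← hv a.1 a.2, hε a u h', hpsi u a h h']
    rw [hact u a h, e1, e2]
    conv_lhs => rw [hval u a h]
    funext i
    simp only [Pi.add_apply, Pi.sub_apply, Pi.smul_apply, smul_eq_mul]
    generalize S.B u.1 (f (r u a h)) = s; generalize S.B a.1 (f (r u a h)) = t
    generalize v i = z; generalize u.1 i = z1; generalize a.1 i = z2
    revert s t z z1 z2; decide
  have key : ∀ x ∈ Subgroup.closure {r : ↥S.O | ∃ u a, S.B (u : {u : ι → ZMod 2 // S.Q u = 1}).1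
      (a : {u : ι → ZMod 2 // S.Q u = 1}).1 = 1 ∧ r = S.tr u * S.tr a},
      ∀ hx : x ∈ commutator ↥S.O, f ⟨x, hx⟩ = S.act x v - v := by
    intro x hx
    have hle : Subgroup.closure {r : ↥S.O | ∃ u a, S.B (u : {u : ι → ZMod 2 // S.Q u = 1}).1
        (a : {u : ι → ZMod 2 // S.Q u = 1}).1 = 1 ∧ r = S.tr u * S.tr a} ≤ commutator ↥S.O := by
      rw [Subgroup.closure_le]; rintro _ ⟨u, a, h, rfl⟩; exact S.rot_mem h
    induction hx using Subgroup.closure_induction with
    | mem w hw =>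
      intro hx; obtain ⟨u, a, h, rfl⟩ := hw; exact hpr u a h
    | one => intro hx; rw [show (⟨1, hx⟩ : ↥(commutator ↥S.O)) = 1 from rfl, hf1, act_one, sub_self]
    | mul p q hp hq ihp ihq =>
      intro hx
      rw [show (⟨p * q, hx⟩ : ↥(commutator ↥S.O)) = ⟨p, hle hp⟩ * ⟨q, hle hq⟩ from rfl, hf,
        ihp (hle hp), ihq (hle hq), act_mul, act_sub]
      abel
    | inv p hp ihp =>
      intro hx
      have h2 := hf (⟨p, hle hp⟩ : ↥(commutator ↥S.O))⁻¹ ⟨p, hle hp⟩
      rw [inv_mul_cancel, hf1, ihp (hle hp)] at h2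
      rw [show (⟨p⁻¹, hx⟩ : ↥(commutator ↥S.O)) = (⟨p, hle hp⟩ : ↥(commutator ↥S.O))⁻¹ from rfl]
      rw [eq_neg_of_add_eq_zero_left h2.symm, InvMemClass.coe_inv, act_sub, ← act_mul,
        inv_mul_cancel, act_one]
      abel
  exact key g (S.commutator_le_rot hgen g.2) g.2

/-- The linear extension from a certificate of triangles. -/
theorem ext_of_cert {n : ℕ} (enc : ℕ → ι → ZMod 2)
    (hsurj : ∀ u, ∃ m < 2 ^ n, enc m = u)
    (hxor : ∀ i < 2 ^ n, ∀ j < 2 ^ n, enc (i ^^^ j) = enc i + enc j)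
    (base dual : Fin n → ℕ) (L : List (ℕ × ℕ × ℕ))
    (hbQ : ∀ i, S.Q (enc (base i)) = 1) (hb : ∀ i, base i < 2 ^ n)
    (hdual : ∀ i j, S.B (enc (dual i)) (enc (base j)) = if i = j then 1 else 0)
    (hL : ∀ k < L.length, (L.getD k 0).2.1 < n + k ∧ (L.getD k 0).2.2 < n + k ∧
      (L.getD k 0).1 < 2 ^ n ∧ S.Q (enc (L.getD k 0).1) = 1 ∧
      (L.getD k 0).1 = ((List.ofFn base ++ L.map Prod.fst).getD (L.getD k 0).2.1 0) ^^^
        ((List.ofFn base ++ L.map Prod.fst).getD (L.getD k 0).2.2 0))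
    (hall : ∀ m < 2 ^ n, S.Q (enc m) = 1 → m ∈ List.ofFn base ++ L.map Prod.fst)
    (ε : (ι → ZMod 2) → ZMod 2)
    (hε : ∀ u a, S.Q u = 1 → S.Q a = 1 → S.Q (u + a) = 1 → ε (u + a) = ε u + ε a) :
    ∃ v, ∀ u, S.Q u = 1 → ε u = S.B v u := by
  set v := ∑ i, ε (enc (base i)) • enc (dual i) with hv
  refine ⟨v, ?_⟩
  set A := List.ofFn base ++ L.map Prod.fst with hA
  have hlen : A.length = n + L.length := by simp [hA]
  have main : ∀ k < A.length, A.getD k 0 < 2 ^ n ∧ S.Q (enc (A.getD k 0)) = 1 ∧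
      ε (enc (A.getD k 0)) = S.B v (enc (A.getD k 0)) := by
    intro k
    induction k using Nat.strong_induction_on with
    | _ k ih =>
    intro hk
    by_cases hkn : k < n
    · have e : A.getD k 0 = base ⟨k, hkn⟩ := by
        rw [List.getD_eq_getElem _ _ hk]
        simp [hA, List.getElem_append_left, hkn]
      rw [e]
      refine ⟨hb _, hbQ _, ?_⟩
      rw [hv, map_sum, LinearMap.sum_apply, Finset.sum_eq_single ⟨k, hkn⟩]
      · rw [LinearMap.map_smul, LinearMap.smul_apply, hdual, if_pos rfl, smul_eq_mul, mul_one]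
      · intro j _ hj
        rw [LinearMap.map_smul, LinearMap.smul_apply, hdual, if_neg hj, smul_eq_mul, mul_zero]
      · simp
    · obtain ⟨j, rfl⟩ := Nat.exists_eq_add_of_le (not_lt.1 hkn)
      have hj : j < L.length := by omega
      have e : A.getD (n + j) 0 = (L.getD j 0).1 := by
        rw [List.getD_eq_getElem _ _ hk, List.getD_eq_getElem _ _ hj]
        simp [hA]
      obtain ⟨h1, h2, h3, h4, h5⟩ := hL j hj
      obtain ⟨a1, a2, a3⟩ := ih _ h1 (by omega)
      obtain ⟨b1, b2, b3⟩ := ih _ h2 (by omega)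
      rw [e]
      refine ⟨h3, h4, ?_⟩
      rw [h5, hxor _ a1 _ b1] at h4 ⊢
      rw [hε _ _ a2 b2 h4, a3, b3, map_add]
  intro u hu
  obtain ⟨m, hm, rfl⟩ := hsurj u
  obtain ⟨k, hk, hke⟩ := List.getElem_of_mem (hall m hm hu)
  have := (main k hk).2.2
  rw [List.getD_eq_getElem _ _ hk, hke] at this
  exact this

end QSpace

end Cfsg.Agent.Lib.ThreeTransp.OrthTrans
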