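import Cfsg.Agent.Lib.ThreeTransp.OrthH1

/-!
The three small cases of the vanishing of the first cohomology of `Ω(Q)` on its natural module.
-/

set_option autoImplicit false

set_option synthInstance.maxSize 2000
set_option synthInstance.maxHeartbeats 400000
set_option maxHeartbeats 1000000

namespace Cfsg.Agent.Lib.ThreeTransp.OrthTrans

/-- Vectors from bit masks. -/
def enc {ι : Type} (idx : ι → ℕ) (m : ℕ) : ι → ZMod 2 :=
  fun j => if m.testBit (idx j) then 1 else 0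

theorem enc_xor {ι : Type} (idx : ι → ℕ) (i j : ℕ) :
    enc idx (i ^^^ j) = enc idx i + enc idx j := by
  funext k
  simp only [enc, Pi.add_apply, Nat.testBit_xor]
  cases i.testBit (idx k) <;> cases j.testBit (idx k) <;> rfl

def idx4 := fun j : (Fin 1 ⊕ Fin 1) ⊕ Fin 2 => Sum.elim (Sum.elim (fun i => 2 * i.val) (fun i => 2 * i.val + 1)) (fun i => 2 + i.val) j

def base4 : Fin 4 → ℕ := ![6, 13, 5, 12]

def dual4 : Fin 4 → ℕ := ![1, 15, 13, 11]

def cert4 : List (ℕ × ℕ × ℕ) := [(3, 2, 0), (8, 2, 1), (10, 3, 0), (9, 3, 2), (14, 4, 1), (4, 5, 3)]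

theorem surj4 : ∀ u, ∃ m < 2 ^ 4, enc idx4 m = u := by decide +kernel

theorem principal4 (f : ↥(commutator ↥(minusSpace 1).O) → _ → ZMod 2)
    (hf : ∀ g h : ↥(commutator ↥(minusSpace 1).O), f (g * h) = f g + QSpace.act (minusSpace 1) g (f h)) :
    ∃ v, ∀ g : ↥(commutator ↥(minusSpace 1).O), f g = QSpace.act (minusSpace 1) g v - v := by
  refine QSpace.principal (minusSpace 1) (QSpace.O_le_R_of (minusSpace 1) (x := enc idx4 6) (by decide +kernel) (fun u w hu hw hne h => by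
    obtain ⟨a, ha, rfl⟩ := surj4 u
    obtain ⟨b, hb, rfl⟩ := surj4 w
    obtain ⟨c, -, hc⟩ := (by decide +kernel : ∀ a < 16, ∀ b < 16, (minusSpace 1).Q (enc idx4 a) = 1 →
      (minusSpace 1).Q (enc idx4 b) = 1 → enc idx4 a ≠ enc idx4 b → (minusSpace 1).B (enc idx4 a) (enc idx4 b) = 0 →
      ∃ c < 16, (minusSpace 1).Q (enc idx4 c) = 1 ∧ (minusSpace 1).B (enc idx4 a) (enc idx4 c) = 1 ∧
        (minusSpace 1).B (enc idx4 b) (enc idx4 c) = 1) a ha b hb hu hw hne h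
    exact ⟨_, hc⟩)) ?_ ?_ f hf
  · intro u hu
    obtain ⟨m, hm, rfl⟩ := surj4 u
    obtain ⟨a, -, ha⟩ := (by decide +kernel : ∀ m < 2 ^ 4, (minusSpace 1).Q (enc idx4 m) = 1 →
      ∃ a < 2 ^ 4, (minusSpace 1).Q (enc idx4 a) = 1 ∧ (minusSpace 1).B (enc idx4 m) (enc idx4 a) = 1) m hm hu
    exact ⟨_, ha⟩
  · exact QSpace.ext_of_cert (minusSpace 1) (enc idx4) surj4 (fun i _ j _ => enc_xor idx4 i j) base4
      dual4 cert4 (by decide +kernel) (by decide +kernel) (by decide +kernel) (by decide +kernel)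
      (by decide +kernel)

def idx6 := fun j : (Fin 2 ⊕ Fin 2) ⊕ Fin 2 => Sum.elim (Sum.elim (fun i => 2 * i.val) (fun i => 2 * i.val + 1)) (fun i => 4 + i.val) j

def base6 : Fin 6 → ℕ := ![31, 58, 18, 41, 53, 34]

def dual6 : Fin 6 → ℕ := ![53, 59, 19, 10, 61, 28]

def cert6 : List (ℕ × ℕ × ℕ) := [(37, 1, 0), (13, 2, 0), (40, 2, 1), (54, 3, 0), (42, 4, 0), (24, 5, 1), (48, 5, 2), (11, 5, 3), (12, 6, 3), (16, 6, 4), (7, 6, 5), (36, 7, 3), (56, 7, 4), (47, 7, 5), (3, 9, 4), (20, 9, 5), (49, 11, 3), (21, 11, 7), (50, 11, 10), (25, 12, 3), (26, 12, 10), (33, 13, 10), (57, 14, 4), (38, 14, 10), (32, 15, 12), (17, 17, 4), (14, 17, 10), (52, 17, 15), (63, 18, 16), (22, 23, 20)]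

theorem surj6 : ∀ u, ∃ m < 2 ^ 6, enc idx6 m = u := by decide +kernel

theorem principal6 (f : ↥(commutator ↥(minusSpace 2).O) → _ → ZMod 2)
    (hf : ∀ g h : ↥(commutator ↥(minusSpace 2).O), f (g * h) = f g + QSpace.act (minusSpace 2) g (f h)) :
    ∃ v, ∀ g : ↥(commutator ↥(minusSpace 2).O), f g = QSpace.act (minusSpace 2) g v - v := by
  refine QSpace.principal (minusSpace 2) (QSpace.O_le_R (minusSpace 2) (by decide +kernel) (x := enc idx6 31) (by decide +kernel)) ?_ ?_ f hf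
  · intro u hu
    obtain ⟨m, hm, rfl⟩ := surj6 u
    obtain ⟨a, -, ha⟩ := (by decide +kernel : ∀ m < 2 ^ 6, (minusSpace 2).Q (enc idx6 m) = 1 →
      ∃ a < 2 ^ 6, (minusSpace 2).Q (enc idx6 a) = 1 ∧ (minusSpace 2).B (enc idx6 m) (enc idx6 a) = 1) m hm hu
    exact ⟨_, ha⟩
  · exact QSpace.ext_of_cert (minusSpace 2) (enc idx6) surj6 (fun i _ j _ => enc_xor idx6 i j) base6
      dual6 cert6 (by decide +kernel) (by decide +kernel) (by decide +kernel) (by decide +kernel)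
      (by decide +kernel)

def idx8 := fun j : Fin 4 ⊕ Fin 4 => Sum.elim (fun i => 2 * i.val) (fun i => 2 * i.val + 1) j

def base8 : Fin 8 → ℕ := ![75, 177, 167, 45, 113, 180, 141, 184]

def dual8 : Fin 8 → ℕ := ![254, 83, 255, 207, 126, 217, 225, 212]

def cert8 : List (ℕ × ℕ × ℕ) := [(156, 3, 1), (58, 4, 0), (192, 4, 1), (214, 4, 2), (92, 4, 3), (19, 5, 2), (197, 5, 4), (198, 6, 0), (252, 6, 4), (57, 6, 5), (243, 7, 0), (201, 7, 4), (12, 7, 5), (53, 7, 6), (139, 9, 1), (157, 9, 2), (23, 9, 3), (142, 9, 5), (103, 10, 2), (116, 10, 5), (77, 10, 6), (120, 10, 7), (251, 11, 3), (91, 11, 6), (110, 11, 7), (232, 12, 5), (209, 12, 6), (228, 12, 7), (158, 13, 6), (171, 13, 7), (114, 15, 5), (213, 15, 13), (3, 15, 14), (239, 16, 13), (71, 18, 5), (224, 18, 13), (54, 18, 14), (202, 18, 17), (218, 19, 13), (44, 22, 2), (63, 22, 5), (93, 22, 11), (78, 22, 14), (178, 22, 17), (135, 22, 20), (176, 23, 3), (193, 23, 12), (163, 24,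 5), (210, 24, 14), (46, 24, 17), (27, 24, 20), (234, 26, 6), (223, 26, 7), (155, 26, 16), (94, 26, 17), (174, 26, 19), (107, 26, 20), (112, 26, 24), (233, 26, 25), (99, 27, 24), (208, 28, 23), (229, 29, 23), (118, 30, 6), (67, 30, 7), (7, 30, 16), (194, 30, 17), (50, 30, 19), (247, 30, 20), (117, 30, 25), (182, 30, 28), (131, 30, 29), (87, 31, 20), (76, 31, 24), (35, 31, 29), (121, 32, 24), (191, 34, 32), (109, 36, 18), (230, 36, 29), (122, 36, 35), (28, 38, 32), (217, 38, 37), (173, 39, 29), (49, 39, 35), (151, 41, 29), (11, 41, 35), (196, 47, 33), (253, 47, 34), (200, 47, 35), (181, 49, 33), (140, 49, 34), (185, 49, 35), (254, 53, 50), (14, 59, 35), (48, 59, 46), (43, 59, 54), (56, 59, 56), (30, 60, 54), (13, 60, 56), (127, 61, 35), (186, 62, 35), (52, 68, 35), (172, 70, 46), (216, 70, 63), (29, 70, 64), (147, 70, 69), (108, 72, 64), (226, 72, 69), (39, 73, 69), (83, 77, 69), (225, 79, 77), (212, 79, 78), (207, 80, 78)]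

theorem surj8 : ∀ u, ∃ m < 2 ^ 8, enc idx8 m = u := by decide +kernel

theorem principal8 (f : ↥(commutator ↥(plusSpace 4).O) → _ → ZMod 2)
    (hf : ∀ g h : ↥(commutator ↥(plusSpace 4).O), f (g * h) = f g + QSpace.act (plusSpace 4) g (f h)) :
    ∃ v, ∀ g : ↥(commutator ↥(plusSpace 4).O), f g = QSpace.act (plusSpace 4) g v - v := by
  refine QSpace.principal (plusSpace 4) (QSpace.O_le_R (plusSpace 4) (by decide +kernel) (x := enc idx8 75) (by decide +kernel)) ?_ ?_ f hf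
  · intro u hu
    obtain ⟨m, hm, rfl⟩ := surj8 u
    obtain ⟨a, -, ha⟩ := (by decide +kernel : ∀ m < 2 ^ 8, (plusSpace 4).Q (enc idx8 m) = 1 →
      ∃ a < 2 ^ 8, (plusSpace 4).Q (enc idx8 a) = 1 ∧ (plusSpace 4).B (enc idx8 m) (enc idx8 a) = 1) m hm hu
    exact ⟨_, ha⟩
  · exact QSpace.ext_of_cert (plusSpace 4) (enc idx8) surj8 (fun i _ j _ => enc_xor idx8 i j) base8
      dual8 cert8 (by decide +kernel) (by decide +kernel) (by decide +kernel) (by decide +kernel)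
      (by decide +kernel)

end Cfsg.Agent.Lib.ThreeTransp.OrthTrans
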