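import Mathlib
import Cfsg.Prelude.Def_Classical
import Cfsg.Prelude.Def_SporadicB

/-!
Orthogonal transvections over the field with two elements: in dimension at least six they form a
generating class of 3-transpositions of the full isometry group.
-/

set_option autoImplicit false

namespace Cfsg.Agent.Lib.ThreeTransp.OrthTrans

open Matrix

/-- A non-degenerate quadratic space over the field with two elements. -/
structure QSpace (ι : Type) [Fintype ι] where
  Q : (ι → ZMod 2) → ZMod 2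
  B : LinearMap.BilinForm (ZMod 2) (ι → ZMod 2)
  polar : ∀ u v, Q (u + v) = Q u + Q v + B u v
  nd : ∀ x, (∀ y, B x y = 0) → x = 0

variable {ι : Type} [Fintype ι] [DecidableEq ι] (S : QSpace ι)

theorem self_add (x : ι → ZMod 2) : x + x = 0 := funext fun i => CharTwo.add_self_eq_zero (x i)

theorem add_right_eq {x y : ι → ZMod 2} (z : ι → ZMod 2) (h : x + y = z) : x = z + y := by
  rw [← h, add_assoc, self_add, add_zero]

theorem z2_cases (a : ZMod 2) : a = 0 ∨ a = 1 := by revert a; decide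

theorem one_add_one : (1 : ZMod 2) + 1 = 0 := rfl

namespace QSpace

theorem Q_zero : S.Q 0 = 0 := by
  simpa using S.polar 0 0

theorem B_self (x : ι → ZMod 2) : S.B x x = 0 := by
  have h := S.polar x x
  rw [self_add, S.Q_zero, CharTwo.add_self_eq_zero, zero_add] at h
  exact h.symm

theorem B_comm (x y : ι → ZMod 2) : S.B x y = S.B y x := by
  have h := S.polar x y
  rw [add_comm x y, S.polar y x, add_comm (S.Q y)] at h
  exact (add_left_cancel h).symm

theorem nondegenerate : S.B.Nondegenerate :=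
  ⟨fun x h => S.nd x h, fun y h => S.nd y (fun x => by rw [S.B_comm]; exact h x)⟩

theorem isRefl : S.B.IsRefl := fun x y h => by rw [S.B_comm]; exact h

/-- Separation of a vector from a subspace. -/
theorem exists_sep (W : Submodule (ZMod 2) (ι → ZMod 2)) {v : ι → ZMod 2} (hv : v ∉ W) :
    ∃ z, (∀ w ∈ W, S.B w z = 0) ∧ S.B v z = 1 := by
  have h : v ∉ S.B.orthogonal (S.B.orthogonal W) := by
    rwa [LinearMap.BilinForm.orthogonal_orthogonal S.nondegenerate S.isRefl]
  rw [LinearMap.BilinForm.mem_orthogonal_iff] at h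
  push Not at h
  obtain ⟨z, hz, hzv⟩ := h
  rw [LinearMap.BilinForm.mem_orthogonal_iff] at hz
  refine ⟨z, fun w hw => hz w hw, ?_⟩
  rw [S.B_comm]
  exact (z2_cases _).resolve_left hzv

/-- The isometry group. -/
abbrev O : Subgroup (GL ι (ZMod 2)) := Cfsg.isometryGroup (ZMod 2) S.Q

theorem iso_Q {g : GL ι (ZMod 2)} (hg : g ∈ S.O) (u : ι → ZMod 2) :
    S.Q ((g : Matrix ι ι (ZMod 2)) *ᵥ u) = S.Q u := hg u u

theorem iso_B {g : GL ι (ZMod 2)} (hg : g ∈ S.O) (u v : ι → ZMod 2) :
    S.B ((g : Matrix ι ι (ZMod 2)) *ᵥ u) ((g : Matrix ι ι (ZMod 2)) *ᵥ v) = S.B u v := by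
  have h := S.iso_Q hg (u + v)
  rw [Matrix.mulVec_add, S.polar, S.polar, S.iso_Q hg, S.iso_Q hg] at h
  exact add_left_cancel h

/-- The matrix of the transvection at `v`. -/
def reflM (v : ι → ZMod 2) : Matrix ι ι (ZMod 2) :=
  1 + Matrix.vecMulVec v (fun j => S.B v (Pi.single j 1))

theorem reflM_mulVec (v x : ι → ZMod 2) : S.reflM v *ᵥ x = x + S.B v x • v := by
  have h : (fun j => S.B v (Pi.single j 1)) ⬝ᵥ x = S.B v x := by
    conv_rhs => rw [pi_eq_sum_univ' x]
    simp only [map_sum, dotProduct, LinearMap.map_smul, smul_eq_mul]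
    exact Finset.sum_congr rfl fun j _ => mul_comm _ _
  rw [reflM, Matrix.add_mulVec, Matrix.one_mulVec, Matrix.vecMulVec_mulVec, op_smul_eq_smul, h]

theorem reflM_mul_self (v : ι → ZMod 2) : S.reflM v * S.reflM v = 1 :=
  Matrix.ext_iff_mulVec.mpr fun x => by
    rw [← Matrix.mulVec_mulVec, reflM_mulVec, reflM_mulVec, map_add, LinearMap.map_smul, S.B_self,
      smul_zero, add_zero, add_assoc, self_add, add_zero, Matrix.one_mulVec]

/-- The transvection at `v`, as an invertible matrix. -/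
def refl (v : ι → ZMod 2) : GL ι (ZMod 2) :=
  ⟨S.reflM v, S.reflM v, S.reflM_mul_self v, S.reflM_mul_self v⟩

theorem refl_mulVec (v x : ι → ZMod 2) :
    (S.refl v : Matrix ι ι (ZMod 2)) *ᵥ x = x + S.B v x • v := S.reflM_mulVec v x

theorem refl_mem {v : ι → ZMod 2} (hv : S.Q v = 1) : S.refl v ∈ S.O := fun u _ => by
  show S.Q ((S.refl v : Matrix ι ι (ZMod 2)) *ᵥ u) = S.Q u
  rw [S.refl_mulVec]
  rcases z2_cases (S.B v u) with h | h
  · rw [h, zero_smul, add_zero]
  · rw [h, one_smul, S.polar, hv, S.B_comm u v, h, add_assoc, one_add_one, add_zero]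

theorem refl_swap {u w : ι → ZMod 2} (h : S.B u w = 1) :
    (S.refl (u + w) : Matrix ι ι (ZMod 2)) *ᵥ u = w := by
  rw [S.refl_mulVec, map_add, LinearMap.add_apply, S.B_self, S.B_comm w u, h, zero_add, one_smul,
    ← add_assoc, self_add, zero_add]

theorem Q_add_eq_one {u w : ι → ZMod 2} (hQ : S.Q u = S.Q w) (h : S.B u w = 1) : S.Q (u + w) = 1 := by
  rw [S.polar, hQ, CharTwo.add_self_eq_zero, zero_add, h]

theorem gl_ext {g h : GL ι (ZMod 2)}
    (H : ∀ v, (g : Matrix ι ι (ZMod 2)) *ᵥ v = (h : Matrix ι ι (ZMod 2)) *ᵥ v) : g = h :=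
  Units.ext (Matrix.ext_iff_mulVec.mpr H)

/-- The subgroup generated by all transvections. -/
def R : Subgroup (GL ι (ZMod 2)) := Subgroup.closure {r | ∃ v, S.Q v = 1 ∧ r = S.refl v}

theorem refl_mem_R {v : ι → ZMod 2} (hv : S.Q v = 1) : S.refl v ∈ S.R :=
  Subgroup.subset_closure ⟨v, hv, rfl⟩

theorem R_le : S.R ≤ S.O := by
  rw [R, Subgroup.closure_le]
  rintro r ⟨v, hv, rfl⟩
  exact S.refl_mem hv

/-- One step fixing a given subspace. -/
theorem exists_move (U : Submodule (ZMod 2) (ι → ZMod 2)) {u w : ι → ZMod 2} (hQ : S.Q u = S.Q w)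
    (hu : ∀ a ∈ U, S.B a u = 0) (hw : ∀ a ∈ U, S.B a w = 0) (h : S.B u w = 1) :
    ∃ r ∈ S.R, (∀ a ∈ U, (r : Matrix ι ι (ZMod 2)) *ᵥ a = a) ∧ (r : Matrix ι ι (ZMod 2)) *ᵥ u = w := by
  refine ⟨S.refl (u + w), S.refl_mem_R (S.Q_add_eq_one hQ h), fun a ha => ?_, S.refl_swap h⟩
  rw [S.refl_mulVec, S.B_comm, map_add, hu a ha, hw a ha, add_zero, zero_smul, add_zero]

/-- Two steps through an intermediate vector. -/
theorem exists_move_two (U : Submodule (ZMod 2) (ι → ZMod 2)) {u z w : ι → ZMod 2}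
    (h1 : S.Q u = S.Q z) (h2 : S.Q z = S.Q w)
    (hu : ∀ a ∈ U, S.B a u = S.B a z) (hw : ∀ a ∈ U, S.B a z = S.B a w)
    (huz : S.B u z = 1) (hzw : S.B z w = 1) :
    ∃ r ∈ S.R, (∀ a ∈ U, (r : Matrix ι ι (ZMod 2)) *ᵥ a = a) ∧ (r : Matrix ι ι (ZMod 2)) *ᵥ u = w := by
  refine ⟨S.refl (z + w) * S.refl (u + z),
    mul_mem (S.refl_mem_R (S.Q_add_eq_one h2 hzw)) (S.refl_mem_R (S.Q_add_eq_one h1 huz)),
    fun a ha => ?_, ?_⟩
  · have e1 : (S.refl (u + z) : Matrix ι ι (ZMod 2)) *ᵥ a = a := by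
      rw [S.refl_mulVec, S.B_comm, map_add, hu a ha, CharTwo.add_self_eq_zero, zero_smul, add_zero]
    have e2 : (S.refl (z + w) : Matrix ι ι (ZMod 2)) *ᵥ a = a := by
      rw [S.refl_mulVec, S.B_comm, map_add, hw a ha, CharTwo.add_self_eq_zero, zero_smul, add_zero]
    rw [Units.val_mul, ← Matrix.mulVec_mulVec, e1, e2]
  · rw [Units.val_mul, ← Matrix.mulVec_mulVec, S.refl_swap huz, S.refl_swap hzw]

/-- Transitivity of the generated subgroup on non-singular vectors. -/
theorem transitive (hn : 6 ≤ Fintype.card ι) {u w : ι → ZMod 2} (hu : S.Q u = 1) (hw : S.Q w = 1) :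
    ∃ r ∈ S.R, (r : Matrix ι ι (ZMod 2)) *ᵥ u = w := by
  have bot : ∀ a ∈ (⊥ : Submodule (ZMod 2) (ι → ZMod 2)), ∀ b, S.B a b = 0 := fun a ha b => by
    rw [(Submodule.mem_bot _).mp ha, map_zero, LinearMap.zero_apply]
  rcases eq_or_ne u w with rfl | hne
  · exact ⟨1, one_mem _, by rw [Units.val_one, Matrix.one_mulVec]⟩
  rcases z2_cases (S.B u w) with h | h
  swap
  · obtain ⟨r, hr, -, h'⟩ := S.exists_move ⊥ (hu.trans hw.symm) (fun a ha => bot a ha _)
      (fun a ha => bot a ha _) h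
    exact ⟨r, hr, h'⟩
  suffices hz : ∃ z, S.Q z = 1 ∧ S.B u z = 1 ∧ S.B w z = 1 by
    obtain ⟨z, hz, huz, hwz⟩ := hz
    obtain ⟨r, hr, -, h'⟩ := S.exists_move_two ⊥ (hu.trans hz.symm) (hz.trans hw.symm)
      (fun a ha => by rw [bot a ha, bot a ha]) (fun a ha => by rw [bot a ha, bot a ha]) huz
      (by rw [S.B_comm, hwz])
    exact ⟨r, hr, h'⟩
  have hu0 : u ≠ 0 := fun e => by rw [e, S.Q_zero] at hu; exact zero_ne_one hu
  have hw0 : w ≠ 0 := fun e => by rw [e, S.Q_zero] at hw; exact zero_ne_one hw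
  have huW : u ∉ Submodule.span (ZMod 2) {u + w} := by
    rw [Submodule.mem_span_singleton]
    rintro ⟨a, ha⟩
    rcases z2_cases a with rfl | rfl
    · exact hu0 (by simpa using ha.symm)
    · rw [one_smul, add_eq_left] at ha
      exact hw0 ha
  obtain ⟨z, hz0, huz⟩ := S.exists_sep _ huW
  have hwz : S.B w z = 1 := by
    have := hz0 (u + w) (Submodule.mem_span_singleton_self _)
    rw [map_add, LinearMap.add_apply, huz] at this
    rcases z2_cases (S.B w z) with e | e
    · rw [e, add_zero] at this; exact absurd this one_ne_zero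
    · exact e
  by_contra hno
  push Not at hno
  set W := S.B.orthogonal (Submodule.span (ZMod 2) ({u, w} : Set (ι → ZMod 2))) with hW
  have hWmem : ∀ a ∈ W, S.B u a = 0 ∧ S.B w a = 0 := fun a ha => by
    rw [hW, LinearMap.BilinForm.mem_orthogonal_iff] at ha
    exact ⟨ha u (Submodule.subset_span (by simp)), ha w (Submodule.subset_span (by simp))⟩
  have hQW : ∀ a ∈ W, S.Q z + S.Q a + S.B z a = 0 := fun a ha => by
    obtain ⟨h1, h2⟩ := hWmem a ha
    rw [← S.polar]
    refine (z2_cases _).resolve_right fun e => ?_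
    have := hno (z + a) e (by rw [map_add, huz, h1, add_zero])
    exact this (by rw [map_add, hwz, h2, add_zero])
  have hWW : ∀ a ∈ W, ∀ b ∈ W, S.B a b = 0 := fun a ha b hb => by
    have h1 := hQW a ha
    have h2 := hQW b hb
    have h3 := hQW (a + b) (W.add_mem ha hb)
    have h4 := hQW 0 W.zero_mem
    rw [S.Q_zero, map_zero, add_zero, add_zero] at h4
    rw [h4, zero_add] at h1 h2 h3
    rw [S.polar, map_add] at h3
    linear_combination h3 - h1 - h2
  have hle : W ≤ Submodule.span (ZMod 2) ({u, w} : Set (ι → ZMod 2)) := by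
    rw [← LinearMap.BilinForm.orthogonal_orthogonal S.nondegenerate S.isRefl
      (Submodule.span (ZMod 2) ({u, w} : Set (ι → ZMod 2)))]
    intro a ha
    rw [LinearMap.BilinForm.mem_orthogonal_iff]
    exact fun b hb => hWW b hb a ha
  have h1 := Submodule.finrank_mono hle
  have h2 : Module.finrank (ZMod 2) (Submodule.span (ZMod 2) ({u, w} : Set (ι → ZMod 2))) ≤ 2 := by
    have := finrank_span_finset_le_card (R := ZMod 2) ({u, w} : Finset (ι → ZMod 2))
    simp only [Finset.coe_pair] at this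
    exact this.trans Finset.card_le_two
  have h3 : Module.finrank (ZMod 2) W = Fintype.card ι -
      Module.finrank (ZMod 2) (Submodule.span (ZMod 2) ({u, w} : Set (ι → ZMod 2))) := by
    rw [hW, LinearMap.BilinForm.finrank_orthogonal S.nondegenerate, Module.finrank_fintype_fun_eq_card]
  omega

/-- An isometry fixing a subspace with radical inside `⟨x⟩` is a product of transvections. -/
theorem fix_mem_R {x : ι → ZMod 2} (hx : S.Q x = 1) :
    ∀ (k : ℕ) (U : Submodule (ZMod 2) (ι → ZMod 2)), Fintype.card ι - Module.finrank (ZMod 2) U ≤ k →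
      x ∈ U → (∀ a ∈ U, S.B a x = 0) →
      (∀ a ∈ U, (∀ b ∈ U, S.B b a = 0) → a = 0 ∨ a = x) →
      ∀ g ∈ S.O, (∀ a ∈ U, (g : Matrix ι ι (ZMod 2)) *ᵥ a = a) → g ∈ S.R := by
  intro k
  induction k using Nat.strong_induction_on with
  | _ k ih =>
  intro U hk hxU hxrad hrad g hg hfix
  have hx0 : x ≠ 0 := fun e => by rw [e, S.Q_zero] at hx; exact zero_ne_one hx
  have hperp : ∀ {h : GL ι (ZMod 2)}, h ∈ S.O → (∀ a ∈ U, (h : Matrix ι ι (ZMod 2)) *ᵥ a = a) →
      ∀ e, (∀ a ∈ U, S.B a e = 0) → ∀ a ∈ U, S.B a ((h : Matrix ι ι (ZMod 2)) *ᵥ e) = 0 :=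
    fun hh hf e he a ha => by
      conv_lhs => rw [← hf a ha]
      rw [S.iso_B hh]
      exact he a ha
  by_cases hall : ∀ e, (∀ a ∈ U, S.B a e = 0) → e ∈ U
  · -- the fixed space is the hyperplane orthogonal to `x`
    have horth : ∀ y, S.B x y = 0 → y ∈ U := fun y hy => by
      by_contra hyU
      obtain ⟨z, hz, hyz⟩ := S.exists_sep U hyU
      rcases hrad z (hall z hz) hz with rfl | rfl
      · rw [map_zero] at hyz; exact zero_ne_one hyz
      · rw [S.B_comm, hy] at hyz; exact zero_ne_one hyz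
    obtain ⟨v, -, hxv⟩ := S.exists_sep ⊥ (v := x) (by simpa using hx0)
    set d := (g : Matrix ι ι (ZMod 2)) *ᵥ v + v with hd
    have hdperp : ∀ y ∈ U, S.B y d = 0 := fun y hy => by
      rw [hd, map_add]
      conv_lhs => arg 1; rw [← hfix y hy]
      rw [S.iso_B hg, CharTwo.add_self_eq_zero]
    have hgv : (g : Matrix ι ι (ZMod 2)) *ᵥ v = d + v := add_right_eq d rfl
    have hdecomp : ∀ y, ∃ a ∈ U, y = a + S.B x y • v := fun y =>
      ⟨y + S.B x y • v, horth _ (by
        rw [map_add, LinearMap.map_smul, hxv, smul_eq_mul, mul_one, CharTwo.add_self_eq_zero]),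
        by rw [add_assoc, self_add, add_zero]⟩
    rcases hrad d (hall d hdperp) hdperp with e | e
    · have : g = 1 := gl_ext fun y => by
        obtain ⟨a, ha, hy⟩ := hdecomp y
        conv_lhs => rw [hy]
        rw [Matrix.mulVec_add, Matrix.mulVec_smul, hfix a ha, hgv, e, zero_add, ← hy, Units.val_one,
          Matrix.one_mulVec]
      rw [this]
      exact one_mem _
    · have : g = S.refl x := gl_ext fun y => by
        obtain ⟨a, ha, hy⟩ := hdecomp y
        conv_lhs => rw [hy]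
        rw [Matrix.mulVec_add, Matrix.mulVec_smul, hfix a ha, hgv, e, smul_add, S.refl_mulVec]
        conv_rhs => arg 1; rw [hy]
        abel
      rw [this]
      exact S.refl_mem_R hx
  · push Not at hall
    obtain ⟨e, heperp, heU⟩ := hall
    have hex : S.B e x = 0 := by rw [S.B_comm]; exact heperp x hxU
    -- first make `g` fix `e`
    obtain ⟨r₁, hr₁, hr₁U, hr₁e⟩ : ∃ r ∈ S.R, (∀ a ∈ U, (r : Matrix ι ι (ZMod 2)) *ᵥ a = a) ∧
        (r : Matrix ι ι (ZMod 2)) *ᵥ ((g : Matrix ι ι (ZMod 2)) *ᵥ e) = e := by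
      set e' := (g : Matrix ι ι (ZMod 2)) *ᵥ e with he'
      have hQ : S.Q e' = S.Q e := S.iso_Q hg e
      have he'perp := hperp hg hfix e heperp
      rcases eq_or_ne e' e with heq | hne
      · exact ⟨1, one_mem _, fun a _ => by simp, by simp [heq]⟩
      rcases z2_cases (S.B e' e) with h | h
      swap
      · exact S.exists_move U hQ he'perp heperp h
      have hinj : e' ∉ U := fun hm => heU (by
        have h1 : (g : Matrix ι ι (ZMod 2)) *ᵥ e' = (g : Matrix ι ι (ZMod 2)) *ᵥ e := hfix e' hm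
        have h2 := congrArg (((g⁻¹ : GL ι (ZMod 2)) : Matrix ι ι (ZMod 2)) *ᵥ ·) h1
        simp only [Matrix.mulVec_mulVec, ← Units.val_mul, inv_mul_cancel, Units.val_one,
          Matrix.one_mulVec] at h2
        rwa [← h2])
      have hsum : e' + e ∉ U := fun hm => by
        rcases hrad _ hm (fun b hb => by rw [map_add, he'perp b hb, heperp b hb, add_zero]) with q | q
        · exact hne (by simpa using add_right_eq 0 q)
        · have := congrArg S.Q q
          rw [S.polar, hQ, CharTwo.add_self_eq_zero, zero_add, h, hx] at this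
          exact zero_ne_one this
      have he'W : e' ∉ U ⊔ Submodule.span (ZMod 2) {e' + e} := by
        intro hm
        obtain ⟨a, ha, b, hb, hab⟩ := Submodule.mem_sup.mp hm
        obtain ⟨c, rfl⟩ := Submodule.mem_span_singleton.mp hb
        rcases z2_cases c with rfl | rfl
        · rw [zero_smul, add_zero] at hab
          exact hinj (hab ▸ ha)
        · apply heU
          have : e = a := by
            rw [one_smul, ← add_assoc, add_comm a e', add_assoc, add_eq_left] at hab
            simpa using (add_right_eq 0 hab).symm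
          exact this ▸ ha
      obtain ⟨z, hz, hz1⟩ := S.exists_sep _ he'W
      have hzU : ∀ a ∈ U, S.B a z = 0 := fun a ha => hz a (Submodule.mem_sup_left ha)
      have hz2 : S.B e z = 1 := by
        have h0 := hz (e' + e) (Submodule.mem_sup_right (Submodule.mem_span_singleton_self _))
        rw [map_add, LinearMap.add_apply, hz1] at h0
        rcases z2_cases (S.B e z) with q | q
        · rw [q, add_zero] at h0; exact absurd h0 one_ne_zero
        · exact q
      obtain ⟨z', hz'Q, hz'U, hz'1, hz'2⟩ : ∃ z', S.Q z' = S.Q e ∧ (∀ a ∈ U, S.B a z' = 0) ∧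
          S.B e' z' = 1 ∧ S.B e z' = 1 := by
        by_cases hq : S.Q z = S.Q e
        · exact ⟨z, hq, hzU, hz1, hz2⟩
        · refine ⟨z + x, ?_, fun a ha => by rw [map_add, hzU a ha, hxrad a ha, add_zero], ?_, ?_⟩
          · rw [S.polar, hx, S.B_comm, hzU x hxU, add_zero]
            rcases z2_cases (S.Q z) with q | q <;> rcases z2_cases (S.Q e) with q' | q' <;>
              simp [q, q', one_add_one] at hq ⊢
          · rw [map_add, hz1, S.B_comm e' x, he'perp x hxU, add_zero]
          · rw [map_add, hz2, hex, add_zero]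
      exact S.exists_move_two U (hQ.trans hz'Q.symm) hz'Q
        (fun a ha => by rw [he'perp a ha, hz'U a ha]) (fun a ha => by rw [hz'U a ha, heperp a ha])
        hz'1 (by rw [S.B_comm, hz'2])
    set g₁ := r₁ * g with hg₁def
    have hg₁ : g₁ ∈ S.O := mul_mem (S.R_le hr₁) hg
    have hg₁fix : ∀ a ∈ U, (g₁ : Matrix ι ι (ZMod 2)) *ᵥ a = a := fun a ha => by
      rw [hg₁def, Units.val_mul, ← Matrix.mulVec_mulVec, hfix a ha, hr₁U a ha]
    have hg₁e : (g₁ : Matrix ι ι (ZMod 2)) *ᵥ e = e := by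
      rw [hg₁def, Units.val_mul, ← Matrix.mulVec_mulVec, hr₁e]
    -- now make it fix a partner of `e`
    obtain ⟨f, hfperp, hef⟩ := S.exists_sep U heU
    set f' := (g₁ : Matrix ι ι (ZMod 2)) *ᵥ f with hf'
    have hQf : S.Q f' = S.Q f := S.iso_Q hg₁ f
    have hf'perp : ∀ a ∈ U, S.B a f' = 0 := hperp hg₁ hg₁fix f hfperp
    have hef' : S.B e f' = 1 := by
      conv_lhs => rw [← hg₁e]
      rw [hf', S.iso_B hg₁, hef]
    obtain ⟨r₂, hr₂, hr₂U, hr₂f⟩ : ∃ r ∈ S.R,
        (∀ a ∈ U ⊔ Submodule.span (ZMod 2) {e}, (r : Matrix ι ι (ZMod 2)) *ᵥ a = a) ∧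
        (r : Matrix ι ι (ZMod 2)) *ᵥ f' = f := by
      rcases z2_cases (S.B f' f) with h | h
      swap
      · refine ⟨S.refl (f' + f), S.refl_mem_R (S.Q_add_eq_one hQf h), fun a ha => ?_, S.refl_swap h⟩
        obtain ⟨b, hb, c, hc, rfl⟩ := Submodule.mem_sup.mp ha
        obtain ⟨t, rfl⟩ := Submodule.mem_span_singleton.mp hc
        rw [S.refl_mulVec, S.B_comm]
        simp [hf'perp b hb, hfperp b hb, hef, hef', one_add_one]
      obtain ⟨z, hzQ, hzU, hze, hz1, hz2⟩ : ∃ z, S.Q z = S.Q f ∧ (∀ a ∈ U, S.B a z = 0) ∧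
          S.B e z = 1 ∧ S.B f' z = 1 ∧ S.B z f = 1 := by
        have hz0U : ∀ a ∈ U, S.B a (e + f) = 0 := fun a ha => by
          rw [map_add, heperp a ha, hfperp a ha, add_zero]
        have e1 : S.B e (e + f) = 1 := by rw [map_add, S.B_self, hef, zero_add]
        have e2 : S.B f' (e + f) = 1 := by rw [map_add, S.B_comm f' e, hef', h, add_zero]
        have e3 : S.B (e + f) f = 1 := by rw [map_add, LinearMap.add_apply, hef, S.B_self, add_zero]
        by_cases hq : S.Q (e + f) = S.Q f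
        · exact ⟨e + f, hq, hz0U, e1, e2, e3⟩
        · refine ⟨e + f + x, ?_, fun a ha => by rw [map_add, hz0U a ha, hxrad a ha, add_zero], ?_, ?_, ?_⟩
          · rw [S.polar, hx, S.B_comm, hz0U x hxU, add_zero]
            rcases z2_cases (S.Q (e + f)) with q | q <;> rcases z2_cases (S.Q f) with q' | q' <;>
              simp [q, q', one_add_one] at hq ⊢
          · rw [map_add, e1, hex, add_zero]
          · rw [map_add, e2, S.B_comm f' x, hf'perp x hxU, add_zero]
          · rw [map_add, LinearMap.add_apply, e3, hfperp x hxU, add_zero]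
      refine S.exists_move_two _ (hQf.trans hzQ.symm) hzQ ?_ ?_ hz1 hz2
      · intro a ha
        obtain ⟨b, hb, c, hc, rfl⟩ := Submodule.mem_sup.mp ha
        obtain ⟨t, rfl⟩ := Submodule.mem_span_singleton.mp hc
        simp [hf'perp b hb, hzU b hb, hef', hze]
      · intro a ha
        obtain ⟨b, hb, c, hc, rfl⟩ := Submodule.mem_sup.mp ha
        obtain ⟨t, rfl⟩ := Submodule.mem_span_singleton.mp hc
        simp [hzU b hb, hfperp b hb, hze, hef]
    set U' := U ⊔ Submodule.span (ZMod 2) ({e, f} : Set (ι → ZMod 2)) with hU'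
    have heU' : e ∈ U' := Submodule.mem_sup_right (Submodule.subset_span (by simp))
    have hfU' : f ∈ U' := Submodule.mem_sup_right (Submodule.subset_span (by simp))
    have hmem' : ∀ y ∈ U', ∃ a ∈ U, ∃ s t : ZMod 2, y = a + (s • e + t • f) := fun y hy => by
      obtain ⟨a, ha, c, hc, rfl⟩ := Submodule.mem_sup.mp hy
      obtain ⟨s, t, rfl⟩ := Submodule.mem_span_pair.mp hc
      exact ⟨a, ha, s, t, rfl⟩
    have hlt : U < U' := lt_of_le_of_ne le_sup_left fun h => heU (by rw [h]; exact heU')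
    have hfin := Submodule.finrank_lt_finrank_of_lt hlt
    have hle := Submodule.finrank_le U'
    rw [Module.finrank_fintype_fun_eq_card] at hle
    have hg₂ : r₂ * g₁ ∈ S.R := by
      refine ih _ (by omega : Fintype.card ι - Module.finrank (ZMod 2) U' < k) U' le_rfl
        (Submodule.mem_sup_left hxU) ?_ ?_ _ (mul_mem (S.R_le hr₂) hg₁) ?_
      · intro y hy
        obtain ⟨a, ha, s, t, rfl⟩ := hmem' y hy
        simp [hxrad a ha, hex, (show S.B f x = 0 by rw [S.B_comm]; exact hfperp x hxU)]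
      · intro y hy hyperp
        obtain ⟨a, ha, s, t, rfl⟩ := hmem' y hy
        have h1 := hyperp e heU'
        have h2 := hyperp f hfU'
        have hae : S.B e a = 0 := by rw [S.B_comm]; exact heperp a ha
        have haf : S.B f a = 0 := by rw [S.B_comm]; exact hfperp a ha
        simp [hae, haf, hef, S.B_self, S.B_comm f e] at h1 h2
        subst h1 h2
        simp only [zero_smul, add_zero] at hyperp ⊢
        exact hrad a ha fun b hb => hyperp b (Submodule.mem_sup_left hb)
      · intro y hy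
        obtain ⟨a, ha, s, t, rfl⟩ := hmem' y hy
        rw [Units.val_mul, ← Matrix.mulVec_mulVec]
        simp only [Matrix.mulVec_add, Matrix.mulVec_smul, hg₁fix a ha, hg₁e, ← hf', hr₂f,
          hr₂U a (Submodule.mem_sup_left ha),
          hr₂U e (Submodule.mem_sup_right (Submodule.mem_span_singleton_self _))]
    have : g = r₁⁻¹ * (r₂⁻¹ * (r₂ * g₁)) := by rw [hg₁def]; group
    rw [this]
    exact mul_mem (inv_mem hr₁) (mul_mem (inv_mem hr₂) hg₂)

/-- The transvections generate the isometry group. -/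
theorem O_le_R (hn : 6 ≤ Fintype.card ι) {x : ι → ZMod 2} (hx : S.Q x = 1) : S.O ≤ S.R := by
  intro g hg
  obtain ⟨r, hr, hrx⟩ := S.transitive hn (u := (g : Matrix ι ι (ZMod 2)) *ᵥ x) (w := x)
    (by rw [S.iso_Q hg, hx]) hx
  have h1 : r * g ∈ S.R := by
    refine S.fix_mem_R hx _ (Submodule.span (ZMod 2) {x}) le_rfl (Submodule.mem_span_singleton_self x)
      ?_ ?_ _ (mul_mem (S.R_le hr) hg) ?_
    · intro a ha
      obtain ⟨t, rfl⟩ := Submodule.mem_span_singleton.mp ha
      simp [S.B_self]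
    · intro a ha _
      obtain ⟨t, rfl⟩ := Submodule.mem_span_singleton.mp ha
      rcases z2_cases t with rfl | rfl <;> simp
    · intro a ha
      obtain ⟨t, rfl⟩ := Submodule.mem_span_singleton.mp ha
      rw [Matrix.mulVec_smul, Units.val_mul, ← Matrix.mulVec_mulVec, hrx]
  have : g = r⁻¹ * (r * g) := by group
  rw [this]
  exact mul_mem (inv_mem hr) h1

theorem refl_ne_one {v : ι → ZMod 2} (hv : S.Q v = 1) : S.refl v ≠ 1 := by
  intro h
  have hv0 : v ≠ 0 := fun e => by rw [e, S.Q_zero] at hv; exact zero_ne_one hv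
  obtain ⟨z, -, hz⟩ := S.exists_sep ⊥ (v := v) (by simpa using hv0)
  have := S.refl_mulVec v z
  rw [h, Units.val_one, Matrix.one_mulVec, hz, one_smul, left_eq_add] at this
  exact hv0 this

theorem rank_refl {v : ι → ZMod 2} (hv : S.Q v = 1) :
    ((S.refl v : Matrix ι ι (ZMod 2)) - 1).rank = 1 := by
  have e : (S.refl v : Matrix ι ι (ZMod 2)) - 1 =
      Matrix.vecMulVec v (fun j => S.B v (Pi.single j 1)) := by
    show S.reflM v - 1 = _
    rw [reflM, add_sub_cancel_left]
  refine le_antisymm (e ▸ Matrix.rank_vecMulVec_le _ _) (Nat.one_le_iff_ne_zero.mpr fun h0 => ?_)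
  refine S.refl_ne_one hv (Units.ext ?_)
  have h1 : ((S.refl v : Matrix ι ι (ZMod 2)) - 1).mulVecLin = 0 :=
    LinearMap.range_eq_bot.mp (Submodule.finrank_eq_zero.mp h0)
  refine Matrix.ext_iff_mulVec.mpr fun y => ?_
  have h2 := LinearMap.congr_fun h1 y
  rwa [Matrix.mulVecLin_apply, Matrix.sub_mulVec, LinearMap.zero_apply, sub_eq_zero] at h2

/-- The isometries `g` with `g - 1` of rank one are the transvections. -/
theorem eq_refl_of_rank {g : GL ι (ZMod 2)} (hg : g ∈ S.O)
    (h : ((g : Matrix ι ι (ZMod 2)) - 1).rank = 1) : ∃ v, S.Q v = 1 ∧ g = S.refl v := by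
  set N := ((g : Matrix ι ι (ZMod 2)) - 1).mulVecLin with hN
  have hN1 : Module.finrank (ZMod 2) (LinearMap.range N) = 1 := h
  obtain ⟨⟨v, hv⟩, hv0, hspan⟩ := finrank_eq_one_iff'.mp hN1
  have hv0' : v ≠ 0 := fun e => hv0 (Subtype.ext e)
  have key : ∀ y, ∃ c : ZMod 2, (g : Matrix ι ι (ZMod 2)) *ᵥ y = y + c • v := fun y => by
    obtain ⟨c, hc⟩ := hspan ⟨N y, LinearMap.mem_range_self _ y⟩
    refine ⟨c, ?_⟩
    have hc' : c • v = N y := congrArg Subtype.val hc
    rw [hc', hN, Matrix.mulVecLin_apply, Matrix.sub_mulVec, Matrix.one_mulVec, add_sub_cancel]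
  have prod : ∀ y c, (g : Matrix ι ι (ZMod 2)) *ᵥ y = y + c • v → c * (S.Q v + S.B v y) = 0 := by
    intro y c hc
    have h1 := S.iso_Q hg y
    rw [hc] at h1
    rcases z2_cases c with rfl | rfl
    · rw [zero_mul]
    · rw [one_smul, S.polar, S.B_comm y v, add_assoc, add_eq_left] at h1
      rw [one_mul, h1]
  obtain ⟨y₀, hy₀⟩ := hv
  have hy₀' : (g : Matrix ι ι (ZMod 2)) *ᵥ y₀ = y₀ + v := by
    rw [← hy₀, hN, Matrix.mulVecLin_apply, Matrix.sub_mulVec, Matrix.one_mulVec, add_sub_cancel]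
  have h0 := prod y₀ 1 (by rw [one_smul]; exact hy₀')
  rw [one_mul] at h0
  have hBy₀ : S.B v y₀ = S.Q v := (CharTwo.add_eq_zero.mp h0).symm
  -- the moved functional is `B v`
  have hQv : S.Q v = 1 := by
    rcases z2_cases (S.Q v) with q | q
    swap
    · exact q
    obtain ⟨z, -, hz⟩ := S.exists_sep ⊥ (v := v) (by simpa using hv0')
    obtain ⟨c, hc⟩ := key z
    have hc0 := prod z c hc
    rw [q, zero_add, hz, mul_one] at hc0
    subst hc0
    rw [zero_smul, add_zero] at hc
    have hsum := prod (y₀ + z) 1 (by rw [Matrix.mulVec_add, hy₀', hc, one_smul]; abel)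
    rw [one_mul, q, zero_add, map_add, hz, hBy₀, q, zero_add] at hsum
    exact absurd hsum one_ne_zero
  refine ⟨v, hQv, gl_ext fun y => ?_⟩
  obtain ⟨c, hc⟩ := key y
  rw [S.refl_mulVec, hc]
  congr 2
  have := prod y c hc
  rw [hQv] at this
  rcases z2_cases c with rfl | rfl
  · rcases z2_cases (S.B v y) with b | b
    · exact b.symm
    · exfalso
      rw [zero_smul, add_zero] at hc
      have hsum := prod (y₀ + y) 1 (by rw [Matrix.mulVec_add, hy₀', hc, one_smul]; abel)
      rw [one_mul, map_add, hBy₀, hQv, b, one_add_one, add_zero] at hsum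
      exact one_ne_zero hsum
  · rw [one_mul] at this
    exact (CharTwo.add_eq_zero.mp this)

theorem conj_refl {g : GL ι (ZMod 2)} (hg : g ∈ S.O) (v : ι → ZMod 2) :
    g * S.refl v * g⁻¹ = S.refl ((g : Matrix ι ι (ZMod 2)) *ᵥ v) := by
  refine gl_ext fun y => ?_
  have hy : (g : Matrix ι ι (ZMod 2)) *ᵥ (((g⁻¹ : GL ι (ZMod 2)) : Matrix ι ι (ZMod 2)) *ᵥ y) = y := by
    rw [Matrix.mulVec_mulVec, ← Units.val_mul, mul_inv_cancel, Units.val_one, Matrix.one_mulVec]
  rw [Units.val_mul, Units.val_mul, ← Matrix.mulVec_mulVec, ← Matrix.mulVec_mulVec, S.refl_mulVec,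
    Matrix.mulVec_add, Matrix.mulVec_smul, hy, S.refl_mulVec]
  conv_rhs => rw [← hy, S.iso_B hg, hy]

/-- The transvections form a class of 3-transpositions. -/
theorem isClass (hn : 6 ≤ Fintype.card ι) {x : ι → ZMod 2} (hx : S.Q x = 1) :
    Cfsg.IsThreeTranspositionClass
      {g : ↥S.O | (((g : GL ι (ZMod 2)) : Matrix ι ι (ZMod 2)) - 1).rank = 1} := by
  set D := {g : ↥S.O | (((g : GL ι (ZMod 2)) : Matrix ι ι (ZMod 2)) - 1).rank = 1}
  have hsq : ∀ v, S.refl v * S.refl v = 1 := fun v => Units.ext (S.reflM_mul_self v)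
  have hinv : ∀ v, (S.refl v)⁻¹ = S.refl v := fun v => inv_eq_of_mul_eq_one_right (hsq v)
  refine ⟨⟨fun d hd => ?_, fun d hd e he => ?_⟩, ⟨⟨S.refl x, S.refl_mem hx⟩, S.rank_refl hx, ?_⟩, ?_⟩
  · obtain ⟨v, hv, hdv⟩ := S.eq_refl_of_rank d.2 hd
    refine orderOf_eq_prime (Subtype.ext ?_) fun e => S.refl_ne_one hv ?_
    · rw [SubmonoidClass.coe_pow, OneMemClass.coe_one, hdv, pow_two, hsq]
    · rw [← hdv, e, OneMemClass.coe_one]
  · obtain ⟨v, hv, hdv⟩ := S.eq_refl_of_rank d.2 hd
    obtain ⟨w, hw, hew⟩ := S.eq_refl_of_rank e.2 he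
    have c1 : S.refl v * S.refl w * S.refl v = S.refl (w + S.B v w • v) := by
      have := S.conj_refl (S.refl_mem hv) w
      rwa [hinv, S.refl_mulVec] at this
    rcases z2_cases (S.B v w) with h | h
    · left
      refine Subtype.ext ?_
      rw [SubmonoidClass.coe_pow, Subgroup.coe_mul, OneMemClass.coe_one, hdv, hew, pow_two, ← mul_assoc, c1, h,
        zero_smul, add_zero, hsq]
    · right
      have c2 : S.refl w * S.refl v * S.refl w = S.refl (v + w) := by
        have := S.conj_refl (S.refl_mem hw) v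
        rwa [hinv, S.refl_mulVec, S.B_comm, h, one_smul] at this
      rw [h, one_smul, add_comm w v, ← c2] at c1
      refine Subtype.ext ?_
      rw [SubmonoidClass.coe_pow, Subgroup.coe_mul, OneMemClass.coe_one, hdv, hew]
      calc (S.refl v * S.refl w) ^ 3
          = (S.refl v * S.refl w * S.refl v) * (S.refl w * S.refl v * S.refl w) := by
            simp [pow_succ, mul_assoc]
        _ = 1 := by rw [c1, c2, hsq]
  · ext d
    constructor
    · intro hd
      obtain ⟨v, hv, hdv⟩ := S.eq_refl_of_rank d.2 hd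
      obtain ⟨r, hr, hrx⟩ := S.transitive hn hx hv
      refine isConj_iff.mpr ⟨⟨r, S.R_le hr⟩, Subtype.ext ?_⟩
      rw [Subgroup.coe_mul, Subgroup.coe_mul, Subgroup.coe_inv, S.conj_refl (S.R_le hr), hrx, hdv]
    · intro hd
      obtain ⟨c, hc⟩ := isConj_iff.mp hd
      have hc' := congrArg (Subtype.val : ↥S.O → GL ι (ZMod 2)) hc
      rw [Subgroup.coe_mul, Subgroup.coe_mul, Subgroup.coe_inv, S.conj_refl c.2] at hc'
      show _ = 1
      rw [← hc']
      exact S.rank_refl (by rw [S.iso_Q c.2, hx])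
  · refine eq_top_iff.mpr fun g _ => ?_
    have hg : (g : GL ι (ZMod 2)) ∈ S.R := S.O_le_R hn hx g.2
    have hle : S.R ≤ (Subgroup.closure D).map S.O.subtype := by
      rw [R, Subgroup.closure_le]
      rintro r ⟨v, hv, rfl⟩
      exact ⟨⟨S.refl v, S.refl_mem hv⟩, Subgroup.subset_closure (S.rank_refl hv), rfl⟩
    obtain ⟨g', hg', hgg⟩ := hle hg
    rwa [← Subtype.ext (hgg : (g' : GL ι (ZMod 2)) = g)]

end QSpace

/-- The hyperbolic space of dimension `2 m`. -/
def plusSpace (m : ℕ) : QSpace (Fin m ⊕ Fin m) where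
  Q := Cfsg.quadFormPlus m (ZMod 2)
  B := LinearMap.mk₂ (ZMod 2) (fun u v => ∑ i, (u (.inl i) * v (.inr i) + u (.inr i) * v (.inl i)))
    (fun a b c => by simp only [Pi.add_apply, add_mul, Finset.sum_add_distrib]; ring)
    (fun r a b => by simp only [Pi.smul_apply, smul_eq_mul, Finset.mul_sum]; congr 1; ext i; ring)
    (fun a b c => by simp only [Pi.add_apply, mul_add, Finset.sum_add_distrib]; ring)
    (fun r a b => by simp only [Pi.smul_apply, smul_eq_mul, Finset.mul_sum]; congr 1; ext i; ring)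
  polar u v := by
    simp only [Cfsg.quadFormPlus, LinearMap.mk₂_apply, Pi.add_apply, ← Finset.sum_add_distrib]
    exact Finset.sum_congr rfl fun i _ => by ring
  nd x h := by
    funext j
    rcases j with i | i
    · simpa [Pi.single_apply] using h (Pi.single (.inr i) 1)
    · simpa [Pi.single_apply] using h (Pi.single (.inl i) 1)

/-- The minus space of dimension `2 m + 2`. -/
def minusSpace (m : ℕ) : QSpace ((Fin m ⊕ Fin m) ⊕ Fin 2) where
  Q := Cfsg.quadFormMinus m (ZMod 2) 1 1
  B := LinearMap.mk₂ (ZMod 2) (fun u v =>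
      (∑ i, (u (.inl (.inl i)) * v (.inl (.inr i)) + u (.inl (.inr i)) * v (.inl (.inl i))))
        + (u (.inr 0) * v (.inr 1) + u (.inr 1) * v (.inr 0)))
    (fun a b c => by simp only [Pi.add_apply, add_mul, Finset.sum_add_distrib]; ring)
    (fun r a b => by simp only [Pi.smul_apply, smul_eq_mul, mul_add, Finset.mul_sum, mul_assoc])
    (fun a b c => by simp only [Pi.add_apply, mul_add, Finset.sum_add_distrib]; ring)
    (fun r a b => by simp only [Pi.smul_apply, smul_eq_mul, mul_add, Finset.mul_sum, mul_left_comm r])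
  polar u v := by
    simp only [Cfsg.quadFormMinus, LinearMap.mk₂_apply, Pi.add_apply, add_mul, mul_add,
      Finset.sum_add_distrib, one_mul]
    rw [Finset.sum_congr rfl (fun i _ => mul_comm (v (Sum.inl (Sum.inl i))) (u (Sum.inl (Sum.inr i))))]
    ring_nf
    simp [show (2 : ZMod 2) = 0 from rfl]
  nd x h := by
    funext j
    rcases j with (i | i) | i
    · simpa [Pi.single_apply] using h (Pi.single (.inl (.inr i)) 1)
    · simpa [Pi.single_apply] using h (Pi.single (.inl (.inl i)) 1)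
    · fin_cases i
      · simpa [Pi.single_apply] using h (Pi.single (.inr 1) 1)
      · simpa [Pi.single_apply] using h (Pi.single (.inr 0) 1)

end Cfsg.Agent.Lib.ThreeTransp.OrthTrans
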