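import Mathlib
import Cfsg.Prelude.Def_MonsterType
import Cfsg.Prelude.Def_Transfer
import Cfsg.Agent.Lib.Cores.PCore
import Cfsg.Agent.Lib.Classification.Extraspecial
import Cfsg.Agent.Lib.ThreeTransp.ExtraModel

/-!
The group of matrices of degree `n + 2` over the field with two elements commuting with a transvection,
in block coordinates.
-/

set_option autoImplicit false
set_option linter.unusedVariables false
set_option linter.style.haveILetI false

namespace Cfsg.Agent.Lib.ThreeTransp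

open Matrix

/-- The block matrix `(1 l c; 0 g w; 0 0 1)`. -/
@[ext]
structure Par (n : ℕ) where
  /-- corner -/
  c : ZMod 2
  /-- row -/
  l : Fin n → ZMod 2
  /-- column -/
  w : Fin n → ZMod 2
  /-- Levi part -/
  g : Matrix.GeneralLinearGroup (Fin n) (ZMod 2)

namespace Par

variable {n : ℕ}

instance : Mul (Par n) :=
  ⟨fun p q => ⟨p.c + q.c + p.l ⬝ᵥ q.w, q.l + p.l ᵥ* (q.g : Matrix (Fin n) (Fin n) (ZMod 2)),
    p.w + (p.g : Matrix (Fin n) (Fin n) (ZMod 2)) *ᵥ q.w, p.g * q.g⟩⟩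
instance : One (Par n) := ⟨⟨0, 0, 0, 1⟩⟩
instance : Inv (Par n) :=
  ⟨fun p => ⟨p.l ⬝ᵥ (((p.g⁻¹ : GL (Fin n) (ZMod 2)) : Matrix (Fin n) (Fin n) (ZMod 2)) *ᵥ p.w) - p.c,
    -(p.l ᵥ* ((p.g⁻¹ : GL (Fin n) (ZMod 2)) : Matrix (Fin n) (Fin n) (ZMod 2))),
    -(((p.g⁻¹ : GL (Fin n) (ZMod 2)) : Matrix (Fin n) (Fin n) (ZMod 2)) *ᵥ p.w), p.g⁻¹⟩⟩

@[simp] theorem mul_c (p q : Par n) : (p * q).c = p.c + q.c + p.l ⬝ᵥ q.w := rfl
@[simp] theorem mul_l (p q : Par n) :
    (p * q).l = q.l + p.l ᵥ* (q.g : Matrix (Fin n) (Fin n) (ZMod 2)) := rfl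
@[simp] theorem mul_w (p q : Par n) :
    (p * q).w = p.w + (p.g : Matrix (Fin n) (Fin n) (ZMod 2)) *ᵥ q.w := rfl
@[simp] theorem mul_g (p q : Par n) : (p * q).g = p.g * q.g := rfl
@[simp] theorem one_c : (1 : Par n).c = 0 := rfl
@[simp] theorem one_l : (1 : Par n).l = 0 := rfl
@[simp] theorem one_w : (1 : Par n).w = 0 := rfl
@[simp] theorem one_g : (1 : Par n).g = 1 := rfl

instance : Group (Par n) :=
  Group.ofLeftAxioms
    (fun p q r => Par.ext
      (by
        simp only [mul_c, mul_l, mul_w, add_dotProduct, dotProduct_add, Matrix.dotProduct_mulVec]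
        abel)
      (by simp only [mul_l, mul_g, Units.val_mul, Matrix.add_vecMul, Matrix.vecMul_vecMul]; abel)
      (by simp only [mul_w, mul_g, Units.val_mul, Matrix.mulVec_add, Matrix.mulVec_mulVec]; abel)
      (mul_assoc _ _ _))
    (fun p => Par.ext (by simp) (by simp) (by simp) (one_mul _))
    (fun p => Par.ext
      (by
        show p.l ⬝ᵥ _ - p.c + p.c + (-(p.l ᵥ* _)) ⬝ᵥ p.w = 0
        rw [neg_dotProduct, ← Matrix.dotProduct_mulVec, sub_add_cancel, add_neg_cancel])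
      (by
        show p.l + (-(p.l ᵥ* _)) ᵥ* _ = 0
        rw [Matrix.neg_vecMul, Matrix.vecMul_vecMul, ← Units.val_mul, inv_mul_cancel, Units.val_one,
          Matrix.vecMul_one, add_neg_cancel])
      (by
        show -(_ *ᵥ p.w) + _ *ᵥ p.w = 0
        exact neg_add_cancel _)
      (inv_mul_cancel _))

/-- The coordinates. -/
def equivProd :
    Par n ≃ ZMod 2 × (Fin n → ZMod 2) × (Fin n → ZMod 2) × Matrix.GeneralLinearGroup (Fin n) (ZMod 2) where
  toFun p := (p.c, p.l, p.w, p.g)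
  invFun q := ⟨q.1, q.2.1, q.2.2.1, q.2.2.2⟩
  left_inv _ := rfl
  right_inv _ := rfl

instance : Finite (Par n) := Finite.of_equiv _ equivProd.symm

/-- The central involution. -/
def zP : Par n := ⟨1, 0, 0, 1⟩

/-- The projection to the Levi factor. -/
def projG : Par n →* Matrix.GeneralLinearGroup (Fin n) (ZMod 2) where
  toFun p := p.g
  map_one' := rfl
  map_mul' _ _ := rfl

/-- The Levi factor. -/
def levi : Matrix.GeneralLinearGroup (Fin n) (ZMod 2) →* Par n where
  toFun g := ⟨0, 0, 0, g⟩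
  map_one' := rfl
  map_mul' g h := Par.ext (by simp) (by simp) (by simp) rfl

theorem projG_surjective : Function.Surjective (projG (n := n)) := fun g => ⟨levi g, rfl⟩

/-- The pairing. -/
def pairB (n : ℕ) : LinearMap.BilinForm (ZMod 2) ((Fin n → ZMod 2) × (Fin n → ZMod 2)) :=
  LinearMap.mk₂ (ZMod 2) (fun u v => u.1 ⬝ᵥ v.2) (fun u u' v => add_dotProduct _ _ _)
    (fun a u v => smul_dotProduct a _ _) (fun u v v' => dotProduct_add _ _ _)
    (fun a u v => dotProduct_smul a _ _)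

/-- The unipotent radical. -/
def emb : ExtModel (pairB n) →* Par n where
  toFun x := ⟨x.c, x.u.1, x.u.2, 1⟩
  map_one' := rfl
  map_mul' x y := Par.ext rfl
    (by
      show x.u.1 + y.u.1 = y.u.1 + x.u.1 ᵥ* ((1 : GL (Fin n) (ZMod 2)) : Matrix (Fin n) (Fin n) (ZMod 2))
      rw [Units.val_one, Matrix.vecMul_one, add_comm])
    (by
      show x.u.2 + y.u.2 = x.u.2 + ((1 : GL (Fin n) (ZMod 2)) : Matrix (Fin n) (Fin n) (ZMod 2)) *ᵥ y.u.2
      rw [Units.val_one, Matrix.one_mulVec])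
    (one_mul 1).symm

theorem emb_injective : Function.Injective (emb (n := n)) := fun x y h =>
  ExtModel.ext (congrArg Par.c h :) (Prod.ext (congrArg Par.l h :) (congrArg Par.w h :))

theorem range_emb : (emb (n := n)).range = (projG (n := n)).ker := by
  ext p
  refine ⟨?_, fun h => ⟨⟨p.c, (p.l, p.w)⟩, Par.ext rfl rfl rfl (MonoidHom.mem_ker.1 h).symm⟩⟩
  rintro ⟨x, rfl⟩
  exact rfl

theorem card_emb_range : Nat.card (emb (n := n)).range = 2 ^ (2 * n + 1) := by
  rw [Nat.card_congr (MonoidHom.ofInjective emb_injective).toEquiv.symm, ExtModel.card_eq,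
    Nat.card_prod, Nat.card_fun, Nat.card_zmod, Nat.card_fin]
  ring

theorem isExtraspecial_ker (hn : 1 ≤ n) : Cfsg.IsExtraspecial 2 ↥(projG (n := n)).ker := by
  rw [← range_emb]
  refine Cfsg.Agent.Lib.Classification.isExtraspecial_of_mulEquiv (MonoidHom.ofInjective emb_injective) ?_
  haveI : Nonempty (Fin n) := ⟨⟨0, hn⟩⟩
  haveI : Nontrivial ((Fin n → ZMod 2) × (Fin n → ZMod 2)) := inferInstance
  refine ExtModel.isExtraspecial (k := 2 * n) ?_ fun u hu => ?_
  · rw [Nat.card_prod, Nat.card_fun, Nat.card_zmod, Nat.card_fin]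
    ring
  · refine Prod.ext (funext fun i => ?_) (funext fun i => ?_)
    · have h := hu (0, Pi.single i 1)
      simpa [pairB] using h
    · have h := hu (Pi.single i 1, 0)
      simpa [pairB] using h.symm

/-- An element centralizing the radical is central in it. -/
theorem centralizes {p : Par n} (h : ∀ q ∈ (projG (n := n)).ker, p * q = q * p) : p = 1 ∨ p = zP := by
  have h1 : ∀ w : Fin n → ZMod 2, (p.g : Matrix (Fin n) (Fin n) (ZMod 2)) *ᵥ w = w ∧ p.l ⬝ᵥ w = 0 := by
    intro w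
    have e := h ⟨0, 0, w, 1⟩ rfl
    refine ⟨?_, ?_⟩
    · have := congrArg Par.w e
      simp only [mul_w, Units.val_one, Matrix.one_mulVec] at this
      exact add_left_cancel (this.trans (add_comm _ _))
    · have := congrArg Par.c e
      simpa using this
  have hg : p.g = 1 := Units.ext (Matrix.ext_of_mulVec_single fun i => by
    rw [(h1 _).1, Units.val_one, Matrix.one_mulVec])
  have hl : p.l = 0 := funext fun i => by simpa using (h1 (Pi.single i 1)).2
  have hw : p.w = 0 := funext fun i => by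
    have := congrArg Par.c (h ⟨0, Pi.single i 1, 0, 1⟩ rfl)
    simpa using this
  rcases (by decide : ∀ a : ZMod 2, a = 0 ∨ a = 1) p.c with hc | hc
  · exact Or.inl (Par.ext hc hl hw hg)
  · exact Or.inr (Par.ext hc hl hw hg)

theorem zmod2_cases : ∀ a : ZMod 2, a = 0 ∨ a = 1 := by decide

theorem pCore_GL (n : ℕ) : Cfsg.pCore 2 (Matrix.GeneralLinearGroup (Fin n) (ZMod 2)) = ⊥ := by
  haveI : Fact (Nat.Prime 2) := ⟨Nat.prime_two⟩
  refine Cores.pCore_eq_bot_iff.2 fun N hN hp => ?_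
  rw [eq_bot_iff]
  intro a ha
  rw [Subgroup.mem_bot]
  rcases Nat.eq_zero_or_pos n with rfl | hn
  · exact Subsingleton.elim _ _
  let A : MulAction N (Fin n → ZMod 2) :=
    { smul := fun a v => ((a : GL (Fin n) (ZMod 2)) : Matrix (Fin n) (Fin n) (ZMod 2)) *ᵥ v
      one_smul := fun v => by
        show ((1 : GL (Fin n) (ZMod 2)) : Matrix (Fin n) (Fin n) (ZMod 2)) *ᵥ v = v
        rw [Units.val_one, Matrix.one_mulVec]
      mul_smul := fun a b v => by
        show ((a * b : GL (Fin n) (ZMod 2)) : Matrix (Fin n) (Fin n) (ZMod 2)) *ᵥ v = _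
        rw [Units.val_mul, ← Matrix.mulVec_mulVec]
        rfl }
  letI := A
  have h2 : 2 ∣ Nat.card (Fin n → ZMod 2) := by
    rw [Nat.card_fun, Nat.card_zmod, Nat.card_fin]
    exact dvd_pow_self 2 hn.ne'
  obtain ⟨u, huf, hune⟩ := hp.exists_fixed_point_of_prime_dvd_card_of_fixed_point (α := Fin n → ZMod 2)
    h2 (a := 0) (fun a => Matrix.mulVec_zero _)
  have hfix : ∀ v : Fin n → ZMod 2, ∀ b ∈ N, (b : Matrix (Fin n) (Fin n) (ZMod 2)) *ᵥ v = v := by
    intro v b hb
    by_cases hv : v = 0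
    · rw [hv, Matrix.mulVec_zero]
    by_cases hvu : v = u
    · rw [hvu]; exact huf ⟨b, hb⟩
    -- a functional equal to `1` on both vectors
    obtain ⟨f, hfu, hfv⟩ : ∃ f : Module.Dual (ZMod 2) (Fin n → ZMod 2), f u = 1 ∧ f v = 1 := by
      have key : ∀ x : Fin n → ZMod 2, x ≠ 0 → ∃ f : Module.Dual (ZMod 2) (Fin n → ZMod 2), f x = 1 := by
        intro x hx
        obtain ⟨i, hi⟩ := Function.ne_iff.1 hx
        exact ⟨LinearMap.proj i, (zmod2_cases (x i)).resolve_left hi⟩
      obtain ⟨f, hf⟩ := key u (Ne.symm hune)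
      rcases zmod2_cases (f v) with hfv | hfv
      · obtain ⟨f', hf'⟩ := key v hv
        rcases zmod2_cases (f' u) with hfu' | hfu'
        · exact ⟨f + f', by simp [hf, hfu'], by simp [hfv, hf']⟩
        · exact ⟨f', hfu', hf'⟩
      · exact ⟨f, hf, hfv⟩
    let T : (Fin n → ZMod 2) →ₗ[ZMod 2] (Fin n → ZMod 2) := LinearMap.id + f.smulRight (v - u)
    have hT : T.comp T = LinearMap.id := by
      apply LinearMap.ext; intro x
      simp [T, hfu, hfv, add_assoc, CharTwo.add_self_eq_zero, ← add_smul]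
    let g : GL (Fin n) (ZMod 2) :=
      ⟨LinearMap.toMatrix' T, LinearMap.toMatrix' T,
        by rw [← LinearMap.toMatrix'_comp, hT, LinearMap.toMatrix'_id],
        by rw [← LinearMap.toMatrix'_comp, hT, LinearMap.toMatrix'_id]⟩
    have hgu : (g : Matrix (Fin n) (Fin n) (ZMod 2)) *ᵥ u = v := by
      show LinearMap.toMatrix' T *ᵥ u = v
      rw [LinearMap.toMatrix'_mulVec]
      simp [T, hfu]
    have hc := huf ⟨g⁻¹ * b * g, by simpa using hN.conj_mem b hb g⁻¹⟩
    change ((g⁻¹ * b * g : GL (Fin n) (ZMod 2)) : Matrix (Fin n) (Fin n) (ZMod 2)) *ᵥ u = u at hc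
    have e : b * g = g * (g⁻¹ * b * g) := by group
    rw [← hgu, Matrix.mulVec_mulVec, ← Units.val_mul, e, Units.val_mul, ← Matrix.mulVec_mulVec, hc]
  exact Units.ext (Matrix.ext_of_mulVec_single fun i => by rw [hfix _ a ha, Units.val_one, Matrix.one_mulVec])

theorem pCore_eq : Cfsg.pCore 2 (Par n) = (projG (n := n)).ker := by
  refine le_antisymm ?_ (Cores.le_pCore inferInstance ?_)
  · intro x hx
    have h := Cores.map_pCore_le (p := 2) projG projG_surjective ⟨x, hx, rfl⟩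
    rw [pCore_GL, Subgroup.mem_bot] at h
    exact h
  · rw [← range_emb]
    exact IsPGroup.of_card card_emb_range

/-- The elementary abelian subgroup of order `2 ^ (n + 1)`. -/
def elemSub (n : ℕ) : Subgroup (Par n) where
  carrier := {p | p.g = 1 ∧ p.l = 0}
  one_mem' := ⟨rfl, rfl⟩
  mul_mem' := fun {p q} hp hq => ⟨by rw [mul_g, hp.1, hq.1, one_mul], by
    rw [mul_l, hp.2, hq.2, Matrix.zero_vecMul, add_zero]⟩
  inv_mem' := fun {p} hp => by
    refine ⟨?_, ?_⟩
    · show p.g⁻¹ = 1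
      rw [hp.1, inv_one]
    · show -(p.l ᵥ* _) = 0
      rw [hp.2, Matrix.zero_vecMul, neg_zero]

theorem elemSub_isElementary : Cfsg.IsElementaryAbelian 2 (elemSub n) := by
  have key : ∀ p ∈ elemSub n, ∀ q ∈ elemSub n, p * q = ⟨p.c + q.c, 0, p.w + q.w, 1⟩ := by
    rintro p ⟨h1, h2⟩ q ⟨h3, h4⟩
    exact Par.ext (by simp [h2]) (by simp [h2, h4]) (by simp [h1]) (by simp [h1, h3])
  refine ⟨⟨⟨fun p q => Subtype.ext ?_⟩⟩, fun p hp => ?_⟩
  · show (p : Par n) * q = q * p
    rw [key _ p.2 _ q.2, key _ q.2 _ p.2, add_comm (p : Par n).c, add_comm (p : Par n).w]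
  · rw [pow_two, key _ hp _ hp, CharTwo.add_self_eq_zero,
      show p.w + p.w = 0 from funext fun i => CharTwo.add_self_eq_zero (p.w i)]
    rfl

theorem elemSub_card : Nat.card ↥(elemSub n) = 2 ^ (n + 1) := by
  let e : ↥(elemSub n) ≃ ZMod 2 × (Fin n → ZMod 2) :=
    { toFun := fun p => (p.1.c, p.1.w)
      invFun := fun q => ⟨⟨q.1, 0, q.2, 1⟩, rfl, rfl⟩
      left_inv := fun p => Subtype.ext (Par.ext rfl p.2.2.symm rfl p.2.1.symm)
      right_inv := fun q => rfl }
  rw [Nat.card_congr e, Nat.card_prod, Nat.card_fun, Nat.card_zmod, Nat.card_fin, pow_succ, mul_comm]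

theorem elemSub_le : elemSub n ≤ (projG (n := n)).ker := fun _ h => h.1

/-- The whole package for a group in which some involution has such a centralizer. -/
theorem package {G : Type*} [Group G] [Finite G] (hn : 1 ≤ n) (φ : Par n →* G) (hφ : Function.Injective φ)
    (hr : φ.range = Subgroup.centralizer ({φ zP} : Set G)) (Q : Subgroup G)
    (hQ : Q = (Cfsg.pCore 2 ↥(Subgroup.centralizer ({φ zP} : Set G))).map
      (Subgroup.centralizer ({φ zP} : Set G)).subtype) :
    Q = (projG (n := n)).ker.map φ ∧ Cfsg.IsExtraspecial 2 ↥Q ∧ Nat.card ↥Q = 2 ^ (2 * n + 1) ∧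
      (∃ E : Subgroup G, E ≤ Q ∧ Cfsg.IsElementaryAbelian 2 E ∧ Nat.card ↥E = 2 ^ (n + 1)) ∧
      (Subgroup.center ↥Q).map Q.subtype = Subgroup.zpowers (φ zP) ∧
      Subgroup.centralizer (Q : Set G) = (Subgroup.center ↥Q).map Q.subtype ∧
      Subgroup.centralizer (((Subgroup.center ↥Q).map Q.subtype : Subgroup G) : Set G) ≤
        Subgroup.normalizer (Q : Set G) ∧
      ∃ K : Subgroup G, K ≤ Subgroup.centralizer ({φ zP} : Set G) ∧ Q ⊓ K = ⊥ ∧
        Q ⊔ K = Subgroup.centralizer ({φ zP} : Set G) ∧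
        Nonempty (↥K ≃* Matrix.GeneralLinearGroup (Fin n) (ZMod 2)) := by
  let e : Par n ≃* ↥(Subgroup.centralizer ({φ zP} : Set G)) :=
    (MonoidHom.ofInjective hφ).trans (MulEquiv.subgroupCongr hr)
  have hQ' : Q = (projG (n := n)).ker.map φ := by
    rw [hQ, ← Cores.map_pCore_equiv e, pCore_eq, Subgroup.map_map]
    rfl
  have hzker : zP ∈ (projG (n := n)).ker := rfl
  let eQ : ↥(projG (n := n)).ker ≃* ↥Q :=
    (Subgroup.equivMapOfInjective _ φ hφ).trans (MulEquiv.subgroupCongr hQ'.symm)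
  have hE : Cfsg.IsExtraspecial 2 ↥Q :=
    Cfsg.Agent.Lib.Classification.isExtraspecial_of_mulEquiv eQ (isExtraspecial_ker hn)
  have hcenz : ∀ p : Par n, zP * p = p * zP := fun p =>
    Par.ext (by simp [zP, add_comm]) (by simp [zP]) (by simp [zP]) (by simp [zP])
  have hcenQ : Subgroup.centralizer (Q : Set G) ≤ Subgroup.zpowers (φ zP) := by
    intro x hx
    have hxz : x ∈ φ.range := by
      rw [hr, Subgroup.mem_centralizer_singleton_iff]
      exact (hx (φ zP) (hQ' ▸ ⟨zP, hzker, rfl⟩)).symm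
    obtain ⟨p, rfl⟩ := hxz
    rcases centralizes (p := p) (fun q hq => hφ (by
      rw [map_mul, map_mul]; exact (hx (φ q) (hQ' ▸ ⟨q, hq, rfl⟩)).symm)) with rfl | rfl
    · rw [map_one]; exact one_mem _
    · exact Subgroup.mem_zpowers _
  have hZ : (Subgroup.center ↥Q).map Q.subtype = Subgroup.zpowers (φ zP) := by
    refine le_antisymm ?_ (Subgroup.zpowers_le.2 ⟨⟨φ zP, hQ' ▸ ⟨zP, hzker, rfl⟩⟩, ?_, rfl⟩)
    · rintro _ ⟨c, hc, rfl⟩
      exact hcenQ fun q hq => congrArg Subtype.val (Subgroup.mem_center_iff.1 hc ⟨q, hq⟩)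
    · refine Subgroup.mem_center_iff.2 fun q => Subtype.ext ?_
      have hq' : (q : G) ∈ (projG (n := n)).ker.map φ := hQ' ▸ q.2
      obtain ⟨p, -, hp⟩ := hq'
      show (q : G) * φ zP = φ zP * q
      rw [← hp, ← map_mul, ← map_mul, hcenz]
  refine ⟨hQ', hE, ?_, ⟨(elemSub n).map φ, ?_, ?_, ?_⟩, hZ, ?_, ?_, ?_⟩
  · rw [← Nat.card_congr eQ.toEquiv, ← range_emb, card_emb_range]
  · rw [hQ']; exact Subgroup.map_mono elemSub_le
  · haveI := (elemSub_isElementary (n := n)).1
    refine ⟨Subgroup.map_isMulCommutative _ φ, ?_⟩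
    rintro _ ⟨p, hp, rfl⟩
    rw [← map_pow, elemSub_isElementary.2 p hp, map_one]
  · rw [Subgroup.card_map_of_injective hφ, elemSub_card]
  · refine le_antisymm (hZ ▸ hcenQ) ?_
    rintro _ ⟨c, hc, rfl⟩ q hq
    exact congrArg Subtype.val (Subgroup.mem_center_iff.1 hc ⟨q, hq⟩)
  · rw [hZ, Subgroup.zpowers_eq_closure, Subgroup.centralizer_closure, ← hr, hQ',
      MonoidHom.range_eq_map]
    refine le_trans ?_ (Subgroup.le_normalizer_map φ)
    rw [Subgroup.normalizer_eq_top]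
  · refine ⟨(levi (n := n)).range.map φ, ?_, ?_, ?_, ⟨?_⟩⟩
    · rw [← hr]; exact Subgroup.map_le_range _ _
    · rw [hQ', ← Subgroup.map_inf _ _ _ hφ, Subgroup.map_eq_bot_iff_of_injective _ hφ, eq_bot_iff]
      rintro _ ⟨h1, g, rfl⟩
      have hg : g = 1 := h1
      rw [hg, map_one]
      exact one_mem _
    · rw [hQ', ← Subgroup.map_sup, ← hr, MonoidHom.range_eq_map φ]
      congr 1
      rw [eq_top_iff]
      intro p _
      have hp : p * (levi p.g)⁻¹ ∈ (projG (n := n)).ker := by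
        rw [MonoidHom.mem_ker, map_mul, map_inv]
        show p.g * p.g⁻¹ = 1
        exact mul_inv_cancel _
      have := mul_mem (Subgroup.mem_sup_left (T := (levi (n := n)).range) hp)
        (Subgroup.mem_sup_right (S := (projG (n := n)).ker) ⟨p.g, rfl⟩)
      simpa using this
    · exact ((MonoidHom.ofInjective (f := levi) (fun a b h => congrArg Par.g h)).trans
        (Subgroup.equivMapOfInjective _ φ hφ)).symm

end Par

end Cfsg.Agent.Lib.ThreeTransp
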