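import Mathlib
import Cfsg.Agent.Lib.ThreeTransp.Model54

/-!
Groups `P⟨a⟩` with `P` a 3-group, acting faithfully on a space over the field with two elements so that
the fixed vectors of an element inverted by an involution outside `P` are fixed by that involution.
-/

set_option autoImplicit false
set_option linter.style.haveILetI false

namespace Cfsg.Agent.Lib.ThreeTransp

open scoped commutatorElement

variable {H : Type*} [Group H] {W : Type*} [AddCommGroup W]

/-- The hypotheses. -/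
structure PlaneData (P : Subgroup H) (a : H) (ρ : H →* AddMonoid.End W) : Prop where
  two : ∀ w : W, w + w = 0
  inj : Function.Injective ρ
  normal : ∀ g : H, ∀ x ∈ P, g * x * g⁻¹ ∈ P
  threeGroup : IsPGroup 3 P
  sq : a * a = 1
  notMem : a ∉ P
  index : ∀ x : H, x ∈ P ∨ a * x ∈ P
  cube : ∀ x t : H, x ∉ P → x * x = 1 → t ∈ P → x * t * x = t⁻¹ → t ^ 3 = 1
  fix : ∀ x t : H, x ∉ P → x * x = 1 → t ∈ P → t ≠ 1 → x * t * x = t⁻¹ →
    ∀ w : W, ρ t w = w → ρ x w = w
  gen : ∀ K : Subgroup H, (∀ t ∈ P, a * t * a = t⁻¹ → t ∈ K) → P ≤ K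
  nontrivial : P ≠ ⊥

namespace PlaneData

theorem aut_mul (ρ : H →* AddMonoid.End W) (g h : H) (w : W) : ρ (g * h) w = ρ g (ρ h w) := by
  rw [map_mul]; rfl

theorem aut_one (ρ : H →* AddMonoid.End W) (w : W) : ρ 1 w = w := by
  rw [map_one]; rfl

theorem aut_inj (ρ : H →* AddMonoid.End W) (g : H) : Function.Injective (ρ g) := fun v w h => by
  have := congrArg (ρ g⁻¹) h
  rwa [← aut_mul, ← aut_mul, inv_mul_cancel, aut_one, aut_one] at this

/-- The sum over the powers of `g`. -/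
def nrm (ρ : H →* AddMonoid.End W) (g : H) (v : W) : W := v + ρ g v + ρ g (ρ g v)

theorem nrm_fixed (ρ : H →* AddMonoid.End W) {g : H} (hg : g ^ 3 = 1) (v : W) :
    ρ g (nrm ρ g v) = nrm ρ g v := by
  have h : ρ g (ρ g (ρ g v)) = v := by
    rw [← aut_mul, ← aut_mul, show g * g * g = g ^ 3 by rw [pow_succ, pow_two], hg, aut_one]
  simp only [nrm, map_add, h]
  abel

theorem conj_mul_of_sq {a : H} (ha : a * a = 1) (p q : H) : a * (p * q) * a = a * p * a * (a * q * a) := by
  calc a * (p * q) * a = a * p * 1 * q * a := by group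
    _ = _ := by rw [← ha]; group

theorem conj_inv_of_sq {a : H} (ha : a * a = 1) (p : H) : a * p⁻¹ * a = (a * p * a)⁻¹ := by
  rw [mul_inv_rev, mul_inv_rev, inv_eq_of_mul_eq_one_right ha, mul_assoc]

variable {P : Subgroup H} {a : H} {ρ : H →* AddMonoid.End W}

theorem pow_three_inj (d : PlaneData P a ρ) {c : H} (hc : c ∈ P) (h : c * c = 1) : c = 1 := by
  obtain ⟨k, hk⟩ := d.threeGroup ⟨c, hc⟩
  have h3 : c ^ 3 ^ k = 1 := congrArg Subtype.val hk
  have h2 : c ^ 2 = 1 := by rw [pow_two]; exact h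
  have := pow_gcd_eq_one.2 ⟨h3, h2⟩
  rwa [Nat.Coprime.gcd_eq_one (Nat.Coprime.pow_left k (by norm_num)), pow_one] at this

theorem out_mem (d : PlaneData P a ρ) {t : H} (ht : t ∈ P) : a * t ∉ P := fun h =>
  d.notMem (by simpa using P.mul_mem h (P.inv_mem ht))

/-- Fixed vectors pass from an inverted element to the other generator of the plane. -/
theorem plane_step (d : PlaneData P a ρ) {u g e : H} (hu : u ∈ P) (hua : a * u * a = u⁻¹) (hg : g ∈ P)
    (hga : a * g * a = g⁻¹) (hg1 : g ≠ 1) (he : u * g * u⁻¹ = e * g) (heg : Commute e g)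
    (heu : Commute e u) (hea : a * e * a = e) (heP : e ∈ P) (he3 : e ^ 3 = 1)
    {w : W} (hgw : ρ g w = w) (hew : ρ e w = w) : ρ u w = w := by
  have h1 : ρ a w = w := d.fix a g d.notMem d.sq hg hg1 hga w hgw
  have hau : a * u * (a * u) = 1 := by
    calc a * u * (a * u) = a * u * a * u := by group
      _ = 1 := by rw [hua, inv_mul_cancel]
  have hne : g * e ≠ 1 := by
    intro h
    have hge : e = g⁻¹ := eq_inv_of_mul_eq_one_right h
    rw [hge, conj_inv_of_sq d.sq, hga, inv_inv] at hea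
    refine hg1 (d.pow_three_inj hg ?_)
    exact mul_eq_one_iff_eq_inv.2 hea
  have hinv : a * u * (g * e) * (a * u) = (g * e)⁻¹ := by
    have h2 : a * u = u⁻¹ * a := by
      calc a * u = a * u * (a * a) := by rw [d.sq, mul_one]
        _ = a * u * a * a := by group
        _ = u⁻¹ * a := by rw [hua]
    calc a * u * (g * e) * (a * u) = a * u * (g * e) * (u⁻¹ * a) := by rw [← h2]
      _ = a * (u * g * u⁻¹ * (u * e * u⁻¹)) * a := by group
      _ = a * (g * (e * e)) * a := by rw [he, ← heu.eq, mul_inv_cancel_right, heg.eq, mul_assoc g e e]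
      _ = g⁻¹ * (e * e) := by rw [conj_mul_of_sq d.sq, conj_mul_of_sq d.sq, hga, hea]
      _ = (e * g)⁻¹ := by
          rw [mul_inv_rev, show e⁻¹ = e * e from inv_eq_of_mul_eq_one_right (by
            rw [← mul_assoc]
            calc e * e * e = e ^ 3 := by rw [pow_succ, pow_two]
              _ = 1 := he3)]
      _ = _ := by rw [heg.eq]
  have h2 : ρ (a * u) w = w :=
    d.fix (a * u) (g * e) (d.out_mem hu) hau (P.mul_mem hg heP) hne hinv w (by rw [aut_mul, hew, hgw])
  rw [aut_mul] at h2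
  exact aut_inj ρ a (h2.trans h1.symm)

/-- Fixed vectors pass from a commutator to its first entry. -/
theorem plane_fix (d : PlaneData P a ρ) {u y c : H} (hu : u ∈ P) (hy : y ∈ P)
    (hua : a * u * a = u⁻¹) (hya : a * y * a = y⁻¹) (hy1 : y ≠ 1)
    (huy : u ≠ y) (huy' : u ≠ y⁻¹)
    (hc : u * y * u⁻¹ = c * y) (hcu : Commute c u) (hcy : Commute c y) (hca : a * c * a = c)
    {v : W} (hv : ρ c v = v) : ρ u v = v := by
  have hce : c = u * y * u⁻¹ * y⁻¹ := eq_mul_inv_of_mul_eq hc.symm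
  have hcP : c ∈ P := hce ▸ P.mul_mem (P.mul_mem (P.mul_mem hu hy) (P.inv_mem hu)) (P.inv_mem hy)
  have hu3 := d.cube a u d.notMem d.sq hu hua
  have hy3 := d.cube a y d.notMem d.sq hy hya
  have hc3 : c ^ 3 = 1 := by
    have h2 : (u * y * u⁻¹) ^ 3 = 1 := by rw [conj_pow, hy3]; group
    rwa [hc, hcy.mul_pow, hy3, mul_one] at h2
  have hcomm : ∀ g : H, Commute c g → ∀ w, ρ c w = w → ρ c (ρ g w) = ρ g w := fun g hg w hw => by
    rw [← aut_mul, hg.eq, aut_mul, hw]
  have hswap : ∀ w, ρ c w = w → ρ u (ρ y w) = ρ y (ρ u w) := fun w hw => by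
    rw [← aut_mul, ← aut_mul, show u * y = c * (y * u) by
      calc u * y = u * y * u⁻¹ * u := by group
        _ = _ := by rw [hc, mul_assoc], aut_mul ρ c]
    exact hcomm _ (hcy.mul_right hcu) w hw
  have hg1 : y * u * y ∈ P := P.mul_mem (P.mul_mem hy hu) hy
  have hg2 : y * y * u * (y * y) ∈ P := P.mul_mem (P.mul_mem (P.mul_mem hy hy) hu) (P.mul_mem hy hy)
  have hg1a : a * (y * u * y) * a = (y * u * y)⁻¹ := by
    rw [conj_mul_of_sq d.sq, conj_mul_of_sq d.sq, hya, hua]; group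
  have hg2a : a * (y * y * u * (y * y)) * a = (y * y * u * (y * y))⁻¹ := by
    rw [conj_mul_of_sq d.sq, conj_mul_of_sq d.sq, conj_mul_of_sq d.sq, hya, hua]; group
  have hy3' : y * y * y = 1 := by rw [← hy3, pow_succ, pow_two]
  have hg1ne : y * u * y ≠ 1 := fun h => huy (by
    calc u = y⁻¹ * (y * u * y) * y⁻¹ := by group
      _ = y * y * y * (y⁻¹ * y⁻¹) := by rw [h, hy3']; group
      _ = y := by group)
  have hg2ne : y * y * u * (y * y) ≠ 1 := fun h => huy' (by
    calc u = (y * y)⁻¹ * (y * y * u * (y * y)) * (y * y)⁻¹ := by group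
      _ = y⁻¹ * (y * y * y)⁻¹ := by rw [h]; group
      _ = y⁻¹ := by rw [hy3']; group)
  have hcg1 : Commute c (y * u * y) := (hcy.mul_right hcu).mul_right hcy
  have hcg2 : Commute c (y * y * u * (y * y)) :=
    ((hcy.mul_right hcy).mul_right hcu).mul_right (hcy.mul_right hcy)
  have he1 : u * (y * u * y) * u⁻¹ = c * c * (y * u * y) := by
    calc u * (y * u * y) * u⁻¹ = (u * y * u⁻¹) * u * (u * y * u⁻¹) := by group
      _ = c * (y * u) * c * y := by rw [hc]; group
      _ = c * (c * (y * u)) * y := by rw [mul_assoc c (y * u) c, ← (hcy.mul_right hcu).eq]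
      _ = _ := by group
  have he2 : u * (y * y * u * (y * y)) * u⁻¹ = c * (y * y * u * (y * y)) := by
    have hyy : u * (y * y) * u⁻¹ = (c * c) * (y * y) := by
      calc u * (y * y) * u⁻¹ = (u * y * u⁻¹) * (u * y * u⁻¹) := by group
        _ = c * (y * c) * y := by rw [hc]; group
        _ = _ := by rw [← hcy.eq]; group
    calc u * (y * y * u * (y * y)) * u⁻¹ = u * (y * y) * u⁻¹ * u * (u * (y * y) * u⁻¹) := by group
      _ = c * c * (y * y * u) * (c * c) * (y * y) := by rw [hyy]; group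
      _ = c * c * ((c * c) * (y * y * u)) * (y * y) := by
          rw [mul_assoc (c * c) (y * y * u) (c * c),
            ((hcy.mul_right hcy).mul_right hcu).mul_left ((hcy.mul_right hcy).mul_right hcu) |>.eq]
      _ = c ^ 3 * (c * (y * y * u * (y * y))) := by rw [pow_succ, pow_two]; group
      _ = _ := by rw [hc3, one_mul]
  have hcc : ρ (c * c) v = v := by rw [aut_mul, hv, hv]
  have hnc : ∀ g : H, Commute c g → ∀ w, ρ c w = w → ρ c (nrm ρ g w) = nrm ρ g w := fun g hg w hw => by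
    simp only [nrm, map_add, hw, hcomm g hg w hw, hcomm g hg _ (hcomm g hg w hw)]
  -- each of the five summands is fixed by `u`
  have k1 : ρ u (nrm ρ y v) = nrm ρ y v :=
    d.plane_step hu hua hy hya hy1 hc hcy hcu hca hcP hc3 (nrm_fixed ρ hy3 v) (hnc y hcy v hv)
  have k2 : ρ u (nrm ρ u v) = nrm ρ u v := nrm_fixed ρ hu3 v
  have k3 : ρ u (nrm ρ (y * u * y) v) = nrm ρ (y * u * y) v := by
    refine d.plane_step hu hua hg1 hg1a hg1ne he1 (hcg1.mul_left hcg1) (hcu.mul_left hcu)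
      (by rw [conj_mul_of_sq d.sq, hca]) (P.mul_mem hcP hcP) ?_
      (nrm_fixed ρ (d.cube a _ d.notMem d.sq hg1 hg1a) v) ?_
    · rw [← pow_two, ← pow_mul, pow_mul', hc3, one_pow]
    · rw [aut_mul, hnc _ hcg1 v hv, hnc _ hcg1 v hv]
  have k4 : ρ u (nrm ρ (y * y * u * (y * y)) v) = nrm ρ (y * y * u * (y * y)) v :=
    d.plane_step hu hua hg2 hg2a hg2ne he2 hcg2 hcu hca hcP hc3
      (nrm_fixed ρ (d.cube a _ d.notMem d.sq hg2 hg2a) v) (hnc _ hcg2 v hv)
  have hvu := hnc u hcu v hv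
  have k5 : ρ u (nrm ρ y (nrm ρ u v)) = nrm ρ y (nrm ρ u v) :=
    d.plane_step hu hua hy hya hy1 hc hcy hcu hca hcP hc3 (nrm_fixed ρ hy3 _) (hnc y hcy _ hvu)
  have hsum : nrm ρ y v + nrm ρ u v + nrm ρ (y * u * y) v + nrm ρ (y * y * u * (y * y)) v +
      nrm ρ y (nrm ρ u v) = v := by
    have hy_ : ∀ w, ρ y (ρ y (ρ y w)) = w := fun w => by
      rw [← aut_mul, ← aut_mul, hy3', aut_one]
    have f1 := hcomm y hcy v hv
    have f2 := hcomm u hcu v hv
    have f3 := hcomm y hcy _ f1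
    have f7 := hcomm u hcu _ f1
    simp only [nrm, map_add, aut_mul]
    -- move every `y` inwards
    simp only [← hswap _ hv, ← hswap _ f1, ← hswap _ f2, ← hswap _ f3, ← hswap _ f7, hy_]
    abel_nf
    have h2 : ∀ w : W, (2 : ℤ) • w = 0 := fun w => by rw [two_zsmul]; exact d.two w
    rw [show (5 : ℤ) = 1 + 2 + 2 by norm_num, add_smul, add_smul, one_smul]
    simp only [h2, add_zero]
  have := congrArg (ρ u) hsum
  rw [map_add, map_add, map_add, map_add, k1, k2, k3, k4, k5, hsum] at this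
  exact this.symm

/-- A vector is the sum of vectors fixed by the four subgroups of order three of a group of order nine. -/
theorem four_sum (d : PlaneData P a ρ) {t s : H} (h : Commute t s) (ht : t ^ 3 = 1)
    (v : W) : nrm ρ t v + nrm ρ s v + nrm ρ (t * s) v + nrm ρ (t * (t * s)) v +
      nrm ρ t (nrm ρ s v) = v := by
  have ht' : ∀ w, ρ t (ρ t (ρ t w)) = w := fun w => by
    rw [← aut_mul, ← aut_mul, show t * t * t = 1 by rw [← ht, pow_succ, pow_two], aut_one]
  have hts : ∀ w, ρ s (ρ t w) = ρ t (ρ s w) := fun w => by rw [← aut_mul, ← h.eq, aut_mul]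
  simp only [nrm, map_add, aut_mul, hts, ht']
  abel_nf
  have h2 : ∀ w : W, (2 : ℤ) • w = 0 := fun w => by rw [two_zsmul]; exact d.two w
  rw [show (5 : ℤ) = 1 + 2 + 2 by norm_num, add_smul, add_smul, one_smul]
  simp only [h2, add_zero]

/-- Two commuting inverted elements generate a cyclic group. -/
theorem comm_cases (d : PlaneData P a ρ) {u y : H} (hu : u ∈ P) (hy : y ∈ P) (hua : a * u * a = u⁻¹)
    (hya : a * y * a = y⁻¹) (hu1 : u ≠ 1) (h : Commute u y) : y = 1 ∨ y = u ∨ y = u⁻¹ := by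
  by_contra hne
  push Not at hne
  refine hu1 (d.inj (AddMonoidHom.ext fun v => Eq.trans ?_ (aut_one ρ v).symm))
  exact d.plane_fix hu hy hua hya hne.1 (Ne.symm hne.2.1) (fun e => hne.2.2 (by rw [e, inv_inv]))
    (c := 1) (by rw [h.eq, mul_inv_cancel_right, one_mul]) (Commute.one_left _) (Commute.one_left _)
    (by rw [mul_one, d.sq]) (aut_one ρ v)

theorem gen_top (d : PlaneData P a ρ) {K : Subgroup H} (ha : a ∈ K) (hP : P ≤ K) : K = ⊤ := by
  rw [eq_top_iff]
  intro x _
  rcases d.index x with hx | hx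
  · exact hP hx
  · have := K.mul_mem (K.inv_mem ha) (hP hx)
    rwa [inv_mul_cancel_left] at this

/-- The structure. -/
theorem structure_cases [Finite H] (d : PlaneData P a ρ) :
    (∃ t : H, t ^ 3 = 1 ∧ t ≠ 1 ∧ a * t * a = t⁻¹ ∧ Subgroup.closure {a, t} = ⊤) ∨
      ∃ u y : H, u ∈ P ∧ y ∈ P ∧ Rel54 a u y ∧ P ≤ Subgroup.closure {u, y} := by
  classical
  have hcubeI : ∀ t ∈ P, a * t * a = t⁻¹ → t ^ 3 = 1 := fun t => d.cube a t d.notMem d.sq
  have hconjP : ∀ x ∈ P, a * x * a ∈ P := fun x hx => by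
    have := d.normal a x hx
    rwa [inv_eq_of_mul_eq_one_right d.sq] at this
  have haa : ∀ x, a * (a * x * a) * a = x := fun x => by
    calc a * (a * x * a) * a = (a * a) * x * (a * a) := by group
      _ = x := by rw [d.sq]; group
  by_cases hab : ∀ x ∈ P, ∀ y ∈ P, Commute x y
  · -- abelian case
    obtain ⟨t, ht, hta, ht1⟩ : ∃ t ∈ P, a * t * a = t⁻¹ ∧ t ≠ 1 := by
      by_contra hne
      push Not at hne
      exact d.nontrivial (eq_bot_iff.2 (d.gen ⊥ fun t ht hta => Subgroup.mem_bot.2 (hne t ht hta)))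
    refine Or.inl ⟨t, hcubeI t ht hta, ht1, hta, d.gen_top (Subgroup.subset_closure (by simp))
      (d.gen _ fun s hs hsa => ?_)⟩
    have hmem : t ∈ Subgroup.closure ({a, t} : Set H) := Subgroup.subset_closure (by simp)
    rcases d.comm_cases ht hs hta hsa ht1 (hab t ht s hs) with rfl | rfl | rfl
    · exact one_mem _
    · exact hmem
    · exact inv_mem hmem
  right
  -- central elements are centralized by `a`
  have hzfix : ∀ z ∈ P, (∀ p ∈ P, Commute z p) → a * z * a = z := by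
    intro z hz hzc
    by_contra hne
    set e := a * z * a * z⁻¹ with he
    have heP : e ∈ P := P.mul_mem (hconjP z hz) (P.inv_mem hz)
    have hzc' : ∀ p ∈ P, Commute (a * z * a) p := fun p hp => by
      have h := hzc _ (hconjP p hp)
      show a * z * a * p = p * (a * z * a)
      conv_lhs => rw [← haa p]
      conv_rhs => rw [← haa p]
      rw [← conj_mul_of_sq d.sq, ← conj_mul_of_sq d.sq, h.eq]
    have hec : ∀ p ∈ P, Commute e p := fun p hp => (hzc' p hp).mul_left (hzc p hp).inv_left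
    have hea : a * e * a = e⁻¹ := by
      rw [he, conj_mul_of_sq d.sq, haa, conj_inv_of_sq d.sq]; group
    have he1 : e ≠ 1 := fun h => hne (mul_inv_eq_one.1 h)
    refine hab fun x hx y hy => ?_
    have hK : P ≤ Subgroup.zpowers e := d.gen _ fun s hs hsa => by
      rcases d.comm_cases heP hs hea hsa he1 (hec s hs) with rfl | rfl | rfl
      · exact one_mem _
      · exact Subgroup.mem_zpowers _
      · exact inv_mem (Subgroup.mem_zpowers _)
    obtain ⟨i, rfl⟩ := Subgroup.mem_zpowers_iff.1 (hK hx)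
    obtain ⟨j, rfl⟩ := Subgroup.mem_zpowers_iff.1 (hK hy)
    exact Commute.zpow_zpow_self e i j
  -- the elements whose commutators are central
  let Zc : H → Prop := fun c => c ∈ P ∧ ∀ p ∈ P, Commute c p
  have hZinv : ∀ c, Zc c → Zc c⁻¹ := fun c hc => ⟨P.inv_mem hc.1, fun p hp => (hc.2 p hp).inv_left⟩
  have hZmul : ∀ b c, Zc b → Zc c → Zc (b * c) := fun b c hb hc =>
    ⟨P.mul_mem hb.1 hc.1, fun p hp => (hb.2 p hp).mul_left (hc.2 p hp)⟩
  obtain ⟨x, hxP, hxnc, hx2⟩ : ∃ x ∈ P, ¬ (∀ p ∈ P, Commute x p) ∧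
      ∀ p ∈ P, Zc (x * p * x⁻¹ * p⁻¹) := by
    haveI : Fact (Nat.Prime 3) := ⟨Nat.prime_three⟩
    haveI : Nontrivial (↥P ⧸ Subgroup.center ↥P) :=
      QuotientGroup.nontrivial_iff.2 fun h => hab fun x hx y hy => by
        have hx' : (⟨x, hx⟩ : P) ∈ Subgroup.center ↥P := h ▸ Subgroup.mem_top _
        exact (congrArg Subtype.val (Subgroup.mem_center_iff.1 hx' ⟨y, hy⟩) : _).symm
    haveI := (d.threeGroup.to_quotient (Subgroup.center ↥P)).center_nontrivial
    obtain ⟨⟨q, hq⟩, hq1⟩ := exists_ne (1 : Subgroup.center (↥P ⧸ Subgroup.center ↥P))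
    obtain ⟨⟨x, hx⟩, rfl⟩ := QuotientGroup.mk_surjective q
    refine ⟨x, hx, fun hc => hq1 (Subtype.ext ?_), fun p hp => ?_⟩
    · exact (QuotientGroup.eq_one_iff _).2
        (Subgroup.mem_center_iff.2 fun p => Subtype.ext (hc p p.2).eq.symm)
    · have h := Subgroup.mem_center_iff.1 hq (QuotientGroup.mk ⟨p, hp⟩)
      have h' : (((⟨x, hx⟩ : P) * ⟨p, hp⟩ * ⟨x, hx⟩⁻¹ * ⟨p, hp⟩⁻¹ : P) : ↥P ⧸ Subgroup.center ↥P) = 1 := by
        rw [QuotientGroup.mk_mul, QuotientGroup.mk_mul, QuotientGroup.mk_mul, ← h, QuotientGroup.mk_inv,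
          QuotientGroup.mk_inv]
        group
      rw [QuotientGroup.eq_one_iff, Subgroup.mem_center_iff] at h'
      exact ⟨P.mul_mem (P.mul_mem (P.mul_mem hx hp) (P.inv_mem hx)) (P.inv_mem hp),
        fun r hr => (congrArg Subtype.val (h' ⟨r, hr⟩) : _).symm⟩
  set u := a * x * a * x⁻¹ with hu_def
  have huP : u ∈ P := P.mul_mem (hconjP x hxP) (P.inv_mem hxP)
  have hua : a * u * a = u⁻¹ := by
    rw [hu_def, conj_mul_of_sq d.sq, haa, conj_inv_of_sq d.sq]; group
  have hu3 := hcubeI u huP hua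
  -- `u` has central commutators
  have hu2 : ∀ p ∈ P, Zc (u * p * u⁻¹ * p⁻¹) := by
    intro p hp
    have h1 : ∀ q ∈ P, Zc (a * x * a * q * (a * x * a)⁻¹ * q⁻¹) := fun q hq => by
      have h := hx2 _ (hconjP q hq)
      rw [show a * x * a * q * (a * x * a)⁻¹ * q⁻¹ = x * (a * q * a) * x⁻¹ * (a * q * a)⁻¹ from ?_]
      · exact h
      · have h' := congrArg (fun r => a * r * a) (hzfix _ h.1 h.2)
        simp only [haa] at h'
        rw [h', conj_mul_of_sq d.sq, conj_mul_of_sq d.sq, conj_mul_of_sq d.sq, haa,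
          conj_inv_of_sq d.sq, conj_inv_of_sq d.sq, haa]
    have hxi : Zc (x⁻¹ * p * x * p⁻¹) := by
      have h := hx2 _ (P.mul_mem (P.mul_mem (P.inv_mem hxP) hp) hxP)
      have h' := hZinv _ h
      rwa [show (x * (x⁻¹ * p * x) * x⁻¹ * (x⁻¹ * p * x)⁻¹)⁻¹ = x⁻¹ * p * x * p⁻¹ by group] at h'
    set c := x⁻¹ * p * x * p⁻¹ with hc
    have hc1 := hxi.2 _ (hconjP x hxP)
    have e : u * p * u⁻¹ * p⁻¹ = c * (a * x * a * p * (a * x * a)⁻¹ * p⁻¹) := by
      calc u * p * u⁻¹ * p⁻¹ = a * x * a * c * p * (a * x * a)⁻¹ * p⁻¹ := by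
            rw [hu_def, hc]; group
        _ = c * (a * x * a) * p * (a * x * a)⁻¹ * p⁻¹ := by rw [hc1.eq]
        _ = _ := by group
    rw [e]
    exact hZmul _ _ hxi (h1 p hp)
  have hu_nc : ¬ ∀ p ∈ P, Commute u p := by
    intro hu_c
    -- then `u` is inverted and centralized, hence trivial, so `a` centralizes `x`
    have hu1 : u = 1 := by
      have h := hzfix u huP hu_c
      rw [hua] at h
      exact d.pow_three_inj huP (by nth_rewrite 1 [← h]; exact inv_mul_cancel u)
    have hax : a * x * a = x := mul_inv_eq_one.1 hu1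
    refine hxnc fun p hp => ?_
    have hK : P ≤ P ⊓ Subgroup.centralizer {x} := d.gen _ fun t ht hta => by
      refine ⟨ht, Subgroup.mem_centralizer_singleton_iff.2 ?_⟩
      have hZ := hx2 t ht
      have h1 := hzfix _ hZ.1 hZ.2
      rw [conj_mul_of_sq d.sq, conj_mul_of_sq d.sq, conj_mul_of_sq d.sq, hax, hta, conj_inv_of_sq d.sq,
        conj_inv_of_sq d.sq, hax, hta, inv_inv] at h1
      set c := x * t * x⁻¹ * t⁻¹ with hc
      have h2 : c * c = 1 := by
        calc c * c = x * t⁻¹ * x⁻¹ * t * c := by rw [h1]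
          _ = x * t⁻¹ * x⁻¹ * (t * c) := by group
          _ = x * t⁻¹ * x⁻¹ * (c * t) := by rw [(hZ.2 t ht).eq]
          _ = 1 := by rw [hc]; group
      have h3 : x * t * x⁻¹ * t⁻¹ = 1 := d.pow_three_inj hZ.1 h2
      rw [mul_inv_eq_one, mul_inv_eq_iff_eq_mul] at h3
      exact h3.symm
    exact (Subgroup.mem_centralizer_singleton_iff.1 (hK hp).2).symm
  have hu1 : u ≠ 1 := fun h => hu_nc fun p _ => h ▸ Commute.one_left p
  let χ : H → H := fun p => u * p * u⁻¹ * p⁻¹
  have hχm : ∀ p ∈ P, ∀ q ∈ P, χ (p * q) = χ p * χ q := fun p hp q hq => by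
    have hc := (hu2 q hq).2 p hp
    calc χ (p * q) = u * p * u⁻¹ * (χ q * p⁻¹) := by simp only [χ]; group
      _ = u * p * u⁻¹ * (p⁻¹ * χ q) := by rw [(hc.inv_right).eq]
      _ = _ := by simp only [χ]; group
  have hχeq : ∀ p, u * p * u⁻¹ = χ p * p := fun p => by simp only [χ]; group
  -- every value is the value of an inverted element
  have hrep : ∀ p ∈ P, ∃ w ∈ P, a * w * a = w⁻¹ ∧ χ w = χ p := by
    intro p hp
    have hgen : ∀ q ∈ P, ∀ w, w = (a * q * a)⁻¹ * q →
        w ∈ P ∧ a * w * a = w⁻¹ ∧ χ w = χ q * χ q := by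
      intro q hq w hw
      have hwP : w ∈ P := hw ▸ P.mul_mem (P.inv_mem (hconjP q hq)) hq
      refine ⟨hwP, ?_, ?_⟩
      · rw [hw, conj_mul_of_sq d.sq, conj_inv_of_sq d.sq, haa, mul_inv_rev, inv_inv]
      · have h1 : χ (a * q * a) * χ w = χ q := by
          rw [← hχm _ (hconjP q hq) _ hwP, hw, mul_inv_cancel_left]
        have hc := hzfix _ (hu2 q hq).1 (hu2 q hq).2
        rw [conj_mul_of_sq d.sq, conj_mul_of_sq d.sq, conj_mul_of_sq d.sq, hua, conj_inv_of_sq d.sq,
          conj_inv_of_sq d.sq, hua, inv_inv] at hc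
        have h2 : χ (a * q * a) = (χ q)⁻¹ := by
          have hcz := (hu2 q hq).2 u huP
          calc χ (a * q * a) = u * (u⁻¹ * (a * q * a) * u * (a * q * a)⁻¹)⁻¹ * u⁻¹ := by
                simp only [χ]; group
            _ = u * (u * q * u⁻¹ * q⁻¹)⁻¹ * u⁻¹ := by rw [hc]
            _ = _ := by rw [← hcz.inv_left.eq, mul_inv_cancel_right]
        rw [h2, inv_mul_eq_iff_eq_mul] at h1
        exact h1
    -- square roots
    have hd3 : (χ p) ^ 3 = 1 := by
      have h2 : (u * p * u⁻¹ * p⁻¹) = χ p := rfl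
      have hcp := (hu2 p hp).2 u huP
      -- `u ^ 3 = 1` gives the exponent
      have e1 : p * u * p⁻¹ = (χ p)⁻¹ * u := by simp only [χ]; group
      have e2 : (p * u * p⁻¹) ^ 3 = 1 := by rw [conj_pow, hu3]; group
      rw [e1, hcp.inv_left.mul_pow, hu3, mul_one, inv_pow, inv_eq_one] at e2
      exact e2
    obtain ⟨hw, hwa, hwc⟩ := hgen (p * p) (P.mul_mem hp hp) _ rfl
    refine ⟨_, hw, hwa, ?_⟩
    rw [hwc, hχm p hp p hp]
    calc χ p * χ p * (χ p * χ p) = χ p ^ 3 * χ p := by rw [pow_succ, pow_two]; group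
      _ = _ := by rw [hd3, one_mul]
  -- fixed vectors of a non-trivial value are fixed by `u`
  have hfixc : ∀ p ∈ P, χ p ≠ 1 → ∀ v, ρ (χ p) v = v → ρ u v = v := by
    intro p hp hne v hv
    obtain ⟨w, hwP, hwa, hwc⟩ := hrep p hp
    have hcc := hu2 p hp
    refine d.plane_fix huP hwP hua hwa ?_ ?_ ?_ (c := χ p) (by rw [← hwc]; exact hχeq w)
      (hcc.2 u huP) (hcc.2 w hwP) (hzfix _ hcc.1 hcc.2) hv
    · intro h
      exact hne (by rw [← hwc, h]; simp [χ])
    · intro h
      exact hne (by rw [← hwc, ← h]; simp [χ])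
    · intro h
      exact hne (by rw [← hwc, show w = u⁻¹ by rw [h, inv_inv]]; simp [χ])
  -- the values form a cyclic group
  obtain ⟨y, hyP, hya, hy1⟩ : ∃ y ∈ P, a * y * a = y⁻¹ ∧ χ y ≠ 1 := by
    by_contra hne
    push Not at hne
    refine hu_nc fun p hp => ?_
    have hK : P ≤ P ⊓ Subgroup.centralizer {u} := d.gen _ fun t ht hta => by
      refine ⟨ht, Subgroup.mem_centralizer_singleton_iff.2 ?_⟩
      have := hχeq t
      rw [hne t ht hta, one_mul, mul_inv_eq_iff_eq_mul] at this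
      exact this.symm
    exact (Subgroup.mem_centralizer_singleton_iff.1 (hK hp).2).symm
  have hy3 := hcubeI y hyP hya
  set c := χ y with hc
  have hcZ : Zc c := hu2 y hyP
  have hc3 : c ^ 3 = 1 := by
    have h2 : (u * y * u⁻¹) ^ 3 = 1 := by rw [conj_pow, hy3]; group
    rwa [hχeq, ← hc, (hcZ.2 y hyP).mul_pow, hy3, mul_one] at h2
  have hrange : ∀ s ∈ P, a * s * a = s⁻¹ → χ s = 1 ∨ χ s = c ∨ χ s = c * c := by
    intro s hs hsa
    by_contra hne
    push Not at hne
    obtain ⟨n1, n2, n3⟩ := hne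
    set b := χ s with hb
    have hbZ : Zc b := hu2 s hs
    have hb3 : b ^ 3 = 1 := by
      have h2 : (u * s * u⁻¹) ^ 3 = 1 := by rw [conj_pow, hcubeI s hs hsa]; group
      rwa [hχeq, ← hb, (hbZ.2 s hs).mul_pow, hcubeI s hs hsa, mul_one] at h2
    refine hu1 (d.inj (AddMonoidHom.ext fun v => Eq.trans ?_ (aut_one ρ v).symm))
    have hcc : c * c * c = 1 := by rw [← hc3, pow_succ, pow_two]
    have m1 : χ (y * s) = c * b := hχm y hyP s hs
    have m2 : χ (y * (y * s)) = c * (c * b) := by rw [hχm y hyP _ (P.mul_mem hyP hs), m1]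
    have e3 : c * b ≠ 1 := fun h => n3 (by
      rw [eq_inv_of_mul_eq_one_right h, inv_eq_of_mul_eq_one_right (by rw [← mul_assoc, hcc])])
    have e4 : c * (c * b) ≠ 1 := fun h => n2 (by
      rw [eq_inv_of_mul_eq_one_right (show c * c * b = 1 by rw [mul_assoc, h]),
        inv_eq_of_mul_eq_one_right hcc])
    have hcb : Commute c b := hcZ.2 b hbZ.1
    have hsum := d.four_sum hcb hc3 v
    have k1 := hfixc y hyP hy1 _ (nrm_fixed ρ hc3 v)
    have k2 := hfixc s hs n1 _ (nrm_fixed ρ hb3 v)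
    have k3 := hfixc (y * s) (P.mul_mem hyP hs) (by rw [m1]; exact e3) (nrm ρ (c * b) v) (by
      rw [m1]; exact nrm_fixed ρ (by rw [hcb.mul_pow, hc3, hb3, one_mul]) v)
    have k4 := hfixc (y * (y * s)) (P.mul_mem hyP (P.mul_mem hyP hs)) (by rw [m2]; exact e4)
      (nrm ρ (c * (c * b)) v) (by
        rw [m2]; refine nrm_fixed ρ ?_ v
        rw [(((Commute.refl c).mul_right hcb)).mul_pow, hcb.mul_pow, hc3, hb3, one_mul, one_mul])
    have k5 := hfixc y hyP hy1 _ (nrm_fixed ρ hc3 (nrm ρ b v))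
    have := congrArg (ρ u) hsum
    rw [map_add, map_add, map_add, map_add, k1, k2, k3, k4, k5, hsum] at this
    exact this.symm
  -- generation
  have hgenP : P ≤ Subgroup.closure {u, y} := by
    refine d.gen _ fun s hs hsa => ?_
    have humem : u ∈ Subgroup.closure ({u, y} : Set H) := Subgroup.subset_closure (by simp)
    have hymem : y ∈ Subgroup.closure ({u, y} : Set H) := Subgroup.subset_closure (by simp)
    obtain ⟨q, hqP, hqa, hqmem, hqs⟩ : ∃ q ∈ P, a * q * a = q⁻¹ ∧
        q ∈ Subgroup.closure ({u, y} : Set H) ∧ χ q = χ s := by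
      rcases hrange s hs hsa with h | h | h
      · exact ⟨1, P.one_mem, by rw [mul_one, d.sq, inv_one], one_mem _, by rw [h]; simp [χ]⟩
      · exact ⟨y, hyP, hya, hymem, h.symm⟩
      · refine ⟨y * y, P.mul_mem hyP hyP, ?_, mul_mem hymem hymem, ?_⟩
        · rw [conj_mul_of_sq d.sq, hya, mul_inv_rev]
        · rw [hχm y hyP y hyP, h]
    set k := q⁻¹ * s with hk
    have hkP : k ∈ P := P.mul_mem (P.inv_mem hqP) hs
    have hku : Commute u k := by
      have h1 : χ q * χ k = χ s := by rw [← hχm q hqP k hkP, hk, mul_inv_cancel_left]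
      rw [hqs, mul_eq_left] at h1
      have := hχeq k
      rw [h1, one_mul, mul_inv_eq_iff_eq_mul] at this
      exact this
    have hak : Commute u (a * k * a) := by
      have h := congrArg (fun r => a * r * a) hku.eq
      simp only [conj_mul_of_sq d.sq, hua] at h
      have h' : Commute u⁻¹ (a * k * a) := h
      simpa using h'.inv_left
    set e := a * k * a * k⁻¹ with he
    have hea : a * e * a = e⁻¹ := by
      rw [he, conj_mul_of_sq d.sq, haa, conj_inv_of_sq d.sq]; group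
    have hemem : e ∈ Subgroup.closure ({u, y} : Set H) := by
      rcases d.comm_cases huP (P.mul_mem (hconjP k hkP) (P.inv_mem hkP)) hua hea hu1
        (hak.mul_right hku.inv_right) with h | h | h <;> rw [he, h]
      · exact one_mem _
      · exact humem
      · exact inv_mem humem
    have hs3 : s * s * s = 1 := by rw [← hcubeI s hs hsa, pow_succ, pow_two]
    have hsq : s = q⁻¹ * e * q⁻¹ := by
      have : e = q * (s⁻¹ * s⁻¹) * q := by
        rw [he, hk, conj_mul_of_sq d.sq, conj_inv_of_sq d.sq, hqa, hsa]; group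
      rw [this]
      calc s = s * s * s * (s⁻¹ * s⁻¹) := by group
        _ = _ := by rw [hs3]; group
    rw [hsq]
    exact mul_mem (mul_mem (inv_mem hqmem) hemem) (inv_mem hqmem)
  refine ⟨u, y, huP, hyP, ⟨d.sq, hu3, hy3, hua, hya, ?_, ?_, ?_, ?_⟩, hgenP⟩
  · rw [commutatorElement_def]; exact (hcZ.2 u huP).symm
  · rw [commutatorElement_def]; exact (hcZ.2 y hyP).symm
  · refine d.gen_top (Subgroup.subset_closure (by simp)) (hgenP.trans (Subgroup.closure_mono ?_))
    intro g hg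
    exact Or.inr hg
  · rw [commutatorElement_def]; exact hy1

end PlaneData

end Cfsg.Agent.Lib.ThreeTransp
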