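import Cfsg.Agent.Lib.ThreeTransp.PlaneCore
import Cfsg.Agent.Lib.ThreeTransp.Core
import Cfsg.Agent.Lib.Coprime.Action
import Cfsg.Agent.Lib.Components.GenFitting
import Cfsg.Agent.Lib.Cores.PCore
import Cfsg.Agent.Lib.Cores.Frattini
import Cfsg.Prelude.Def_SporadicB
import Cfsg.Prelude.Def_Local

/-!
Classes of 3-transpositions whose group is a 2-group extended by a group with normal Sylow 3-subgroup.
-/

set_option autoImplicit false
set_option linter.style.haveILetI false

namespace Cfsg.Agent.Lib.ThreeTransp.PlaneCover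

open scoped commutatorElement

/-- A finite 2-group generated by a conjugacy class is cyclic. -/
theorem cyclic_of_class {Q : Type*} [Group Q] [Finite Q] (hQ : IsPGroup 2 Q) {q : Q}
    (h : Subgroup.closure (conjugatesOf q) = ⊤) : Subgroup.zpowers q = ⊤ := by
  haveI : Fact (Nat.Prime 2) := ⟨Nat.prime_two⟩
  haveI : Group.IsNilpotent Q := hQ.isNilpotent
  refine frattini_nongenerating (eq_top_iff.2 (h ▸ (Subgroup.closure_le _).2 ?_))
  intro x hx
  obtain ⟨g, rfl⟩ := isConj_iff.1 hx
  have h1 : ⁅g, q⁆ ∈ frattini Q :=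
    Cores.commutator_le_frattini (Subgroup.commutator_mem_commutator (Subgroup.mem_top g) (Subgroup.mem_top q))
  have h2 := mul_mem (Subgroup.mem_sup_right (S := Subgroup.zpowers q) h1)
    (Subgroup.mem_sup_left (T := frattini Q) (Subgroup.mem_zpowers q))
  rwa [commutatorElement_def, inv_mul_cancel_right] at h2

/-- An element of odd order inverted by an involution has an inverted square root. -/
theorem exists_sqrt {Q : Type*} [Group Q] {x t : Q} (hx : x * x = 1) (h : x * t * x = t⁻¹)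
    {n : ℕ} (hn : Odd n) (ht : t ^ n = 1) : ∃ s ∈ Subgroup.zpowers t, s * x * s⁻¹ = x * t := by
  obtain ⟨m, rfl⟩ := hn
  refine ⟨t ^ m, Subgroup.npow_mem_zpowers t m, ?_⟩
  have hxi : x⁻¹ = x := inv_eq_of_mul_eq_one_right hx
  have hconj : x * t ^ m * x = (t ^ m)⁻¹ := by
    have h1 : (x * t * x⁻¹) ^ m = x * t ^ m * x⁻¹ := conj_pow
    rw [hxi, h, inv_pow] at h1
    exact h1.symm
  calc t ^ m * x * (t ^ m)⁻¹ = x * ((x * t ^ m * x) * (t ^ m)⁻¹) := by
        simp only [← mul_assoc]; rw [hx, one_mul]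
    _ = x * ((t ^ m)⁻¹ * (t ^ m)⁻¹) := by rw [hconj]
    _ = x * t := by
        congr 1
        rw [← mul_inv_rev, ← pow_add, inv_eq_iff_mul_eq_one, ← pow_succ, ← two_mul, ht]

section

set_option linter.unusedSectionVars false
variable {H : Type*} [Group H] [Finite H] {E : Set H}

/-- Data of the quotient. -/
structure CoverData (E : Set H) (O : Subgroup H) [O.Normal] (P : Subgroup (H ⧸ O)) (a : H) : Prop where
  tset : Cfsg.IsThreeTranspositionSet E
  conj : ∀ g : H, ∀ d ∈ E, g * d * g⁻¹ ∈ E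
  mem : a ∈ E
  isClass : E = conjugatesOf a
  gen : Subgroup.closure E = ⊤
  twoGroup : IsPGroup 2 O
  normal : P.Normal
  threeGroup : IsPGroup 3 P
  notMem : (a : H ⧸ O) ∉ P
  index : ∀ x : H ⧸ O, x ∈ P ∨ (a : H ⧸ O) * x ∈ P

theorem sq_of_mem (hE : Cfsg.IsThreeTranspositionSet E) {e : H} (he : e ∈ E) : e * e = 1 := by
  rw [← pow_two, ← hE.1 e he, pow_orderOf_eq_one]

theorem CoverData.of_quotient (hE : Cfsg.IsThreeTranspositionClass E) (hE2 : ∃ a ∈ E, ∃ b ∈ E, a ≠ b)
    (O : Subgroup H) [O.Normal] (hO : IsPGroup 2 O) (P : Subgroup (H ⧸ O)) [P.Normal] (hP : IsPGroup 3 P)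
    (hidx : ∃ k : ℕ, P.index = 2 ^ k) : ∃ a : H, CoverData E O P a := by
  haveI : Fact (Nat.Prime 2) := ⟨Nat.prime_two⟩
  obtain ⟨hT, ⟨a, ha, hEa⟩, hgen⟩ := hE
  have hconj : ∀ g : H, ∀ d ∈ E, g * d * g⁻¹ ∈ E := by
    intro g d hd
    rw [hEa] at hd ⊢
    exact IsConj.trans hd (isConj_iff.2 ⟨g, rfl⟩)
  have hpe : ∀ (f : H →* (H ⧸ O) ⧸ P), Function.Surjective f →
      Subgroup.closure (conjugatesOf (f a)) = ⊤ := fun f hf => by
    rw [eq_top_iff, ← Subgroup.map_top_of_surjective f hf, ← hgen, MonoidHom.map_closure]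
    refine Subgroup.closure_mono ?_
    rintro _ ⟨e, he, rfl⟩
    rw [hEa] at he
    exact f.map_isConj he
  set f : H →* (H ⧸ O) ⧸ P := (QuotientGroup.mk' P).comp (QuotientGroup.mk' O) with hfdef
  have hf : Function.Surjective f :=
    (QuotientGroup.mk'_surjective P).comp (QuotientGroup.mk'_surjective O)
  obtain ⟨k, hk⟩ := hidx
  have hQ2 : IsPGroup 2 ((H ⧸ O) ⧸ P) := IsPGroup.of_card (n := k) (by rw [← Subgroup.index_eq_card, hk])
  have hcyc := cyclic_of_class hQ2 (hpe f hf)
  have ha2 : f a * f a = 1 := by rw [← map_mul, sq_of_mem hT ha, map_one]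
  have hne : (a : H ⧸ O) ∉ P := by
    intro h
    -- then the quotient is a 3-group containing the involution, so it is trivial
    have ha1 : (a : H ⧸ O) = 1 := by
      obtain ⟨m, hm⟩ := hP ⟨_, h⟩
      have h3 : (a : H ⧸ O) ^ 3 ^ m = 1 := congrArg Subtype.val hm
      have h2 : (a : H ⧸ O) ^ 2 = 1 := by
        rw [pow_two, ← QuotientGroup.mk_mul, sq_of_mem hT ha, QuotientGroup.mk_one]
      have := pow_gcd_eq_one.2 ⟨h3, h2⟩
      rwa [Nat.Coprime.gcd_eq_one (Nat.Coprime.pow_left m (by norm_num)), pow_one] at this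
    have haO : a ∈ O := (QuotientGroup.eq_one_iff a).1 ha1
    have htop : O = ⊤ := by
      rw [eq_top_iff, ← hgen, Subgroup.closure_le]
      intro e he
      rw [hEa] at he
      obtain ⟨g, rfl⟩ := isConj_iff.1 he
      exact (inferInstance : O.Normal).conj_mem a haO g
    have hH : IsPGroup 2 H := hO.of_equiv ((MulEquiv.subgroupCongr htop).trans Subgroup.topEquiv)
    have hz := cyclic_of_class hH (q := a) (by rw [← hEa]; exact hgen)
    obtain ⟨x, hx, y, hy, hxy⟩ := hE2
    have hsingle : ∀ e ∈ E, e = a := fun e he => by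
      rw [hEa] at he
      obtain ⟨g, rfl⟩ := isConj_iff.1 he
      obtain ⟨i, rfl⟩ := Subgroup.mem_zpowers_iff.1 (hz ▸ Subgroup.mem_top g)
      rw [← zpow_add_one, ← zpow_neg, ← zpow_add]
      simp
    exact hxy ((hsingle x hx).trans (hsingle y hy).symm)
  refine ⟨a, hT, hconj, ha, hEa, hgen, hO, inferInstance, hP, hne, fun x => ?_⟩
  have hmem : f a ∈ Subgroup.zpowers (f a) := Subgroup.mem_zpowers _
  have hx : (x : (H ⧸ O) ⧸ P) ∈ Subgroup.zpowers (f a) := hcyc ▸ Subgroup.mem_top _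
  obtain ⟨i, hi⟩ := Subgroup.mem_zpowers_iff.1 hx
  rcases Int.even_or_odd' i with ⟨m, rfl | rfl⟩
  · left
    rw [zpow_mul, zpow_two, ha2, one_zpow] at hi
    exact (QuotientGroup.eq_one_iff x).1 hi.symm
  · right
    rw [zpow_add_one, zpow_mul, zpow_two, ha2, one_zpow, one_mul] at hi
    refine (QuotientGroup.eq_one_iff _).1 ?_
    rw [QuotientGroup.mk_mul, ← hi]
    exact ha2

namespace CoverData

variable {O : Subgroup H} [O.Normal] {P : Subgroup (H ⧸ O)} {a : H}

theorem sq_bar (d : CoverData E O P a) : (a : H ⧸ O) * a = 1 := by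
  rw [← QuotientGroup.mk_mul, sq_of_mem d.tset d.mem, QuotientGroup.mk_one]

theorem eq_one_of_sq (d : CoverData E O P a) {t : H ⧸ O} (ht : t ∈ P) (h : t * t = 1) : t = 1 := by
  obtain ⟨m, hm⟩ := d.threeGroup ⟨t, ht⟩
  have h3 : t ^ 3 ^ m = 1 := congrArg Subtype.val hm
  have := pow_gcd_eq_one.2 ⟨h3, (pow_two t).trans h⟩
  rwa [Nat.Coprime.gcd_eq_one (Nat.Coprime.pow_left m (by norm_num)), pow_one] at this

/-- Involutions outside `P` are images of transpositions. -/
theorem lift (d : CoverData E O P a) {x : H ⧸ O} (hx : x ∉ P) (hxx : x * x = 1) :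
    ∃ b ∈ E, (b : H ⧸ O) = x := by
  haveI := d.normal
  set t := (a : H ⧸ O) * x with ht
  have htP : t ∈ P := (d.index x).resolve_left hx
  have hxt : x = (a : H ⧸ O) * t := by rw [ht, ← mul_assoc, d.sq_bar, one_mul]
  have hinv : (a : H ⧸ O) * t * a = t⁻¹ := by
    have e : (a : H ⧸ O) * t * (a * t) = 1 := by rw [← hxt, hxx]
    exact eq_inv_of_mul_eq_one_left (by rw [mul_assoc] ; exact e)
  obtain ⟨m, hm⟩ := d.threeGroup ⟨t, htP⟩
  obtain ⟨s, -, hs⟩ := exists_sqrt d.sq_bar hinv (n := 3 ^ m) (by exact Odd.pow (by decide))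
    (congrArg Subtype.val hm)
  obtain ⟨g, rfl⟩ := QuotientGroup.mk_surjective s
  exact ⟨g * a * g⁻¹, d.conj g a d.mem, by
    rw [QuotientGroup.mk_mul, QuotientGroup.mk_mul, QuotientGroup.mk_inv, hs, hxt]⟩

/-- Two transpositions with distinct images have product of order three. -/
theorem cube_lift (d : CoverData E O P a) {b b' : H} (hb : b ∈ E) (hb' : b' ∈ E)
    (hP : ((b * b' : H) : H ⧸ O) ∈ P) (hne : ((b * b' : H) : H ⧸ O) ≠ 1) : (b * b') ^ 3 = 1 := by
  rcases d.tset.2 b hb b' hb' with h | h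
  · refine absurd (d.eq_one_of_sq hP ?_) hne
    rw [← QuotientGroup.mk_mul, ← pow_two, h, QuotientGroup.mk_one]
  · exact h

/-- A transposition commutes with a fixed element of `O` of a product of order three. -/
theorem commute_of_fixed (d : CoverData E O P a) {b b' v : H} (hb : b ∈ E) (hb' : b' ∈ E)
    (hv : v ∈ O) (h3 : (b * b') ^ 3 = 1) (hnO : b * b' ∉ O) (hc : Commute (b * b') v) :
    Commute b v := by
  set T := b * b' with hT
  have hbb := sq_of_mem d.tset hb
  have hb'b' := sq_of_mem d.tset hb'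
  set w := v * b * v⁻¹ * b with hw
  have hwO : w ∈ O := by
    have h := O.mul_mem hv ((inferInstance : O.Normal).conj_mem _ (O.inv_mem hv) b)
    rwa [inv_eq_of_mul_eq_one_right hbb, ← mul_assoc, ← mul_assoc] at h
  have hbT : b * T⁻¹ * b = T := by
    rw [hT, mul_inv_rev, inv_eq_of_mul_eq_one_right hbb, inv_eq_of_mul_eq_one_right hb'b',
      mul_assoc, mul_assoc, hbb, mul_one]
  have hbv : Commute (b * v⁻¹ * b) T := by
    have h := hc.inv_left.inv_right.eq
    show b * v⁻¹ * b * T = T * (b * v⁻¹ * b)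
    calc b * v⁻¹ * b * T = b * v⁻¹ * (b * b) * T⁻¹ * b := by
          conv_lhs => rw [← hbT]
          group
      _ = b * (v⁻¹ * T⁻¹) * b := by rw [hbb]; group
      _ = b * (T⁻¹ * v⁻¹) * b := by rw [h]
      _ = (b * T⁻¹ * b) * (b⁻¹ * v⁻¹ * b) := by group
      _ = _ := by rw [hbT, inv_eq_of_mul_eq_one_right hbb]
  have hwT : Commute w T := by
    have := hc.symm.mul_left hbv
    rwa [← mul_assoc, ← mul_assoc] at this
  have hpow : ∀ n : ℕ, (w * T) ^ n = 1 → w ^ n * T ^ n = 1 := fun n h => by rwa [hwT.mul_pow] at h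
  have hmem : v * b * v⁻¹ ∈ E := d.conj v b hb
  have hwTeq : v * b * v⁻¹ * b' = w * T := by
    rw [hw, hT]
    calc v * b * v⁻¹ * b' = v * b * v⁻¹ * (b * b) * b' := by rw [hbb]; group
      _ = _ := by group
  have h3' : w ^ 3 = 1 := by
    rcases d.tset.2 _ hmem _ hb' with h | h <;> rw [hwTeq] at h <;> have h' := hpow _ h
    · refine absurd ?_ hnO
      have hT2 : T ^ 2 ∈ O := by
        rw [eq_inv_of_mul_eq_one_right h']
        exact O.inv_mem (O.pow_mem hwO 2)
      have : T = T ^ 2 * T ^ 2 := by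
        calc T = T ^ 3 * T := by rw [h3, one_mul]
          _ = _ := by group
      rw [this]
      exact O.mul_mem hT2 hT2
    · rwa [h3, mul_one] at h'
  have hw1 : w = 1 := by
    obtain ⟨m, hm⟩ := d.twoGroup ⟨w, hwO⟩
    have h2 : w ^ 2 ^ m = 1 := congrArg Subtype.val hm
    have := pow_gcd_eq_one.2 ⟨h2, h3'⟩
    rwa [Nat.Coprime.gcd_eq_one (Nat.Coprime.pow_left m (by norm_num)), pow_one] at this
  have h : v * b * v⁻¹ = b := (eq_inv_of_mul_eq_one_left hw1).trans (inv_eq_of_mul_eq_one_right hbb)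
  exact (mul_inv_eq_iff_eq_mul.1 h).symm

end CoverData

end

/-- Conjugation on the Frattini quotient of a normal subgroup. -/
def fratConj {H : Type*} [Group H] (O : Subgroup H) [O.Normal] (h : H) :
    (↥O ⧸ frattini ↥O) →* (↥O ⧸ frattini ↥O) :=
  QuotientGroup.map _ _ (MulAut.conjNormal h).toMonoidHom
    (frattini_le_comap_frattini_of_surjective (MulAut.conjNormal h).surjective)

/-- The action as endomorphisms. -/
def fratAct {H : Type*} [Group H] (O : Subgroup H) [O.Normal] [IsMulCommutative (↥O ⧸ frattini ↥O)] :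
    letI : CommGroup (↥O ⧸ frattini ↥O) :=
      { (inferInstance : Group (↥O ⧸ frattini ↥O)) with mul_comm := mul_comm' }
    H →* AddMonoid.End (Additive (↥O ⧸ frattini ↥O)) :=
  letI : CommGroup (↥O ⧸ frattini ↥O) :=
    { (inferInstance : Group (↥O ⧸ frattini ↥O)) with mul_comm := mul_comm' }
  { toFun := fun h => MonoidHom.toAdditive (fratConj O h)
    map_one' := AddMonoidHom.ext fun w => by
      obtain ⟨o, ho⟩ := QuotientGroup.mk_surjective (Additive.toMul w)
      show Additive.ofMul (fratConj O 1 (Additive.toMul w)) = w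
      rw [← ho, fratConj, QuotientGroup.map_mk]
      simp only [map_one, MulEquiv.coe_toMonoidHom, MulAut.one_apply]
      rw [ho]; rfl
    map_mul' := fun g h => AddMonoidHom.ext fun w => by
      obtain ⟨o, ho⟩ := QuotientGroup.mk_surjective (Additive.toMul w)
      show Additive.ofMul (fratConj O (g * h) (Additive.toMul w)) =
        Additive.ofMul (fratConj O g (fratConj O h (Additive.toMul w)))
      rw [← ho]
      simp only [fratConj, QuotientGroup.map_mk, map_mul, MulEquiv.coe_toMonoidHom, MulAut.mul_apply] }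

theorem isMulCommutative_quot {G : Type*} [Group G] [Finite G] (h : IsPGroup 2 G) :
    IsMulCommutative (G ⧸ frattini G) := by
  haveI : Fact (Nat.Prime 2) := ⟨Nat.prime_two⟩
  have hsq : ∀ x : G ⧸ frattini G, x * x = 1 := fun x => by
    rw [← pow_two]; exact Cores.pow_eq_one_quotient_frattini h x
  exact ⟨⟨fun a b => by
    calc a * b = (a * b)⁻¹ := (inv_eq_of_mul_eq_one_right (hsq _)).symm
      _ = _ := by rw [mul_inv_rev, inv_eq_of_mul_eq_one_right (hsq a), inv_eq_of_mul_eq_one_right (hsq b)]⟩⟩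

section

set_option linter.unusedSectionVars false
variable {H : Type*} [Group H] [Finite H] {E : Set H}

/-- The structure of the quotient when `F*(H) = O₂(H)`. -/
theorem quotient_structure {O : Subgroup H} [O.Normal] {P : Subgroup (H ⧸ O)} {a : H}
    (d : CoverData E O P a) (hFO : Cfsg.generalizedFittingSubgroup H = O)
    (hcore : Cfsg.pCore 2 (H ⧸ O) = ⊥) :
    (∃ t : H ⧸ O, t ^ 3 = 1 ∧ t ≠ 1 ∧ (a : H ⧸ O) * t * a = t⁻¹ ∧
      Subgroup.closure {(a : H ⧸ O), t} = ⊤) ∨ ∃ u y : H ⧸ O, Rel54 (a : H ⧸ O) u y := by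
  haveI : Fact (Nat.Prime 2) := ⟨Nat.prime_two⟩
  haveI := d.normal
  haveI := isMulCommutative_quot d.twoGroup
  letI : CommGroup (↥O ⧸ frattini ↥O) :=
    { (inferInstance : Group (↥O ⧸ frattini ↥O)) with mul_comm := mul_comm' }
  let ρ0 := fratAct O
  have hρ : ∀ (h : H) (o : O), ρ0 h (Additive.ofMul (o : ↥O ⧸ frattini ↥O)) =
      Additive.ofMul ((MulAut.conjNormal h o : O) : ↥O ⧸ frattini ↥O) := fun h o => rfl
  have hrep : ∀ w : Additive (↥O ⧸ frattini ↥O), ∃ o : O, Additive.ofMul (o : ↥O ⧸ frattini ↥O) = w :=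
    fun w => by
      obtain ⟨o, ho⟩ := QuotientGroup.mk_surjective (Additive.toMul w)
      exact ⟨o, by rw [ho]; rfl⟩
  have hfixO : O ≤ ρ0.ker := fun h hh => by
    refine MonoidHom.mem_ker.2 (AddMonoidHom.ext fun w => ?_)
    obtain ⟨o, rfl⟩ := hrep w
    refine (hρ h o).trans ?_
    show _ = Additive.ofMul (o : ↥O ⧸ frattini ↥O)
    congr 1
    rw [show MulAut.conjNormal h o = (⟨h, hh⟩ : O) * o * ⟨h, hh⟩⁻¹ from
      Subtype.ext (MulAut.conjNormal_apply h o)]
    rw [QuotientGroup.mk_mul, QuotientGroup.mk_mul, QuotientGroup.mk_inv, mul_comm, inv_mul_cancel_left]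
  let ρ := QuotientGroup.lift O ρ0 hfixO
  have hρm : ∀ h : H, ρ (h : H ⧸ O) = ρ0 h := fun h => rfl
  -- a coprime element acting trivially is trivial
  have hkerP : ∀ t ∈ P, ρ t = 1 → t = 1 := by
    intro t ht hρt
    obtain ⟨T, rfl⟩ := QuotientGroup.mk_surjective t
    set N := Nat.card O with hN
    obtain ⟨e, he⟩ := IsPGroup.iff_card.1 d.twoGroup
    obtain ⟨m, hm⟩ := d.threeGroup ⟨_, ht⟩
    have hT1 : T ^ (3 ^ m) ∈ O := by
      rw [← QuotientGroup.eq_one_iff, QuotientGroup.mk_pow]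
      exact congrArg Subtype.val hm
    have hT2 : (T ^ 2 ^ e) ^ 3 ^ m = 1 := by
      rw [← pow_mul, mul_comm, pow_mul]
      have h := congrArg Subtype.val (pow_card_eq_one' (x := (⟨_, hT1⟩ : O)))
      rw [← he, ← hN]
      exact h
    have hcop : (Nat.card (Subgroup.zpowers (T ^ 2 ^ e))).Coprime (Nat.card (frattini ↥O)) := by
      rw [Nat.card_zpowers]
      obtain ⟨e', he'⟩ := IsPGroup.iff_card.1 (d.twoGroup.to_subgroup (frattini ↥O))
      rw [he']
      exact (Nat.Coprime.pow_right e' (Nat.Coprime.pow_left m (by norm_num : Nat.Coprime 3 2))).coprime_dvd_left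
        (orderOf_dvd_of_pow_eq_one hT2)
    have hcen := Cfsg.Agent.Lib.Coprime.le_centralizer_of_frattini hcop (fun b hb k hk => by
      obtain ⟨i, rfl⟩ := Subgroup.mem_zpowers_iff.1 hb
      have h1 : ρ0 ((T ^ 2 ^ e) ^ i) = 1 := by
        have hT : T ∈ ρ0.ker := MonoidHom.mem_ker.2 hρt
        exact zpow_mem (pow_mem hT _) i
      have h2 := congrArg (fun f : AddMonoid.End _ => f (Additive.ofMul ((⟨k, hk⟩ : O) : ↥O ⧸ frattini ↥O))) h1
      rw [hρ] at h2
      have h3 : ((MulAut.conjNormal ((T ^ 2 ^ e) ^ i) ⟨k, hk⟩ : O) : ↥O ⧸ frattini ↥O) =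
          ((⟨k, hk⟩ : O) : ↥O ⧸ frattini ↥O) := Additive.ofMul.injective h2
      have h4 := QuotientGroup.eq.1 h3.symm
      refine ⟨(⟨k, hk⟩ : O) * ((⟨k, hk⟩ : O)⁻¹ * MulAut.conjNormal ((T ^ 2 ^ e) ^ i) ⟨k, hk⟩) *
        (⟨k, hk⟩ : O)⁻¹, (inferInstance : (frattini ↥O).Normal).conj_mem _ h4 _, ?_⟩
      simp only [Subgroup.subtype_apply, Subgroup.coe_mul, InvMemClass.coe_inv, MulAut.conjNormal_apply]
      group)
    have hTO : T ^ 2 ^ e ∈ O := by
      rw [← hFO]
      refine Cfsg.Agent.Lib.Components.centralizer_genFitting_le ?_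
      rw [hFO]
      exact hcen (Subgroup.mem_zpowers _)
    rw [← QuotientGroup.eq_one_iff, QuotientGroup.mk_pow] at hTO
    have h3 : (T : H ⧸ O) ^ 3 ^ m = 1 := congrArg Subtype.val hm
    have := pow_gcd_eq_one.2 ⟨h3, hTO⟩
    rwa [Nat.Coprime.gcd_eq_one (Nat.Coprime.pow _ _ (by norm_num)), pow_one] at this
  have hinj : Function.Injective ρ := by
    rw [injective_iff_map_eq_one]
    intro x hx
    by_contra hne
    have hxP : x ∉ P := fun h => hne (hkerP x h hx)
    have hsq : x * x = 1 := by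
      rcases d.index (x * x) with h | h
      · exact hkerP _ h (by rw [map_mul, hx, one_mul])
      · exfalso
        have h1 : (a : H ⧸ O) * x ∈ P := (d.index x).resolve_left hxP
        rw [← mul_assoc] at h
        refine hxP ?_
        have h5 := P.mul_mem (P.inv_mem h1) h
        rwa [inv_mul_cancel_left] at h5
    have hcomm : ∀ p ∈ P, Commute x p := fun p hp => by
      have h1 : x * p * x⁻¹ * p⁻¹ ∈ P := P.mul_mem (d.normal.conj_mem p hp x) (P.inv_mem hp)
      have h2 := hkerP _ h1 (by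
        rw [map_mul, map_mul, map_mul, hx, one_mul]
        have h4 : ρ x⁻¹ = 1 := by
          have := map_mul ρ x x⁻¹
          rwa [mul_inv_cancel, map_one, hx, one_mul, eq_comm] at this
        rw [h4, mul_one, ← map_mul, mul_inv_cancel, map_one])
      exact mul_inv_eq_iff_eq_mul.1 (mul_inv_eq_one.1 h2)
    have hcen : ∀ g, Commute x g := fun g => by
      rcases d.index g with h | h
      · exact hcomm g h
      · have hxa : Commute x (a : H ⧸ O) := by
          have h2 := (Commute.refl x).mul_right (hcomm _ (P.inv_mem ((d.index x).resolve_left hxP)))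
          rwa [mul_inv_rev, mul_inv_cancel_left, inv_eq_of_mul_eq_one_right d.sq_bar] at h2
        have := hxa.inv_right.mul_right (hcomm _ h)
        rwa [inv_mul_cancel_left] at this
    have hN : (Subgroup.zpowers x).Normal := ⟨fun y hy g => by
      obtain ⟨i, rfl⟩ := Subgroup.mem_zpowers_iff.1 hy
      rw [← ((hcen g).zpow_left i).eq, mul_inv_cancel_right]
      exact hy⟩
    have h2 : IsPGroup 2 (Subgroup.zpowers x) :=
      IsPGroup.of_card (n := 1) (by
        rw [Nat.card_zpowers, orderOf_eq_prime ((pow_two x).trans hsq) hne, pow_one])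
    have := Cores.le_pCore hN h2 (Subgroup.mem_zpowers x)
    rw [hcore, Subgroup.mem_bot] at this
    exact hne this
  have hcube : ∀ x t : H ⧸ O, x ∉ P → x * x = 1 → t ∈ P → x * t * x = t⁻¹ → t ≠ 1 →
      ∃ b ∈ E, ∃ b' ∈ E, (b : H ⧸ O) = x ∧ ((b * b' : H) : H ⧸ O) = t ∧ (b * b') ^ 3 = 1 := by
    intro x t hx hxx ht hinv hne
    obtain ⟨b, hb, hbx⟩ := d.lift hx hxx
    obtain ⟨b', hb', hb'x⟩ := d.lift (x := x * t) (fun h => hx (by simpa using P.mul_mem h (P.inv_mem ht)))
      (by rw [← mul_assoc, hinv, inv_mul_cancel])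
    have hbb' : ((b * b' : H) : H ⧸ O) = t := by
      rw [QuotientGroup.mk_mul, hbx, hb'x, ← mul_assoc, hxx, one_mul]
    exact ⟨b, hb, b', hb', hbx, hbb', d.cube_lift hb hb' (by rw [hbb']; exact ht) (by rw [hbb']; exact hne)⟩
  have hdata : PlaneData P (a : H ⧸ O) ρ := by
    refine ⟨fun w => ?_, hinj, fun g x hx => d.normal.conj_mem x hx g, d.threeGroup, d.sq_bar, d.notMem,
      d.index, ?_, ?_, ?_, ?_⟩
    · obtain ⟨o, rfl⟩ := hrep w
      rw [← ofMul_mul, ← pow_two, Cores.pow_eq_one_quotient_frattini d.twoGroup]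
      rfl
    · intro x t hx hxx ht hinv
      by_cases hne : t = 1
      · rw [hne, one_pow]
      obtain ⟨b, hb, b', hb', -, hbb', h3⟩ := hcube x t hx hxx ht hinv hne
      rw [← hbb', ← QuotientGroup.mk_pow, h3, QuotientGroup.mk_one]
    · intro x t hx hxx ht hne hinv w hw
      obtain ⟨b, hb, b', hb', hbx, hbb', h3⟩ := hcube x t hx hxx ht hinv hne
      obtain ⟨o, rfl⟩ := hrep w
      set N := (frattini ↥O).map O.subtype with hN
      haveI : N.Normal := ⟨fun y hy g => by
        obtain ⟨z, hz, rfl⟩ := hy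
        refine ⟨MulAut.conjNormal g z, ?_, MulAut.conjNormal_apply g z⟩
        exact frattini_le_comap_frattini_of_surjective
          (φ := (MulAut.conjNormal g : ↥O ≃* ↥O).toMonoidHom) (MulAut.conjNormal g).surjective hz⟩
      have hfix : ∀ c ∈ Subgroup.zpowers (b * b'), c * (o : H) * c⁻¹ * (o : H)⁻¹ ∈ N := by
        intro c hc
        obtain ⟨i, rfl⟩ := Subgroup.mem_zpowers_iff.1 hc
        have h1 : ρ0 ((b * b') ^ i) (Additive.ofMul (o : ↥O ⧸ frattini ↥O)) =
            Additive.ofMul (o : ↥O ⧸ frattini ↥O) := by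
          have hT : ρ0 (b * b') (Additive.ofMul (o : ↥O ⧸ frattini ↥O)) =
              Additive.ofMul (o : ↥O ⧸ frattini ↥O) := by
            rw [← hρm, hbb']; exact hw
          induction i using Int.induction_on with
          | zero => rw [zpow_zero]; exact PlaneData.aut_one ρ0 _
          | succ n ih =>
            rw [zpow_add_one, PlaneData.aut_mul, hT]
            exact ih (Subgroup.mem_zpowers_iff.2 ⟨n, rfl⟩)
          | pred n ih =>
            rw [zpow_sub_one, PlaneData.aut_mul]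
            have hinvT : ρ0 (b * b')⁻¹ (Additive.ofMul (o : ↥O ⧸ frattini ↥O)) =
                Additive.ofMul (o : ↥O ⧸ frattini ↥O) := by
              conv_lhs => rw [← hT]
              rw [← PlaneData.aut_mul, inv_mul_cancel, PlaneData.aut_one]
            rw [hinvT]
            exact ih (Subgroup.mem_zpowers_iff.2 ⟨-n, rfl⟩)
        rw [hρ] at h1
        have h4 := QuotientGroup.eq.1 (Additive.ofMul.injective h1).symm
        refine ⟨o * (o⁻¹ * MulAut.conjNormal ((b * b') ^ i) o) * o⁻¹,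
          (inferInstance : (frattini ↥O).Normal).conj_mem _ h4 _, ?_⟩
        simp only [Subgroup.subtype_apply, Subgroup.coe_mul, InvMemClass.coe_inv, MulAut.conjNormal_apply]
        group
      have hcop : (Nat.card (Subgroup.zpowers (b * b'))).Coprime (Nat.card N) := by
        rw [Nat.card_zpowers]
        obtain ⟨e', he'⟩ := IsPGroup.iff_card.1 ((d.twoGroup.to_subgroup (frattini ↥O)).map O.subtype)
        rw [he']
        exact (Nat.Coprime.pow_right e' (by norm_num : Nat.Coprime 3 2)).coprime_dvd_left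
          (orderOf_dvd_of_pow_eq_one h3)
      obtain ⟨n, hn, hnc⟩ := Cfsg.Agent.Lib.Coprime.exists_mem_centralizer_of_fixed_coset
        (fun y _ => by rw [Subgroup.normalizer_eq_top]; trivial) hcop
        (Or.inl (Cfsg.Agent.Lib.Coprime.isSolvable_zpowers _))
        (k := (o : H)) (by rw [Subgroup.normalizer_eq_top]; trivial) hfix
      obtain ⟨n', hn', rfl⟩ := hn
      have hnO : b * b' ∉ O := fun h => hne (by rw [← hbb', QuotientGroup.eq_one_iff]; exact h)
      have hbv := d.commute_of_fixed hb hb' (v := ((o * n' : O) : H)) (o * n').2 h3 hnO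
        (Subgroup.mem_centralizer_iff.1 hnc _ (Subgroup.mem_zpowers _))
      have hon : ((o * n' : O) : ↥O ⧸ frattini ↥O) = (o : ↥O ⧸ frattini ↥O) := by
        rw [QuotientGroup.mk_mul, (QuotientGroup.eq_one_iff n').2 hn', mul_one]
      rw [← hon, ← hbx, hρm, hρ]
      congr 2
      refine Subtype.ext ?_
      rw [MulAut.conjNormal_apply, hbv.eq, mul_inv_cancel_right]
    · intro K hK
      let I : Set (H ⧸ O) := {t | t ∈ P ∧ (a : H ⧸ O) * t * a = t⁻¹}
      have hIK : Subgroup.closure I ≤ K := (Subgroup.closure_le _).2 fun t ht => hK t ht.1 ht.2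
      have hIP : Subgroup.closure I ≤ P := (Subgroup.closure_le _).2 fun t ht => ht.1
      set K0 := Subgroup.closure I with hK0
      have haI : ∀ k ∈ K0, (a : H ⧸ O) * k * a ∈ K0 := fun k hk => by
        induction hk using Subgroup.closure_induction with
        | mem t ht => rw [ht.2]; exact K0.inv_mem (Subgroup.subset_closure ht)
        | one => rw [mul_one, d.sq_bar]; exact one_mem _
        | mul p q _ _ ihp ihq => rw [PlaneData.conj_mul_of_sq d.sq_bar]; exact mul_mem ihp ihq
        | inv p _ ihp => rw [PlaneData.conj_inv_of_sq d.sq_bar]; exact inv_mem ihp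
      have hmul : ∀ g, (a : H ⧸ O) * ((a : H ⧸ O) * g) = g := fun g => by
        rw [← mul_assoc, d.sq_bar, one_mul]
      let M : Subgroup (H ⧸ O) :=
        { carrier := {g | g ∈ K0 ∨ (a : H ⧸ O) * g ∈ K0}
          one_mem' := Or.inl K0.one_mem
          mul_mem' := fun {p q} hp hq => by
            rcases hp with hp | hp <;> rcases hq with hq | hq
            · exact Or.inl (mul_mem hp hq)
            · refine Or.inr ?_
              have := mul_mem (haI p hp) hq
              simpa [mul_assoc, hmul] using this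
            · refine Or.inr ?_
              have := mul_mem hp hq
              simpa [mul_assoc] using this
            · refine Or.inl ?_
              have := mul_mem (haI _ hp) hq
              simpa [mul_assoc, hmul] using this
          inv_mem' := fun {p} hp => by
            rcases hp with hp | hp
            · exact Or.inl (inv_mem hp)
            · refine Or.inr ?_
              have := haI _ (inv_mem hp)
              simpa [mul_assoc, hmul, inv_eq_of_mul_eq_one_right d.sq_bar, d.sq_bar] using this }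
      have hM : (⊤ : Subgroup (H ⧸ O)) ≤ M := by
        rw [← Subgroup.map_top_of_surjective (QuotientGroup.mk' O) (QuotientGroup.mk'_surjective O), ← d.gen,
          MonoidHom.map_closure, Subgroup.closure_le]
        rintro _ ⟨e, he, rfl⟩
        refine Or.inr (Subgroup.subset_closure ⟨?_, ?_⟩)
        · refine (d.index _).resolve_left fun h => d.notMem ?_
          rw [d.isClass] at he
          obtain ⟨g, rfl⟩ := isConj_iff.1 he
          have := d.normal.conj_mem _ h ((g : H ⧸ O)⁻¹)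
          simpa [mul_assoc] using this
        · show (a : H ⧸ O) * ((a : H ⧸ O) * (e : H ⧸ O)) * a = _
          rw [hmul, QuotientGroup.mk'_apply, mul_inv_rev, inv_eq_of_mul_eq_one_right d.sq_bar,
            inv_eq_of_mul_eq_one_right (a := (e : H ⧸ O)) (by
              rw [← QuotientGroup.mk_mul, sq_of_mem d.tset he, QuotientGroup.mk_one])]
      intro p hp
      rcases hM (Subgroup.mem_top p) with h | h
      · exact hIK h
      · exact absurd (by simpa using P.mul_mem (hIP h) (P.inv_mem hp)) d.notMem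
    · intro hbot
      have ha1 : ∀ x : H ⧸ O, x = 1 ∨ x = (a : H ⧸ O) := fun x => by
        rcases d.index x with h | h <;> rw [hbot, Subgroup.mem_bot] at h
        · exact Or.inl h
        · exact Or.inr ((eq_inv_of_mul_eq_one_right h).trans (inv_eq_of_mul_eq_one_right d.sq_bar))
      have h2 : IsPGroup 2 (⊤ : Subgroup (H ⧸ O)) := fun x => by
        refine ⟨1, Subtype.ext ?_⟩
        rcases ha1 x with h | h
        · simp [h]
        · show (x : H ⧸ O) ^ 2 ^ 1 = 1
          rw [h, pow_one, pow_two, d.sq_bar]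
      have := Cores.le_pCore (N := (⊤ : Subgroup (H ⧸ O))) inferInstance h2 (Subgroup.mem_top (a : H ⧸ O))
      rw [hcore, Subgroup.mem_bot] at this
      exact d.notMem (this ▸ P.one_mem)
  rcases hdata.structure_cases with h | ⟨u, y, -, -, h, -⟩
  · exact Or.inl h
  · exact Or.inr ⟨u, y, h⟩

/-- The complement when the quotient has the shape `3^(1+2):2`. -/
theorem exists_complement {O : Subgroup H} [O.Normal] {P : Subgroup (H ⧸ O)} {a : H}
    (d : CoverData E O P a) {x u y : H ⧸ O} (h : Rel54 x u y) :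
    ∃ K : Subgroup H, O.IsComplement' K := by
  haveI := d.normal
  have hoddP : ∀ g : H ⧸ O, g ^ 3 = 1 → g ∈ P := fun g hg => by
    rcases d.index g with h1 | h1
    · exact h1
    · exfalso
      have h2 : ∀ p : (H ⧸ O) ⧸ P, p * p = 1 := fun p => by
        obtain ⟨q, rfl⟩ := QuotientGroup.mk_surjective p
        rcases d.index (q * q) with h3 | h3
        · exact (QuotientGroup.eq_one_iff _).2 h3
        · rcases d.index q with h4 | h4
          · exact (QuotientGroup.eq_one_iff _).2 (P.mul_mem h4 h4)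
          · exfalso
            rw [← mul_assoc] at h3
            have h5 := P.mul_mem (P.inv_mem h4) h3
            rw [inv_mul_cancel_left] at h5
            exact d.notMem (by simpa using P.mul_mem h4 (P.inv_mem h5))
      have h3 : (g : (H ⧸ O) ⧸ P) = 1 := by
        have := congrArg (QuotientGroup.mk' P) hg
        rw [map_pow, map_one, pow_succ, pow_two] at this
        change (g : (H ⧸ O) ⧸ P) * g * g = 1 at this
        rwa [h2, one_mul] at this
      rw [QuotientGroup.eq_one_iff] at h3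
      exact d.notMem (by simpa using P.mul_mem h1 (P.inv_mem h3))
  have hu := hoddP u h.cubeU
  have hy := hoddP y h.cubeY
  have hx : x ∉ P := by
    intro hx
    have hx1 := d.eq_one_of_sq hx h.sq
    have h1 := h.invU
    rw [hx1, one_mul, mul_one] at h1
    have hu1 : u = 1 := d.eq_one_of_sq hu (by nth_rewrite 1 [h1]; exact inv_mul_cancel u)
    exact h.ne (by rw [hu1, commutatorElement_one_left])
  have hout : ∀ v ∈ P, x * v ∉ P := fun v hv h' => hx (by simpa using P.mul_mem h' (P.inv_mem hv))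
  have hinvol : ∀ v, x * v * x = v⁻¹ → x * v * (x * v) = 1 := fun v hv => by
    rw [← mul_assoc, hv, inv_mul_cancel]
  obtain ⟨b, hb, hbx⟩ := d.lift hx h.sq
  obtain ⟨b1, hb1, hb1x⟩ := d.lift (hout u hu) (hinvol u h.invU)
  obtain ⟨b2, hb2, hb2x⟩ := d.lift (hout y hy) (hinvol y h.invY)
  have hbb := sq_of_mem d.tset hb
  set p := b * b1 with hp
  set q := b * b2 with hq
  have hpm : (p : H ⧸ O) = u := by rw [hp, QuotientGroup.mk_mul, hbx, hb1x, ← mul_assoc, h.sq, one_mul]
  have hqm : (q : H ⧸ O) = y := by rw [hq, QuotientGroup.mk_mul, hbx, hb2x, ← mul_assoc, h.sq, one_mul]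
  have hu1 : u ≠ 1 := fun e => h.ne (by rw [e, commutatorElement_one_left])
  have hy1 : y ≠ 1 := fun e => h.ne (by rw [e, commutatorElement_one_right])
  have hp3 : p ^ 3 = 1 := d.cube_lift hb hb1 (by rw [← hp, hpm]; exact hu) (by rw [← hp, hpm]; exact hu1)
  have hq3 : q ^ 3 = 1 := d.cube_lift hb hb2 (by rw [← hq, hqm]; exact hy) (by rw [← hq, hqm]; exact hy1)
  have h3a : (p * q) ^ 3 = 1 := by
    have he : p * q = b * b1 * b⁻¹ * b2 := by
      rw [hp, hq, inv_eq_of_mul_eq_one_right hbb]; group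
    rw [he]
    refine d.cube_lift (d.conj b b1 hb1) hb2 ?_ ?_
    · rw [← he, QuotientGroup.mk_mul, hpm, hqm]; exact P.mul_mem hu hy
    · rw [← he, QuotientGroup.mk_mul, hpm, hqm]
      intro e
      refine h.ne ?_
      rw [eq_inv_of_mul_eq_one_left e, commutatorElement_def]
      group
  have h3b : (p⁻¹ * q) ^ 3 = 1 := by
    have he : p⁻¹ * q = b1 * b2 := by
      rw [hp, hq, mul_inv_rev, inv_eq_of_mul_eq_one_right (sq_of_mem d.tset hb1),
        inv_eq_of_mul_eq_one_right hbb]
      calc b1 * b * (b * b2) = b1 * (b * b) * b2 := by group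
        _ = _ := by rw [hbb, mul_one]
    rw [he]
    refine d.cube_lift hb1 hb2 ?_ ?_
    · rw [← he, QuotientGroup.mk_mul, QuotientGroup.mk_inv, hpm, hqm]; exact P.mul_mem (P.inv_mem hu) hy
    · rw [← he, QuotientGroup.mk_mul, QuotientGroup.mk_inv, hpm, hqm]
      intro e
      refine h.ne ?_
      rw [← inv_mul_eq_one.1 e, commutatorElement_def]
      group
  have key : ∀ r s : H, r ^ 3 = 1 → s ^ 3 = 1 → (r * s) ^ 3 = 1 → (r⁻¹ * s) ^ 3 = 1 →
      Commute r (s * r * s⁻¹) := by
    intro r s hr hs h1 h2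
    rw [pow_succ, pow_two] at hs h1 h2
    have hs4 : s⁻¹ * s⁻¹ = s := by
      calc s⁻¹ * s⁻¹ = s⁻¹ * s⁻¹ * (s * s * s) := by rw [hs, mul_one]
        _ = s := by group
    have e1 : s * r * s = r⁻¹ * s⁻¹ * r⁻¹ := by
      calc s * r * s = r⁻¹ * (r * s * (r * s) * (r * s)) * s⁻¹ * r⁻¹ := by group
        _ = _ := by rw [h1]; group
    have e2 : s⁻¹ * r * s⁻¹ = r⁻¹ * s * r⁻¹ := by
      calc s⁻¹ * r * s⁻¹ = r⁻¹ * s * (r⁻¹ * s) * (r⁻¹ * s) * (s⁻¹ * r * s⁻¹) := by rw [h2, one_mul]
        _ = _ := by group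
    show r * (s * r * s⁻¹) = s * r * s⁻¹ * r
    calc r * (s * r * s⁻¹) = r * (s * r * s) * (s⁻¹ * s⁻¹) := by group
      _ = r * (r⁻¹ * s⁻¹ * r⁻¹) * s := by rw [e1, hs4]
      _ = s⁻¹ * (r⁻¹ * s * r⁻¹) * r := by group
      _ = s⁻¹ * (s⁻¹ * r * s⁻¹) * r := by rw [e2]
      _ = (s⁻¹ * s⁻¹) * (r * s⁻¹ * r) := by group
      _ = s * (r * s⁻¹ * r) := by rw [hs4]
      _ = _ := by group
  have h3c : (q * p) ^ 3 = 1 := by
    have : q * p = q * (p * q) * q⁻¹ := by group
    rw [this, conj_pow, h3a]; group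
  have h3d : (q⁻¹ * p) ^ 3 = 1 := by
    have : q⁻¹ * p = (p⁻¹ * q)⁻¹ := by group
    rw [this, inv_pow, h3b, inv_one]
  set L := Subgroup.closure ({b, p, q} : Set H) with hL
  have hbL : b ∈ L := Subgroup.subset_closure (by simp)
  have hpL : p ∈ L := Subgroup.subset_closure (by simp)
  have hqL : q ∈ L := Subgroup.subset_closure (by simp)
  let f : ↥L →* H ⧸ O := (QuotientGroup.mk' O).comp L.subtype
  have k1 : Commute p (q * p * q⁻¹) := key p q hp3 hq3 h3a h3b
  have k2 : Commute q (p * q * p⁻¹) := key q p hq3 hp3 h3c h3d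
  have hRL : Rel54 (⟨b, hbL⟩ : L) ⟨p, hpL⟩ ⟨q, hqL⟩ := by
    refine ⟨Subtype.ext hbb, Subtype.ext hp3, Subtype.ext hq3, Subtype.ext ?_, Subtype.ext ?_,
      Subtype.ext ?_, Subtype.ext ?_, ?_, fun e => h.ne ?_⟩
    · show b * p * b = p⁻¹
      rw [hp, mul_inv_rev, inv_eq_of_mul_eq_one_right hbb, inv_eq_of_mul_eq_one_right (sq_of_mem d.tset hb1),
        ← mul_assoc, hbb, one_mul]
    · show b * q * b = q⁻¹
      rw [hq, mul_inv_rev, inv_eq_of_mul_eq_one_right hbb, inv_eq_of_mul_eq_one_right (sq_of_mem d.tset hb2),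
        ← mul_assoc, hbb, one_mul]
    · show p * (p * q * p⁻¹ * q⁻¹) = p * q * p⁻¹ * q⁻¹ * p
      calc p * (p * q * p⁻¹ * q⁻¹) = p * (p * (q * p * q⁻¹)⁻¹) := by group
        _ = p * (q * p * q⁻¹)⁻¹ * p := by rw [mul_assoc p (q * p * q⁻¹)⁻¹ p, ← k1.inv_right.eq]
        _ = _ := by group
    · show q * (p * q * p⁻¹ * q⁻¹) = p * q * p⁻¹ * q⁻¹ * q
      calc q * (p * q * p⁻¹ * q⁻¹) = q * (p * q * p⁻¹) * q⁻¹ := by group
        _ = _ := by rw [k2.eq]; group
    · rw [eq_top_iff]
      refine (Subgroup.closure_closure_coe_preimage (k := {b, p, q})).symm.le.trans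
        (Subgroup.closure_mono fun g hg => ?_)
      have hg' : (g : H) ∈ ({b, p, q} : Set H) := hg
      simp only [Set.mem_insert_iff, Set.mem_singleton_iff] at hg'
      rcases hg' with e | e | e
      · exact Or.inl (Subtype.ext e)
      · exact Or.inr (Or.inl (Subtype.ext e))
      · exact Or.inr (Or.inr (Subtype.ext e))
    · have := congrArg f e
      rw [map_commutatorElement, map_one] at this
      rw [← hpm, ← hqm]
      exact this
  have hword : ∀ w, f (Rel54.word (⟨b, hbL⟩ : L) ⟨p, hpL⟩ ⟨q, hqL⟩ w) = Rel54.word x u y w := fun w => by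
    simp only [Rel54.word, map_mul, map_pow, map_commutatorElement]
    rw [show f ⟨b, hbL⟩ = x from hbx, show f ⟨p, hpL⟩ = u from hpm, show f ⟨q, hqL⟩ = y from hqm]
  have hbij : Function.Bijective f := by
    refine ⟨fun v v' e => ?_, fun g => ?_⟩
    · obtain ⟨w, rfl⟩ := hRL.word_surjective v
      obtain ⟨w', rfl⟩ := hRL.word_surjective v'
      rw [hword, hword] at e
      rw [h.word_injective e]
    · obtain ⟨w, rfl⟩ := h.word_surjective g
      exact ⟨_, hword w⟩
  refine ⟨L, Subgroup.isComplement'_of_disjoint_and_mul_eq_univ ?_ ?_⟩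
  · rw [disjoint_iff, eq_bot_iff]
    intro g hg
    have : f ⟨g, hg.2⟩ = f 1 := by
      rw [map_one]; exact (QuotientGroup.eq_one_iff g).2 hg.1
    exact congrArg Subtype.val (hbij.1 this)
  · refine Set.eq_univ_of_forall fun g => ?_
    obtain ⟨l, hl⟩ := hbij.2 (g : H ⧸ O)
    refine ⟨g * (l : H)⁻¹, ?_, l, l.2, inv_mul_cancel_right g (l : H)⟩
    rw [SetLike.mem_coe, ← QuotientGroup.eq_one_iff, QuotientGroup.mk_mul, QuotientGroup.mk_inv,
      show ((l : H) : H ⧸ O) = g from hl, mul_inv_cancel]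

/-- Two generators of the symmetric group of degree three. -/
theorem nonempty_equiv_perm_three {G : Type*} [Group G] {a t : G} (ha : a * a = 1) (ht : t ^ 3 = 1)
    (ht1 : t ≠ 1) (hinv : a * t * a = t⁻¹) (hgen : Subgroup.closure {a, t} = ⊤) (hat : a ∉ Subgroup.zpowers t) :
    Nonempty (G ≃* Equiv.Perm (Fin 3)) := by
  let w : Fin 2 × Fin 3 → G := fun v => a ^ (v.1 : ℕ) * t ^ (v.2 : ℕ)
  let mulw : Fin 2 × Fin 3 → Fin 2 × Fin 3 → Fin 2 × Fin 3 := fun v v' =>
    (v.1 + v'.1, (if v'.1 = 0 then v.2 else -v.2) + v'.2)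
  have general : ∀ {K : Type _} [Group K] (b s : K), b * b = 1 → s ^ 3 = 1 → b * s * b = s⁻¹ →
      ∀ v v' : Fin 2 × Fin 3, b ^ (v.1 : ℕ) * s ^ (v.2 : ℕ) * (b ^ (v'.1 : ℕ) * s ^ (v'.2 : ℕ)) =
        b ^ ((mulw v v').1 : ℕ) * s ^ ((mulw v v').2 : ℕ) := by
    intro K _ b s hb hs hbs v v'
    have hb2 : b ^ 2 = 1 := (pow_two b).trans hb
    have hsw : ∀ i : Fin 3, s ^ (i : ℕ) * b = b * s ^ ((-i : Fin 3) : ℕ) := fun i => by
      rw [← Rel54.pow_neg hs i, ← hbs, show b * s * b = b * s * b⁻¹ by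
        rw [inv_eq_of_mul_eq_one_right hb], conj_pow, inv_eq_of_mul_eq_one_right hb,
        ← mul_assoc, ← mul_assoc, hb, one_mul]
    have hX : s ^ (v.2 : ℕ) * b ^ (v'.1 : ℕ) =
        b ^ (v'.1 : ℕ) * s ^ ((if v'.1 = 0 then v.2 else -v.2 : Fin 3) : ℕ) := by
      rcases (show ∀ e : Fin 2, e = 0 ∨ e = 1 by decide) v'.1 with h | h <;> rw [h]
      · simp
      · rw [if_neg (by decide), Fin.val_one, pow_one, hsw]
    calc _ = b ^ (v.1 : ℕ) * (s ^ (v.2 : ℕ) * b ^ (v'.1 : ℕ)) * s ^ (v'.2 : ℕ) := by group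
      _ = b ^ (v.1 : ℕ) * b ^ (v'.1 : ℕ) *
          (s ^ ((if v'.1 = 0 then v.2 else -v.2 : Fin 3) : ℕ) * s ^ (v'.2 : ℕ)) := by rw [hX]; group
      _ = _ := by
          rw [← pow_add, ← pow_add, Rel54.pow_fin hb2 _ _ (Fin.val_add v.1 v'.1).symm,
            Rel54.pow_fin hs _ _ (Fin.val_add _ v'.2).symm]
  have hmul : ∀ v v', w v * w v' = w (mulw v v') := fun v v' => general a t ha ht hinv v v'
  have hinvw : ∀ v, ∃ v', mulw v v' = (0, 0) := by decide
  have hsurj : Function.Surjective w := by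
    let S : Subgroup G :=
      { carrier := Set.range w
        one_mem' := ⟨(0, 0), by simp [w]⟩
        mul_mem' := by rintro _ _ ⟨v, rfl⟩ ⟨v', rfl⟩; exact ⟨_, (hmul v v').symm⟩
        inv_mem' := by
          rintro _ ⟨v, rfl⟩
          obtain ⟨v', hv'⟩ := hinvw v
          exact ⟨v', eq_inv_of_mul_eq_one_right (by rw [hmul, hv']; simp [w])⟩ }
    have hS : Subgroup.closure {a, t} ≤ S := by
      rw [Subgroup.closure_le]
      rintro _ (rfl | rfl)
      · exact ⟨(1, 0), by simp [w]⟩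
      · exact ⟨(0, 1), by simp [w]⟩
    rw [hgen] at hS
    exact fun g => hS (Subgroup.mem_top g)
  have hker : ∀ v, w v = 1 → v = (0, 0) := by
    rintro ⟨e, i⟩ hv
    rcases (show ∀ e : Fin 2, e = 0 ∨ e = 1 by decide) e with rfl | rfl
    · rcases (show ∀ i : Fin 3, i = 0 ∨ i = 1 ∨ i = 2 by decide) i with rfl | rfl | rfl
      · rfl
      · exact absurd (by simpa [w] using hv) ht1
      · refine absurd ?_ ht1
        have h2 : t ^ 2 = 1 := by simpa [w] using hv
        rw [pow_succ, h2, one_mul] at ht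
        exact ht
    · refine absurd ?_ hat
      have h1 : a = (t ^ (i : ℕ))⁻¹ := eq_inv_of_mul_eq_one_left (by simpa [w] using hv)
      rw [h1]
      exact inv_mem (Subgroup.npow_mem_zpowers t _)
  have hleft : ∀ v, ∃ v', mulw v' v = (0, 0) := by decide
  have hcancel : ∀ v' v v2, mulw v' v = (0, 0) → mulw v' v2 = (0, 0) → v = v2 := by decide
  have hinj : Function.Injective w := fun v v2 h => by
    obtain ⟨v', hv'⟩ := hleft v
    refine hcancel v' v v2 hv' (hker _ ?_)
    rw [← hmul, ← h, hmul, hv']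
    simp [w]
  let pa : Equiv.Perm (Fin 3) := Equiv.swap 1 2
  let pt : Equiv.Perm (Fin 3) := finRotate 3
  let w' : Fin 2 × Fin 3 → Equiv.Perm (Fin 3) := fun v => pa ^ (v.1 : ℕ) * pt ^ (v.2 : ℕ)
  have hb' : Function.Bijective w' := by
    simp only [w', pa, pt]
    decide
  have hmul' : ∀ v v', w' v * w' v' = w' (mulw v v') := by
    simp only [w', pa, pt, mulw]
    decide
  let e := Equiv.ofBijective w ⟨hinj, hsurj⟩
  refine ⟨{ toEquiv := e.symm.trans (Equiv.ofBijective w' hb'), map_mul' := fun p q => ?_ }⟩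
  obtain ⟨v, rfl⟩ := e.surjective p
  obtain ⟨v', rfl⟩ := e.surjective q
  show w' (e.symm (e v * e v')) = w' (e.symm (e v)) * w' (e.symm (e v'))
  rw [show e v * e v' = e (mulw v v') from hmul v v', Equiv.symm_apply_apply, Equiv.symm_apply_apply,
    Equiv.symm_apply_apply, hmul']

end

end Cfsg.Agent.Lib.ThreeTransp.PlaneCover
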