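import Cfsg.Agent.Lib.Design.Steiner

/-!
The projective plane of order four through a hyperoval: points are the six points of the oval and its
fifteen pairings, lines are the fifteen secants and the six totals.
-/

set_option autoImplicit false

namespace Cfsg.Agent.Lib.ThreeTransp.PlaneFour

open Cfsg Finset Cfsg.Agent.Lib.Design
open scoped Pointwise

/-- The fifteen pairings of six objects. -/
def mate : Fin 15 → Fin 6 → Fin 6 :=
  ![![1, 0, 3, 2, 5, 4], ![1, 0, 4, 5, 2, 3], ![1, 0, 5, 4, 3, 2], ![2, 3, 0, 1, 5, 4], ![2, 4, 0, 5, 1, 3], ![2, 5, 0, 4, 3, 1], ![3, 2, 1, 0, 5, 4], ![3, 4, 5, 0, 1, 2], ![3, 5, 4, 0, 2, 1], ![4, 2, 1, 5, 0, 3], ![4, 3, 5, 1, 0, 2], ![4, 5, 3, 2, 0, 1], ![5, 2, 1, 4, 3, 0], ![5, 3, 4, 1, 2, 0], ![5, 4, 3, 2, 1, 0]]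

/-- Two pairings with no pair in common. -/
def Disj (k k' : Fin 15) : Prop := ∀ i, mate k i ≠ mate k' i

instance : DecidableRel Disj := fun _ _ => inferInstanceAs (Decidable (∀ _, _))

set_option synthInstance.maxSize 4000 in
set_option synthInstance.maxHeartbeats 200000 in
set_option maxRecDepth 4000 in
theorem mate_complete : ∀ a : Fin 6, a ≠ 0 → ∀ b : Fin 6, b ≠ 1 ∧ b ≠ a → ∀ c : Fin 6,
    c ≠ 2 ∧ c ≠ a ∧ c ≠ b → ∀ d : Fin 6, d ≠ 3 ∧ d ≠ a ∧ d ≠ b ∧ d ≠ c → ∀ e : Fin 6,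
    e ≠ 4 ∧ e ≠ a ∧ e ≠ b ∧ e ≠ c ∧ e ≠ d → ∀ f : Fin 6,
    f ≠ 5 ∧ f ≠ a ∧ f ≠ b ∧ f ≠ c ∧ f ≠ d ∧ f ≠ e →
    (∀ i, ![a, b, c, d, e, f] (![a, b, c, d, e, f] i) = i) → ∃ k, mate k = ![a, b, c, d, e, f] := by
  decide +kernel

/-- The three remaining members of the total through two pairings. -/
def third (k k' : Fin 15) : Finset (Fin 15) :=
  univ.filter fun r => Disj r k ∧ Disj r k' ∧ ∃ r', Disj r' k ∧ Disj r' k' ∧ Disj r r'

theorem disj_third : ∀ k k', Disj k k' → (third k k').card = 3 := by decide +kernel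

theorem exists_mate (f : Fin 6 → Fin 6) (hne : ∀ i, f i ≠ i) (hinv : ∀ i, f (f i) = i) :
    ∃ k, mate k = f := by
  have hf : f = ![f 0, f 1, f 2, f 3, f 4, f 5] := by funext i; fin_cases i <;> rfl
  have hinj : ∀ i j, i ≠ j → f i ≠ f j := fun i j h e => h (by rw [← hinv i, e, hinv])
  have key := mate_complete (f 0) (hne 0) (f 1) ⟨hne 1, hinj 1 0 (by decide)⟩ (f 2)
    ⟨hne 2, hinj 2 0 (by decide), hinj 2 1 (by decide)⟩ (f 3)
    ⟨hne 3, hinj 3 0 (by decide), hinj 3 1 (by decide), hinj 3 2 (by decide)⟩ (f 4)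
    ⟨hne 4, hinj 4 0 (by decide), hinj 4 1 (by decide), hinj 4 2 (by decide), hinj 4 3 (by decide)⟩ (f 5)
    ⟨hne 5, hinj 5 0 (by decide), hinj 5 1 (by decide), hinj 5 2 (by decide), hinj 5 3 (by decide),
      hinj 5 4 (by decide)⟩
  rw [← hf] at key
  exact key hinv

/-- The model points. -/
abbrev Pt : Type := Fin 6 ⊕ Fin 15

/-- The model lines. -/
def IsModelLine (M : Finset Pt) : Prop :=
  (∃ i j : Fin 6, i ≠ j ∧ ∀ p, p ∈ M ↔ Sum.elim (fun z => z = i ∨ z = j) (fun k => mate k i = j) p) ∨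
    (M.card = 5 ∧ ∀ p ∈ M, ∀ q ∈ M, p ≠ q → ∃ k k', p = Sum.inr k ∧ q = Sum.inr k' ∧ Disj k k')

theorem model_line_unique {M N : Finset Pt} (hM : M.card = 5) (hN : N.card = 5)
    (h1 : ∀ p ∈ M, ∀ q ∈ M, p ≠ q → ∃ k k', p = Sum.inr k ∧ q = Sum.inr k' ∧ Disj k k')
    (h2 : ∀ p ∈ N, ∀ q ∈ N, p ≠ q → ∃ k k', p = Sum.inr k ∧ q = Sum.inr k' ∧ Disj k k')
    {p q : Pt} (hpq : p ≠ q) (hpM : p ∈ M) (hqM : q ∈ M) (hpN : p ∈ N) (hqN : q ∈ N) : M = N := by
  classical
  obtain ⟨k, k', rfl, rfl, hd⟩ := h1 _ hpM _ hqM hpq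
  set F : Finset Pt := (third k k').image Sum.inr
  have key : ∀ {S : Finset Pt}, S.card = 5 →
      (∀ p ∈ S, ∀ q ∈ S, p ≠ q → ∃ k k', p = Sum.inr k ∧ q = Sum.inr k' ∧ Disj k k') →
      Sum.inr k ∈ S → Sum.inr k' ∈ S → (S.erase (Sum.inr k)).erase (Sum.inr k') = F := by
    intro S hS hc h h'
    have hrest : ((S.erase (Sum.inr k)).erase (Sum.inr k')).card = 3 := by
      rw [card_erase_of_mem (mem_erase.2 ⟨fun e => hpq e.symm, h'⟩), card_erase_of_mem h, hS]
    have hd2 : ∀ r ∈ (S.erase (Sum.inr k)).erase (Sum.inr k'),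
        ∃ a, r = Sum.inr a ∧ Disj a k ∧ Disj a k' := by
      intro r hr
      simp only [mem_erase] at hr
      obtain ⟨a, b, rfl, e, hab⟩ := hc r hr.2.2 _ h hr.2.1
      obtain rfl := Sum.inr_injective e
      obtain ⟨a', b', ea, eb, hab'⟩ := hc _ hr.2.2 _ h' hr.1
      obtain rfl := Sum.inr_injective ea
      obtain rfl := Sum.inr_injective eb
      exact ⟨a, rfl, hab, hab'⟩
    refine eq_of_subset_of_card_le (fun r hr => ?_) ?_
    · obtain ⟨a, rfl, ha, ha'⟩ := hd2 r hr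
      obtain ⟨r', hr', hne⟩ := exists_mem_ne (show 1 < ((S.erase (Sum.inr k)).erase (Sum.inr k')).card by omega) (Sum.inr a)
      obtain ⟨a', rfl, hb, hb'⟩ := hd2 r' hr'
      simp only [mem_erase] at hr hr'
      obtain ⟨x, y, ex, ey, hxy⟩ := hc _ hr.2.2 _ hr'.2.2 hne.symm
      obtain rfl := Sum.inr_injective ex
      obtain rfl := Sum.inr_injective ey
      exact mem_image_of_mem _ (mem_filter.2 ⟨mem_univ _, ha, ha', a', hb, hb', hxy⟩)
    · rw [card_image_of_injective _ Sum.inr_injective, disj_third k k' hd,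
        card_erase_of_mem (mem_erase.2 ⟨fun e => hpq e.symm, h'⟩), card_erase_of_mem h, hS]
  have e1 := key hM h1 hpM hqM
  have e2 := key hN h2 hpN hqN
  rw [← insert_erase hpM, ← insert_erase hpN, ← insert_erase (mem_erase.2 ⟨fun e => hpq e.symm, hqM⟩),
    ← insert_erase (mem_erase.2 ⟨fun e => hpq e.symm, hqN⟩), e1, e2]

variable {α : Type*} [Fintype α] [DecidableEq α] {L : Set (Finset α)}

/-- A plane of order four. -/
structure IsPlane (L : Set (Finset α)) : Prop where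
  steiner : IsSteinerSystem 2 5 L
  points : Fintype.card α = 21

/-- No three points of `S` on a line. -/
def IsArc (L : Set (Finset α)) (S : Finset α) : Prop := ∀ l ∈ L, (l ∩ S).card ≤ 2

theorem IsPlane.exists_line (hP : IsPlane L) {a b : α} (h : a ≠ b) :
    ∃! l, l ∈ L ∧ a ∈ l ∧ b ∈ l := by
  obtain ⟨l, ⟨hl, hs⟩, hu⟩ := hP.steiner.2 {a, b} (card_pair h)
  refine ⟨l, ⟨hl, hs (by simp), hs (by simp)⟩, fun m hm => hu m ⟨hm.1, ?_⟩⟩
  simp [insert_subset_iff, hm.2.1, hm.2.2]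

theorem IsPlane.line_eq (hP : IsPlane L) {a b : α} (h : a ≠ b) {l m : Finset α} (hl : l ∈ L)
    (hm : m ∈ L) (hal : a ∈ l) (hbl : b ∈ l) (ham : a ∈ m) (hbm : b ∈ m) : l = m :=
  (hP.exists_line h).unique ⟨hl, hal, hbl⟩ ⟨hm, ham, hbm⟩

theorem IsPlane.point_eq (hP : IsPlane L) {a b : α} {l m : Finset α} (hl : l ∈ L) (hm : m ∈ L)
    (hlm : l ≠ m) (hal : a ∈ l) (ham : a ∈ m) (hbl : b ∈ l) (hbm : b ∈ m) : a = b := by
  by_contra h
  exact hlm (hP.line_eq h hl hm hal hbl ham hbm)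

theorem IsPlane.lines_through (hP : IsPlane L) (p : α) : (containing L {p}).card = 5 :=
  containing_eq hP.steiner (j := 1) (card_singleton p) (by norm_num) (by decide)
    (by rw [hP.points]; decide)

theorem IsPlane.card_lines (hP : IsPlane L) : L.ncard = 21 := by
  have h := block_count hP.steiner
  rw [hP.points] at h
  norm_num [Nat.choose] at h
  omega

theorem IsPlane.meet (hP : IsPlane L) {l m : Finset α} (hl : l ∈ L) (hm : m ∈ L) (hlm : l ≠ m) :
    ∃ p, p ∈ l ∧ p ∈ m := by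
  have e0 := meet_equation hP.steiner hl (j := 0) (m := 21) (by decide) (by decide)
    (by rw [hP.points]; decide +kernel)
  have e1 := meet_equation hP.steiner hl (j := 1) (m := 5) (by decide) (by decide)
    (by rw [hP.points]; decide +kernel)
  simp [sum_range_succ, Nat.choose] at e0 e1
  by_contra h
  push Not at h
  have h0 : (l ∩ m).card = 0 := by
    rw [card_eq_zero, eq_empty_iff_forall_notMem]
    exact fun p hp => h p (mem_inter.1 hp).1 (mem_inter.1 hp).2
  have := eq_zero_of_meetNum (B := L) hm hlm h0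
  omega

theorem arc_no_three {S : Finset α} (hS : IsArc L S) {l : Finset α} (hl : l ∈ L) {a b c : α}
    (hab : a ≠ b) (hac : a ≠ c) (hbc : b ≠ c) (ha : a ∈ S) (hb : b ∈ S) (hc : c ∈ S)
    (hal : a ∈ l) (hbl : b ∈ l) : c ∉ l := by
  intro hcl
  have h3 : ({a, b, c} : Finset α).card = 3 := card_eq_three.2 ⟨a, b, c, hab, hac, hbc, rfl⟩
  have : ({a, b, c} : Finset α) ⊆ l ∩ S := by
    simp [insert_subset_iff, ha, hb, hc, hal, hbl, hcl]
  have := card_le_card this
  have := hS l hl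
  omega

theorem isArc_of_no_three {S : Finset α}
    (h : ∀ l ∈ L, ∀ a ∈ S, ∀ b ∈ S, ∀ c ∈ S, a ≠ b → a ≠ c → b ≠ c → a ∈ l → b ∈ l → c ∉ l) :
    IsArc L S := by
  intro l hl
  by_contra h2
  rw [not_le, two_lt_card_iff] at h2
  obtain ⟨a, b, c, ha, hb, hc, hab, hac, hbc⟩ := h2
  rw [mem_inter] at ha hb hc
  exact h l hl a ha.2 b hb.2 c hc.2 hab hac hbc ha.1 hb.1 hc.1

/-- The points off the secants of `S`. -/
noncomputable def uncovered (L : Set (Finset α)) (S : Finset α) : Finset α := by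
  classical
  exact univ.filter fun x => x ∉ S ∧ ∀ l ∈ L, x ∈ l → (l ∩ S).card ≤ 1

theorem mem_uncovered {S : Finset α} {x : α} :
    x ∈ uncovered L S ↔ x ∉ S ∧ ∀ l ∈ L, ∀ a ∈ S, ∀ b ∈ S, a ≠ b → a ∈ l → b ∈ l → x ∉ l := by
  simp only [uncovered, mem_filter, mem_univ, true_and]
  refine and_congr_right fun _ => forall₂_congr fun l _ => ?_
  constructor
  · intro h a ha b hb hab hal hbl hx
    exact hab (card_le_one.1 (h hx) a (mem_inter.2 ⟨hal, ha⟩) b (mem_inter.2 ⟨hbl, hb⟩))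
  · intro h hx
    refine card_le_one.2 fun a ha b hb => ?_
    by_contra hab
    rw [mem_inter] at ha hb
    exact h a ha.2 b hb.2 hab ha.1 hb.1 hx

theorem four_arc_star (hP : IsPlane L) {S : Finset α} (hS : S.card = 4) (hA : IsArc L S) {a : α}
    (ha : a ∈ S) :
    ∃ p q, p ≠ q ∧ uncovered L S = {p, q} ∧ ∀ l ∈ L, a ∈ l → p ∈ l → q ∉ l := by
  classical
  obtain ⟨b, c, d, hbc, hbd, hcd, hbcd⟩ := card_eq_three.1 (show (S.erase a).card = 3 by
    rw [card_erase_of_mem ha, hS])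
  have hmem : ∀ x, x ∈ S ↔ x = a ∨ x = b ∨ x = c ∨ x = d := by
    intro x
    rw [← insert_erase ha, hbcd]
    simp
  have hb : b ∈ S := (hmem b).2 (by simp)
  have hc : c ∈ S := (hmem c).2 (by simp)
  have hd : d ∈ S := (hmem d).2 (by simp)
  have hne : ∀ x ∈ S.erase a, x ≠ a := fun x hx => (mem_erase.1 hx).1
  have hba : b ≠ a := hne b (by rw [hbcd]; simp)
  have hca : c ≠ a := hne c (by rw [hbcd]; simp)
  have hda : d ≠ a := hne d (by rw [hbcd]; simp)
  obtain ⟨ab, ⟨hab, aab, bab⟩, -⟩ := hP.exists_line hba.symm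
  obtain ⟨ac, ⟨hac, aac, cac⟩, -⟩ := hP.exists_line hca.symm
  obtain ⟨ad, ⟨had, aad, dad⟩, -⟩ := hP.exists_line hda.symm
  have n1 : ab ≠ ac := fun e => arc_no_three hA hab hba.symm hca.symm hbc ha hb hc aab bab (e ▸ cac)
  have n2 : ab ≠ ad := fun e => arc_no_three hA hab hba.symm hda.symm hbd ha hb hd aab bab (e ▸ dad)
  have n3 : ac ≠ ad := fun e => arc_no_three hA hac hca.symm hda.symm hcd ha hc hd aac cac (e ▸ dad)
  have hsub : ({ab, ac, ad} : Finset (Finset α)) ⊆ containing L {a} := by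
    simp [insert_subset_iff, mem_containing, hab, hac, had, aab, aac, aad]
  have hdiff : (containing L {a} \ {ab, ac, ad}).card = 2 := by
    rw [card_sdiff_of_subset hsub, hP.lines_through, card_eq_three.2 ⟨ab, ac, ad, n1, n2, n3, rfl⟩]
  obtain ⟨m₁, m₂, hm, hm12⟩ := card_eq_two.1 hdiff
  -- one uncovered point on each
  have hfree : ∀ m ∈ containing L {a} \ {ab, ac, ad}, ∃ p, ∀ x, (x ∈ m ∧ x ∈ uncovered L S) ↔ x = p := by
    intro m hmm
    simp only [mem_sdiff, mem_containing, singleton_subset_iff, mem_insert, mem_singleton, not_or] at hmm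
    obtain ⟨⟨hmL, ham⟩, mab, mac, mad⟩ := hmm
    have hbm : b ∉ m := fun h => mab (hP.line_eq hba.symm hmL hab ham h aab bab)
    have hcm : c ∉ m := fun h => mac (hP.line_eq hca.symm hmL hac ham h aac cac)
    have hdm : d ∉ m := fun h => mad (hP.line_eq hda.symm hmL had ham h aad dad)
    obtain ⟨bc, ⟨hLbc, bbc, cbc⟩, -⟩ := hP.exists_line hbc
    obtain ⟨bd, ⟨hLbd, bbd, dbd⟩, -⟩ := hP.exists_line hbd
    obtain ⟨cd, ⟨hLcd, ccd, dcd⟩, -⟩ := hP.exists_line hcd
    have abc : a ∉ bc := arc_no_three hA hLbc hbc hba hca hb hc ha bbc cbc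
    have abd : a ∉ bd := arc_no_three hA hLbd hbd hba hda hb hd ha bbd dbd
    have acd : a ∉ cd := arc_no_three hA hLcd hcd hca hda hc hd ha ccd dcd
    have k1 : bc ≠ bd := fun e => arc_no_three hA hLbc hbc hbd hcd hb hc hd bbc cbc (e ▸ dbd)
    have k2 : bc ≠ cd := fun e => arc_no_three hA hLbc hbc hbd hcd hb hc hd bbc cbc (e ▸ dcd)
    have k3 : bd ≠ cd := fun e => arc_no_three hA hLbd hbd hbc hcd.symm hb hd hc bbd dbd (e ▸ ccd)
    obtain ⟨p₁, p1m, p1⟩ := hP.meet hmL hLbc (fun e => abc (e ▸ ham))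
    obtain ⟨p₂, p2m, p2⟩ := hP.meet hmL hLbd (fun e => abd (e ▸ ham))
    obtain ⟨p₃, p3m, p3⟩ := hP.meet hmL hLcd (fun e => acd (e ▸ ham))
    have q12 : p₁ ≠ p₂ := fun e => hbm (hP.point_eq hLbc hLbd k1 p1 (e ▸ p2) bbc bbd ▸ p1m)
    have q13 : p₁ ≠ p₃ := fun e => hcm (hP.point_eq hLbc hLcd k2 p1 (e ▸ p3) cbc ccd ▸ p1m)
    have q23 : p₂ ≠ p₃ := fun e => hdm (hP.point_eq hLbd hLcd k3 p2 (e ▸ p3) dbd dcd ▸ p2m)
    have qa : p₁ ≠ a ∧ p₂ ≠ a ∧ p₃ ≠ a :=
      ⟨fun e => abc (e ▸ p1), fun e => abd (e ▸ p2), fun e => acd (e ▸ p3)⟩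
    have hsub4 : ({a, p₁, p₂, p₃} : Finset α) ⊆ m := by
      simp [insert_subset_iff, ham, p1m, p2m, p3m]
    have hrest : (m \ {a, p₁, p₂, p₃}).card = 1 := by
      rw [card_sdiff_of_subset hsub4, hP.steiner.1 m hmL]
      rw [card_insert_of_notMem (by simp [qa.1.symm, qa.2.1.symm, qa.2.2.symm]),
        card_eq_three.2 ⟨p₁, p₂, p₃, q12, q13, q23, rfl⟩]
    obtain ⟨p, hp⟩ := card_eq_one.1 hrest
    refine ⟨p, fun x => ⟨fun hx => ?_, ?_⟩⟩
    · rw [← mem_singleton, ← hp, mem_sdiff]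
      rw [mem_uncovered] at hx
      refine ⟨hx.1, ?_⟩
      simp only [mem_insert, mem_singleton, not_or]
      exact ⟨fun e => hx.2.1 (e ▸ ha), fun e => hx.2.2 bc hLbc b hb c hc hbc bbc cbc (e ▸ p1),
        fun e => hx.2.2 bd hLbd b hb d hd hbd bbd dbd (e ▸ p2),
        fun e => hx.2.2 cd hLcd c hc d hd hcd ccd dcd (e ▸ p3)⟩
    · rintro rfl
      have hxm : x ∈ m \ {a, p₁, p₂, p₃} := by rw [hp]; exact mem_singleton_self _
      simp only [mem_sdiff, mem_insert, mem_singleton, not_or] at hxm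
      obtain ⟨hxm, xa, x1, x2, x3⟩ := hxm
      refine ⟨hxm, mem_uncovered.2 ⟨fun hxS => ?_, ?_⟩⟩
      · rcases (hmem x).1 hxS with rfl | rfl | rfl | rfl
        exacts [xa rfl, hbm hxm, hcm hxm, hdm hxm]
      intro l hl u hu v hv huv hul hvl hxl
      have hlm : l ≠ m := fun e => by
        subst e
        rcases (hmem u).1 hu with rfl | rfl | rfl | rfl <;>
          rcases (hmem v).1 hv with rfl | rfl | rfl | rfl <;> first | exact huv rfl | contradiction
      by_cases hal : a ∈ l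
      · exact xa (hP.point_eq hl hmL hlm hxl hxm hal ham)
      have pick : ∀ {l' : Finset α} {pp}, l' ∈ L → u ∈ l' → v ∈ l' → pp ∈ l' → pp ∈ m → x = pp :=
        fun {l' pp} hl' hu' hv' hp' hpm => by
          obtain rfl := hP.line_eq huv hl hl' hul hvl hu' hv'
          exact hP.point_eq hl hmL hlm hxl hxm hp' hpm
      rcases (hmem u).1 hu with rfl | rfl | rfl | rfl <;>
        rcases (hmem v).1 hv with rfl | rfl | rfl | rfl <;>
        first
          | exact huv rfl
          | exact hal hul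
          | exact hal hvl
          | exact x1 (pick hLbc bbc cbc p1 p1m)
          | exact x1 (pick hLbc cbc bbc p1 p1m)
          | exact x2 (pick hLbd bbd dbd p2 p2m)
          | exact x2 (pick hLbd dbd bbd p2 p2m)
          | exact x3 (pick hLcd ccd dcd p3 p3m)
          | exact x3 (pick hLcd dcd ccd p3 p3m)
  have hm1 : m₁ ∈ containing L {a} \ {ab, ac, ad} := by rw [hm12]; simp
  have hm2 : m₂ ∈ containing L {a} \ {ab, ac, ad} := by rw [hm12]; simp
  obtain ⟨p, hp⟩ := hfree m₁ hm1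
  obtain ⟨q, hq⟩ := hfree m₂ hm2
  simp only [mem_sdiff, mem_containing, singleton_subset_iff] at hm1 hm2
  have hpu := (hp p).2 rfl
  have hqu := (hq q).2 rfl
  have hpa : p ≠ a := fun e => (mem_uncovered.1 hpu.2).1 (e ▸ ha)
  have hpq : p ≠ q := fun e =>
    hpa (hP.point_eq hm1.1.1 hm2.1.1 hm hpu.1 (e ▸ hqu.1) hm1.1.2 hm2.1.2)
  refine ⟨p, q, hpq, ?_, fun l hl hal hpl hql => hm ?_⟩
  · ext x
    simp only [mem_insert, mem_singleton]
    refine ⟨fun hx => ?_, by rintro (rfl | rfl); exacts [hpu.2, hqu.2]⟩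
    obtain ⟨hxS, hxc⟩ := mem_uncovered.1 hx
    obtain ⟨l, ⟨hl, hal, hxl⟩, -⟩ := hP.exists_line (show a ≠ x from fun e => hxS (e ▸ ha))
    have hlm : l ∈ containing L {a} \ {ab, ac, ad} := by
      simp only [mem_sdiff, mem_containing, singleton_subset_iff, mem_insert, mem_singleton, not_or]
      exact ⟨⟨hl, hal⟩, fun e => hxc ab hab a ha b hb hba.symm aab bab (e ▸ hxl),
        fun e => hxc ac hac a ha c hc hca.symm aac cac (e ▸ hxl),
        fun e => hxc ad had a ha d hd hda.symm aad dad (e ▸ hxl)⟩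
    rw [hm12] at hlm
    simp only [mem_insert, mem_singleton] at hlm
    rcases hlm with rfl | rfl
    · exact Or.inl ((hp x).1 ⟨hxl, hx⟩)
    · exact Or.inr ((hq x).1 ⟨hxl, hx⟩)
  · have hqa : q ≠ a := fun e => (mem_uncovered.1 hqu.2).1 (e ▸ ha)
    exact (hP.line_eq hpa hm1.1.1 hl hpu.1 hm1.1.2 hpl hal).trans
      (hP.line_eq hqa hl hm2.1.1 hql hal hqu.1 hm2.1.2)

/-- A hyperoval. -/
def IsOval (L : Set (Finset α)) (H : Finset α) : Prop := H.card = 6 ∧ IsArc L H

theorem four_arc_extension (hP : IsPlane L) {S : Finset α} (hS : S.card = 4) (hA : IsArc L S) :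
    ∃! H : Finset α, IsOval L H ∧ S ⊆ H := by
  classical
  obtain ⟨a₀, ha₀⟩ := card_pos.1 (by omega : 0 < S.card)
  obtain ⟨p, q, hpq, hU, -⟩ := four_arc_star hP hS hA ha₀
  have hp : p ∈ uncovered L S := by rw [hU]; simp
  have hq : q ∈ uncovered L S := by rw [hU]; simp
  have hdisj : Disjoint S (uncovered L S) :=
    disjoint_left.2 fun x hx hx' => (mem_uncovered.1 hx').1 hx
  refine ⟨S ∪ uncovered L S, ⟨⟨?_, isArc_of_no_three ?_⟩, subset_union_left⟩, ?_⟩
  · rw [card_union_of_disjoint hdisj, hS, hU, card_pair hpq]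
  · intro l hl x hx y hy z hz hxy hxz hyz hxl hyl hzl
    rw [mem_union] at hx hy hz
    have two : ∀ {u v w}, u ∈ S → v ∈ S → w ∈ uncovered L S → u ≠ v → u ∈ l → v ∈ l → w ∈ l → False :=
      fun {u v w} hu hv hw huv hul hvl hwl => (mem_uncovered.1 hw).2 l hl u hu v hv huv hul hvl hwl
    have one : ∀ {u v w}, u ∈ S → v ∈ uncovered L S → w ∈ uncovered L S → v ≠ w → u ∈ l → v ∈ l →
        w ∈ l → False := by
      intro u v w hu hv hw hvw hul hvl hwl
      obtain ⟨p', q', -, hU', hsep⟩ := four_arc_star hP hS hA hu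
      rw [hU', mem_insert, mem_singleton] at hv hw
      rcases hv with rfl | rfl <;> rcases hw with rfl | rfl
      exacts [hvw rfl, hsep l hl hul hvl hwl, hsep l hl hul hwl hvl, hvw rfl]
    have none' : ∀ {u v w}, u ∈ uncovered L S → v ∈ uncovered L S → w ∈ uncovered L S →
        u ≠ v → u ≠ w → v ≠ w → False := by
      intro u v w hu hv hw h1 h2 h3
      rw [hU, mem_insert, mem_singleton] at hu hv hw
      rcases hu with rfl | rfl <;> rcases hv with rfl | rfl <;> rcases hw with rfl | rfl <;>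
        first | exact h1 rfl | exact h2 rfl | exact h3 rfl
    rcases hx with hx | hx <;> rcases hy with hy | hy <;> rcases hz with hz | hz
    · exact arc_no_three hA hl hxy hxz hyz hx hy hz hxl hyl hzl
    · exact two hx hy hz hxy hxl hyl hzl
    · exact two hx hz hy hxz hxl hzl hyl
    · exact one hx hy hz hyz hxl hyl hzl
    · exact two hy hz hx hyz hyl hzl hxl
    · exact one hy hx hz hxz hyl hxl hzl
    · exact one hz hx hy hxy hzl hxl hyl
    · exact none' hx hy hz hxy hxz hyz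
  · rintro H ⟨⟨hH6, hHA⟩, hSH⟩
    refine eq_of_subset_of_card_le (fun x hx => ?_)
      (by rw [card_union_of_disjoint hdisj, hS, hU, card_pair hpq, hH6])
    by_cases hxS : x ∈ S
    · exact mem_union_left _ hxS
    refine mem_union_right _ (mem_uncovered.2 ⟨hxS, fun l hl u hu v hv huv hul hvl => ?_⟩)
    exact arc_no_three hHA hl huv (fun e => hxS (e ▸ hu)) (fun e => hxS (e ▸ hv)) (hSH hu) (hSH hv)
      hx hul hvl

open Classical in
theorem three_arc_free (hP : IsPlane L) {T : Finset α} (hT : T.card = 3) (hA : IsArc L T) :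
    (univ.filter fun x => x ∉ T ∧ ∀ l ∈ L, ∀ u ∈ T, ∀ v ∈ T, u ≠ v → u ∈ l → v ∈ l → x ∉ l).card = 9 := by
  classical
  obtain ⟨a, b, c, hab, hac, hbc, rfl⟩ := card_eq_three.1 hT
  obtain ⟨lc, ⟨hlc, alc, blc⟩, -⟩ := hP.exists_line hab
  obtain ⟨lb, ⟨hlb, alb, clb⟩, -⟩ := hP.exists_line hac
  obtain ⟨la, ⟨hla, bla, cla⟩, -⟩ := hP.exists_line hbc
  have clc : c ∉ lc := arc_no_three hA hlc hab hac hbc (by simp) (by simp) (by simp) alc blc
  have k1 : lc ≠ lb := fun e => clc (e ▸ clb)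
  have k2 : lc ≠ la := fun e => clc (e ▸ cla)
  have k3 : lb ≠ la := fun e =>
    arc_no_three hA hlb hac hab hbc.symm (by simp) (by simp) (by simp) alb clb (e ▸ bla)
  have i1 : lc ∩ lb = {a} := by
    ext x; simp only [mem_inter, mem_singleton]
    exact ⟨fun h => hP.point_eq hlc hlb k1 h.1 h.2 alc alb, fun h => h ▸ ⟨alc, alb⟩⟩
  have i2 : (lc ∪ lb) ∩ la = {b, c} := by
    ext x; simp only [mem_inter, mem_union, mem_insert, mem_singleton]
    constructor
    · rintro ⟨h | h, h'⟩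
      · exact Or.inl (hP.point_eq hlc hla k2 h h' blc bla)
      · exact Or.inr (hP.point_eq hlb hla k3 h h' clb cla)
    · rintro (rfl | rfl)
      exacts [⟨Or.inl blc, bla⟩, ⟨Or.inr clb, cla⟩]
  have hcard : (lc ∪ lb ∪ la).card = 12 := by
    have h1 := card_union_add_card_inter lc lb
    rw [i1, card_singleton, hP.steiner.1 _ hlc, hP.steiner.1 _ hlb] at h1
    have h2 := card_union_add_card_inter (lc ∪ lb) la
    rw [i2, card_pair hbc, hP.steiner.1 _ hla] at h2
    omega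
  have heq : (univ.filter fun x => x ∉ ({a, b, c} : Finset α) ∧ ∀ l ∈ L, ∀ u ∈ ({a, b, c} : Finset α),
      ∀ v ∈ ({a, b, c} : Finset α), u ≠ v → u ∈ l → v ∈ l → x ∉ l) = univ \ (lc ∪ lb ∪ la) := by
    ext x
    simp only [mem_filter, mem_univ, true_and, mem_sdiff, mem_union, not_or]
    constructor
    · intro h
      exact ⟨⟨h.2 lc hlc a (by simp) b (by simp) hab alc blc, h.2 lb hlb a (by simp) c (by simp) hac alb clb⟩,
        h.2 la hla b (by simp) c (by simp) hbc bla cla⟩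
    · rintro ⟨⟨h1, h2⟩, h3⟩
      refine ⟨?_, fun l hl u hu v hv huv hul hvl hxl => ?_⟩
      · simp only [mem_insert, mem_singleton, not_or]
        exact ⟨fun e => h1 (e ▸ alc), fun e => h1 (e ▸ blc), fun e => h2 (e ▸ clb)⟩
      · simp only [mem_insert, mem_singleton] at hu hv
        rcases hu with rfl | rfl | rfl <;> rcases hv with rfl | rfl | rfl <;> first
          | exact huv rfl
          | exact h1 (hP.line_eq huv hl hlc hul hvl ‹_› ‹_› ▸ hxl)
          | exact h2 (hP.line_eq huv hl hlb hul hvl ‹_› ‹_› ▸ hxl)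
          | exact h3 (hP.line_eq huv hl hla hul hvl ‹_› ‹_› ▸ hxl)
  rw [heq, card_sdiff_of_subset (subset_univ _), card_univ, hP.points, hcard]

theorem arc_counts (hP : IsPlane L) :
    {S : Finset α | S.card = 4 ∧ IsArc L S}.ncard = 2520 ∧
      {H : Finset α | IsOval L H}.ncard = 168 := by
  classical
  set E3 := ((univ : Finset α).powersetCard 3).filter (IsArc L)
  set E4 := ((univ : Finset α).powersetCard 4).filter (IsArc L)
  set E6 := ((univ : Finset α).powersetCard 6).filter (IsArc L)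
  have hmono : ∀ {S T : Finset α}, S ⊆ T → IsArc L T → IsArc L S := fun h hT l hl =>
    (card_le_card (inter_subset_inter Subset.rfl h)).trans (hT l hl)
  have h3 : E3.card = 1120 := by
    have hcol : (((univ : Finset α).powersetCard 3).filter fun T => ¬ IsArc L T) =
        (blockFinset L).biUnion fun l => l.powersetCard 3 := by
      ext T
      simp only [mem_filter, mem_powersetCard, mem_biUnion, mem_blockFinset, subset_univ, true_and]
      constructor
      · rintro ⟨hT, hA⟩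
        simp only [IsArc, not_forall, not_le] at hA
        obtain ⟨l, hl, h⟩ := hA
        refine ⟨l, hl, ?_, hT⟩
        have : l ∩ T = T := eq_of_subset_of_card_le inter_subset_right (by omega)
        rw [← this]; exact inter_subset_left
      · rintro ⟨l, hl, hTl, hT⟩
        refine ⟨hT, fun hA => ?_⟩
        have := hA l hl
        rw [inter_eq_right.2 hTl] at this
        omega
    have h := card_filter_add_card_filter_not (s := (univ : Finset α).powersetCard 3) (IsArc L)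
    rw [hcol, card_powersetCard, card_univ, hP.points, card_biUnion ?_] at h
    · rw [sum_congr rfl (g := fun _ => 10) (fun l hl => by
          rw [card_powersetCard, hP.steiner.1 l (mem_blockFinset.1 hl)]; rfl),
        sum_const, card_blockFinset, hP.card_lines, show Nat.choose 21 3 = 1330 by decide +kernel] at h
      simp only [smul_eq_mul] at h
      exact Nat.add_right_cancel (h.trans (show 1330 = 1120 + 21 * 10 by norm_num))
    · intro l hl m hm hlm
      rw [Function.onFun, disjoint_left]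
      intro T hTl hTm
      rw [mem_powersetCard] at hTl hTm
      obtain ⟨u, v, w, huv, -, -, rfl⟩ := card_eq_three.1 hTl.2
      exact hlm (hP.line_eq huv (mem_blockFinset.1 hl) (mem_blockFinset.1 hm) (hTl.1 (by simp))
        (hTl.1 (by simp)) (hTm.1 (by simp)) (hTm.1 (by simp)))
  have hdc := card_mul_eq_card_mul (fun (T : Finset α) S => T ⊆ S) (s := E3) (t := E4) (m := 9) (n := 4) ?_ ?_
  rotate_left
  · intro T hT
    simp only [E3, mem_filter, mem_powersetCard] at hT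
    rw [← three_arc_free hP hT.1.2 hT.2]
    refine (card_bij (fun x _ => insert x T) ?_ ?_ ?_).symm
    · intro x hx
      simp only [mem_filter, mem_univ, true_and] at hx
      simp only [bipartiteAbove, E4, mem_filter, mem_powersetCard, subset_univ, true_and]
      refine ⟨⟨by rw [card_insert_of_notMem hx.1, hT.1.2], isArc_of_no_three ?_⟩, subset_insert _ _⟩
      intro l hl u hu v hv w hw huv huw hvw hul hvl hwl
      rw [mem_insert] at hu hv hw
      rcases hu with rfl | hu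
      · exact hx.2 l hl v (hv.resolve_left huv.symm) w (hw.resolve_left huw.symm) hvw hvl hwl hul
      rcases hv with rfl | hv
      · exact hx.2 l hl u hu w (hw.resolve_left hvw.symm) huw hul hwl hvl
      rcases hw with rfl | hw
      · exact hx.2 l hl u hu v hv huv hul hvl hwl
      exact arc_no_three hT.2 hl huv huw hvw hu hv hw hul hvl hwl
    · intro x hx y hy h
      simp only [mem_filter, mem_univ, true_and] at hx hy
      have := h ▸ mem_insert_self x T
      exact (mem_insert.1 this).resolve_right hx.1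
    · intro S hS
      simp only [bipartiteAbove, E4, mem_filter, mem_powersetCard, subset_univ, true_and] at hS
      obtain ⟨x, hx⟩ := card_eq_one.1 (show (S \ T).card = 1 by
        rw [card_sdiff_of_subset hS.2, hS.1.1, hT.1.2])
      have hxS : x ∈ S ∧ x ∉ T := mem_sdiff.1 (hx ▸ mem_singleton_self x)
      refine ⟨x, ?_, ?_⟩
      · simp only [mem_filter, mem_univ, true_and]
        refine ⟨hxS.2, fun l hl u hu v hv huv hul hvl => ?_⟩
        exact arc_no_three hS.1.2 hl huv (fun e => hxS.2 (e ▸ hu)) (fun e => hxS.2 (e ▸ hv))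
          (hS.2 hu) (hS.2 hv) hxS.1 hul hvl
      · rw [insert_eq, ← hx, sdiff_union_of_subset hS.2]
  · intro S hS
    simp only [E4, mem_filter, mem_powersetCard] at hS
    rw [show bipartiteBelow (fun (T : Finset α) S => T ⊆ S) E3 S = S.powersetCard 3 from ?_,
      card_powersetCard, hS.1.2]
    · rfl
    ext T
    simp only [bipartiteBelow, E3, mem_filter, mem_powersetCard, subset_univ, true_and]
    exact ⟨fun h => ⟨h.2, h.1.1⟩, fun h => ⟨⟨h.2, hmono h.1 hS.2⟩, h.1⟩⟩
  have hdc6 := card_mul_eq_card_mul (fun (S : Finset α) H => S ⊆ H) (s := E4) (t := E6) (m := 1) (n := 15) ?_ ?_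
  rotate_left
  · intro S hS
    simp only [E4, mem_filter, mem_powersetCard] at hS
    obtain ⟨H, ⟨hH, hSH⟩, hu⟩ := four_arc_extension hP hS.1.2 hS.2
    rw [card_eq_one]
    refine ⟨H, eq_singleton_iff_unique_mem.2 ⟨?_, fun H' hH' => ?_⟩⟩
    · simp only [bipartiteAbove, E6, mem_filter, mem_powersetCard, subset_univ, true_and]
      exact ⟨hH, hSH⟩
    · simp only [bipartiteAbove, E6, mem_filter, mem_powersetCard, subset_univ, true_and] at hH'
      exact hu H' hH'
  · intro H hH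
    simp only [E6, mem_filter, mem_powersetCard] at hH
    rw [show bipartiteBelow (fun (S : Finset α) H => S ⊆ H) E4 H = H.powersetCard 4 from ?_,
      card_powersetCard, hH.1.2]
    · rfl
    ext T
    simp only [bipartiteBelow, E4, mem_filter, mem_powersetCard, subset_univ, true_and]
    exact ⟨fun h => ⟨h.2, h.1.1⟩, fun h => ⟨⟨h.2, hmono h.1 hH.2⟩, h.1⟩⟩
  have e4 : {S : Finset α | S.card = 4 ∧ IsArc L S} = ↑E4 := by ext S; simp [E4]
  have e6 : {H : Finset α | IsOval L H} = ↑E6 := by ext S; simp [E6, IsOval]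
  rw [e4, e6, Set.ncard_coe_finset, Set.ncard_coe_finset]
  omega

theorem exists_oval (hP : IsPlane L) : ∃ H, IsOval L H := by
  have h := (arc_counts hP).2
  obtain ⟨H, hH⟩ := Set.nonempty_of_ncard_ne_zero (s := {H : Finset α | IsOval L H}) (by omega)
  exact ⟨H, hH⟩

theorem oval_line (hP : IsPlane L) {H : Finset α} (hH : IsOval L H) {l : Finset α} (hl : l ∈ L)
    {h : α} (hh : h ∈ H) (hhl : h ∈ l) : ∃! k, k ∈ H ∧ k ≠ h ∧ k ∈ l := by
  classical
  choose f hf using fun k : {k // k ∈ H.erase h} =>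
    (hP.exists_line (mem_erase.1 k.2).1.symm).exists
  have hinj : Function.Injective f := fun k k' e => by
    by_contra hne
    exact arc_no_three hH.2 (hf k).1 (mem_erase.1 k.2).1.symm (mem_erase.1 k'.2).1.symm
      (fun h => hne (Subtype.ext h)) hh (mem_erase.1 k.2).2 (mem_erase.1 k'.2).2 (hf k).2.1 (hf k).2.2
      (e ▸ (hf k').2.2)
  have himg : univ.image f = containing L {h} := by
    refine eq_of_subset_of_card_le (fun m hm => ?_) ?_
    · obtain ⟨k, -, rfl⟩ := mem_image.1 hm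
      simp [mem_containing, (hf k).1, (hf k).2.1]
    · rw [hP.lines_through, card_image_of_injective _ hinj, card_univ, Fintype.card_coe,
        card_erase_of_mem hh, hH.1]
  have hlm : l ∈ univ.image f := by rw [himg]; simp [mem_containing, hl, hhl]
  obtain ⟨k, -, rfl⟩ := mem_image.1 hlm
  refine ⟨k, ⟨(mem_erase.1 k.2).2, (mem_erase.1 k.2).1, (hf k).2.2⟩, fun k' hk' => ?_⟩
  by_contra hne
  exact arc_no_three hH.2 (hf k).1 (mem_erase.1 k.2).1.symm hk'.2.1.symm (fun e => hne e.symm) hh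
    (mem_erase.1 k.2).2 hk'.1 (hf k).2.1 (hf k).2.2 hk'.2.2

theorem coordinatize (hP : IsPlane L) {H : Finset α} (hH : IsOval L H) (e : ↥H ≃ Fin 6) :
    ∃ φ : α ≃ Pt, (∀ h : ↥H, φ h = Sum.inl (e h)) ∧
      (fun l => l.image φ) '' L = {M | IsModelLine M} := by
  classical
  have hline : ∀ x : {x : α // x ∉ H}, ∀ h : ↥H, ∃ k : ↥H, k ≠ h ∧ ∃ l ∈ L, (x : α) ∈ l ∧ (h : α) ∈ l ∧ (k : α) ∈ l := by
    intro x h
    obtain ⟨l, ⟨hl, hxl, hhl⟩, -⟩ := hP.exists_line (show (x : α) ≠ h from fun e => x.2 (e ▸ h.2))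
    obtain ⟨k, ⟨hk, hkh, hkl⟩, -⟩ := oval_line hP hH hl h.2 hhl
    exact ⟨⟨k, hk⟩, fun e => hkh (congrArg Subtype.val e), l, hl, hxl, hhl, hkl⟩
  choose σ hσ hσl using hline
  have huniq : ∀ (x : {x : α // x ∉ H}) (h k : ↥H) (l : Finset α), k ≠ h → l ∈ L → (x : α) ∈ l →
      (h : α) ∈ l → (k : α) ∈ l → σ x h = k := by
    intro x h k l hkh hl hxl hhl hkl
    obtain ⟨l', hl', hxl', hhl', hσl'⟩ := hσl x h
    have e : l' = l := hP.line_eq (show (x : α) ≠ h from fun e => x.2 (e ▸ h.2)) hl' hl hxl' hhl' hxl hhl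
    subst e
    exact Subtype.ext ((oval_line hP hH hl h.2 hhl).unique
      ⟨(σ x h).2, fun e => hσ x h (Subtype.ext e), hσl'⟩ ⟨k.2, fun e => hkh (Subtype.ext e), hkl⟩)
  have hinv : ∀ x h, σ x (σ x h) = h := fun x h => by
    obtain ⟨l, hl, hxl, hhl, hkl⟩ := hσl x h
    exact huniq x _ _ l (hσ x h).symm hl hxl hkl hhl
  have hk : ∀ x, ∃ k, ∀ h : ↥H, mate k (e h) = e (σ x h) := by
    intro x
    obtain ⟨k, hk⟩ := exists_mate (fun i => e (σ x (e.symm i)))
      (fun i h => hσ x (e.symm i) (e.injective (h.trans (e.apply_symm_apply i).symm)))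
      (fun i => by simp only [Equiv.symm_apply_apply, hinv, Equiv.apply_symm_apply])
    exact ⟨k, fun h => by rw [hk]; simp⟩
  choose K hK using hk
  have hKinj : Function.Injective K := by
    intro x y hxy
    have hsame : ∀ h, σ x h = σ y h := fun h => e.injective (by rw [← hK x, ← hK y, hxy])
    obtain ⟨h⟩ : Nonempty ↥H := ⟨e.symm 0⟩
    obtain ⟨k, hkne⟩ : ∃ k : ↥H, k ≠ h ∧ k ≠ σ x h := by
      by_contra hall
      push Not at hall
      have hsub : (univ : Finset ↥H) ⊆ {h, σ x h} := fun k _ => by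
        by_cases hk : k = h
        · simp [hk]
        · simp [hall k hk]
      have := (card_le_card hsub).trans card_le_two
      rw [card_univ, Fintype.card_coe, hH.1] at this
      omega
    obtain ⟨l, hl, hxl, hhl, hkl⟩ := hσl x h
    obtain ⟨m, hm, hxm, hhm, hkm⟩ := hσl x k
    obtain ⟨l', hl', hyl, hhl', hkl'⟩ := hσl y h
    obtain ⟨m', hm', hym, hhm', hkm'⟩ := hσl y k
    rw [← hsame] at hkl' hkm'
    have hne : ∀ {u v : ↥H}, u ≠ v → (u : α) ≠ v := fun h e => h (Subtype.ext e)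
    obtain rfl := hP.line_eq (hne (hσ x h).symm) hl hl' hhl hkl hhl' hkl'
    obtain rfl := hP.line_eq (hne (hσ x k).symm) hm hm' hhm hkm hhm' hkm'
    have hlm : l ≠ m := fun e => arc_no_three hH.2 hl (hne (hσ x h).symm) (hne hkne.1.symm)
      (hne hkne.2.symm) h.2 (σ x h).2 k.2 hhl hkl (e ▸ hhm)
    exact Subtype.ext (hP.point_eq hl hm hlm hxl hxm hyl hym)
  let f : α → Pt := fun x => if hx : x ∈ H then Sum.inl (e ⟨x, hx⟩) else Sum.inr (K ⟨x, hx⟩)
  have hfinj : Function.Injective f := by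
    intro x y hxy
    simp only [f] at hxy
    split_ifs at hxy with hx hy hy
    · exact congrArg Subtype.val (e.injective (Sum.inl_injective hxy))
    · exact congrArg Subtype.val (hKinj (Sum.inr_injective hxy))
  let φ : α ≃ Pt := Equiv.ofBijective f ((Fintype.bijective_iff_injective_and_card f).2
    ⟨hfinj, by rw [hP.points]; rfl⟩)
  have hφH : ∀ h : ↥H, φ h = Sum.inl (e h) := fun h => dif_pos h.2
  have hφX : ∀ x : {x : α // x ∉ H}, φ x = Sum.inr (K x) := fun x => dif_neg x.2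
  refine ⟨φ, hφH, ?_⟩
  -- images of lines
  have hfwd : ∀ l ∈ L, IsModelLine (l.image φ) := by
    intro l hl
    by_cases hm : ∃ h ∈ H, h ∈ l
    · obtain ⟨h, hh, hhl⟩ := hm
      obtain ⟨k, ⟨hkH, hkh, hkl⟩, -⟩ := oval_line hP hH hl hh hhl
      refine Or.inl ⟨e ⟨h, hh⟩, e ⟨k, hkH⟩,
        fun he => hkh (congrArg Subtype.val (e.injective he)).symm, fun p => ?_⟩
      obtain ⟨z, rfl⟩ := φ.surjective p
      rw [φ.injective.mem_finset_image]  
      by_cases hz : z ∈ H
      · rw [hφH ⟨z, hz⟩]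
        simp only [Sum.elim_inl, e.injective.eq_iff, Subtype.mk.injEq]
        refine ⟨fun hzl => ?_, by rintro (rfl | rfl) <;> assumption⟩
        by_contra hne
        push Not at hne
        exact arc_no_three hH.2 hl hkh.symm hne.1.symm hne.2.symm hh hkH hz hhl hkl hzl
      · rw [hφX ⟨z, hz⟩]
        simp only [Sum.elim_inr, hK ⟨z, hz⟩ ⟨h, hh⟩, e.injective.eq_iff]
        refine ⟨fun hzl => huniq ⟨z, hz⟩ _ _ l (fun e => hkh (congrArg Subtype.val e)) hl hzl hhl hkl,
          fun hs => ?_⟩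
        obtain ⟨l', hl', hxl', hhl', hkl'⟩ := hσl ⟨z, hz⟩ ⟨h, hh⟩
        rw [hs] at hkl'
        rwa [hP.line_eq hkh.symm hl hl' hhl hkl hhl' hkl']
    · push Not at hm
      refine Or.inr ⟨by rw [card_image_of_injective _ φ.injective, hP.steiner.1 l hl], ?_⟩
      intro p hp q hq hpq
      obtain ⟨x, hxl, rfl⟩ := mem_image.1 hp
      obtain ⟨y, hyl, rfl⟩ := mem_image.1 hq
      have hx : x ∉ H := fun h => hm x h hxl
      have hy : y ∉ H := fun h => hm y h hyl
      refine ⟨K ⟨x, hx⟩, K ⟨y, hy⟩, hφX ⟨x, hx⟩, hφX ⟨y, hy⟩, fun i he => ?_⟩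
      obtain ⟨h, rfl⟩ := e.surjective i
      rw [hK, hK, e.injective.eq_iff] at he
      obtain ⟨l₁, hl₁, hx₁, hh₁, hk₁⟩ := hσl ⟨x, hx⟩ h
      obtain ⟨l₂, hl₂, hy₂, hh₂, hk₂⟩ := hσl ⟨y, hy⟩ h
      rw [← he] at hk₂
      obtain rfl := hP.line_eq (fun e' => hσ _ h (Subtype.ext e').symm) hl₁ hl₂ hh₁ hk₁ hh₂ hk₂
      have := hP.line_eq (fun e' => hpq (by rw [e'])) hl hl₁ hxl hyl hx₁ hy₂
      exact hm h h.2 (this ▸ hh₁)
  refine Set.Subset.antisymm (by rintro _ ⟨l, hl, rfl⟩; exact hfwd l hl) ?_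
  rintro M (⟨i, j, hij, hM⟩ | ⟨hM5, hM⟩)
  · obtain ⟨l, ⟨hl, hi, hj⟩, -⟩ := hP.exists_line (show ((e.symm i : ↥H) : α) ≠ e.symm j from
      fun h => hij (e.symm.injective (Subtype.ext h)))
    refine ⟨l, hl, ?_⟩
    have hfi : Sum.inl i ∈ l.image φ := by
      rw [← e.apply_symm_apply i, ← hφH]; exact mem_image_of_mem _ hi
    have hfj : Sum.inl j ∈ l.image φ := by
      rw [← e.apply_symm_apply j, ← hφH]; exact mem_image_of_mem _ hj
    rcases hfwd l hl with ⟨a, b, hab, hlab⟩ | ⟨-, hc⟩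
    swap
    · obtain ⟨k, k', h, -, -⟩ := hc _ hfi _ hfj (fun h => hij (Sum.inl_injective h))
      exact absurd h (by simp)
    ext p
    show p ∈ l.image φ ↔ p ∈ M
    rw [hlab, hM]
    have ha := (hlab _).1 hfi
    have hb := (hlab _).1 hfj
    simp only [Sum.elim_inl] at ha hb
    have hsym : ∀ k a b, mate k a = b → mate k b = a := by decide +kernel
    rcases ha with rfl | rfl <;> rcases hb with rfl | rfl
    · exact absurd rfl hij
    · exact Iff.rfl
    · rcases p with z | k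
      · exact Or.comm
      · exact ⟨hsym k _ _, hsym k _ _⟩
    · exact absurd rfl hij
  · obtain ⟨p, hp, q, hq, hpq⟩ := one_lt_card.1 (show 1 < M.card by omega)
    obtain ⟨k, k', hkp, hkq, hd⟩ := hM p hp q hq hpq
    obtain ⟨x, rfl⟩ := φ.surjective p
    obtain ⟨y, rfl⟩ := φ.surjective q
    obtain ⟨l, ⟨hl, hxl, hyl⟩, -⟩ := hP.exists_line (show x ≠ y from fun e => hpq (by rw [e]))
    refine ⟨l, hl, ?_⟩
    have hxm := mem_image_of_mem φ hxl
    have hym := mem_image_of_mem φ hyl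
    rcases hfwd l hl with ⟨a, b, hab, hlab⟩ | ⟨hc5, hc⟩
    · have h1 := (hlab _).1 hxm
      have h2 := (hlab _).1 hym
      rw [hkp] at h1
      rw [hkq] at h2
      exact absurd ((h1 : mate k a = b).trans (h2 : mate k' a = b).symm) (hd a)
    · exact model_line_unique hc5 hM5 hc hM hpq hxm hym hp hq

theorem setSystemAut_mem {g : Equiv.Perm α} (h : (fun l => l.image g) '' L = L) :
    g ∈ setSystemAut L := by
  rw [MulAction.mem_stabilizer_iff]
  conv_rhs => rw [← h]
  refine congrArg (· '' L) (funext fun l => ?_)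
  rfl

theorem image_of_mem_setSystemAut {g : Equiv.Perm α} (hg : g ∈ setSystemAut L) {l : Finset α}
    (hl : l ∈ L) : l.image g ∈ L := by
  rw [MulAction.mem_stabilizer_iff] at hg
  rw [← hg]
  exact ⟨l, hl, rfl⟩

theorem eq_of_agree (hP : IsPlane L) {H : Finset α} (hH : IsOval L H) {g g' : Equiv.Perm α}
    (hg : g ∈ setSystemAut L) (hg' : g' ∈ setSystemAut L) (h : ∀ p : ↥H, g p = g' p) : g = g' := by
  classical
  set f := g'⁻¹ * g
  have hf : f ∈ setSystemAut L := (setSystemAut L).mul_mem ((setSystemAut L).inv_mem hg') hg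
  have hfix : ∀ p ∈ H, f p = p := fun p hp => by
    show g'.symm (g p) = p
    rw [h ⟨p, hp⟩]; exact g'.symm_apply_apply p
  suffices hall : ∀ x, f x = x by
    ext x
    have := congrArg g' (hall x)
    simpa [f] using this
  intro x
  by_cases hx : x ∈ H
  · exact hfix x hx
  have hfx : f x ∉ H := fun hmem => hx (by
    have := hfix _ hmem
    rw [f.injective this] at hmem; exact hmem)
  -- secants through `x`
  have hsec : ∀ a ∈ H, ∃ l ∈ L, x ∈ l ∧ a ∈ l ∧ f x ∈ l := by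
    intro a ha
    obtain ⟨l, ⟨hl, hxl, hal⟩, -⟩ := hP.exists_line (show x ≠ a from fun e => hx (e ▸ ha))
    obtain ⟨b, ⟨hb, hba, hbl⟩, -⟩ := oval_line hP hH hl ha hal
    refine ⟨l, hl, hxl, hal, ?_⟩
    have hfl := image_of_mem_setSystemAut hf hl
    have e : l.image f = l := hP.line_eq hba.symm hfl hl
      (mem_image.2 ⟨a, hal, hfix a ha⟩) (mem_image.2 ⟨b, hbl, hfix b hb⟩) hal hbl
    rw [← e]; exact mem_image_of_mem _ hxl
  obtain ⟨a, ha⟩ := card_pos.1 (by rw [hH.1]; norm_num : 0 < H.card)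
  obtain ⟨l, hl, hxl, hal, hfl⟩ := hsec a ha
  obtain ⟨c, hc, hcl⟩ : ∃ c ∈ H, c ∉ l := by
    by_contra hall
    push Not at hall
    have := hH.2 l hl
    rw [inter_eq_right.2 hall, hH.1] at this
    omega
  obtain ⟨m, hm, hxm, hcm, hfm⟩ := hsec c hc
  exact (hP.point_eq hl hm (fun e => hcl (e ▸ hcm)) hxl hxm hfl hfm).symm

theorem extend_perm (hP : IsPlane L) {H : Finset α} (hH : IsOval L H) (σ : Equiv.Perm ↥H) :
    ∃! g : Equiv.Perm α, g ∈ setSystemAut L ∧ ∀ p : ↥H, g p = σ p := by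
  classical
  let e : ↥H ≃ Fin 6 := Fintype.equivFinOfCardEq (by rw [Fintype.card_coe]; exact hH.1)
  obtain ⟨φ, hφ, hL⟩ := coordinatize hP hH e
  obtain ⟨ψ, hψ, hL'⟩ := coordinatize hP hH (σ.trans e)
  have hg : ∀ p : ↥H, (ψ.trans φ.symm) p = σ p := fun p => by
    rw [Equiv.trans_apply, Equiv.symm_apply_eq, hψ, hφ]; rfl
  have hmem : (ψ.trans φ.symm) ∈ setSystemAut L := by
    refine setSystemAut_mem ?_
    rw [show (fun l : Finset α => l.image (ψ.trans φ.symm)) =
      (fun M : Finset Pt => M.image φ.symm) ∘ (fun l : Finset α => l.image ψ) from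
        funext fun l => by rw [Function.comp_apply, image_image]; rfl,
      Set.image_comp, hL', ← hL, ← Set.image_comp]
    exact (Set.image_congr fun l _ => by simp [image_image]).trans (Set.image_id L)
  exact ⟨_, ⟨hmem, hg⟩, fun g' hg' => eq_of_agree hP hH hg'.1 hmem (fun p => by rw [hg'.2, hg])⟩

theorem plane_unique {β : Type*} [Fintype β] [DecidableEq β] (hP : IsPlane L) {L' : Set (Finset β)}
    (hP' : IsPlane L') : SetSystemIso L L' := by
  classical
  obtain ⟨H, hH⟩ := exists_oval hP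
  obtain ⟨H', hH'⟩ := exists_oval hP'
  obtain ⟨φ, -, hL⟩ := coordinatize hP hH (Fintype.equivFinOfCardEq (by rw [Fintype.card_coe]; exact hH.1))
  obtain ⟨ψ, -, hL'⟩ := coordinatize hP' hH' (Fintype.equivFinOfCardEq (by rw [Fintype.card_coe]; exact hH'.1))
  refine ⟨φ.trans ψ.symm, ?_⟩
  rw [show (fun l : Finset α => l.image (φ.trans ψ.symm)) =
    (fun M : Finset Pt => M.image ψ.symm) ∘ (fun l : Finset α => l.image φ) from
      funext fun l => by rw [Function.comp_apply, image_image]; rfl,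
    Set.image_comp, hL, ← hL', ← Set.image_comp]
  exact (Set.image_congr fun l _ => by simp [image_image]).trans (Set.image_id L')

end Cfsg.Agent.Lib.ThreeTransp.PlaneFour
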