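import Cfsg.Agent.Lib.ThreeTransp.LayerTrichotomy
import Cfsg.Agent.Lib.Characters.Burnside
import Cfsg.Agent.Lib.Components.Quasisimple

/-!
Three-transposition classes with central 2- and 3-cores: the component, primitivity, connectedness.
-/

set_option autoImplicit false

namespace Cfsg.Agent.Lib.ThreeTransp

open Cfsg
open scoped commutatorElement

variable {G : Type*} [Group G] [Finite G] {D : Set G}

/-- If the conjugates of `d` under a normal component have products with `d` generating a solvable group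
then `d` centralizes the component. -/
theorem commute_component_of_solvable {d : G} (hd : d * d = 1) {K : Subgroup G} (hK : IsComponent K)
    [K.Normal]
    (hs : Group.IsSolvable ↥(Subgroup.closure {u : G | ∃ g ∈ K, u = d * (g * d * g⁻¹)})) :
    ∀ g ∈ K, Commute d g := by
  set L := K
  set A := Subgroup.closure {u : G | ∃ g ∈ L, u = d * (g * d * g⁻¹)} with hA
  have hLn : L.Normal := inferInstance
  have hdi : d⁻¹ = d := inv_eq_of_mul_eq_one_right hd
  have hnorm : ∀ h ∈ L, ∀ a ∈ A, h * a * h⁻¹ ∈ A := by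
    intro h hh a ha
    induction ha using Subgroup.closure_induction with
    | mem u hu =>
      obtain ⟨g, hg, rfl⟩ := hu
      have h1 : d * (h * d * h⁻¹) ∈ A := Subgroup.subset_closure ⟨h, hh, rfl⟩
      have h2 : d * (h * g * d * (h * g)⁻¹) ∈ A :=
        Subgroup.subset_closure ⟨h * g, L.mul_mem hh hg, rfl⟩
      have := A.mul_mem (A.inv_mem h1) h2
      convert this using 1
      rw [mul_inv_rev, mul_inv_rev, mul_inv_rev, inv_inv, hdi]
      simp only [mul_assoc]
      rw [← mul_assoc d d, hd, one_mul]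
      simp [mul_assoc]
    | one => simp
    | mul u v _ _ h1 h2 => have := A.mul_mem h1 h2; convert this using 1; group
    | inv u _ h1 => have := A.inv_mem h1; convert this using 1; group
  have hAn : L ≤ Subgroup.normalizer (A : Set G) := by
    intro h hh
    rw [Subgroup.mem_normalizer_iff]
    refine fun a => ⟨hnorm h hh a, fun ha => ?_⟩
    have := hnorm h⁻¹ (L.inv_mem hh) _ ha
    simpa [mul_assoc] using this
  have hcomm : ∀ a ∈ A, ∀ g ∈ L, Commute a g := by
    intro a ha g hg
    have hle : L ≤ Subgroup.centralizer (A : Set G) :=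
      Subgroup.commutator_eq_bot_iff_le_centralizer.1
        (Lib.Components.IsComponent.commutator_eq_bot_of_solvable hK hs hAn)
    exact Subgroup.mem_centralizer_iff.1 (hle hg) a ha
  intro g hg
  have hgL : g ∈ ⁅L, L⁆ := (Lib.Components.IsComponent.commutator_self hK).symm ▸ hg
  have hle : ⁅L, L⁆ ≤ Subgroup.centralizer ({d} : Set G) := by
    rw [Subgroup.commutator_le]
    intro p hp q hq
    rw [commutatorElement_def]
    refine Subgroup.mem_centralizer_singleton_iff.2 ?_
    have e1 : ∀ x ∈ L, ∀ y ∈ L, Commute (d * (x * d * x⁻¹)) y := fun x hx y hy =>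
      hcomm _ (Subgroup.subset_closure ⟨x, hx, rfl⟩) y hy
    have e2 : ∀ x ∈ L, d * x * d = (d * (x * d * x⁻¹)) * x := fun x _ => by group
    have e3 : ∀ x, d * x⁻¹ * d = (d * x * d)⁻¹ := fun x => by
      rw [mul_inv_rev, mul_inv_rev, hdi]; simp only [mul_assoc]
    have key : d * (p * q * p⁻¹ * q⁻¹) * d = p * q * p⁻¹ * q⁻¹ := by
      calc d * (p * q * p⁻¹ * q⁻¹) * d
          = (d * p * d⁻¹) * (d * q * d⁻¹) * (d * p⁻¹ * d⁻¹) * (d * q⁻¹ * d) := by group
        _ = (d * p * d) * (d * q * d) * (d * p * d)⁻¹ * (d * q * d)⁻¹ := by rw [hdi, e3, e3]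
        _ = p * q * p⁻¹ * q⁻¹ := by
          rw [e2 p hp, e2 q hq]
          generalize hα : d * (p * d * p⁻¹) = α
          generalize hβ : d * (q * d * q⁻¹) = β
          have a1 : Commute α q := hα ▸ e1 p hp q hq
          have b1 : Commute β p := hβ ▸ e1 q hq p hp
          have ab : Commute α β := by
            rw [← hβ, ← mul_assoc d (q * d) q⁻¹, ← mul_assoc d q d]
            have hdq : d * q * d ∈ L := by
              have := hLn.conj_mem q hq d; rwa [hdi] at this
            exact (hα ▸ e1 p hp _ hdq).mul_right a1.inv_right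
          rw [mul_inv_rev, mul_inv_rev]
          calc α * p * (β * q) * (p⁻¹ * α⁻¹) * (q⁻¹ * β⁻¹)
              = α * (p * β) * q * p⁻¹ * (α⁻¹ * q⁻¹) * β⁻¹ := by simp only [mul_assoc]
            _ = (α * β) * (p * q * p⁻¹ * q⁻¹) * (α⁻¹ * β⁻¹) := by
              rw [← b1.eq, a1.inv_left.inv_right.eq]; simp only [mul_assoc]
            _ = p * q * p⁻¹ * q⁻¹ := by
              have hc : Commute (α * β) (p * q * p⁻¹ * q⁻¹) := by
                have a2 : Commute α p := hα ▸ e1 p hp p hp
                have b2 : Commute β q := hβ ▸ e1 q hq q hq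
                exact (((a2.mul_left b1).mul_right (a1.mul_left b2)).mul_right
                  (a2.mul_left b1).inv_right).mul_right (a1.mul_left b2).inv_right
              rw [hc.eq, mul_assoc, ← mul_assoc (α * β) α⁻¹, ab.eq, mul_inv_cancel_right,
                mul_inv_cancel, mul_one]
    calc p * q * p⁻¹ * q⁻¹ * d = d * (p * q * p⁻¹ * q⁻¹) * d * d := by rw [key]
      _ = d * (p * q * p⁻¹ * q⁻¹) := by rw [mul_assoc _ d d, hd, mul_one]
  exact (Subgroup.mem_centralizer_singleton_iff.1 (hle hgL)).symm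

/-- A member normalizes every component. -/
theorem component_normalized (hD : IsThreeTranspositionGroup D) {K : Subgroup G} (hK : IsComponent K)
    {d : G} (hd : d ∈ D) : K.map (MulAut.conj d).toMonoidHom = K := by
  obtain ⟨hS, hc, -⟩ := hD
  by_contra hne
  have hK' := Lib.Components.IsComponent.map_conj hK d
  have hcomm : ∀ a ∈ K.map (MulAut.conj d).toMonoidHom, ∀ b ∈ K, Commute a b := fun a ha b hb =>
    Lib.Components.commute_of_commutator_eq_bot
      (Lib.Components.IsComponent.commutator_eq_bot_of_ne hK' hK hne) ha hb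
  have hord : ∀ q : K ⧸ Subgroup.center K, q ^ 2 = 1 ∨ q ^ 3 = 1 := by
    intro q
    obtain ⟨⟨k, hk⟩, rfl⟩ := QuotientGroup.mk'_surjective (Subgroup.center K) q
    have hk' : d * k * d⁻¹ ∈ K.map (MulAut.conj d).toMonoidHom := ⟨k, hk, rfl⟩
    have key : ∀ n : ℕ, (d * (k * d * k⁻¹)) ^ n = 1 →
        (QuotientGroup.mk' (Subgroup.center K) ⟨k, hk⟩) ^ n = 1 := by
      intro n hn
      rw [show d * (k * d * k⁻¹) = (d * k * d⁻¹) * k⁻¹ by
        rw [inv_inv_self (hS.1 d hd)]; simp only [mul_assoc],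
        (hcomm _ hk' _ (K.inv_mem hk)).mul_pow, inv_pow] at hn
      have hmem : k ^ n ∈ K.map (MulAut.conj d).toMonoidHom := by
        rw [← mul_inv_eq_one.1 hn]; exact Subgroup.pow_mem _ hk' n
      rw [← map_pow]
      refine (QuotientGroup.eq_one_iff _).2 (Subgroup.mem_center_iff.2 fun b => Subtype.ext ?_)
      exact (hcomm _ hmem b b.2).eq.symm
    exact (hS.2 d hd _ (hc k d hd)).imp (key 2) (key 3)
  have hsolv : Group.IsSolvable (K ⧸ Subgroup.center K) := by
    have hcard : Nat.card (K ⧸ Subgroup.center K) ≠ 0 := Nat.card_pos.ne'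
    obtain ⟨a, m, hm2, hm⟩ := Nat.exists_eq_pow_mul_and_not_dvd hcard 2 (by norm_num)
    have hm0 : m ≠ 0 := fun h => hm2 (h ▸ dvd_zero 2)
    have hm3 : ∀ {p : ℕ}, p.Prime → p ∣ m → p = 3 := by
      intro p hp hpm
      haveI := Fact.mk hp
      obtain ⟨q, hq⟩ := exists_prime_orderOf_dvd_card' (p := p) (G := K ⧸ Subgroup.center K)
        (hm ▸ dvd_mul_of_dvd_right hpm _)
      rcases hord q with h | h <;> have h' := orderOf_dvd_of_pow_eq_one h <;> rw [hq] at h'
      · exact absurd ((Nat.prime_dvd_prime_iff_eq hp Nat.prime_two).1 h' ▸ hpm) hm2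
      · exact (Nat.prime_dvd_prime_iff_eq hp Nat.prime_three).1 h'
    have := Nat.eq_prime_pow_of_unique_prime_dvd hm0 hm3
    exact Lib.Characters.isSolvable_of_card_eq_pow_mul_pow Nat.prime_two Nat.prime_three
      (hm.trans (by rw [← this]))
  haveI := hK.2.2
  exact Lib.Components.IsQuasisimple.quotient_not_isMulCommutative hK.2
    ⟨⟨IsSimpleGroup.comm_iff_isSolvable.2 hsolv⟩⟩

theorem component_normal (hD : IsThreeTranspositionGroup D) {K : Subgroup G} (hK : IsComponent K) :
    K.Normal := by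
  rw [← Subgroup.normalizer_eq_top_iff, eq_top_iff, ← hD.2.2, Subgroup.closure_le]
  exact fun d hd => Lib.Components.mem_normalizer_iff_map_conj.2 (component_normalized hD hK hd)

theorem component_moved (hD : IsThreeTranspositionClass D) {K : Subgroup G} (hK : IsComponent K)
    {d : G} (hd : d ∈ D) : ¬ ∀ g ∈ K, Commute d g := by
  intro h
  obtain ⟨hG, hconj⟩ := class_data hD
  haveI hn := component_normal hG hK
  refine Lib.Components.IsComponent.not_isMulCommutative hK ⟨⟨fun a b => Subtype.ext ?_⟩⟩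
  refine (Subgroup.mem_center_iff.1 (central_of_commute_all hG.2.2 (x := (a : G)) fun e he => ?_) b).symm
  obtain ⟨g, rfl⟩ := hconj d hd e he
  have h1 := (commute_conj (a := g)).2 (h _ (hn.conj_mem _ a.2 g⁻¹))
  convert h1 using 1
  group

theorem component_has_commuting (hD : IsThreeTranspositionClass D) {K : Subgroup G} (hK : IsComponent K)
    {d : G} (hd : d ∈ D) :
    (∃ k ∈ K, Commute d (k * d * k⁻¹) ∧ k * d * k⁻¹ ≠ d) ∧ ∃ k ∈ K, ¬ Commute d (k * d * k⁻¹) := by
  obtain ⟨hG, -⟩ := class_data hD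
  haveI hn := component_normal hG hK
  obtain ⟨hS, hc, hgen⟩ := hG
  constructor
  · by_contra h
    push Not at h
    have hone : ∀ g ∈ K, ∀ h' ∈ K, Commute (g * d * g⁻¹) (h' * d * h'⁻¹) →
        g * d * g⁻¹ = h' * d * h'⁻¹ := by
      intro g hg h' hh hgh
      have h2 := h (g⁻¹ * h') (Subgroup.mul_mem _ (Subgroup.inv_mem _ hg) hh) ((commute_conj (a := g)).1
        (by convert hgh using 1; group))
      calc g * d * g⁻¹ = g * (g⁻¹ * h' * d * (g⁻¹ * h')⁻¹) * g⁻¹ := by rw [h2]
        _ = h' * d * h'⁻¹ := by group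
    obtain ⟨P, hP, hmem⟩ := exists_threeGroup_of_unique hS (E := {y | ∃ g ∈ K, y = g * d * g⁻¹})
      (d := d) (by rintro _ ⟨g, -, rfl⟩; exact hc g d hd) ⟨1, Subgroup.one_mem _, by simp⟩
      (by rintro _ ⟨g, hg, rfl⟩ _ ⟨h', hh, rfl⟩; exact hone g hg h' hh)
      (by
        rintro _ ⟨g, hg, rfl⟩ _ ⟨h', hh, rfl⟩
        exact ⟨g * (d * (g⁻¹ * h') * d⁻¹), Subgroup.mul_mem _ hg (hn.conj_mem
          _ (Subgroup.mul_mem _ (Subgroup.inv_mem _ hg) hh) d), by group⟩)
    refine component_moved hD hK hd (commute_component_of_solvable (inv_sq (hS.1 d hd)) hK ?_)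
    haveI : Fact (Nat.Prime 3) := ⟨Nat.prime_three⟩
    have hle : Subgroup.closure {u : G | ∃ g ∈ K, u = d * (g * d * g⁻¹)} ≤ P := by
      rw [Subgroup.closure_le]
      rintro _ ⟨g, hg, rfl⟩
      exact hmem d ⟨1, Subgroup.one_mem _, by simp⟩ _ ⟨g, hg, rfl⟩
    haveI := (hP.to_le hle).isNilpotent
    exact IsNilpotent.to_isSolvable
  · by_contra h
    push Not at h
    refine component_moved hD hK hd (commute_component_of_solvable (inv_sq (hS.1 d hd)) hK ?_)
    have hcom : ∀ g ∈ K, ∀ h' ∈ K, Commute (g * d * g⁻¹) (h' * d * h'⁻¹) := by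
      intro g hg h' hh
      have := (commute_conj (a := g)).2 (h (g⁻¹ * h') (Subgroup.mul_mem _ (Subgroup.inv_mem _ hg) hh))
      convert this using 1; group
    have habel : IsMulCommutative ↥(Subgroup.closure {u : G | ∃ g ∈ K, u = d * (g * d * g⁻¹)}) := by
      refine Subgroup.isMulCommutative_closure ?_
      rintro _ ⟨g, hg, rfl⟩ _ ⟨h', hh, rfl⟩
      exact ((((Commute.refl d).mul_right (h h' hh)).mul_left
        ((h g hg).symm.mul_right (hcom g hg h' hh)))).eq
    haveI : Group.IsNilpotent ↥(Subgroup.closure {u : G | ∃ g ∈ K, u = d * (g * d * g⁻¹)}) :=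
      Lib.Components.isNilpotent_of_isMulCommutative habel
    exact IsNilpotent.to_isSolvable

theorem component_unique (hD : IsThreeTranspositionClass D) {K M : Subgroup G} (hK : IsComponent K)
    (hM : IsComponent M) : K = M := by
  by_contra hne
  obtain ⟨hG, hconj⟩ := class_data hD
  haveI hKn := component_normal hG hK
  haveI hMn := component_normal hG hM
  obtain ⟨hS, hc, hgen⟩ := hG
  obtain ⟨d, hd⟩ := (hD.2.1 : ∃ d, d ∈ D ∧ D = conjugatesOf d).imp fun _ h => h.1
  obtain ⟨⟨k, hk, hkc, hkne⟩, -⟩ := component_has_commuting hD hK hd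
  obtain ⟨-, m, hm, hmn⟩ := component_has_commuting hD hM hd
  obtain ⟨e, he⟩ : ∃ e, e = m * d * m⁻¹ := ⟨_, rfl⟩
  obtain ⟨d', hd'⟩ : ∃ d', d' = k * d * k⁻¹ := ⟨_, rfl⟩
  rw [← he] at hmn
  rw [← hd'] at hkc hkne
  have heD : e ∈ D := he ▸ hc m d hd
  have hd'D : d' ∈ D := hd' ▸ hc k d hd
  have hdd := inv_sq (hS.1 d hd)
  have hu : d' * d ∈ K := by
    rw [hd', show k * d * k⁻¹ * d = k * (d * k⁻¹ * d⁻¹) by rw [inv_inv_self (hS.1 d hd)]; simp only [mul_assoc]]
    exact K.mul_mem hk (hKn.conj_mem _ (K.inv_mem hk) d)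
  have hv : d * e ∈ M := by
    rw [he, show d * (m * d * m⁻¹) = (d * m * d⁻¹) * m⁻¹ by rw [inv_inv_self (hS.1 d hd)]; simp only [mul_assoc]]
    exact M.mul_mem (hMn.conj_mem _ hm d) (M.inv_mem hm)
  have hcomm : Commute (d' * d) (d * e) := Lib.Components.commute_of_commutator_eq_bot
    (Lib.Components.IsComponent.commutator_eq_bot_of_ne hK hM hne) hu hv
  have hu2 : (d' * d) ^ 2 = 1 := sq_of_commute (hS.1 d' hd'D) (hS.1 d hd) hkc.symm
  have hv3 : (d * e) ^ 3 = 1 := (tt_comm_or_braid hS hd heD hmn).2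
  have hprod : (d' * d) * (d * e) = d' * e := by
    rw [mul_assoc, ← mul_assoc d d e, hdd, one_mul]
  rcases hS.2 d' hd'D e heD with h | h <;> rw [← hprod, hcomm.mul_pow] at h
  · rw [hu2, one_mul] at h
    exact hmn (commute_of_sq (hS.1 d hd) (hS.1 e heD) h)
  · rw [hv3, mul_one, pow_succ, hu2, one_mul] at h
    exact hkne (by rw [eq_inv_of_mul_eq_one_left h, inv_inv_self (hS.1 d hd)])

theorem fitting_le_center (hD : IsThreeTranspositionClass D) (h2 : pCore 2 G ≤ Subgroup.center G)
    (h3 : pCore 3 G ≤ Subgroup.center G) : fittingSubgroup G ≤ Subgroup.center G :=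
  Lib.Cores.fittingSubgroup_le_of_pCore_le fun q hq => by
    by_cases e2 : q = 2
    · exact e2 ▸ h2
    by_cases e3 : q = 3
    · exact e3 ▸ h3
    exact pCore_central_of_five_le (class_data hD).1 hq (by have := hq.two_le; omega)

theorem genFitting_eq (hD : IsThreeTranspositionClass D) (h2 : pCore 2 G ≤ Subgroup.center G)
    (h3 : pCore 3 G ≤ Subgroup.center G) :
    generalizedFittingSubgroup G = layer G ⊔ Subgroup.center G := by
  show layer G ⊔ fittingSubgroup G = _
  rw [le_antisymm (fitting_le_center hD h2 h3) Lib.Components.center_le_fittingSubgroup]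

theorem layer_component (hD : IsThreeTranspositionClass D) (hD2 : ∃ a ∈ D, ∃ b ∈ D, a ≠ b)
    (h2 : pCore 2 G ≤ Subgroup.center G) (h3 : pCore 3 G ≤ Subgroup.center G) :
    IsComponent (layer G) := by
  have hL : layer G ≠ ⊥ := by
    rcases (class_trichotomy hD hD2).2 with h | h | h
    exacts [absurd h2 h.1, absurd h3 h.2.1, h.2.2]
  rw [ne_eq, Lib.Components.layer_eq_bot_iff] at hL
  push Not at hL
  obtain ⟨K, hK⟩ := hL
  have : layer G = K := le_antisymm
    (Lib.Components.layer_le_iff.2 fun M hM => (component_unique hD hM hK).le)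
    (Lib.Components.IsComponent.le_layer hK)
  rwa [this]

theorem component_eq_layer (hD : IsThreeTranspositionClass D) {L : Subgroup G} (hL : IsComponent L) :
    L = layer G :=
  le_antisymm (Lib.Components.IsComponent.le_layer hL)
    (Lib.Components.layer_le_iff.2 fun _ hM => (component_unique hD hM hL).le)

theorem central_of_centralizes_layer (hD : IsThreeTranspositionClass D)
    (h2 : pCore 2 G ≤ Subgroup.center G) (h3 : pCore 3 G ≤ Subgroup.center G) {N : Subgroup G}
    (hN : ⁅layer G, N⁆ = ⊥) : N ≤ Subgroup.center G := by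
  intro x hx
  have hxL : ∀ l ∈ layer G, l * x = x * l := fun l hl =>
    Lib.Components.commute_of_commutator_eq_bot hN hl hx
  have hxF : x ∈ Subgroup.centralizer (generalizedFittingSubgroup G : Set G) := by
    rw [genFitting_eq hD h2 h3, Subgroup.sup_eq_closure, Subgroup.centralizer_closure,
      Subgroup.mem_centralizer_iff]
    rintro u (hu | hu)
    · exact hxL u hu
    · exact (Subgroup.mem_center_iff.1 hu x).symm
  have hxF' := Lib.Components.centralizer_genFitting_le hxF
  rw [genFitting_eq hD h2 h3, Subgroup.mem_sup_of_normal_right] at hxF'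
  obtain ⟨l, hl, c, hc, rfl⟩ := hxF'
  refine Subgroup.mul_mem _ ?_ hc
  have hln : l ∈ Subgroup.centralizer (generalizedFittingSubgroup G : Set G) := by
    have : c ∈ Subgroup.centralizer (generalizedFittingSubgroup G : Set G) :=
      Subgroup.mem_centralizer_iff.2 fun u _ => Subgroup.mem_center_iff.1 hc u
    simpa using Subgroup.mul_mem _ hxF (Subgroup.inv_mem _ this)
  refine fitting_le_center hD h2 h3 (Lib.Components.centralizer_genFitting_le_fittingSubgroup ?_)
  exact hln

theorem mul_mem_layer_of_commutator (hD : IsThreeTranspositionClass D) (hD2 : ∃ a ∈ D, ∃ b ∈ D, a ≠ b)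
    (h2 : pCore 2 G ≤ Subgroup.center G) (h3 : pCore 3 G ≤ Subgroup.center G) {a b : G} (ha : a ∈ D)
    (hb : b ∈ D) (h : a * b * a⁻¹ * b⁻¹ ∈ layer G) : a * b ∈ layer G := by
  obtain ⟨⟨hS, hc, hgen⟩, hconj⟩ := class_data hD
  have hK := layer_component hD hD2 h2 h3
  set L := layer G
  haveI hLn : L.Normal := inferInstance
  obtain ⟨l, hl, hal⟩ : ∃ l ∈ L, ¬ Commute a (l * b * l⁻¹) := by
    by_contra hh
    push Not at hh
    set A := Subgroup.closure {u : G | ∃ g ∈ L, u = b * (g * b * g⁻¹)}
    have hbb := inv_sq (hS.1 b hb)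
    have hAL : A ≤ L := by
      rw [Subgroup.closure_le]
      rintro _ ⟨g, hg, rfl⟩
      have := L.mul_mem (hLn.conj_mem _ hg b) (L.inv_mem hg)
      rw [inv_inv_self (hS.1 b hb)] at this
      show b * (g * b * g⁻¹) ∈ L
      convert this using 1; simp only [mul_assoc]
    have hnorm : ∀ p ∈ L, ∀ u ∈ A, p * u * p⁻¹ ∈ A := by
      intro p hp u hu
      induction hu using Subgroup.closure_induction with
      | mem u hu =>
        obtain ⟨g, hg, rfl⟩ := hu
        have k1 : b * (p * b * p⁻¹) ∈ A := Subgroup.subset_closure ⟨p, hp, rfl⟩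
        have k2 : b * (p * g * b * (p * g)⁻¹) ∈ A := Subgroup.subset_closure ⟨p * g, L.mul_mem hp hg, rfl⟩
        have := A.mul_mem (A.inv_mem k1) k2
        convert this using 1
        rw [mul_inv_rev, mul_inv_rev, mul_inv_rev, inv_inv, inv_inv_self (hS.1 b hb)]
        simp only [mul_assoc]
        rw [← mul_assoc b b, hbb, one_mul]
        simp [mul_assoc]
      | one => simp
      | mul u v _ _ e1 e2 => have := A.mul_mem e1 e2; convert this using 1; group
      | inv u _ e1 => have := A.inv_mem e1; convert this using 1; group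
    have hAn : (A.subgroupOf L).Normal := by
      refine ⟨fun u hu p => ?_⟩
      rw [Subgroup.mem_subgroupOf] at hu ⊢
      exact hnorm p p.2 _ hu
    have hAeq : A = L := by
      rcases Lib.Components.IsQuasisimple.normal_eq_top_or_le_center hK.2 (A.subgroupOf L)
        with ht | hc'
      · exact le_antisymm hAL (Subgroup.subgroupOf_eq_top.1 ht)
      · exfalso
        refine component_moved hD hK hb (commute_component_of_solvable hbb hK ?_)
        have habel : IsMulCommutative A := ⟨⟨fun p q => Subtype.ext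
          (show (p : G) * q = q * p from congrArg (fun x : L => (x : G))
            (Subgroup.mem_center_iff.1 (hc' (x := (⟨q, hAL q.2⟩ : L)) q.2) ⟨p, hAL p.2⟩))⟩⟩
        haveI : Group.IsNilpotent A := Lib.Components.isNilpotent_of_isMulCommutative habel
        exact IsNilpotent.to_isSolvable
    refine component_moved hD hK ha fun g hg => ?_
    have : A ≤ Subgroup.centralizer ({a} : Set G) := by
      rw [Subgroup.closure_le]
      rintro _ ⟨g, hg, rfl⟩
      have hab : Commute a b := by simpa using hh 1 (Subgroup.one_mem _)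
      exact Subgroup.mem_centralizer_singleton_iff.2 (hab.mul_right (hh g hg)).eq.symm
    exact (Subgroup.mem_centralizer_singleton_iff.1 (this (hAeq ▸ hg))).symm
  have hπl : QuotientGroup.mk' L (l * b * l⁻¹) = QuotientGroup.mk' L b := by
    rw [map_mul, map_mul, map_inv,
      show QuotientGroup.mk' L l = 1 from (QuotientGroup.eq_one_iff l).2 hl, one_mul, inv_one, mul_one]
  have hm := mul_mem_of_commute_mod hS ha (hc l b hb) hal (N := L) (by
    rw [hπl]
    have : QuotientGroup.mk' L (a * b * a⁻¹ * b⁻¹) = 1 := (QuotientGroup.eq_one_iff _).2 h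
    rw [map_mul, map_mul, map_mul, map_inv, map_inv, mul_inv_eq_one, mul_inv_eq_iff_eq_mul] at this
    exact this)
  rw [← QuotientGroup.eq_one_iff]
  show QuotientGroup.mk' L (a * b) = 1
  rw [map_mul, ← hπl, ← map_mul]
  exact (QuotientGroup.eq_one_iff _).2 hm

theorem component_structure (hD : IsThreeTranspositionClass D) (hD2 : ∃ a ∈ D, ∃ b ∈ D, a ≠ b)
    (h2 : pCore 2 G ≤ Subgroup.center G) (h3 : pCore 3 G ≤ Subgroup.center G) :
    ∃ L : Subgroup G, L.Normal ∧ IsQuasisimple L ∧
      generalizedFittingSubgroup G = L ⊔ Subgroup.center G ∧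
      (L = ⊤ ∨ ∀ a ∈ D, ∀ b ∈ D, a * b * a⁻¹ * b⁻¹ ∈ L → a⁻¹ * b ∈ L) :=
  ⟨layer G, inferInstance, (layer_component hD hD2 h2 h3).2, genFitting_eq hD h2 h3,
    Or.inr fun a ha b hb h => by
      rw [inv_inv_self ((class_data hD).1.1.1 a ha)]
      exact mul_mem_layer_of_commutator hD hD2 h2 h3 ha hb h⟩

theorem index_two_of_congr (hgen : Subgroup.closure D = ⊤) {L : Subgroup G} [L.Normal]
    (hS : IsThreeTranspositionSet D) {d : G} (hd : d ∈ D) (h : ∀ e ∈ D, d * e ∈ L) : L.index ≤ 2 := by
  have hδ : ∀ q : G ⧸ L, q ∈ Subgroup.zpowers (QuotientGroup.mk' L d) := by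
    intro q
    obtain ⟨g, rfl⟩ := QuotientGroup.mk'_surjective L q
    have hg : g ∈ (Subgroup.zpowers (QuotientGroup.mk' L d)).comap (QuotientGroup.mk' L) :=
      (Subgroup.closure_le _).2 (fun e he => by
        show QuotientGroup.mk' L e ∈ Subgroup.zpowers (QuotientGroup.mk' L d)
        have := (QuotientGroup.eq_one_iff _).2 (h e he)
        have h' : QuotientGroup.mk' L d * QuotientGroup.mk' L e = 1 := by rw [← map_mul]; exact this
        rw [eq_inv_of_mul_eq_one_right h']
        exact Subgroup.inv_mem _ (Subgroup.mem_zpowers _)) (hgen ▸ Subgroup.mem_top g)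
    exact hg
  have htop : Subgroup.zpowers (QuotientGroup.mk' L d) = ⊤ := eq_top_iff.2 (fun q _ => hδ q)
  rw [Subgroup.index_eq_card, ← Subgroup.card_top (G := G ⧸ L), ← htop, Nat.card_zpowers]
  exact Nat.le_of_dvd (by norm_num) (orderOf_dvd_of_pow_eq_one (by
    rw [← map_pow, pow_two, inv_sq (hS.1 d hd), map_one]))

/-- Index at most two gives primitivity. -/
theorem primitive_of_index (hD : IsThreeTranspositionClass D) (hD2 : ∃ a ∈ D, ∃ b ∈ D, a ≠ b)
    (h2 : pCore 2 G ≤ Subgroup.center G) (h3 : pCore 3 G ≤ Subgroup.center G)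
    (hi : (layer G).index ≤ 2) : IsPrimitiveUnderConj D := by
  obtain ⟨⟨hS, hc, hgen⟩, hconj⟩ := class_data hD
  refine ⟨fun a ha b hb => (hconj a ha b hb).imp fun _ h => h.symm, hD2, fun B hB hblock => ?_⟩
  rw [or_iff_not_imp_left, Set.not_subsingleton_iff]
  rintro ⟨d, hd, b, hb, hdb⟩
  let cj : G → Set G → Set G := fun g s => (fun x => g * x * g⁻¹) '' s
  have cj_cj : ∀ g h s, cj g (cj h s) = cj (g * h) s := fun g h s => by
    simp only [cj, Set.image_image]; congr 1; funext x; group
  have cj_one : ∀ s, cj 1 s = s := fun s => by simp [cj]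
  have hshare : ∀ {u v : G} {w}, w ∈ cj u B → w ∈ cj v B → cj u B = cj v B := by
    intro u v w hu hv
    obtain ⟨p, hp, rfl⟩ := hu
    obtain ⟨q, hq, hqe⟩ := hv
    have h : cj (v⁻¹ * u) B = B := (hblock _).resolve_right fun h => by
      refine Set.disjoint_left.1 h ⟨p, hp, rfl⟩ ?_
      show v⁻¹ * u * p * (v⁻¹ * u)⁻¹ ∈ B
      have hqe' : v * q * v⁻¹ = u * p * u⁻¹ := hqe
      rw [show v⁻¹ * u * p * (v⁻¹ * u)⁻¹ = v⁻¹ * (u * p * u⁻¹) * v by group, ← hqe',
        show v⁻¹ * (v * q * v⁻¹) * v = q by group]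
      exact hq
    conv_rhs => rw [← h, cj_cj, mul_inv_cancel_left]
  have hfix : ∀ {g x}, x ∈ B → g * x * g⁻¹ ∈ B → cj g B = B := fun {g x} hx hgx => by
    have := hshare (u := g) (v := 1) ⟨x, hx, rfl⟩ (by rw [cj_one]; exact hgx)
    rwa [cj_one] at this
  have hself : ∀ {x}, x ∈ B → cj x B = B := fun {x} hx => hfix hx (by simpa using hx)
  -- outside a block commutation is constant on it
  have hout : ∀ {x y e}, x ∈ B → y ∈ B → e ∈ D → e ∉ B → Commute e x → Commute e y := by
    intro x y e hx hy he heB hex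
    by_contra hey
    have heB' : cj e B = B := hfix hx (by rwa [hex.eq, mul_inv_cancel_right])
    have h1 : e * y * e⁻¹ ∈ B := heB' ▸ (⟨y, hy, rfl⟩ : e * y * e⁻¹ ∈ cj e B)
    have h2 : y * (e * y * e⁻¹) * y⁻¹ ∈ cj y B := ⟨_, h1, rfl⟩
    rw [hself hy, tt_conj_self hS he, tt_conj_self hS (hB hy), (tt_comm_or_braid hS he (hB hy) hey).1,
      show y * (y * e * y) * y = (y * y) * e * (y * y) by group, inv_sq (hS.1 y (hB hy)), one_mul,
      mul_one] at h2
    exact heB h2
  -- the kernel of the action on the translates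
  let K : Subgroup G :=
    { carrier := {x | ∀ g, cj x (cj g B) = cj g B}
      mul_mem' := fun {x y} hx hy g => by rw [← cj_cj, hy, hx]
      one_mem' := fun g => cj_one _
      inv_mem' := fun {x} hx g => by
        conv_lhs => rw [← hx g, cj_cj, inv_mul_cancel, cj_one] }
  have hKn : K.Normal := ⟨fun x hx u g => by
    calc cj (u * x * u⁻¹) (cj g B) = cj u (cj x (cj (u⁻¹ * g) B)) := by
          rw [cj_cj, cj_cj, cj_cj]; congr 1; group
      _ = cj u (cj (u⁻¹ * g) B) := by rw [hx]
      _ = cj g B := by rw [cj_cj, mul_inv_cancel_left]⟩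
  have hdd : d * d = 1 := inv_sq (hS.1 d (hB hd))
  have hdbK : d * b ∈ K := by
    intro g
    rw [← cj_cj d b]
    by_cases hg : g * d * g⁻¹ ∈ B
    · rw [hfix hd hg, hself hb, hself hd]
    · have ha : g * d * g⁻¹ ∈ cj g B := ⟨d, hd, rfl⟩
      have haD : g * d * g⁻¹ ∈ D := hc g d (hB hd)
      generalize g * d * g⁻¹ = a at ha hg haD
      have hone : ∀ {x}, x ∈ B → Commute a x → cj x (cj g B) = cj g B := by
        intro x _ hax
        rw [cj_cj]
        refine hshare (w := x * a * x⁻¹) ?_ ?_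
        · rw [← cj_cj]; exact ⟨a, ha, rfl⟩
        · rw [← hax.eq, mul_inv_cancel_right]; exact ha
      have htwo : ∀ {x}, x ∈ B → ¬ Commute a x → cj x (cj g B) = cj a B := by
        intro x hx hax
        rw [cj_cj]
        refine hshare (w := a * x * a⁻¹) ?_ ⟨x, hx, rfl⟩
        rw [← cj_cj]
        refine ⟨a, ha, ?_⟩
        show x * a * x⁻¹ = a * x * a⁻¹
        rw [tt_conj_self hS (hB hx), tt_conj_self hS haD, (tt_comm_or_braid hS haD (hB hx) hax).1]
      by_cases hab : Commute a b
      · rw [hone hb hab, hone hd (hout hb hd haD hg hab)]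
      · rw [htwo hb hab, ← htwo hd (fun h => hab (hout hd hb haD hg h)), cj_cj, hdd, cj_one]
  have hK := layer_component hD hD2 h2 h3
  have hLK : layer G ≤ K := by
    rcases Lib.Components.IsComponent.le_or_commutator_eq_bot hK hKn.isSubnormal with h | h
    · exact h
    · exfalso
      have hcen := central_of_centralizes_layer hD h2 h3 h hdbK
      obtain ⟨e, he, hde⟩ : ∃ e ∈ D, ¬ Commute d e := by
        by_contra hh
        push Not at hh
        obtain ⟨p, hp, q, hq, hpq⟩ := hD2
        have hdc : d ∈ Subgroup.center G :=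
          central_of_commute_all hgen fun e he => (hh e he).symm
        obtain ⟨u, hu⟩ := hconj d (hB hd) p hp
        obtain ⟨v, hv⟩ := hconj d (hB hd) q hq
        exact hpq (by rw [hu, hv, Subgroup.mem_center_iff.1 hdc u, Subgroup.mem_center_iff.1 hdc v,
          mul_inv_cancel_right, mul_inv_cancel_right])
      obtain ⟨z, hz⟩ : ∃ z, z = d * b := ⟨_, rfl⟩
      rw [← hz] at hcen
      have hbz : b = d * z := by rw [hz, ← mul_assoc, hdd, one_mul]
      have hdz : Commute d z := Subgroup.mem_center_iff.1 hcen d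
      have hez : Commute e z := Subgroup.mem_center_iff.1 hcen e
      have hz2 : z ^ 2 = 1 := by
        have hb2 := inv_sq (hS.1 b (hB hb))
        rwa [hbz, ← pow_two, hdz.mul_pow, pow_two d, hdd, one_mul] at hb2
      have hbe : ¬ Commute b e := by
        intro h
        apply hde
        have h1 : d = b * z := by
          rw [hbz, mul_assoc, ← pow_two, hz2, mul_one]
        rw [h1]
        exact h.mul_left hez.symm
      have h3' := (tt_comm_or_braid hS (hB hb) he hbe).2
      rw [hbz, mul_assoc, ← hez.eq, ← mul_assoc, (hdz.mul_left hez).mul_pow,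
        (tt_comm_or_braid hS (hB hd) he hde).2, one_mul, pow_succ, hz2, one_mul] at h3'
      exact hdb (by rw [hbz, h3', mul_one])
  let S : Subgroup G :=
    { carrier := {x | cj x B = B}
      mul_mem' := fun {x y} hx hy => by show cj _ B = B; rw [← cj_cj, hy, hx]
      one_mem' := cj_one _
      inv_mem' := fun {x} hx => by
        show cj x⁻¹ B = B
        conv_lhs => rw [← hx, cj_cj, inv_mul_cancel, cj_one] }
  have hmem : ∀ x ∈ D, ∀ y ∈ D, x ∈ layer G → y ∈ layer G := by
    intro x hx y hy hxl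
    obtain ⟨g, rfl⟩ := hconj x hx y hy
    exact (inferInstance : (layer G).Normal).conj_mem x hxl g
  have hDS : Subgroup.closure D ≤ S := (Subgroup.closure_le _).2 fun e he => by
    have he' : d * e ∈ layer G := by
      by_cases hdl : d ∈ layer G
      · exact Subgroup.mul_mem _ hdl (hmem d (hB hd) e he hdl)
      · have hne : (layer G).index ≠ 1 := fun h => hdl (Subgroup.index_eq_one.1 h ▸ Subgroup.mem_top d)
        have hne0 : (layer G).index ≠ 0 := Subgroup.index_ne_zero_of_finite
        exact (Subgroup.mul_mem_iff_of_index_two (by omega)).2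
          ⟨fun h => absurd h hdl, fun h => hmem e he d (hB hd) h⟩
    have h1 := hLK he' 1
    rw [cj_one] at h1
    show cj e B = B
    rw [show e = d * (d * e) by rw [← mul_assoc, hdd, one_mul], ← cj_cj, h1, hself hd]
  refine Set.Subset.antisymm hB fun e he => ?_
  obtain ⟨g, hg⟩ := hconj d (hB hd) e he
  have h1 : cj g B = B := hDS (hgen ▸ Subgroup.mem_top g)
  exact h1 ▸ ⟨d, hd, hg.symm⟩

end Cfsg.Agent.Lib.ThreeTransp
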