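import Cfsg.Prelude.Def_GeometricClasses
import Mathlib

/-!
A quadratic extension field inside a matrix algebra: a generator, its linear algebra, its normaliser and the
form of its adjoint.
-/

set_option autoImplicit false

namespace Cfsg.Agent.Lib.ThreeTransp.QuadSub

open Matrix
open scoped MatrixGroups Matrix

variable {ι : Type} [Fintype ι] [DecidableEq ι] {F : Type*} [Field F]

/-- A generator of a quadratic subfield. -/
structure Gen (K : Subalgebra F (Matrix ι ι F)) (ω : Matrix ι ι F) (s t : F) : Prop where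
  field : Cfsg.Geo.IsFieldSubalgebra 2 K
  mem : ω ∈ K
  sq : ω * ω = s • ω + t • 1
  root : ∀ r : F, r * r ≠ s * r + t
  span : ∀ k, k ∈ K ↔ ∃ a b : F, k = a • 1 + b • ω

theorem exists_gen [Nonempty ι] {K : Subalgebra F (Matrix ι ι F)} (hK : Cfsg.Geo.IsFieldSubalgebra 2 K) :
    ∃ ω s t, Gen K ω s t := by
  classical
  obtain ⟨ω, hω, hns⟩ : ∃ ω ∈ K, ∀ a : F, ω ≠ a • 1 := by
    by_contra hne
    push Not at hne
    have : K ≤ ⊥ := fun k hk => by
      obtain ⟨a, ha⟩ := hne k hk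
      exact Algebra.mem_bot.mpr ⟨a, by rw [Algebra.algebraMap_eq_smul_one, ha]⟩
    have h2 := Submodule.finrank_mono
      (show Subalgebra.toSubmodule K ≤ Subalgebra.toSubmodule (⊥ : Subalgebra F (Matrix ι ι F)) from this)
    rw [Subalgebra.finrank_toSubmodule, Subalgebra.finrank_toSubmodule, hK.finrank_eq, Subalgebra.finrank_bot] at h2
    omega
  have hli : LinearIndependent F ![(1 : Matrix ι ι F), ω] := by
    rw [LinearIndependent.pair_iff]
    intro a b h
    rcases eq_or_ne b 0 with hb | hb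
    · rw [hb, zero_smul, add_zero] at h
      exact ⟨(smul_eq_zero.mp h).resolve_right one_ne_zero, hb⟩
    · refine absurd ?_ (hns (-a / b))
      rw [eq_comm, div_eq_mul_inv, mul_comm, mul_smul, inv_smul_eq_iff₀ hb, neg_smul, neg_eq_iff_add_eq_zero, h]
  have hspan : Submodule.span F (Set.range ![(1 : Matrix ι ι F), ω]) = Subalgebra.toSubmodule K := by
    refine Submodule.eq_of_le_of_finrank_eq (Submodule.span_le.mpr ?_) ?_
    · rintro _ ⟨i, rfl⟩
      fin_cases i
      · exact K.one_mem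
      · exact hω
    · rw [finrank_span_eq_card hli, Fintype.card_fin, Subalgebra.finrank_toSubmodule, hK.finrank_eq]
  have hmem : ∀ k, k ∈ K ↔ ∃ a b : F, k = a • 1 + b • ω := fun k => by
    rw [← Subalgebra.mem_toSubmodule, ← hspan, Submodule.mem_span_range_iff_exists_fun]
    constructor
    · rintro ⟨c, rfl⟩; exact ⟨c 0, c 1, by rw [Fin.sum_univ_two]; rfl⟩
    · rintro ⟨a, b, rfl⟩; exact ⟨![a, b], by rw [Fin.sum_univ_two]; rfl⟩
  obtain ⟨t, s, hst⟩ := (hmem _).mp (K.mul_mem hω hω)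
  refine ⟨ω, s, t, hK, hω, by rw [hst, add_comm], fun r hr => ?_, hmem⟩
  have e : (ω - r • 1) * (ω - (s - r) • 1) = 0 := by
    rw [sub_mul, mul_sub, mul_sub, hst]
    simp only [Matrix.mul_smul, Matrix.smul_mul, mul_one, one_mul, smul_smul]
    rw [show t = r * r - s * r by rw [hr]; ring]
    module
  have hm1 : ω - r • 1 ∈ K := K.sub_mem hω (K.smul_mem K.one_mem r)
  obtain ⟨y, hy, hy'⟩ := hK.inv _ hm1 (sub_ne_zero.mpr (hns r))
  apply hns (s - r)
  rw [← sub_eq_zero]
  have h3 : y * ((ω - r • 1) * (ω - (s - r) • 1)) = 0 := by rw [e, mul_zero]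
  rwa [← mul_assoc, hK.comm y hy _ hm1, hy', one_mul] at h3

variable {K : Subalgebra F (Matrix ι ι F)} {ω : Matrix ι ι F} {s t : F} (G : Gen K ω s t)
include G

theorem Gen.apply_sq (x : ι → F) : ω *ᵥ (ω *ᵥ x) = s • ω *ᵥ x + t • x := by
  rw [Matrix.mulVec_mulVec, G.sq, Matrix.add_mulVec, Matrix.smul_mulVec, Matrix.smul_mulVec, Matrix.one_mulVec]

theorem Gen.norm_ne {a b : F} (h : a ≠ 0 ∨ b ≠ 0) : a * a + s * (a * b) - t * (b * b) ≠ 0 := by
  intro h0
  rcases eq_or_ne b 0 with hb | hb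
  · rw [hb] at h0
    simp only [mul_zero, sub_zero, add_zero] at h0
    exact (h.resolve_right (not_not.mpr hb)) (mul_self_eq_zero.mp h0)
  · refine G.root (-(a / b)) ?_
    field_simp
    linear_combination h0

theorem Gen.t_ne : t ≠ 0 := fun h => G.root 0 (by rw [h]; ring)

/-- Combinations of a vector and its image are unique. -/
theorem Gen.indep {x : ι → F} (hx : x ≠ 0) {a b : F} (h : a • x + b • ω *ᵥ x = 0) : a = 0 ∧ b = 0 := by
  by_contra hab
  rw [not_and_or] at hab
  refine hx ((smul_eq_zero.mp ?_).resolve_left (G.norm_ne hab))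
  have h1 := congrArg (fun y => (a + s * b) • y - b • (ω *ᵥ y)) h
  simp only [Matrix.mulVec_add, Matrix.mulVec_smul, G.apply_sq, Matrix.mulVec_zero, smul_zero, sub_zero] at h1
  rw [← h1]
  module

theorem Gen.ne_smul {x : ι → F} (hx : x ≠ 0) (c : F) : ω *ᵥ x ≠ c • x := fun h =>
  one_ne_zero (G.indep hx (a := -c) (b := 1) (by rw [h, one_smul, neg_smul, neg_add_cancel])).2

/-- The span of a vector and its image. -/
theorem Gen.mem_line {x y : ι → F} :
    y ∈ Submodule.span F {x, ω *ᵥ x} ↔ ∃ a b : F, a • x + b • ω *ᵥ x = y := Submodule.mem_span_pair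

theorem Gen.line_inv {x y : ι → F} (h : y ∈ Submodule.span F {x, ω *ᵥ x}) :
    ω *ᵥ y ∈ Submodule.span F {x, ω *ᵥ x} := by
  obtain ⟨a, b, rfl⟩ := (G.mem_line).mp h
  exact (G.mem_line).mpr ⟨b * t, a + b * s, by
    simp only [Matrix.mulVec_add, Matrix.mulVec_smul, G.apply_sq]
    module⟩

theorem Gen.mem_symm {x y : ι → F} (hy : y ≠ 0) (h : y ∈ Submodule.span F {x, ω *ᵥ x}) :
    x ∈ Submodule.span F {y, ω *ᵥ y} := by
  obtain ⟨a, b, hab⟩ := (G.mem_line).mp h
  have hne : a ≠ 0 ∨ b ≠ 0 := by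
    by_contra hc
    rw [not_or, not_not, not_not] at hc
    rw [hc.1, hc.2, zero_smul, zero_smul, add_zero] at hab
    exact hy hab.symm
  have hN := G.norm_ne hne
  refine (G.mem_line).mpr ⟨(a + s * b) / (a * a + s * (a * b) - t * (b * b)), -b / (a * a + s * (a * b) - t * (b * b)), ?_⟩
  rw [← hab]
  simp only [Matrix.mulVec_add, Matrix.mulVec_smul, G.apply_sq]
  generalize hD : a * a + s * (a * b) - t * (b * b) = D at hN
  match_scalars <;> field_simp <;> first | linear_combination hD | ring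

/-- Two vectors on different lines. -/
theorem Gen.indep_two {x y : ι → F} (hx : x ≠ 0) (hy : y ∉ Submodule.span F {x, ω *ᵥ x}) {a b c d : F}
    (h : a • x + b • ω *ᵥ x + (c • y + d • ω *ᵥ y) = 0) : a = 0 ∧ b = 0 ∧ c = 0 ∧ d = 0 := by
  by_cases hcd : c = 0 ∧ d = 0
  · rw [hcd.1, hcd.2, zero_smul, zero_smul, add_zero, add_zero] at h
    exact ⟨(G.indep hx h).1, (G.indep hx h).2, hcd⟩
  exfalso
  have hy0 : y ≠ 0 := fun e => hy (e ▸ Submodule.zero_mem _)
  set z := c • y + d • ω *ᵥ y with hz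
  have hz0 : z ≠ 0 := fun e => hcd (G.indep hy0 e)
  have hzx : z ∈ Submodule.span F {x, ω *ᵥ x} :=
    (G.mem_line).mpr ⟨-a, -b, by rw [eq_neg_of_add_eq_zero_right h]; module⟩
  have h1 : y ∈ Submodule.span F {z, ω *ᵥ z} := G.mem_symm hz0 ((G.mem_line).mpr ⟨c, d, hz.symm⟩)
  refine hy ((Submodule.span_le.mpr ?_) h1)
  rintro _ (rfl | rfl)
  · exact hzx
  · exact G.line_inv hzx

/-- The roots of the minimal polynomial. -/
theorem Gen.eq_root {k : Matrix ι ι F} (hk : k ∈ K) (h : k * k = s • k + t • 1) : k = ω ∨ k = s • 1 - ω := by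
  rw [or_iff_not_imp_left]
  intro hne
  obtain ⟨y, hy, hy'⟩ := G.field.inv _ (K.sub_mem hk G.mem) (sub_ne_zero.mpr hne)
  have e : (k - ω) * (k - (s • 1 - ω)) = 0 := by
    rw [sub_mul, mul_sub, mul_sub, mul_sub, mul_sub, h, G.sq, G.field.comm ω G.mem k hk]
    simp only [Matrix.mul_smul, mul_one]
    module
  rw [← sub_eq_zero]
  have h3 : y * ((k - ω) * (k - (s • 1 - ω))) = 0 := by rw [e, mul_zero]
  rwa [← mul_assoc, G.field.comm y hy _ (K.sub_mem hk G.mem), hy', one_mul] at h3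

theorem Gen.mem_normalizer_iff {g : GL ι F} : g ∈ Cfsg.Geo.subalgebraNormalizer K ↔
    (g : Matrix ι ι F) * ω = ω * (g : Matrix ι ι F) ∨
      (g : Matrix ι ι F) * ω = (s • 1 - ω) * (g : Matrix ι ι F) := by
  set A : Matrix ι ι F := (g : Matrix ι ι F) with hA
  set B : Matrix ι ι F := ((g⁻¹ : GL ι F) : Matrix ι ι F) with hB
  have hBA : B * A = 1 := by rw [hA, hB, ← Units.val_mul, inv_mul_cancel, Units.val_one]
  have hAB : A * B = 1 := by rw [hA, hB, ← Units.val_mul, mul_inv_cancel, Units.val_one]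
  constructor
  · intro h
    have hk : A * ω * B ∈ K := (h ω).mp G.mem
    have h2 : A * ω * B * (A * ω * B) = s • (A * ω * B) + t • 1 := by
      rw [show A * ω * B * (A * ω * B) = A * ω * (B * A) * ω * B by simp only [mul_assoc], hBA, mul_one,
        mul_assoc A ω ω, G.sq]
      simp only [mul_add, add_mul, Matrix.mul_smul, Matrix.smul_mul, mul_one, hAB]
    have e : A * ω = A * ω * B * A := by rw [mul_assoc (A * ω), hBA, mul_one]
    rcases G.eq_root hk h2 with h3 | h3 <;> rw [h3] at e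
    exacts [Or.inl e, Or.inr e]
  · intro h k
    show k ∈ K ↔ A * k * B ∈ K
    obtain ⟨κ, hκ, e, eB⟩ : ∃ κ ∈ K, A * ω * B = κ ∧ B * ω * A = κ := by
      rcases h with h | h
      · refine ⟨ω, G.mem, by rw [h, mul_assoc, hAB, mul_one], ?_⟩
        rw [mul_assoc, ← h, ← mul_assoc, hBA, one_mul]
      · refine ⟨s • 1 - ω, K.sub_mem (K.smul_mem K.one_mem s) G.mem, by rw [h, mul_assoc, hAB, mul_one], ?_⟩
        have h' : ω * A = s • A - A * ω := by rw [h, sub_mul, Matrix.smul_mul, one_mul]; module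
        rw [mul_assoc, h', mul_sub, Matrix.mul_smul, hBA, ← mul_assoc, hBA, one_mul]
    constructor
    · intro hk
      obtain ⟨a, b, rfl⟩ := (G.span k).mp hk
      simp only [mul_add, add_mul, Matrix.mul_smul, Matrix.smul_mul, mul_one, hAB, e]
      exact K.add_mem (K.smul_mem K.one_mem a) (K.smul_mem hκ b)
    · intro hk
      obtain ⟨a, b, hab⟩ := (G.span _).mp hk
      have : k = B * (A * k * B) * A := by
        rw [show B * (A * k * B) * A = B * A * k * (B * A) by simp only [mul_assoc], hBA, one_mul, mul_one]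
      rw [this, hab]
      simp only [mul_add, add_mul, Matrix.mul_smul, Matrix.smul_mul, mul_one, hBA, eB]
      exact K.add_mem (K.smul_mem K.one_mem a) (K.smul_mem hκ b)

/-- An adjoint-closed, not self-adjoint extension has the conjugation as adjoint. -/
theorem Gen.adjoint {B : (ι → F) →ₗ[F] (ι → F) →ₗ[F] F} (hnd : ∀ y, (∀ x, B x y = 0) → y = 0)
    (hac : ∀ k ∈ K, ∃ k' ∈ K, ∀ u v, B (k *ᵥ u) v = B u (k' *ᵥ v))
    (hnsa : ¬ ∀ k ∈ K, ∀ u v, B (k *ᵥ u) v = B u (k *ᵥ v)) (u v : ι → F) :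
    B (ω *ᵥ u) v = B u (s • v - ω *ᵥ v) := by
  obtain ⟨k', hk', hadj⟩ := hac ω G.mem
  have hsq : k' * k' = s • k' + t • 1 := by
    refine Matrix.ext_of_mulVec_single fun i => sub_eq_zero.mp (hnd _ fun x => ?_)
    rw [map_sub, ← Matrix.mulVec_mulVec, ← hadj, ← hadj, G.apply_sq, Matrix.add_mulVec, Matrix.smul_mulVec,
      Matrix.smul_mulVec, Matrix.one_mulVec, map_add, map_add, map_smul, map_smul, map_smul, map_smul,
      LinearMap.add_apply, LinearMap.smul_apply, LinearMap.smul_apply, hadj, sub_self]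
  rcases G.eq_root hk' hsq with h | h
  · refine absurd (fun k hk x y => ?_) hnsa
    obtain ⟨a, b, rfl⟩ := (G.span k).mp hk
    simp only [Matrix.add_mulVec, Matrix.smul_mulVec, Matrix.one_mulVec, map_add, map_smul, LinearMap.add_apply,
      LinearMap.smul_apply, hadj, h]
  · rw [hadj, h, Matrix.sub_mulVec, Matrix.smul_mulVec, Matrix.one_mulVec]

/-- If `g ω x` is the same combination of `g x` and `ω (g x)` for all `x` then `g` normalises the field. -/
theorem Gen.mem_of_comb [Nonempty ι] {g : GL ι F} {a b : F}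
    (h : ∀ x, (g : Matrix ι ι F) *ᵥ (ω *ᵥ x) = a • (g : Matrix ι ι F) *ᵥ x + b • ω *ᵥ ((g : Matrix ι ι F) *ᵥ x)) :
    g ∈ Cfsg.Geo.subalgebraNormalizer K := by
  set κ : Matrix ι ι F := a • 1 + b • ω with hκdef
  have he : (g : Matrix ι ι F) * ω = κ * (g : Matrix ι ι F) := Matrix.ext_of_mulVec_single fun i => by
    rw [← Matrix.mulVec_mulVec, ← Matrix.mulVec_mulVec, h, hκdef, Matrix.add_mulVec, Matrix.smul_mulVec,
      Matrix.smul_mulVec, Matrix.one_mulVec]
  have hκ : κ ∈ K := (G.span κ).mpr ⟨a, b, hκdef⟩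
  set A : Matrix ι ι F := (g : Matrix ι ι F) with hA
  set B : Matrix ι ι F := ((g⁻¹ : GL ι F) : Matrix ι ι F) with hB
  have hBA : B * A = 1 := by rw [hA, hB, ← Units.val_mul, inv_mul_cancel, Units.val_one]
  have hAB : A * B = 1 := by rw [hA, hB, ← Units.val_mul, mul_inv_cancel, Units.val_one]
  have hκ' : κ = A * ω * B := by rw [he, mul_assoc, hAB, mul_one]
  have h2 : κ * κ = s • κ + t • 1 := by
    rw [hκ', show A * ω * B * (A * ω * B) = A * ω * (B * A) * ω * B by simp only [mul_assoc], hBA, mul_one,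
      mul_assoc A ω ω, G.sq]
    simp only [mul_add, add_mul, Matrix.mul_smul, Matrix.smul_mul, mul_one, hAB]
  refine G.mem_normalizer_iff.mpr ?_
  rcases G.eq_root hκ h2 with h3 | h3
  exacts [Or.inl (he.trans (by rw [h3])), Or.inr (he.trans (by rw [h3]))]

end Cfsg.Agent.Lib.ThreeTransp.QuadSub
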