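import Cfsg.Agent.Lib.Geometry.OrthBasic
import Cfsg.Agent.Lib.ThreeTransp.Invol
import Cfsg.Prelude.Def_FischerSpaces

/-!
Reflections of an orthogonal space over the field with three elements.
-/

set_option autoImplicit false

namespace Cfsg.Agent.Lib.ThreeTransp

open Matrix Cfsg.Agent.Lib.Geometry
open QuadraticMap (polarBilin)

variable {n : ℕ} (Q : QuadraticForm (ZMod 3) (Fin n → ZMod 3))

theorem zmod3_cases (a : ZMod 3) : a = 0 ∨ a = 1 ∨ a = -1 := by revert a; decide

theorem polar_comm' (u v : Fin n → ZMod 3) : polarBilin Q u v = polarBilin Q v u :=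
  quad_polar_comm Q u v

/-- Two reflections with centres of the same norm commute exactly when the centres are orthogonal. -/
theorem reflection_commute_iff {u v : Fin n → ZMod 3} (hu : Q u ≠ 0) (huv : Q u = Q v) (h1 : v ≠ u)
    (h2 : v ≠ -u) :
    Commute (Cfsg.reflectionMatrix (⇑Q) u) (Cfsg.reflectionMatrix (⇑Q) v) ↔
      polarBilin Q u v = 0 := by
  constructor
  · intro h
    by_contra hb
    have e := congrArg (fun M => M *ᵥ u) h.eq
    simp only [← Matrix.mulVec_mulVec, reflectionMatrix_mulVec, map_sub, map_smul, smul_eq_mul,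
      quad_polar_self, ← huv, polar_comm' Q v u] at e
    generalize polarBilin Q u v = b at e hb
    generalize hq : Q u = q at e hu
    rcases zmod3_cases q with rfl | rfl | rfl
    · exact hu rfl
    all_goals
      rcases zmod3_cases b with rfl | rfl | rfl
      · exact hb rfl
      all_goals
        first
          | (apply h1; funext i; have := congrFun e i
             simp only [Pi.sub_apply, Pi.smul_apply, smul_eq_mul] at this
             generalize u i = x at this ⊢; generalize v i = y at this ⊢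
             revert this; revert x y; decide +kernel)
          | (apply h2; funext i; have := congrFun e i
             simp only [Pi.sub_apply, Pi.smul_apply, Pi.neg_apply, smul_eq_mul] at this ⊢
             generalize u i = x at this ⊢; generalize v i = y at this ⊢
             revert this; revert x y; decide +kernel)
  · intro hb
    refine Matrix.toLin'.injective (LinearMap.ext fun x => ?_)
    simp only [Matrix.toLin'_apply, ← Matrix.mulVec_mulVec, reflectionMatrix_mulVec, map_sub,
      map_smul, smul_eq_mul, polar_comm' Q v u, hb, mul_zero, sub_zero]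
    abel

/-- Conjugating a reflection by an isometry. -/
theorem conj_reflection {v : Fin n → ZMod 3} {c : ZMod 3} (hv : Q v = c)
    {g h : Cfsg.isometryGroup (ZMod 3) (⇑Q)}
    (hg : ((h : GL (Fin n) (ZMod 3)) : Matrix (Fin n) (Fin n) (ZMod 3)) = Cfsg.reflectionMatrix (⇑Q) v) :
    Q (((g : GL (Fin n) (ZMod 3)) : Matrix (Fin n) (Fin n) (ZMod 3)) *ᵥ v) = c ∧
      (((g * h * g⁻¹ : Cfsg.isometryGroup (ZMod 3) (⇑Q)) : GL (Fin n) (ZMod 3)) :
          Matrix (Fin n) (Fin n) (ZMod 3)) =
        Cfsg.reflectionMatrix (⇑Q) (((g : GL (Fin n) (ZMod 3)) : Matrix (Fin n) (Fin n) (ZMod 3)) *ᵥ v) := by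
  set A := ((g : GL (Fin n) (ZMod 3)) : Matrix (Fin n) (Fin n) (ZMod 3)) with hA
  have hQg : ∀ x, Q (A *ᵥ x) = Q x := fun x => mem_isometryGroup_iff.mp g.2 x
  refine ⟨(hQg v).trans hv, ?_⟩
  have hpol : ∀ x y, polarBilin Q (A *ᵥ x) (A *ᵥ y) = polarBilin Q x y := fun x y => by
    have := quad_polar_map Q (T := Matrix.toLin' A)
      (fun z => by rw [Matrix.toLin'_apply]; exact hQg z) x y
    simpa using this
  refine Matrix.toLin'.injective (LinearMap.ext fun x => ?_)
  set B := (((g⁻¹ : Cfsg.isometryGroup (ZMod 3) (⇑Q)) : GL (Fin n) (ZMod 3)) :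
    Matrix (Fin n) (Fin n) (ZMod 3)) with hB
  have hAB : A * B = 1 := by
    have : ((g * g⁻¹ : Cfsg.isometryGroup (ZMod 3) (⇑Q)) : GL (Fin n) (ZMod 3)) = 1 := by
      rw [mul_inv_cancel]; rfl
    have := congrArg (fun m : GL (Fin n) (ZMod 3) => (m : Matrix (Fin n) (Fin n) (ZMod 3))) this
    simpa [hA, hB] using this
  obtain ⟨y, rfl⟩ : ∃ y, A *ᵥ y = x := ⟨B *ᵥ x, by rw [Matrix.mulVec_mulVec, hAB, Matrix.one_mulVec]⟩
  have hBA : B * A = 1 := mul_eq_one_comm.1 hAB
  simp only [Matrix.toLin'_apply, Subgroup.coe_mul, Units.val_mul, ← Matrix.mulVec_mulVec, hg,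
    ← hA, ← hB]
  rw [Matrix.mulVec_mulVec _ B A, hBA, Matrix.one_mulVec, reflectionMatrix_mulVec, reflectionMatrix_mulVec,
    hpol, hQg, Matrix.mulVec_sub, Matrix.mulVec_smul]

/-- Orthogonal complements of short anisotropic orthogonal lists contain anisotropic vectors. -/
theorem exists_orth_anisotropic (hQ : (polarBilin Q).Nondegenerate) {k : ℕ}
    (e : Fin k → Fin n → ZMod 3) (he : ∀ i, Q (e i) ≠ 0)
    (horth : ∀ i j, i ≠ j → polarBilin Q (e i) (e j) = 0) (hk : k < n) :
    ∃ y, (∀ i, polarBilin Q (e i) y = 0) ∧ Q y ≠ 0 := by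
  by_contra hne
  push Not at hne
  let φ : (Fin n → ZMod 3) →ₗ[ZMod 3] (Fin k → ZMod 3) := LinearMap.pi fun i => polarBilin Q (e i)
  obtain ⟨y, hy, hy0⟩ : ∃ y, φ y = 0 ∧ y ≠ 0 := by
    have hker : 0 < Module.finrank (ZMod 3) (LinearMap.ker φ) := by
      have h1 := φ.finrank_range_add_finrank_ker
      have h2 := (LinearMap.range φ).finrank_le
      simp only [Module.finrank_fin_fun] at h1 h2
      omega
    obtain ⟨⟨y, hy⟩, hy0⟩ := Module.finrank_pos_iff_exists_ne_zero.1 hker
    exact ⟨y, hy, fun h => hy0 (Subtype.ext h)⟩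
  have hyo : ∀ i, polarBilin Q (e i) y = 0 := fun i => congrFun hy i
  have hW : ∀ w, (∀ i, polarBilin Q (e i) w = 0) → polarBilin Q y w = 0 := by
    intro w hw
    have h1 := hne (y + w) (fun i => by rw [map_add, hyo, hw, add_zero])
    rw [quad_add, hne y hyo, hne w hw, zero_add, zero_add] at h1
    exact h1
  refine hy0 (hQ.1 y fun x => ?_)
  let w := x - ∑ i, ((2 * Q (e i))⁻¹ * polarBilin Q (e i) x) • e i
  have hw : ∀ i, polarBilin Q (e i) w = 0 := by
    intro i
    simp only [w, map_sub, map_sum, map_smul, smul_eq_mul]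
    rw [Finset.sum_eq_single i (fun j _ hji => by rw [horth i j (Ne.symm hji), mul_zero])
      (fun h => absurd (Finset.mem_univ i) h), quad_polar_self]
    have h2 : (2 : ZMod 3) * Q (e i) ≠ 0 := mul_ne_zero (by decide) (he i)
    rw [mul_comm ((2 : ZMod 3) * Q (e i))⁻¹, mul_assoc, inv_mul_cancel₀ h2, mul_one, sub_self]
  have h := hW w hw
  simp only [w, map_sub, map_sum, map_smul, smul_eq_mul, polar_comm' Q y (e _), hyo, mul_zero,
    Finset.sum_const_zero, sub_zero] at h
  exact h

theorem exists_norm (hQ : (polarBilin Q).Nondegenerate) {k : ℕ}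
    (e : Fin k → Fin n → ZMod 3) (he : ∀ i, Q (e i) ≠ 0)
    (horth : ∀ i j, i ≠ j → polarBilin Q (e i) (e j) = 0) (hk : k + 1 < n) {c : ZMod 3} (hc : c ≠ 0) :
    ∃ y, (∀ i, polarBilin Q (e i) y = 0) ∧ Q y = c := by
  obtain ⟨y, hy, hQy⟩ := exists_orth_anisotropic Q hQ e he horth (by omega)
  have hcases : ∀ a : ZMod 3, a ≠ 0 → a = c ∨ a = -c := fun a ha =>
    (show ∀ c a : ZMod 3, c ≠ 0 → a ≠ 0 → a = c ∨ a = -c by decide +kernel) c a hc ha
  rcases hcases _ hQy with h | h
  · exact ⟨y, hy, h⟩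
  obtain ⟨z, hz, hQz⟩ := exists_orth_anisotropic Q hQ (Fin.cons y e)
    (Fin.cases hQy he)
    (fun i j hij => by
      induction i using Fin.cases with
      | zero =>
        induction j using Fin.cases with
        | zero => exact absurd rfl hij
        | succ j => simp only [Fin.cons_zero, Fin.cons_succ]; rw [polar_comm' Q]; exact hy j
      | succ i =>
        induction j using Fin.cases with
        | zero => simp only [Fin.cons_zero, Fin.cons_succ]; exact hy i
        | succ j => simp only [Fin.cons_succ]; exact horth i j (fun e => hij (by rw [e]))) hk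
  have hz0 : polarBilin Q y z = 0 := by simpa using hz 0
  have hze : ∀ i, polarBilin Q (e i) z = 0 := fun i => by simpa using hz i.succ
  rcases hcases _ hQz with h' | h'
  · exact ⟨z, hze, h'⟩
  · refine ⟨y + z, fun i => by rw [map_add, hy, hze, add_zero], ?_⟩
    rw [quad_add, hz0, h, h', add_zero]
    exact (show ∀ c : ZMod 3, -c + -c = c by decide +kernel) c

theorem reflection_class (hn : 5 ≤ n) (hQ : (polarBilin Q).Nondegenerate) (c : ZMod 3) (hc : c ≠ 0) :
    Cfsg.IsThreeTranspositionClass {g : ↥(Cfsg.reflectionSubgroup (⇑Q) c) |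
      (g : ↥(Cfsg.isometryGroup (ZMod 3) (⇑Q))) ∈ Cfsg.reflectionsOfNorm (⇑Q) c} := by
  set R := Cfsg.reflectionsOfNorm (⇑Q) c
  have hsub : ∀ {g}, g ∈ R → g ∈ Cfsg.reflectionSubgroup (⇑Q) c := fun h => Subgroup.subset_closure h
  have hconjR : ∀ g h : ↥(Cfsg.isometryGroup (ZMod 3) (⇑Q)), h ∈ R → g * h * g⁻¹ ∈ R := by
    rintro g h ⟨v, hv, hm⟩
    obtain ⟨h1, h2⟩ := conj_reflection Q hv (g := g) hm
    exact ⟨_, h1, h2⟩
  have hsq : ∀ g ∈ R, g * g = 1 := by
    rintro g ⟨v, hv, hm⟩
    apply Subtype.ext; apply Units.ext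
    simp only [Subgroup.coe_mul, Units.val_mul, hm, Subgroup.coe_one, Units.val_one]
    exact reflectionMatrix_mul_self Q (hv ▸ hc)
  have hne : ∀ g ∈ R, g ≠ 1 := by
    rintro g ⟨v, hv, hm⟩ rfl
    simp only [Subgroup.coe_one, Units.val_one] at hm
    have h := congrArg (fun M => M *ᵥ v) hm
    simp only [Matrix.one_mulVec, reflectionMatrix_apply_self Q (hv ▸ hc)] at h
    refine hc ?_
    have h0 : v = 0 := funext fun i => by
      have := congrFun h i
      simp only [Pi.neg_apply, Pi.zero_apply] at this ⊢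
      generalize v i = x at this ⊢
      revert x; decide +kernel
    rw [← hv, h0, QuadraticMap.map_zero]
  -- the braid relation
  have hkey : ∀ a ∈ R, ∀ b ∈ R, (a * b = b * a) ∨ (a * b * a = b * a * b ∧ ¬ a * b = b * a) := by
    rintro a ⟨u, hu, hma⟩ b ⟨v, hv, hmb⟩
    by_cases hcomm : a * b = b * a
    · exact Or.inl hcomm
    refine Or.inr ⟨?_, hcomm⟩
    have hb0 : polarBilin Q u v ≠ 0 := by
      intro h
      apply hcomm
      by_cases h1 : v = u
      · have : a = b := Subtype.ext (Units.ext (by rw [hma, hmb, h1]))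
        rw [this]
      by_cases h2 : v = -u
      · subst h2
        rw [map_neg, quad_polar_self, hu] at h
        exact absurd ((show ∀ c : ZMod 3, -(2 * c) = 0 → c = 0 by decide +kernel) c h) hc
      have hc' := (reflection_commute_iff Q (hu ▸ hc) (hu.trans hv.symm) h1 h2).2 h
      apply Subtype.ext; apply Units.ext
      simp only [Subgroup.coe_mul, Units.val_mul, hma, hmb]
      exact hc'.eq
    apply Subtype.ext; apply Units.ext
    refine Matrix.toLin'.injective (LinearMap.ext fun x => ?_)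
    simp only [Matrix.toLin'_apply, Subgroup.coe_mul, Units.val_mul, hma, hmb, ← Matrix.mulVec_mulVec,
      reflectionMatrix_mulVec, map_sub, map_smul, smul_eq_mul, quad_polar_self, hu, hv,
      polar_comm' Q v u]
    generalize polarBilin Q u v = t at hb0 ⊢
    funext i
    simp only [Pi.sub_apply, Pi.smul_apply, smul_eq_mul]
    generalize polarBilin Q u x = p
    generalize polarBilin Q v x = q
    generalize u i = a'
    generalize v i = b'
    generalize x i = x'
    clear * - hc hb0
    have hi : ∀ a : ZMod 3, a⁻¹ = a := by decide +kernel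
    rw [hi]
    rcases zmod3_cases c with rfl | rfl | rfl
    · exact absurd rfl hc
    all_goals
      rcases zmod3_cases t with rfl | rfl | rfl
      · exact absurd rfl hb0
      all_goals
        revert p q a' b' x'
        decide +kernel
  -- transitivity
  have hconn : ∀ a ∈ R, ∀ b ∈ R, ∃ g ∈ Cfsg.reflectionSubgroup (⇑Q) c, g * a * g⁻¹ = b := by
    have hnc : ∀ a ∈ R, ∀ b ∈ R, ¬ a * b = b * a →
        ∃ g ∈ Cfsg.reflectionSubgroup (⇑Q) c, g * a * g⁻¹ = b := by
      intro a ha b hb h
      refine ⟨a * b, mul_mem (hsub ha) (hsub hb), ?_⟩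
      rw [((hkey a ha b hb).resolve_left h).1, _root_.mul_inv_rev, inv_eq_of_mul_eq_one_right (hsq b hb),
        inv_eq_of_mul_eq_one_right (hsq a ha)]
      calc b * a * b * (b * a) = b * a * (b * b) * a := by group
        _ = b * (a * a) := by rw [hsq b hb, mul_one, mul_assoc]
        _ = b := by rw [hsq a ha, mul_one]
    rintro a ha b hb
    by_cases h : a * b = b * a
    swap
    · exact hnc a ha b hb h
    by_cases hab : a = b
    · exact ⟨1, one_mem _, by simp [hab]⟩
    obtain ⟨u, hu, hma⟩ := id ha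
    obtain ⟨v, hv, hmb⟩ := id hb
    have h1 : v ≠ u := fun e => hab (Subtype.ext (Units.ext (by rw [hma, hmb, e])))
    have h2 : v ≠ -u := by
      intro e
      apply hab
      refine Subtype.ext (Units.ext (hma.trans (Eq.trans ?_ hmb.symm)))
      refine Matrix.toLin'.injective (LinearMap.ext fun x => ?_)
      rw [e]
      simp [Matrix.toLin'_apply, reflectionMatrix_mulVec]
    have h0 : polarBilin Q u v = 0 := (reflection_commute_iff Q (hu ▸ hc) (hu.trans hv.symm) h1 h2).1 (by
      have := congrArg (fun g : ↥(Cfsg.isometryGroup (ZMod 3) (⇑Q)) =>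
        ((g : GL (Fin n) (ZMod 3)) : Matrix (Fin n) (Fin n) (ZMod 3))) h
      simp only [Subgroup.coe_mul, Units.val_mul, hma, hmb] at this
      exact this)
    obtain ⟨y, hy, hQy⟩ := exists_norm Q hQ ![u, v] (fun i => by fin_cases i <;> simp [hu, hv, hc])
      (fun i j hij => by
        fin_cases i <;> fin_cases j <;> first | exact absurd rfl hij | simpa using h0 | skip
        simpa [polar_comm' Q v u] using h0) (by omega) (neg_ne_zero.2 hc)
    have hyu : polarBilin Q u y = 0 := by simpa using hy 0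
    have hyv : polarBilin Q v y = 0 := by simpa using hy 1
    have hw : Q (u + v + y) = c := by
      rw [quad_add, quad_add, map_add, LinearMap.add_apply, hu, hv, h0, hQy, hyu, hyv]
      ring
    have hwR : reflectionIso Q (u + v + y) (hw ▸ hc) ∈ R := ⟨_, hw, rfl⟩
    obtain ⟨r, hrdef⟩ : ∃ r, r = reflectionIso Q (u + v + y) (hw ▸ hc) := ⟨_, rfl⟩
    rw [← hrdef] at hwR
    have hbu : polarBilin Q u (u + v + y) = 2 * c := by
      rw [map_add, map_add, quad_polar_self, hu, h0, hyu, add_zero, add_zero]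
    have hbv : polarBilin Q v (u + v + y) = 2 * c := by
      rw [map_add, map_add, quad_polar_self, hv, polar_comm' Q v u, h0, hyv, zero_add, add_zero]
    have h2c : (2 : ZMod 3) * c ≠ 0 := mul_ne_zero (by decide) hc
    have hmove : ∀ (p : ↥(Cfsg.isometryGroup (ZMod 3) (⇑Q))) (q q' : Fin n → ZMod 3), Q q = c →
        ((p : GL (Fin n) (ZMod 3)) : Matrix (Fin n) (Fin n) (ZMod 3)) = Cfsg.reflectionMatrix (⇑Q) q →
        polarBilin Q q' q = 0 → polarBilin Q q (u + v + y) = 2 * c →
        polarBilin Q q' (u + v + y) = 2 * c → ¬ p * r = r * p := by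
      intro p q q' hq hmp h1' hb1 hb2 heq
      refine h2c (hb1.symm.trans ((reflection_commute_iff Q (hq ▸ hc) (hq.trans hw.symm) ?_ ?_).1 ?_))
      · intro e; rw [e, h1'] at hb2; exact h2c hb2.symm
      · intro e; rw [e, map_neg, h1', neg_zero] at hb2; exact h2c hb2.symm
      · have h := congrArg (fun g : ↥(Cfsg.isometryGroup (ZMod 3) (⇑Q)) =>
          ((g : GL (Fin n) (ZMod 3)) : Matrix (Fin n) (Fin n) (ZMod 3))) heq
        simp only [Subgroup.coe_mul, Units.val_mul, hmp, hrdef, coe_reflectionIso] at h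
        exact h
    obtain ⟨g1, hg1, e1⟩ := hnc a ha r hwR
      (hmove a u v hu hma (by rw [polar_comm' Q v u, h0]) hbu hbv)
    obtain ⟨g2, hg2, e2⟩ := hnc r hwR b hb (fun e => hmove b v u hv hmb h0 hbv hbu e.symm)
    exact ⟨g2 * g1, mul_mem hg2 hg1, by rw [← e2, ← e1]; group⟩
  obtain ⟨v0, -, hv0⟩ := exists_norm Q hQ (k := 0) ![] (fun i => i.elim0) (fun i => i.elim0) (by omega) hc
  have h0R : reflectionIso Q v0 (hv0 ▸ hc) ∈ R := ⟨_, hv0, rfl⟩
  refine ⟨⟨fun g hg => ?_, fun a ha b hb => ?_⟩, ⟨⟨_, hsub h0R⟩, h0R, Set.ext fun g => ⟨?_, ?_⟩⟩,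
    Subgroup.closure_closure_coe_preimage⟩
  · rw [← Subgroup.orderOf_coe]
    exact orderOf_eq_prime (by rw [pow_two]; exact hsq _ hg) (hne _ hg)
  · rcases hkey _ ha _ hb with h | ⟨h, -⟩
    · left
      apply Subtype.ext
      simp only [SubmonoidClass.coe_pow, Subgroup.coe_mul, Subgroup.coe_one]
      rw [Commute.mul_pow (h : Commute (a : ↥(Cfsg.isometryGroup (ZMod 3) (⇑Q))) _), pow_two, pow_two,
        hsq _ ha, hsq _ hb, one_mul]
    · right
      apply Subtype.ext
      simp only [SubmonoidClass.coe_pow, Subgroup.coe_mul, Subgroup.coe_one]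
      have ha' : (a : ↥(Cfsg.isometryGroup (ZMod 3) (⇑Q))) ∈ R := ha
      have hb' : (b : ↥(Cfsg.isometryGroup (ZMod 3) (⇑Q))) ∈ R := hb
      generalize (a : ↥(Cfsg.isometryGroup (ZMod 3) (⇑Q))) = a' at h ha' ⊢
      generalize (b : ↥(Cfsg.isometryGroup (ZMod 3) (⇑Q))) = b' at h hb' ⊢
      calc (a' * b') ^ 3 = (a' * b' * a') * (b' * a' * b') := by
            rw [pow_succ, pow_two]; simp only [mul_assoc]
        _ = (a' * b' * a') * (a' * b' * a') := by rw [h]
        _ = a' * b' * (a' * a') * (b' * a') := by simp only [mul_assoc]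
        _ = a' * (b' * b') * a' := by rw [hsq a' ha', mul_one]; simp only [mul_assoc]
        _ = 1 := by rw [hsq b' hb', mul_one, hsq a' ha']
  · intro hg
    obtain ⟨x, hx, e⟩ := hconn _ h0R _ hg
    exact isConj_iff.2 ⟨⟨x, hx⟩, Subtype.ext e⟩
  · intro hg
    obtain ⟨x, rfl⟩ := isConj_iff.1 (hg : IsConj _ _)
    exact hconjR _ _ h0R

end Cfsg.Agent.Lib.ThreeTransp
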