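import Mathlib
import Cfsg.Prelude.Def_Classical
import Cfsg.Agent.Lib.ThreeTransp.Model54

/-!
The derived group of `SU₃(2)`.
-/

set_option autoImplicit false
set_option linter.style.haveILetI false

namespace Cfsg.Agent.Lib.ThreeTransp.SU32

open Matrix
open scoped commutatorElement

/-- The field with four elements, `x + yω`. -/
structure F4 where
  /-- coefficient of one -/
  x : Bool
  /-- coefficient of `ω` -/
  y : Bool
deriving DecidableEq

instance : Fintype F4 :=
  Fintype.ofEquiv (Bool × Bool) ⟨fun p => ⟨p.1, p.2⟩, fun a => (a.x, a.y), fun _ => rfl, fun _ => rfl⟩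

instance : Zero F4 := ⟨⟨false, false⟩⟩
instance : One F4 := ⟨⟨true, false⟩⟩
instance : Add F4 := ⟨fun a b => ⟨xor a.x b.x, xor a.y b.y⟩⟩
instance : Neg F4 := ⟨fun a => a⟩
instance : Mul F4 :=
  ⟨fun a b => ⟨xor (a.x && b.x) (a.y && b.y), xor (xor (a.x && b.y) (a.y && b.x)) (a.y && b.y)⟩⟩
instance : Inv F4 := ⟨fun a => a * a⟩

theorem add_assoc' : ∀ a b c : F4, a + b + c = a + (b + c) := by decide
theorem zero_add' : ∀ a : F4, 0 + a = a := by decide
theorem add_comm' : ∀ a b : F4, a + b = b + a := by decide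
theorem mul_assoc' : ∀ a b c : F4, a * b * c = a * (b * c) := by decide
theorem mul_comm' : ∀ a b : F4, a * b = b * a := by decide
theorem one_mul' : ∀ a : F4, 1 * a = a := by decide
theorem left_distrib' : ∀ a b c : F4, a * (b + c) = a * b + a * c := by decide
theorem neg_add_cancel' : ∀ a : F4, -a + a = 0 := by decide
theorem zero_mul' : ∀ a : F4, 0 * a = 0 := by decide

instance : Field F4 where
  add_assoc := add_assoc'
  zero_add := zero_add'
  add_zero a := (add_comm' a 0).trans (zero_add' a)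
  add_comm := add_comm'
  nsmul := nsmulRec
  zsmul := zsmulRec
  neg_add_cancel := neg_add_cancel'
  mul_assoc := mul_assoc'
  one_mul := one_mul'
  mul_one a := (mul_comm' a 1).trans (one_mul' a)
  mul_comm := mul_comm'
  left_distrib := left_distrib'
  right_distrib a b c := by rw [mul_comm', left_distrib', mul_comm' c a, mul_comm' c b]
  zero_mul := zero_mul'
  mul_zero a := (mul_comm' a 0).trans (zero_mul' a)
  exists_pair_ne := ⟨0, 1, by decide⟩
  mul_inv_cancel := by decide
  inv_zero := by decide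
  nnqsmul := _
  qsmul := _

theorem card_F4 : Fintype.card F4 = 4 := rfl

theorem F4.sq_add : ∀ a b : F4, (a + b) * (a + b) = a * a + b * b := by decide

/-- A vector. -/
abbrev V3 : Type := F4 × F4 × F4

/-- A matrix, by columns. -/
abbrev M3 : Type := V3 × V3 × V3

/-- The matrix. -/
def toMat (c : M3) : Matrix (Fin 3) (Fin 3) F4 :=
  !![c.1.1, c.2.1.1, c.2.2.1; c.1.2.1, c.2.1.2.1, c.2.2.2.1; c.1.2.2, c.2.1.2.2, c.2.2.2.2]

/-- The columns. -/
def ofMat (M : Matrix (Fin 3) (Fin 3) F4) : M3 :=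
  ((M 0 0, M 1 0, M 2 0), (M 0 1, M 1 1, M 2 1), (M 0 2, M 1 2, M 2 2))

theorem toMat_ofMat (M : Matrix (Fin 3) (Fin 3) F4) : toMat (ofMat M) = M := by
  ext i j; fin_cases i <;> fin_cases j <;> rfl

theorem ofMat_toMat (c : M3) : ofMat (toMat c) = c := rfl

/-- Linear combination of columns. -/
def comb (A : M3) (b : V3) : V3 :=
  (A.1.1 * b.1 + A.2.1.1 * b.2.1 + A.2.2.1 * b.2.2,
    A.1.2.1 * b.1 + A.2.1.2.1 * b.2.1 + A.2.2.2.1 * b.2.2,
    A.1.2.2 * b.1 + A.2.1.2.2 * b.2.1 + A.2.2.2.2 * b.2.2)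

/-- The product. -/
def mulM (A B : M3) : M3 := (comb A B.1, comb A B.2.1, comb A B.2.2)

theorem ofMat_mul (M N : Matrix (Fin 3) (Fin 3) F4) : ofMat (M * N) = mulM (ofMat M) (ofMat N) := by
  simp [ofMat, mulM, comb, Matrix.mul_apply, Fin.sum_univ_three]

/-- The identity. -/
def oneM : M3 := ((1, 0, 0), (0, 1, 0), (0, 0, 1))

/-- Conjugate transpose. -/
def ctM (A : M3) : M3 :=
  ((A.1.1 * A.1.1, A.2.1.1 * A.2.1.1, A.2.2.1 * A.2.2.1),
    (A.1.2.1 * A.1.2.1, A.2.1.2.1 * A.2.1.2.1, A.2.2.2.1 * A.2.2.2.1),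
    (A.1.2.2 * A.1.2.2, A.2.1.2.2 * A.2.1.2.2, A.2.2.2.2 * A.2.2.2.2))

/-- The hermitian product of two columns. -/
def dotH (u v : V3) : F4 := u.1 * (v.1 * v.1) + u.2.1 * (v.2.1 * v.2.1) + u.2.2 * (v.2.2 * v.2.2)

/-- The determinant. -/
def detM (A : M3) : F4 :=
  A.1.1 * A.2.1.2.1 * A.2.2.2.2 + A.1.1 * A.2.2.2.1 * A.2.1.2.2 + A.2.1.1 * A.1.2.1 * A.2.2.2.2 +
    A.2.1.1 * A.2.2.2.1 * A.1.2.2 + A.2.2.1 * A.1.2.1 * A.2.1.2.2 + A.2.2.1 * A.2.1.2.1 * A.1.2.2

/-- The four field elements. -/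
def els : List F4 := [⟨false, false⟩, ⟨true, false⟩, ⟨false, true⟩, ⟨true, true⟩]

theorem mem_els : ∀ a : F4, a ∈ els := by decide

/-- The unit vectors. -/
def units3 : List V3 :=
  (els.flatMap fun a => els.flatMap fun b => els.map fun c => (a, b, c)).filter fun v => dotH v v == 1

/-- The elements of the group. -/
def suList : List M3 :=
  units3.flatMap fun a => units3.flatMap fun b =>
    if dotH a b == 0 then
      ((units3.filter fun c => dotH a c == 0 && dotH b c == 0).map fun c => (a, b, c)).filter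
        fun g => detM g == 1
    else []

theorem mem_units3 {v : V3} (h : dotH v v = 1) : v ∈ units3 := by
  rw [units3, List.mem_filter, beq_iff_eq]
  refine ⟨?_, h⟩
  simp only [List.mem_flatMap, List.mem_map]
  exact ⟨v.1, mem_els _, v.2.1, mem_els _, v.2.2, mem_els _, rfl⟩

/-- The conditions. -/
def Good (g : M3) : Prop :=
  dotH g.1 g.1 = 1 ∧ dotH g.2.1 g.2.1 = 1 ∧ dotH g.2.2 g.2.2 = 1 ∧ dotH g.1 g.2.1 = 0 ∧
    dotH g.1 g.2.2 = 0 ∧ dotH g.2.1 g.2.2 = 0 ∧ detM g = 1

instance : DecidablePred Good := fun g => by unfold Good; infer_instance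

theorem mem_suList {g : M3} (h : Good g) : g ∈ suList := by
  obtain ⟨h1, h2, h3, h4, h5, h6, h7⟩ := h
  simp only [suList, List.mem_flatMap]
  refine ⟨g.1, mem_units3 h1, g.2.1, mem_units3 h2, ?_⟩
  rw [if_pos (by simpa using h4)]
  simp only [List.mem_filter, List.mem_map, Bool.and_eq_true, beq_iff_eq]
  exact ⟨⟨g.2.2, ⟨mem_units3 h3, h5, h6⟩, rfl⟩, h7⟩

theorem det_toMat (c : M3) : (toMat c).det = detM c := by
  rw [Matrix.det_fin_three]
  simp only [toMat, detM, Matrix.of_apply, Matrix.cons_val', Matrix.cons_val_zero, Matrix.cons_val_one,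
    Matrix.cons_val, Matrix.empty_val']
  have hn : ∀ p q : F4, p - q = p + q := fun p q => rfl
  simp only [hn]

theorem good_of_mem {M : Matrix.SpecialLinearGroup (Fin 3) F4} (h : M ∈ Cfsg.SU 3 F4 2) :
    Good (ofMat (M : Matrix (Fin 3) (Fin 3) F4)) := by
  have key : ∀ i j : Fin 3, dotH ((M.1 0 i, M.1 1 i, M.1 2 i)) ((M.1 0 j, M.1 1 j, M.1 2 j)) =
      if i = j then 1 else 0 := by
    intro i j
    have h' : Cfsg.hermForm 3 F4 2 (M.1 *ᵥ Pi.single i 1) (M.1 *ᵥ Pi.single j 1) =
        Cfsg.hermForm 3 F4 2 (Pi.single i 1) (Pi.single j 1) := h _ _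
    simp only [Cfsg.hermForm, Fin.sum_univ_three, Matrix.mulVec_single_one, Matrix.col_apply] at h'
    simp only [dotH, ← pow_two]
    rw [h']
    fin_cases i <;> fin_cases j <;> simp
  refine ⟨key 0 0, key 1 1, key 2 2, key 0 1, key 0 2, key 1 2, ?_⟩
  rw [← det_toMat, toMat_ofMat]
  exact M.2

theorem mem_of_good {c : M3} (h : Good c) (hd : (toMat c).det = 1) :
    (⟨toMat c, hd⟩ : Matrix.SpecialLinearGroup (Fin 3) F4) ∈ Cfsg.SU 3 F4 2 := by
  obtain ⟨h1, h2, h3, h4, h5, h6, -⟩ := h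
  have hsym : ∀ a b : V3, dotH a b = 0 → dotH b a = 0 := by
    intro a b hab
    have h0 := congrArg (fun t => t * t) hab
    simp only [dotH, F4.sq_add, zero_mul'] at h0
    rw [← h0]
    have h4' : ∀ p : F4, p * p * (p * p) = p := by decide
    simp only [dotH, mul_mul_mul_comm, h4']
    ring
  have h4s := hsym _ _ h4
  have h5s := hsym _ _ h5
  have h6s := hsym _ _ h6
  intro u v
  show Cfsg.hermForm 3 F4 2 (toMat c *ᵥ u) (toMat c *ᵥ v) = _
  simp only [Cfsg.hermForm, Fin.sum_univ_three, Matrix.mulVec, dotProduct, toMat, Matrix.of_apply,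
    Matrix.cons_val', Matrix.cons_val_zero, Matrix.cons_val_one, Matrix.cons_val, pow_two, F4.sq_add]
  simp only [dotH] at h1 h2 h3 h4 h5 h6 h4s h5s h6s
  linear_combination (u 0 * (v 0 * v 0)) * h1 + (u 1 * (v 1 * v 1)) * h2 + (u 2 * (v 2 * v 2)) * h3 +
    (u 0 * (v 1 * v 1)) * h4 + (u 0 * (v 2 * v 2)) * h5 + (u 1 * (v 2 * v 2)) * h6 +
    (u 1 * (v 0 * v 0)) * h4s + (u 2 * (v 0 * v 0)) * h5s + (u 2 * (v 1 * v 1)) * h6s

/-- The element with given columns. -/
def mk (c : M3) (h : Good c) : ↥(Cfsg.SU 3 F4 2) :=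
  ⟨⟨toMat c, by rw [det_toMat]; exact h.2.2.2.2.2.2⟩, mem_of_good h _⟩

/-- The columns of an element. -/
def cols (g : ↥(Cfsg.SU 3 F4 2)) : M3 :=
  ofMat ((g : Matrix.SpecialLinearGroup (Fin 3) F4) : Matrix (Fin 3) (Fin 3) F4)

theorem cols_mk (c : M3) (h : Good c) : cols (mk c h) = c := rfl

theorem cols_mul (g h : ↥(Cfsg.SU 3 F4 2)) : cols (g * h) = mulM (cols g) (cols h) := ofMat_mul _ _

theorem cols_one : cols 1 = oneM := by
  simp [cols, ofMat, oneM]

theorem cols_injective : Function.Injective cols := fun g h e =>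
  Subtype.ext (Subtype.ext (by
    have := congrArg toMat e
    rwa [cols, cols, toMat_ofMat, toMat_ofMat] at this))

/-- The element `ω`. -/
def w : F4 := ⟨false, true⟩
/-- The element `ω²`. -/
def w' : F4 := ⟨true, true⟩

/-- Diagonal generator. -/
def cU : M3 := ((w, 0, 0), (0, w', 0), (0, 0, 1))
/-- Cyclic generator. -/
def cY : M3 := ((0, 1, 0), (0, 0, 1), (1, 0, 0))
/-- Involution. -/
def cA : M3 := ((0, 1, 0), (1, 0, 0), (0, 0, 1))
/-- Second coset representative. -/
def cR1 : M3 := ((1, 1, 1), (1, w, w'), (1, w', w))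
/-- Third coset representative. -/
def cR2 : M3 := ((1, 1, w'), (1, w, w), (w, 1, w))
/-- Fourth coset representative. -/
def cR3 : M3 := ((1, 1, w), (1, w, 1), (w', w, w))
/-- A witness. -/
def cK : M3 := ((1, w, w), (w, 1, w), (1, 1, w'))
/-- A witness. -/
def cL : M3 := ((1, w, 1), (w, 1, 1), (w, w, w'))

theorem good_all : Good cU ∧ Good cY ∧ Good cA ∧ Good cR1 ∧ Good cR2 ∧ Good cR3 ∧ Good cK ∧ Good cL := by
  decide +kernel

/-- The three generators. -/
def gU : ↥(Cfsg.SU 3 F4 2) := mk cU good_all.1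
/-- The three generators. -/
def gY : ↥(Cfsg.SU 3 F4 2) := mk cY good_all.2.1
/-- The three generators. -/
def gA : ↥(Cfsg.SU 3 F4 2) := mk cA good_all.2.2.1
/-- The representatives. -/
def reps : List ↥(Cfsg.SU 3 F4 2) :=
  [1, mk cR1 good_all.2.2.2.1, mk cR2 good_all.2.2.2.2.1, mk cR3 good_all.2.2.2.2.2.1]

/-- The columns of the representatives. -/
def repsC : List M3 := [oneM, cR1, cR2, cR3]

theorem reps_cols : reps.map cols = repsC := by
  simp [reps, repsC, cols_one, cols_mk]

/-- Powers. -/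
def powM (A : M3) : ℕ → M3
  | 0 => oneM
  | n + 1 => mulM (powM A n) A

/-- The subgroup generated by the monomial generators, listed. -/
def monList : List M3 :=
  (List.range 2).flatMap fun e => (List.range 3).flatMap fun i => (List.range 3).flatMap fun j =>
    (List.range 3).map fun k =>
      mulM (powM cA e) (mulM (powM cU i) (mulM (powM cY j)
        (powM (mulM (mulM cU cY) (mulM (powM cU 2) (powM cY 2))) k)))

theorem cover_check : suList.all (fun g => repsC.any fun r => monList.contains (mulM (ctM r) g)) = true := by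
  decide +kernel

theorem normal_check : repsC.all (fun r => [cU, cY, cA].all fun m =>
    monList.contains (mulM (mulM r m) (ctM r))) = true := by decide +kernel

theorem comm_check : repsC.all (fun r => repsC.all fun s =>
    monList.contains (mulM (mulM r s) (mulM (ctM r) (ctM s)))) = true := by decide +kernel

theorem ct_check : repsC.all (fun r => mulM (ctM r) r == oneM && mulM r (ctM r) == oneM) = true := by
  decide +kernel

/-- The subgroup. -/
def mon : Subgroup ↥(Cfsg.SU 3 F4 2) := Subgroup.closure {gA, gU, gY}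

theorem mem_mon_of_list {g : ↥(Cfsg.SU 3 F4 2)} (h : cols g ∈ monList) : g ∈ mon := by
  have hA : gA ∈ mon := Subgroup.subset_closure (by simp)
  have hU : gU ∈ mon := Subgroup.subset_closure (by simp)
  have hY : gY ∈ mon := Subgroup.subset_closure (by simp)
  have hpow : ∀ (x : ↥(Cfsg.SU 3 F4 2)) (n : ℕ), cols (x ^ n) = powM (cols x) n := by
    intro x n
    induction n with
    | zero => exact cols_one
    | succ n ih => rw [pow_succ, cols_mul, ih]; rfl
  simp only [monList, List.mem_flatMap, List.mem_map] at h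
  obtain ⟨e, -, i, -, j, -, k, -, h⟩ := h
  have h' : g = gA ^ e * (gU ^ i * (gY ^ j * (gU * gY * (gU ^ 2 * gY ^ 2)) ^ k)) := by
    refine cols_injective ?_
    simp only [cols_mul, hpow]
    exact h.symm
  rw [h']
  exact mul_mem (pow_mem hA _) (mul_mem (pow_mem hU _) (mul_mem (pow_mem hY _)
    (pow_mem (mul_mem (mul_mem hU hY) (mul_mem (pow_mem hU _) (pow_mem hY _))) _)))

theorem ct_good : repsC.all (fun c => decide (Good (ctM c))) = true := by decide +kernel

theorem cols_inv_rep {r : ↥(Cfsg.SU 3 F4 2)} (h : r ∈ reps) : cols r⁻¹ = ctM (cols r) := by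
  have hc := List.all_eq_true.1 ct_check (cols r) (reps_cols ▸ List.mem_map_of_mem h)
  rw [Bool.and_eq_true, beq_iff_eq, beq_iff_eq] at hc
  have hg : Good (ctM (cols r)) :=
    of_decide_eq_true (List.all_eq_true.1 ct_good (cols r) (reps_cols ▸ List.mem_map_of_mem h))
  have h1 : mk (ctM (cols r)) hg * r = 1 := cols_injective (by rw [cols_mul, cols_mk, hc.1, cols_one])
  rw [inv_eq_of_mul_eq_one_left h1, cols_mk]

theorem exists_rep (g : ↥(Cfsg.SU 3 F4 2)) : ∃ r ∈ reps, r⁻¹ * g ∈ mon := by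
  have h := List.all_eq_true.1 cover_check (cols g) (mem_suList (good_of_mem g.2))
  rw [List.any_eq_true] at h
  obtain ⟨c, hc, hm⟩ := h
  rw [← reps_cols, List.mem_map] at hc
  obtain ⟨r, hr, rfl⟩ := hc
  refine ⟨r, hr, mem_mon_of_list ?_⟩
  rw [cols_mul, cols_inv_rep hr]
  simpa using hm

instance mon_normal : mon.Normal := by
  have key : ∀ r ∈ reps, ∀ x ∈ mon, r * x * r⁻¹ ∈ mon := by
    intro r hr x hx
    have h : mon ≤ Subgroup.comap (MulAut.conj r).toMonoidHom mon := by
      rw [mon, Subgroup.closure_le]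
      intro m hm
      refine mem_mon_of_list ?_
      show cols (r * m * r⁻¹) ∈ monList
      rw [cols_mul, cols_mul, cols_inv_rep hr]
      have h := List.all_eq_true.1 (List.all_eq_true.1 normal_check (cols r)
        (reps_cols ▸ List.mem_map_of_mem hr))
      rcases hm with rfl | rfl | rfl
      · simpa [gA, cols_mk] using h cA (by simp)
      · simpa [gU, cols_mk] using h cU (by simp)
      · simpa [gY, cols_mk] using h cY (by simp)
    exact h hx
  refine ⟨fun x hx g => ?_⟩
  obtain ⟨r, hr, hm⟩ := exists_rep g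
  have e : g * x * g⁻¹ = r * ((r⁻¹ * g) * x * (r⁻¹ * g)⁻¹) * r⁻¹ := by group
  rw [e]
  exact key r hr _ (mul_mem (mul_mem hm hx) (inv_mem hm))

theorem commutator_eq : commutator ↥(Cfsg.SU 3 F4 2) = mon := by
  refine le_antisymm ?_ ?_
  · rw [_root_.commutator_def, Subgroup.commutator_le]
    intro g _ h _
    obtain ⟨r, hr, hm⟩ := exists_rep g
    obtain ⟨s, hs, hn⟩ := exists_rep h
    have hmk : ∀ {a b : ↥(Cfsg.SU 3 F4 2)}, a⁻¹ * b ∈ mon → (b : ↥(Cfsg.SU 3 F4 2) ⧸ mon) = a :=
      fun {a b} hab => (QuotientGroup.eq.2 hab).symm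
    rw [← QuotientGroup.eq_one_iff]
    show QuotientGroup.mk' mon ⁅g, h⁆ = 1
    rw [map_commutatorElement, show QuotientGroup.mk' mon g = QuotientGroup.mk' mon r from hmk hm,
      show QuotientGroup.mk' mon h = QuotientGroup.mk' mon s from hmk hn, ← map_commutatorElement]
    refine (QuotientGroup.eq_one_iff _).2 (mem_mon_of_list ?_)
    rw [commutatorElement_def, mul_assoc (r * s), cols_mul, cols_mul, cols_mul, cols_inv_rep hr,
      cols_inv_rep hs]
    simpa using List.all_eq_true.1 (List.all_eq_true.1 comm_check (cols r)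
      (reps_cols ▸ List.mem_map_of_mem hr)) (cols s) (reps_cols ▸ List.mem_map_of_mem hs)
  · rw [mon, Subgroup.closure_le]
    have hcomm : ∀ (g p q : ↥(Cfsg.SU 3 F4 2)),
        mulM (mulM (cols g) (cols q)) (cols p) = mulM (cols p) (cols q) →
        g ∈ commutator ↥(Cfsg.SU 3 F4 2) := by
      intro g p q h
      rw [← cols_mul, ← cols_mul, ← cols_mul] at h
      have h' := cols_injective h
      rw [show g = ⁅p, q⁆ by
        rw [commutatorElement_def, ← h']; group]
      exact Subgroup.commutator_mem_commutator (Subgroup.mem_top p) (Subgroup.mem_top q)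
    rintro _ (rfl | rfl | rfl)
    · exact hcomm _ (mk cK good_all.2.2.2.2.2.2.1) (mk cL good_all.2.2.2.2.2.2.2) (by
        simp only [gA, cols_mk]; decide +kernel)
    · exact hcomm _ gY (mk cR3 good_all.2.2.2.2.2.1) (by simp only [gU, gY, cols_mk]; decide +kernel)
    · exact hcomm _ (mk ((0, 0, 1), (0, 1, 0), (1, 0, 0)) (by decide +kernel)) gY (by
        simp only [gY, cols_mk]; decide +kernel)

/-- The derived group. -/
theorem exists_rel54 : ∃ a u y : ↥(commutator ↥(Cfsg.SU 3 F4 2)), Rel54 a u y := by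
  rw [commutator_eq]
  refine ⟨⟨gA, Subgroup.subset_closure (by simp)⟩, ⟨gU, Subgroup.subset_closure (by simp)⟩,
    ⟨gY, Subgroup.subset_closure (by simp)⟩, ?_⟩
  have eqOf : ∀ {p q : ↥mon}, cols p.1 = cols q.1 → p = q := fun {p q} h => Subtype.ext (cols_injective h)
  have hU2 : gU⁻¹ = gU * gU := inv_eq_of_mul_eq_one_right (cols_injective (by
    rw [cols_mul, cols_mul, cols_one]; simp only [gU, cols_mk]; decide +kernel))
  have hY2 : gY⁻¹ = gY * gY := inv_eq_of_mul_eq_one_right (cols_injective (by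
    rw [cols_mul, cols_mul, cols_one]; simp only [gY, cols_mk]; decide +kernel))
  have hz : cols (gU * gY * gU⁻¹ * gY⁻¹) = mulM (mulM (mulM cU cY) (mulM cU cU)) (mulM cY cY) := by
    rw [hU2, hY2]; simp only [cols_mul, gU, gY, cols_mk]
  refine ⟨eqOf ?_, eqOf ?_, eqOf ?_, eqOf ?_, eqOf ?_, eqOf ?_, eqOf ?_, ?_, fun h => ?_⟩
  · simp only [Subgroup.coe_mul, Subgroup.coe_one, cols_mul, cols_one, gA, cols_mk]; decide +kernel
  · simp only [pow_succ, pow_zero, one_mul, Subgroup.coe_mul, Subgroup.coe_one, cols_mul, cols_one, gU,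
      cols_mk]; decide +kernel
  · simp only [pow_succ, pow_zero, one_mul, Subgroup.coe_mul, Subgroup.coe_one, cols_mul, cols_one, gY,
      cols_mk]; decide +kernel
  · show cols (gA * gU * gA) = cols gU⁻¹
    rw [hU2]; simp only [cols_mul, gA, gU, cols_mk]; decide +kernel
  · show cols (gA * gY * gA) = cols gY⁻¹
    rw [hY2]; simp only [cols_mul, gA, gY, cols_mk]; decide +kernel
  · show cols (gU * (gU * gY * gU⁻¹ * gY⁻¹)) = cols (gU * gY * gU⁻¹ * gY⁻¹ * gU)
    rw [cols_mul gU, cols_mul _ gU, hz]; simp only [gU, cols_mk]; decide +kernel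
  · show cols (gY * (gU * gY * gU⁻¹ * gY⁻¹)) = cols (gU * gY * gU⁻¹ * gY⁻¹ * gY)
    rw [cols_mul gY, cols_mul _ gY, hz]; simp only [gY, cols_mk]; decide +kernel
  · rw [eq_top_iff]
    refine (Subgroup.closure_closure_coe_preimage (k := {gA, gU, gY})).symm.le.trans
      (Subgroup.closure_mono fun x hx => ?_)
    have hx' : (x : ↥(Cfsg.SU 3 F4 2)) ∈ ({gA, gU, gY} : Set _) := hx
    simp only [Set.mem_insert_iff, Set.mem_singleton_iff] at hx'
    rcases hx' with e | e | e
    · exact Or.inl (Subtype.ext e)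
    · exact Or.inr (Or.inl (Subtype.ext e))
    · exact Or.inr (Or.inr (Subtype.ext e))
  · have h' := congrArg Subtype.val h
    simp only [commutatorElement_def, Subgroup.coe_mul, InvMemClass.coe_inv, Subgroup.coe_one] at h'
    have := congrArg cols h'
    rw [hz, cols_one] at this
    revert this
    decide +kernel

/-- The derived group over any field with four elements. -/
theorem exists_rel54_of_card {F : Type*} [Field F] [Fintype F] (hF : Fintype.card F = 4) :
    ∃ a u y : ↥(commutator ↥(Cfsg.SU 3 F 2)), Rel54 a u y := by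
  haveI : Fact (Nat.Prime 2) := ⟨Nat.prime_two⟩
  obtain ⟨e⟩ : Nonempty (F4 ≃+* F) :=
    ⟨FiniteField.ringEquivOfCardEq (hF.trans card_F4.symm).symm⟩
  let m := Matrix.SpecialLinearGroup.map (n := Fin 3) e.toRingHom
  have hmi : Function.Injective m := fun A B h => by
    refine Subtype.ext (Matrix.ext fun i j => e.injective ?_)
    exact congrFun (congrFun (congrArg Subtype.val h) i) j
  have hms : Function.Surjective m := fun B => by
    refine ⟨Matrix.SpecialLinearGroup.map e.symm.toRingHom B, Subtype.ext (Matrix.ext fun i j => ?_)⟩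
    exact e.apply_symm_apply _
  let E := MulEquiv.ofBijective m ⟨hmi, hms⟩
  have hherm : ∀ u v : Fin 3 → F4,
      Cfsg.hermForm 3 F 2 (fun i => e (u i)) (fun i => e (v i)) = e (Cfsg.hermForm 3 F4 2 u v) := by
    intro u v
    simp [Cfsg.hermForm, map_sum]
  have hmem : ∀ g, g ∈ Cfsg.SU 3 F4 2 ↔ E g ∈ Cfsg.SU 3 F 2 := by
    intro g
    have hmv : ∀ u : Fin 3 → F4, (m g : Matrix (Fin 3) (Fin 3) F) *ᵥ (fun i => e (u i)) =
        fun i => e ((g.1 *ᵥ u) i) := fun u => funext fun i => by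
      simp [m, Matrix.mulVec, dotProduct, map_sum]
    constructor
    · intro hg u v
      have hu : u = fun i => e (e.symm (u i)) := funext fun i => (e.apply_symm_apply _).symm
      have hv : v = fun i => e (e.symm (v i)) := funext fun i => (e.apply_symm_apply _).symm
      show Cfsg.hermForm 3 F 2 ((m g : Matrix (Fin 3) (Fin 3) F) *ᵥ u) ((m g : Matrix (Fin 3) (Fin 3) F) *ᵥ v) = _
      rw [hu, hv, hmv, hmv, hherm, hherm]
      exact congrArg e (hg _ _)
    · intro hg u v
      apply e.injective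
      have h := hg (fun i => e (u i)) (fun i => e (v i))
      change Cfsg.hermForm 3 F 2 ((m g : Matrix (Fin 3) (Fin 3) F) *ᵥ _) ((m g : Matrix (Fin 3) (Fin 3) F) *ᵥ _) = _ at h
      rw [hmv, hmv, hherm, hherm] at h
      exact h
  let ES : ↥(Cfsg.SU 3 F4 2) ≃* ↥(Cfsg.SU 3 F 2) :=
    { toFun := fun g => ⟨E g.1, (hmem g.1).1 g.2⟩
      invFun := fun g => ⟨E.symm g.1, (hmem _).2 (by rw [E.apply_symm_apply]; exact g.2)⟩
      left_inv := fun g => Subtype.ext (E.symm_apply_apply g.1)
      right_inv := fun g => Subtype.ext (E.apply_symm_apply g.1)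
      map_mul' := fun g h => Subtype.ext (map_mul E g.1 h.1) }
  have hmap : (commutator ↥(Cfsg.SU 3 F4 2)).map ES.toMonoidHom = commutator ↥(Cfsg.SU 3 F 2) := by
    rw [_root_.commutator_def, Subgroup.map_commutator, Subgroup.map_top_of_surjective _ ES.surjective,
      _root_.commutator_def]
  let EC := (ES.subgroupMap (commutator _)).trans (MulEquiv.subgroupCongr hmap)
  obtain ⟨a, u, y, h⟩ := exists_rel54
  have hc : EC ⁅u, y⁆ = ⁅EC u, EC y⁆ := map_commutatorElement EC u y
  refine ⟨EC a, EC u, EC y, ?_, ?_, ?_, ?_, ?_, ?_, ?_, ?_, fun e' => h.ne (EC.injective ?_)⟩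
  · rw [← map_mul, h.sq, map_one]
  · rw [← map_pow, h.cubeU, map_one]
  · rw [← map_pow, h.cubeY, map_one]
  · rw [← map_mul, ← map_mul, h.invU, map_inv]
  · rw [← map_mul, ← map_mul, h.invY, map_inv]
  · rw [← hc]; exact h.commU.map EC
  · rw [← hc]; exact h.commY.map EC
  · have := congrArg (Subgroup.map EC.toMonoidHom) h.gen
    rw [MonoidHom.map_closure, Subgroup.map_top_of_surjective _ EC.surjective] at this
    simpa [Set.image_insert_eq] using this
  · rw [hc, map_one, e']

end Cfsg.Agent.Lib.ThreeTransp.SU32
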