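import Cfsg.Agent.Lib.ThreeTransp.CommutingPairs

/-!
Finite groups whose elements square or cube to one are solvable, and a consequence for subnormal
subgroups centralised by a member of a class of 3-transpositions.
-/

set_option autoImplicit false

namespace Cfsg.Agent.Lib.ThreeTransp

open Cfsg

theorem isSolvable_pGroup {p : ℕ} [Fact p.Prime] (B : Type*) [Group B] [Finite B]
    (hB : IsPGroup p B) : Group.IsSolvable B := by
  haveI := hB.isNilpotent
  infer_instance

/-- A finite group in which every element squares or cubes to one is solvable. -/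
theorem isSolvable_of_orders_le_three {A : Type*} [Group A] [Finite A]
    (h : ∀ a : A, a ^ 2 = 1 ∨ a ^ 3 = 1) : Group.IsSolvable A := by
  classical
  set D : Set A := {t | orderOf t = 2} with hDdef
  have hS : IsThreeTranspositionSet D := ⟨fun _ hd => hd, fun a _ b _ => h (a * b)⟩
  haveI : Fact (Nat.Prime 2) := ⟨Nat.prime_two⟩
  haveI : Fact (Nat.Prime 3) := ⟨Nat.prime_three⟩
  -- an involution commuting with two involutions forces them to commute
  have hcen : ∀ t ∈ D, ∀ u ∈ D, ∀ w ∈ D, Commute t u → Commute t w → Commute u w := by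
    intro t ht u hu w hw htu htw
    by_contra hnc
    have h3 := (tt_comm_or_braid hS hu hw hnc).2
    have hc : Commute t (u * w) := htu.mul_right htw
    have ht2 : t ^ 2 = 1 := by rw [← ht]; exact pow_orderOf_eq_one t
    rcases h (t * (u * w)) with hh | hh <;> rw [hc.mul_pow] at hh
    · rw [ht2, one_mul] at hh
      exact hnc (commute_of_sq hu hw hh)
    · rw [h3, mul_one, pow_succ, ht2, one_mul] at hh
      exact inv_ne_one ht hh
  by_cases hcomm : ∀ t ∈ D, ∀ u ∈ D, Commute t u
  · -- the elements squaring to one form a normal 2-subgroup with a 3-group quotient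
    have hmul : ∀ a b : A, a ^ 2 = 1 → b ^ 2 = 1 → (a * b) ^ 2 = 1 := by
      intro a b ha hb
      by_cases ha1 : a = 1
      · simpa [ha1] using hb
      by_cases hb1 : b = 1
      · simpa [hb1] using ha
      rw [(hcomm a (orderOf_eq_prime ha ha1) b (orderOf_eq_prime hb hb1)).mul_pow, ha, hb, one_mul]
    let N : Subgroup A :=
      { carrier := {a | a ^ 2 = 1}
        one_mem' := one_pow 2
        mul_mem' := fun {a b} ha hb => hmul a b ha hb
        inv_mem' := fun {a} ha => by
          show a⁻¹ ^ 2 = 1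
          rw [inv_pow, show a ^ 2 = 1 from ha, inv_one] }
    haveI hN : N.Normal := ⟨fun a ha g => by
      show (g * a * g⁻¹) ^ 2 = 1
      rw [conj_pow, show a ^ 2 = 1 from ha, mul_one, mul_inv_cancel]⟩
    have h2 : IsPGroup 2 N := fun b => ⟨1, Subtype.ext b.2⟩
    have h3 : IsPGroup 3 (A ⧸ N) := by
      intro q
      induction q using QuotientGroup.induction_on with
      | _ a =>
        rcases h a with ha | ha
        · exact ⟨0, by rw [pow_zero, pow_one]; exact (QuotientGroup.eq_one_iff a).2 ha⟩
        · exact ⟨1, by rw [pow_one, ← QuotientGroup.mk_pow, ha, QuotientGroup.mk_one]⟩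
    haveI := isSolvable_pGroup N h2
    haveI := isSolvable_pGroup (A ⧸ N) h3
    exact Group.isSolvable_of_ker_le_range N.subtype (QuotientGroup.mk' N)
      (by rw [QuotientGroup.ker_mk', N.range_subtype])
  · -- otherwise a Sylow 2-subgroup has order at most two
    push Not at hcomm
    obtain ⟨t₀, ht₀, u₀, hu₀, hne₀⟩ := hcomm
    have hkey : ∀ t ∈ D, ∀ v ∈ D, Commute t v → t = v := by
      intro t ht v hv htv
      by_contra htne
      refine hne₀ ?_
      have hall : ∀ u ∈ D, Commute t u := by
        intro u hu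
        by_contra htu
        obtain ⟨φ, hinj, -, -, -⟩ := exists_string_hom hS ht hv hu htne htv htu
          (fun h' => htu (hcen v hv t ht u hu htv.symm h'))
        set w := φ (Equiv.swap 0 1 * Equiv.swap 1 2 * Equiv.swap 2 3) with hw
        rcases h w with hh | hh <;> rw [hw, ← map_pow, ← map_one φ] at hh <;>
          exact absurd (hinj hh) (by decide)
      exact hcen t ht t₀ ht₀ u₀ hu₀ (hall t₀ ht₀) (hall u₀ hu₀)
    obtain ⟨P⟩ := (inferInstance : Nonempty (Sylow 2 A))
    have hP2 : ∀ x ∈ (P : Subgroup A), x ^ 2 = 1 := by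
      intro x hx
      obtain ⟨k, hk⟩ := P.2 ⟨x, hx⟩
      have hk' : x ^ 2 ^ k = 1 := congrArg Subtype.val hk
      rcases h x with hh | hh
      · exact hh
      · have : orderOf x = 1 := Nat.eq_one_of_dvd_coprimes (Nat.Coprime.pow_left k (by norm_num))
          (orderOf_dvd_of_pow_eq_one hk') (orderOf_dvd_of_pow_eq_one hh)
        rw [orderOf_eq_one_iff.1 this, one_pow]
    have hPsub : ∀ x y : (P : Subgroup A), x ≠ 1 → y ≠ 1 → x = y := by
      intro x y hx hy
      have hx' : (x : A) ∈ D := orderOf_eq_prime (hP2 x x.2) fun e => hx (Subtype.ext e)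
      have hy' : (y : A) ∈ D := orderOf_eq_prime (hP2 y y.2) fun e => hy (Subtype.ext e)
      exact Subtype.ext (hkey _ hx' _ hy' (commute_of_sq hx' hy' (hP2 _ (mul_mem x.2 y.2))))
    have hcard : Nat.card (P : Subgroup A) ≤ 2 := by
      let f : ↥(P : Subgroup A) → Fin 2 := fun x => if x = 1 then 0 else 1
      have hinjf : Function.Injective f := fun x y e => by
        by_cases hx : x = 1
        · by_cases hy : y = 1
          · rw [hx, hy]
          · simp [f, hx, hy] at e
        · by_cases hy : y = 1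
          · simp [f, hx, hy] at e
          · exact hPsub x y hx hy
      simpa using Nat.card_le_card_of_injective f hinjf
    obtain ⟨Q⟩ := (inferInstance : Nonempty (Sylow 3 A))
    have hidx : (Q : Subgroup A).index ≤ 2 := by
      have hn : ¬ 3 ∣ (Q : Subgroup A).index := Q.not_dvd_index
      have hdA : (Q : Subgroup A).index ∣ Nat.card A := Subgroup.index_dvd_card _
      have hpos : (Q : Subgroup A).index ≠ 0 := Subgroup.index_ne_zero_of_finite
      obtain ⟨j, hj⟩ : ∃ j, (Q : Subgroup A).index = 2 ^ j := by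
        refine ⟨_, Nat.eq_prime_pow_of_unique_prime_dvd hpos fun {q} hq hqd => ?_⟩
        haveI : Fact q.Prime := ⟨hq⟩
        obtain ⟨x, hx⟩ := exists_prime_orderOf_dvd_card' q (hqd.trans hdA)
        rcases h x with hh | hh
        · exact (Nat.prime_dvd_prime_iff_eq hq Nat.prime_two).1 (hx ▸ orderOf_dvd_of_pow_eq_one hh)
        · exact absurd ((Nat.prime_dvd_prime_iff_eq hq Nat.prime_three).1
            (hx ▸ orderOf_dvd_of_pow_eq_one hh) ▸ hqd) hn
      rw [hj]
      exact (Nat.le_of_dvd Nat.card_pos (P.pow_dvd_card_of_pow_dvd_card (hj ▸ hdA))).trans hcard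
    haveI : (Q : Subgroup A).Normal := by
      rcases Nat.lt_or_ge (Q : Subgroup A).index 2 with hi | hi
      · have h1 : (Q : Subgroup A).index = 1 := by
          have := Subgroup.index_ne_zero_of_finite (H := (Q : Subgroup A)); omega
        rw [Subgroup.index_eq_one.1 h1]; infer_instance
      · exact Subgroup.normal_of_index_eq_two (by omega)
    haveI := isSolvable_pGroup (Q : Subgroup A) Q.2
    have hquo : IsPGroup 2 (A ⧸ (Q : Subgroup A)) := by
      have : Nat.card (A ⧸ (Q : Subgroup A)) = 1 ∨ Nat.card (A ⧸ (Q : Subgroup A)) = 2 := by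
        rw [← Subgroup.index]
        have := Subgroup.index_ne_zero_of_finite (H := (Q : Subgroup A)); omega
      rcases this with h1 | h1
      · exact IsPGroup.of_card (n := 0) (by simpa using h1)
      · exact IsPGroup.of_card (n := 1) (by simpa using h1)
    haveI := isSolvable_pGroup (A ⧸ (Q : Subgroup A)) hquo
    exact Group.isSolvable_of_ker_le_range (Q : Subgroup A).subtype (QuotientGroup.mk' (Q : Subgroup A))
      (by rw [QuotientGroup.ker_mk', Subgroup.range_subtype])

/-- The join of two solvable normal subgroups is solvable. -/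
theorem isSolvable_sup_of_normal {H : Type*} [Group H] (R S : Subgroup H) [R.Normal]
    (hR : Group.IsSolvable R) (hS : Group.IsSolvable S) : Group.IsSolvable (R ⊔ S : Subgroup H) := by
  have hmap : (R ⊔ S).map (QuotientGroup.mk' R) = S.map (QuotientGroup.mk' R) := by
    rw [Subgroup.map_sup, QuotientGroup.map_mk'_self, bot_sup_eq]
  haveI : Group.IsSolvable ((R ⊔ S).map (QuotientGroup.mk' R)) := by
    rw [hmap]
    exact Group.isSolvable_of_surjective (MonoidHom.subgroupMap_surjective (QuotientGroup.mk' R) S)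
  refine Group.isSolvable_of_ker_le_range (Subgroup.inclusion (le_sup_left : R ≤ R ⊔ S))
    ((QuotientGroup.mk' R).subgroupMap (R ⊔ S)) ?_
  intro x hx
  exact ⟨⟨x, (QuotientGroup.eq_one_iff _).1 (congrArg Subtype.val hx)⟩, rfl⟩

variable {G : Type*} [Group G] [Finite G] {D : Set G}

/-- A solvable normal subgroup of a normal subgroup is trivial when there is no solvable normal
subgroup. -/
theorem eq_bot_of_solvable_normal_in_normal
    (hsol : ∀ N : Subgroup G, N.Normal → Group.IsSolvable ↥N → N = ⊥) {N A : Subgroup G}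
    (hN : N.Normal) (hAN : A ≤ N) (hAn : ∀ n ∈ N, ∀ a ∈ A, n * a * n⁻¹ ∈ A)
    [hA : Group.IsSolvable A] : A = ⊥ := by
  classical
  let P : Set (Subgroup N) := {R | R.Normal ∧ Group.IsSolvable R}
  have hAP : A.subgroupOf N ∈ P :=
    ⟨⟨fun a ha n => hAn n n.2 a ha⟩, Group.isSolvable_of_surjective
      (f := (Subgroup.subgroupOfEquivOfLe hAN).symm.toMonoidHom)
      (Subgroup.subgroupOfEquivOfLe hAN).symm.surjective⟩
  obtain ⟨R, hAR, hR⟩ := Set.Finite.exists_le_maximal (Set.toFinite P) hAP
  obtain ⟨hRn, hRs⟩ := hR.prop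
  haveI := hRn
  haveI := hRs
  set R' : Subgroup G := R.map N.subtype with hR'
  haveI : Group.IsSolvable R' := Group.isSolvable_of_surjective
    (f := (R.equivMapOfInjective N.subtype N.subtype_injective).toMonoidHom)
    (R.equivMapOfInjective N.subtype N.subtype_injective).surjective
  have hnorm : R'.Normal := by
    refine ⟨?_⟩
    rintro _ ⟨r, hr, rfl⟩ g
    let c : N ≃* N := MulAut.conjNormal g
    haveI : (R.map c.toMonoidHom).Normal := hRn.map _ c.surjective
    have hs : Group.IsSolvable (R.map c.toMonoidHom) :=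
      Group.isSolvable_of_surjective (MonoidHom.subgroupMap_surjective c.toMonoidHom R)
    have hmem : R ⊔ R.map c.toMonoidHom ∈ P :=
      ⟨inferInstance, isSolvable_sup_of_normal R _ hRs hs⟩
    have hle : R.map c.toMonoidHom ≤ R := le_sup_right.trans (hR.2 hmem le_sup_left)
    exact ⟨c r, hle (Subgroup.mem_map_of_mem _ hr), rfl⟩
  have hbot := hsol R' hnorm inferInstance
  rw [eq_bot_iff]
  intro a ha
  exact hbot ▸ (⟨⟨a, hAN ha⟩, hAR ha, rfl⟩ : a ∈ R')

/-- **No member centralises a nontrivial normal subgroup of a normal subgroup** when the group has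
no solvable normal subgroup. -/
theorem eq_bot_of_subnormal_centralised
    (hsol : ∀ N : Subgroup G, N.Normal → Group.IsSolvable ↥N → N = ⊥)
    (hD : IsThreeTranspositionClass D) {N K : Subgroup G} (hN : N.Normal) (hKN : K ≤ N)
    (hK : ∀ n ∈ N, ∀ k ∈ K, n * k * n⁻¹ ∈ K) {z : G} (hz : z ∈ D) (hzK : ∀ k ∈ K, Commute z k) :
    K = ⊥ := by
  classical
  by_contra hne
  obtain ⟨⟨hS, hc, hgen⟩, hconj⟩ := class_data hD
  -- a minimal nontrivial subgroup of `K` normalised by `N`
  have hP : {A : Subgroup G | A ≠ ⊥ ∧ A ≤ K ∧ ∀ n ∈ N, ∀ a ∈ A, n * a * n⁻¹ ∈ A}.Nonempty :=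
    ⟨K, hne, le_rfl, hK⟩
  obtain ⟨A, hA⟩ := Set.Finite.exists_minimal (Set.toFinite _) hP
  obtain ⟨hA0, hAK, hAn⟩ := hA.prop
  have hAN : A ≤ N := hAK.trans hKN
  -- every member normalises `A`
  have hfix : ∀ d ∈ D, ∀ a ∈ A, d * a * d ∈ A := by
    intro d hd
    by_contra hmv
    push Not at hmv
    obtain ⟨a₀, ha₀, ha₀'⟩ := hmv
    have hdd : d⁻¹ = d := inv_inv_self (hS.1 d hd)
    have hd2 : d * d = 1 := inv_sq (hS.1 d hd)
    have hdd' : ∀ x : G, d * (d * x * d) * d = x := fun x => by
      rw [show d * (d * x * d) * d = (d * d) * x * (d * d) by group, hd2, one_mul, mul_one]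
    let A' : Subgroup G :=
      { carrier := {x | d * x * d ∈ A}
        one_mem' := by
          show d * 1 * d ∈ A
          rw [mul_one, hd2]; exact one_mem A
        mul_mem' := fun {x y} hx hy => by
          show d * (x * y) * d ∈ A
          rw [show d * (x * y) * d = d * x * (d * d) * y * d by rw [hd2, mul_one]; group]
          have hx' : d * x * d ∈ A := hx
          have hy' : d * y * d ∈ A := hy
          simpa [mul_assoc] using mul_mem hx' hy'
        inv_mem' := fun {x} hx => by
          show d * x⁻¹ * d ∈ A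
          have hx' : d * x * d ∈ A := hx
          have := inv_mem hx'
          rwa [mul_inv_rev, mul_inv_rev, hdd, ← mul_assoc] at this }
    have hmem : ∀ {x : G}, x ∈ A' ↔ d * x * d ∈ A := Iff.rfl
    have hA'N : ∀ x ∈ A', x ∈ N := by
      intro x hx
      have h1 := hN.conj_mem _ (hAN (hmem.1 hx)) d
      rwa [hdd, hdd'] at h1
    have hA'n : ∀ n ∈ N, ∀ a ∈ A', n * a * n⁻¹ ∈ A' := by
      intro n hn a ha
      rw [hmem]
      have h1 := hAn _ (hN.conj_mem n hn d) _ (hmem.1 ha)
      rw [hdd] at h1
      convert h1 using 1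
      rw [mul_inv_rev, mul_inv_rev, hdd]
      calc d * (n * a * n⁻¹) * d = d * n * (d * d) * a * (d * d) * n⁻¹ * d := by
            rw [hd2, mul_one, mul_one]; group
        _ = _ := by group
    have hinf : A ⊓ A' = ⊥ := by
      by_contra h0
      have h1 : A ≤ A ⊓ A' := hA.2 ⟨h0, inf_le_left.trans hAK,
        fun n hn a ha => ⟨hAn n hn a ha.1, hA'n n hn a ha.2⟩⟩ inf_le_left
      exact ha₀' (hmem.1 (h1 ha₀).2)
    have hcommute : ∀ a ∈ A, ∀ b ∈ A', Commute a b := by
      intro a ha b hb
      have h1 : a * b * a⁻¹ * b⁻¹ ∈ A ⊓ A' := ⟨by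
        have := mul_mem ha (hAn b (hA'N b hb) a⁻¹ (inv_mem ha))
        simpa [mul_assoc] using this, mul_mem (hA'n a (hAN ha) b hb) (A'.inv_mem hb)⟩
      rw [hinf, Subgroup.mem_bot] at h1
      exact mul_inv_eq_iff_eq_mul.1 (mul_inv_eq_one.1 h1)
    have hord : ∀ a : A, a ^ 2 = 1 ∨ a ^ 3 = 1 := by
      rintro ⟨a, ha⟩
      have hb : d * a * d ∈ A' := hmem.2 (by rwa [hdd'])
      have he := hS.2 d hd (a * d * a⁻¹) (hc a d hd)
      have hprod : d * (a * d * a⁻¹) = (d * a * d) * a⁻¹ := by group
      have hcm : Commute (d * a * d) a⁻¹ := (hcommute a ha _ hb).symm.inv_right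
      have hk : ∀ k : ℕ, ((d * a * d) * a⁻¹) ^ k = 1 → a ^ k = 1 := by
        intro k hk
        rw [hcm.mul_pow, inv_pow, mul_inv_eq_one] at hk
        have h1 : (d * a * d) ^ k ∈ A ⊓ A' := ⟨hk ▸ pow_mem ha k, pow_mem hb k⟩
        rw [hinf, Subgroup.mem_bot] at h1
        rw [← hk, h1]
      rw [hprod] at he
      exact he.imp (fun e => Subtype.ext (hk 2 e)) (fun e => Subtype.ext (hk 3 e))
    haveI := isSolvable_of_orders_le_three hord
    exact hA0 (eq_bot_of_solvable_normal_in_normal hsol hN hAN hAn)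
  -- so `A` is normal and centralised by the conjugates of `z`
  have hAnorm : A.Normal := by
    refine ⟨fun a ha g => ?_⟩
    have hle : Subgroup.closure D ≤ Subgroup.normalizer (A : Set G) := by
      rw [Subgroup.closure_le]
      intro d hd
      rw [SetLike.mem_coe, Subgroup.mem_normalizer_iff]
      intro x
      have hdd := inv_inv_self (hS.1 d hd)
      rw [hdd]
      refine ⟨hfix d hd x, fun hx => ?_⟩
      have := hfix d hd _ hx
      rwa [show d * (d * x * d) * d = (d * d) * x * (d * d) by group, inv_sq (hS.1 d hd), one_mul,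
        mul_one] at this
    exact (Subgroup.mem_normalizer_iff.1 (hle (hgen ▸ Subgroup.mem_top g)) a).1 ha
  have hcen : ∀ a ∈ A, ∀ g : G, Commute g a := by
    intro a ha g
    have hle : Subgroup.closure D ≤ Subgroup.centralizer ({a} : Set G) := by
      rw [Subgroup.closure_le]
      intro d hd
      obtain ⟨k, rfl⟩ := hconj z hz d hd
      have h1 := (commute_conj (a := k)).2 (hzK _ (hAK (hAnorm.conj_mem a ha k⁻¹)))
      rw [show k * (k⁻¹ * a * k⁻¹⁻¹) * k⁻¹ = a by group] at h1
      exact Subgroup.mem_centralizer_singleton_iff.2 h1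
    exact Subgroup.mem_centralizer_singleton_iff.1 (hle (hgen ▸ Subgroup.mem_top g))
  haveI : Group.IsSolvable A := Group.isSolvable_of_comm fun a b => Subtype.ext (hcen b b.2 a)
  exact hA0 (hsol A hAnorm inferInstance)

end Cfsg.Agent.Lib.ThreeTransp
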