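import Cfsg.Agent.Lib.Geometry.Dickson.Generate

/-!
Subgroups of `SL₂` with many upper transvections and one lower one, with a smaller bound in characteristic two.
-/

set_option autoImplicit false

namespace Cfsg.Agent.Lib.ThreeTransp.SubOrth

open Matrix
open scoped Matrix MatrixGroups
open Cfsg.Agent.Lib.Geometry.Dickson
open Cfsg.Agent.Lib.SL2Trace (tr tr_eq mem_center_iff)

variable {F : Type*} [Field F] [Fintype F]

local notation "SL2" => Matrix.SpecialLinearGroup (Fin 2) F
local notation "zz" => Nat.card (Subgroup.center (Matrix.SpecialLinearGroup (Fin 2) F))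

/-- The transvection parameters form a subfield. -/
theorem exists_subfield (G : Subgroup (Matrix.SpecialLinearGroup (Fin 2) F)) (hZ : Subgroup.center SL2 ≤ G)
    (hlo : lower 1 ∈ G) (hA : 120 < Nat.card (upperParams G) ∨ ((2 : F) = 0 ∧ 60 < Nat.card (upperParams G))) :
    ∃ K : Subfield F, (∀ x, upper x ∈ G ↔ x ∈ K) ∧ ∀ x, lower x ∈ G ↔ x ∈ K := by
  classical
  obtain ⟨p, hp⟩ := CharP.exists F
  haveI : Fact p.Prime := ⟨CharP.char_is_prime F p⟩
  obtain ⟨lam, hup, hlam⟩ : ∃ lam, upper lam ∈ G ∧ lam ≠ 0 := by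
    by_contra h
    push Not at h
    haveI : Subsingleton (upperParams G) := ⟨fun a b => Subtype.ext ((h a.1 a.2).trans (h b.1 b.2).symm)⟩
    have := (Finite.card_le_one_iff_subsingleton (α := upperParams G)).mpr inferInstance
    rcases hA with hA | hA <;> omega
  have huZ := upper_notMem_center hlam
  have hwZ := lower_notMem_center (one_ne_zero (α := F))
  have htr : ∀ x : F, tr (upper x) ^ 2 = 4 := fun x => by rw [tr_upper]; norm_num
  have hzz : zz ≤ 2 := by
    have hsub : (Subgroup.center SL2 : Set SL2) ⊆ {1, -1} := fun z hz => by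
      rcases mem_center_iff.mp hz with h | h <;> simp [h]
    calc zz = (Subgroup.center SL2 : Set SL2).ncard := Nat.card_coe_set_eq _
      _ ≤ ({1, -1} : Set SL2).ncard := Set.ncard_le_ncard hsub (Set.toFinite _)
      _ ≤ ({-1} : Set SL2).ncard + 1 := Set.ncard_insert_le _ _
      _ = 2 := by rw [Set.ncard_singleton]
  have hzz' : (2 : F) = 0 → zz ≤ 1 := fun h2 => by
    refine Finite.card_le_one_iff_subsingleton.mpr ⟨fun a b => ?_⟩
    have h1 : (-1 : SL2) = 1 := sl_ext (by
      rw [Matrix.SpecialLinearGroup.coe_neg, Matrix.SpecialLinearGroup.coe_one]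
      ext i j
      have : ∀ x : F, -x = x := fun x => by linear_combination -x * h2
      simp [this])
    refine Subtype.ext ?_
    rcases mem_center_iff.mp a.2 with ha | ha <;> rcases mem_center_iff.mp b.2 with hb | hb <;> simp [ha, hb, h1]
  have hcard : Nat.card (upperParams G) ≤ Nat.card G := by
    refine Nat.card_le_card_of_injective (fun x => (⟨upper x.1, x.2⟩ : G)) fun x y h => ?_
    have := congrArg (fun g : G => (g.1 : Matrix (Fin 2) (Fin 2) F) 0 1) h
    exact Subtype.ext (by simpa [coe_upper] using this)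
  have htorus : ∀ y, y ∉ Subgroup.center SL2 → tr y ^ 2 ≠ 4 →
      Nat.card (upperParams G) * Nat.card (cell G y) ≤ Nat.card G := by
    intro y hy ht
    rw [← Nat.card_prod]
    refine Nat.card_le_card_of_injective
      (fun z => (⟨upper z.1.1 * z.2.1, G.mul_mem z.1.2 z.2.2.2⟩ : G)) ?_
    rintro ⟨a, c⟩ ⟨b, d⟩ h
    have h1 : upper (a.1 - b.1) = d.1 * c.1⁻¹ := by
      have e : upper a.1 * c.1 = upper b.1 * d.1 := congrArg Subtype.val h
      rw [eq_mul_inv_iff_mul_eq, sub_eq_neg_add, ← upper_mul, ← upper_inv, mul_assoc, e, inv_mul_cancel_left]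
    have h2 : a.1 = b.1 := by
      by_contra hne
      exact tr_sq_ne_of_cell G hy ht (h1 ▸ (cell G y).mul_mem d.2 ((cell G y).inv_mem c.2))
        (upper_notMem_center (sub_ne_zero.mpr hne)) (htr _)
    rw [h2, sub_self, upper_zero, eq_comm, mul_inv_eq_one] at h1
    exact Prod.ext (Subtype.ext h2) (Subtype.ext h1.symm)
  rcases shape G p hZ with h | ⟨y, hy, hyZ, ht, h⟩ | ⟨y, a, hy, ht, h⟩ | ⟨y, hy, hyZ, ht, h⟩ | ⟨y, hy, ht, h⟩ |
    ⟨y, hy, ht, h⟩ | ⟨y₂, y₃, y₅, hy₂, hy₃, hy₅, hcover, h⟩ | ⟨y, r, k, hy, hyZ, ht, hr, hc, h⟩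
  · exact absurd (h hup) huZ
  · exfalso
    have h1 := htorus y hyZ ht
    rw [h] at h1
    have := Nat.le_of_mul_le_mul_right (h1.trans_eq (one_mul _).symm) Nat.card_pos
    omega
  · exfalso
    obtain ⟨-, hyZ, hc, hn⟩ := hy
    have h1 := htorus y hyZ ht
    rw [h] at hn
    rw [hn, show zz * (2 * a) = 2 * Nat.card (cell G y) by rw [hc]; ring] at h1
    have := Nat.le_of_mul_le_mul_right h1 Nat.card_pos
    omega
  · exfalso
    obtain ⟨v, ε, hv, hε, hty, hyv⟩ := exists_fixed_vector ht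
    have hN := mem_cellNorm_unipotent_iff G hy hyZ hv hε hty hyv
    rw [h] at hN
    obtain ⟨-, d, hd⟩ := (hN _).mp hup
    obtain ⟨-, e, he⟩ := (hN _).mp hlo
    obtain ⟨s, hs⟩ := mem_line_of_eigen huZ (show (![1, 0] : Fin 2 → F) ≠ 0 from
      fun h => one_ne_zero (α := F) (congrFun h 0)) (one_mul 1) (by rw [tr_upper, mul_one]) (upper_mulVec lam) hd
    obtain ⟨t, ht'⟩ := mem_line_of_eigen hwZ (show (![0, 1] : Fin 2 → F) ≠ 0 from
      fun h => one_ne_zero (α := F) (congrFun h 1)) (one_mul 1) (by rw [tr_lower, mul_one]) (lower_mulVec 1) he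
    apply hv
    rw [hs] at ht' ⊢
    have := congrFun ht' 0
    simp at this
    rw [this, zero_smul]
  · exfalso; rw [h] at hcard; rcases hA with hA | ⟨h2, hA⟩; (· omega); have := hzz' h2; omega
  · exfalso; rw [h] at hcard; rcases hA with hA | ⟨h2, hA⟩; (· omega); have := hzz' h2; omega
  · exfalso; rw [h] at hcard; rcases hA with hA | ⟨h2, hA⟩; (· omega); have := hzz' h2; omega
  · have e := unipotent_cls_eq G p hZ hy hup hyZ huZ ht (htr lam)
    obtain ⟨K, -, -, hu, hl, -⟩ := subfield_normal G p hZ hlam hup hlo ((data_of_cls_eq G e).1.symm.trans hc) (e ▸ h)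
    exact ⟨K, hu, hl⟩

end Cfsg.Agent.Lib.ThreeTransp.SubOrth
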