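import Cfsg.Agent.Lib.ThreeTransp.SubOrthSeed
import Cfsg.Agent.Lib.ThreeTransp.SubOrthDickson

/-!
The stabiliser in `omegaGL` of a rational structure over a subfield of prime index is maximal, in dimension at
least thirteen.
-/

set_option autoImplicit false

namespace Cfsg.Agent.Lib.ThreeTransp.SubOrth

open Matrix QuadraticMap
open Cfsg.Agent.Lib.MaxSub
open Cfsg.Agent.Lib.MaxSub.OrthSplit (InE finrank_inf_ker)
open Cfsg.Agent.Lib.ThreeTransp.DecompOrth (inE_zero inE_neg inE_add inE_flip)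
open Cfsg.Agent.Lib.Geometry (quad_add quad_sub quad_smul quad_polar_self quad_polar_comm)
open Cfsg.Agent.Lib.Geometry.Dickson (upper lower upperParams coe_upper coe_lower)
open scoped MatrixGroups Matrix

attribute [-simp] QuadraticMap.polarBilin_apply_apply

variable {ι : Type} [Fintype ι] [DecidableEq ι] {F : Type*} [Field F] {Q : QuadraticForm F (ι → F)}
  {M : Subgroup (GL ι F)}

/-- The matrices of `SL₂` by which isometries in `M` act on the plane of `w` and `v`. -/
def plane (Q : QuadraticForm F (ι → F)) (M : Subgroup (GL ι F)) (w v : ι → F) :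
    Subgroup (Matrix.SpecialLinearGroup (Fin 2) F) where
  carrier := {S | ∃ m ∈ M, m ∈ Cfsg.isometryGroup F ⇑Q ∧ (m : Matrix ι ι F) *ᵥ w = S 0 0 • w + S 1 0 • v ∧
    (m : Matrix ι ι F) *ᵥ v = S 0 1 • w + S 1 1 • v}
  mul_mem' := by
    rintro S T ⟨g, hg, hgi, hgw, hgv⟩ ⟨h, hh, hhi, hhw, hhv⟩
    refine ⟨g * h, M.mul_mem hg hh, mul_mem hgi hhi, ?_, ?_⟩ <;>
      simp only [Units.val_mul, ← Matrix.mulVec_mulVec, hhw, hhv, Matrix.mulVec_add, Matrix.mulVec_smul, hgw, hgv,
        Matrix.SpecialLinearGroup.coe_mul, Matrix.mul_apply, Fin.sum_univ_two] <;> module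
  one_mem' := ⟨1, M.one_mem, one_mem _, by simp, by simp⟩
  inv_mem' := by
    rintro S ⟨g, hg, hgi, hgw, hgv⟩
    have hd : (S 0 0 : F) * S 1 1 - S 0 1 * S 1 0 = 1 := by rw [← Matrix.det_fin_two]; exact S.2
    refine ⟨g⁻¹, M.inv_mem hg, inv_mem hgi, ?_, ?_⟩ <;>
    · apply Matrix.mulVec_injective_iff_isUnit.mpr g.isUnit
      simp only [Matrix.mulVec_mulVec, ← Units.val_mul, mul_inv_cancel, Units.val_one, Matrix.one_mulVec,
        Matrix.mulVec_add, Matrix.mulVec_smul, hgw, hgv, Matrix.SpecialLinearGroup.coe_inv, Matrix.adjugate_fin_two,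
        Matrix.of_apply, Matrix.cons_val', Matrix.cons_val_zero, Matrix.cons_val_one, Matrix.empty_val',
        Matrix.cons_val_fin_one]
      match_scalars <;> first | linear_combination hd | linear_combination -hd | ring

variable {F₀ : Subfield F} {P : GL ι F} {r : ℕ}

set_option quotPrecheck false in
local notation "E" => emb F₀ P

variable (F₀ P) in
/-- A multiple of a rational vector. -/
def Line (v : ι → F) : Prop := ∃ (c : F) (u : ι → F₀), v = c • emb F₀ P u

variable [Finite F]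

/-- The rational Eichler elements are in the subfield group and in `omegaGL`. -/
theorem Rs.base (R : Rs Q F₀ P r) (h : Cfsg.Geo.subfieldSubgroup F₀ P ⊓ Cfsg.Geo.omegaGL ⇑Q ≤ M) :
    Base Q F₀ P M := fun u x hu hx => ⟨hu, hx, h ⟨by
  refine mem_subfieldSubgroup fun y hy => ?_
  obtain ⟨v, rfl⟩ := exists_emb hy
  rw [Orth.eichGL_mulVec]
  exact ((ratVec_emb v).add ((ratVec_emb x).smul (R.hp v u))).sub
    ((ratVec_emb u).smul (F₀.add_mem (R.hp v x) (F₀.mul_mem (R.hq x) (R.hp v u)))),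
  Orth.eichGL_mem_omega R.hN (by have := R.hn; omega) hu hx⟩⟩

/-- An element outside the subfield group moves some rational singular vector off the rational lines. -/
theorem Rs.exists_notLine (R : Rs Q F₀ P r) {g : GL ι F} (hg : g ∉ Cfsg.Geo.subfieldSubgroup F₀ P) :
    ∃ u, Q (E u) = 0 ∧ ¬ Line F₀ P ((g : Matrix ι ι F) *ᵥ E u) := by
  classical
  haveI : Nonempty ι := Fintype.card_pos_iff.mp (by have := R.hn; omega)
  by_contra hall
  push Not at hall
  refine hg ?_
  have ginj : Function.Injective (g : Matrix ι ι F).mulVec := Matrix.mulVec_injective_iff_isUnit.mpr g.isUnit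
  have gne : ∀ {u : ι → F₀}, u ≠ 0 → (g : Matrix ι ι F) *ᵥ E u ≠ 0 := fun hu h =>
    emb_ne_zero hu (ginj (h.trans (Matrix.mulVec_zero _).symm))
  have pair : ∀ u v : ι → F₀, Q (E u) = 0 → Q (E v) = 0 → polarBilin Q (E u) (E v) = 0 →
      v ∉ Submodule.span F₀ {u} → u ≠ 0 → ∀ (c : F) (u' : ι → F₀), (g : Matrix ι ι F) *ᵥ E u = c • E u' →
      ∃ v', (g : Matrix ι ι F) *ᵥ E v = c • E v' := by
    intro u v hQu hQv huv hind hu0 c u' hu'
    obtain ⟨d, v', hv'⟩ := hall v hQv
    obtain ⟨e, x, hx⟩ := hall (u + v) (by rw [emb_add, quad_add, hQu, hQv, huv, add_zero, add_zero])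
    have hv0 : v ≠ 0 := fun h => hind (by rw [h]; exact Submodule.zero_mem _)
    have hc0 : c ≠ 0 := fun h => gne hu0 (by rw [hu', h, zero_smul])
    have hd0 : d ≠ 0 := fun h => gne hv0 (by rw [hv', h, zero_smul])
    have hu'0 : u' ≠ 0 := fun h => gne hu0 (by rw [hu', h, emb_zero, smul_zero])
    have hsep : u' ∉ Submodule.span F₀ {v'} ∧ v' ∉ Submodule.span F₀ {u'} := by
      have key : ∀ k : F₀, k • u' ≠ v' := fun k hk => by
        have h1 : (g : Matrix ι ι F) *ᵥ E v = (g : Matrix ι ι F) *ᵥ ((d * k / c) • E u) := by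
          rw [Matrix.mulVec_smul, hv', hu', smul_smul, div_mul_cancel₀ _ hc0, ← hk, emb_smul, smul_smul]
        have h2 := ginj h1
        have h3 : d * k / c ∈ F₀ := (ratVec_emb (P := P) u).coeff_mem (emb_ne_zero hu0) (by rw [← h2]; exact ratVec_emb v)
        exact hind (Submodule.mem_span_singleton.mpr ⟨⟨_, h3⟩, emb_inj (P := P) (by rw [emb_smul, h2])⟩)
      refine ⟨fun h => ?_, fun h => ?_⟩
      · obtain ⟨k, hk⟩ := Submodule.mem_span_singleton.mp h
        rcases eq_or_ne k 0 with hk0 | hk0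
        · exact hu'0 (by rw [← hk, hk0, zero_smul])
        · exact key k⁻¹ (by rw [← hk, smul_smul, inv_mul_cancel₀ hk0, one_smul])
      · obtain ⟨k, hk⟩ := Submodule.mem_span_singleton.mp h
        exact key k hk
    rw [emb_add, Matrix.mulVec_add, hu', hv'] at hx
    have read : ∀ {p q : ι → F₀} {s t : F}, p ∉ Submodule.span F₀ {q} → s • E p + t • E q = e • E x →
        ∃ k : F₀, s = e * (k : F) := by
      intro p q s t hp h
      obtain ⟨z, hz, hzp⟩ := Orth.exists_dual R.nondeg₀ _ hp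
      have hz' : polarBilin Q (E z) (E q) = 0 := (R.pz z q).mp (hz q (Submodule.mem_span_singleton_self q))
      have hzp' : polarBilin Q (E z) (E p) = 1 := by rw [← R.pol, hzp]; rfl
      refine ⟨⟨_, R.hp z x⟩, ?_⟩
      have h1 := congrArg (polarBilin Q (E z)) h
      simpa [map_add, map_smul, hz', hzp'] using h1
    obtain ⟨k, hk⟩ := read hsep.1 hx
    obtain ⟨l, hl⟩ := read hsep.2 ((add_comm _ _).trans hx)
    have hk0 : (k : F) ≠ 0 := fun h => hc0 (by rw [hk, h, mul_zero])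
    refine ⟨(l / k) • v', ?_⟩
    rw [hv', emb_smul, smul_smul, hk, hl]
    congr 1
    push_cast
    field_simp
  obtain ⟨u₁, hQu₁, hu₁, -⟩ := R.exists_sing ∅ ∅ (by simp)
  have hu₁0 : u₁ ≠ 0 := fun h => hu₁ (by rw [h]; exact Submodule.zero_mem _)
  obtain ⟨c, u₁', hu₁'⟩ := hall u₁ hQu₁
  have hp : ∀ x : ι → F₀, ∃ y, (g : Matrix ι ι F) *ᵥ E x = c • E y := fun x => by
    refine R.induct_perp ∅ (by simp) (p := fun x => ∃ y, (g : Matrix ι ι F) *ᵥ E x = c • E y) ?_ ?_ ?_ ?_ (by simp)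
    · rintro a b ⟨a', ha⟩ ⟨b', hb⟩
      exact ⟨a' + b', by rw [emb_add, Matrix.mulVec_add, ha, hb, emb_add, smul_add]⟩
    · rintro k a ⟨a', ha⟩
      exact ⟨k • a', by rw [emb_smul, Matrix.mulVec_smul, ha, emb_smul, smul_comm]⟩
    · exact ⟨0, by rw [emb_zero, Matrix.mulVec_zero, smul_zero]⟩
    intro v hQv _
    by_cases hv : v ∈ Submodule.span F₀ {u₁}
    · obtain ⟨k, rfl⟩ := Submodule.mem_span_singleton.mp hv
      exact ⟨k • u₁', by rw [emb_smul, Matrix.mulVec_smul, hu₁', emb_smul, smul_comm]⟩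
    obtain ⟨h, hQh, hhs, hhp⟩ := R.exists_sing {u₁, v} {u₁, v} (by
      have : ({u₁, v} : Finset (ι → F₀)).card ≤ 2 := Finset.card_le_two
      omega)
    have hh0 : h ≠ 0 := fun e => hhs (by rw [e]; exact Submodule.zero_mem _)
    obtain ⟨h', hh'⟩ := pair u₁ h hQu₁ hQh (hhp u₁ (by simp))
      (fun e => hhs (Submodule.span_mono (by simp) e)) hu₁0 c u₁' hu₁'
    refine pair h v hQh hQv (Orth.polar_symm Q _ _ (hhp v (by simp))) (fun e => ?_) hh0 c h' hh'
    obtain ⟨k, hk⟩ := Submodule.mem_span_singleton.mp e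
    rcases eq_or_ne k 0 with hk0 | hk0
    · exact hv (by rw [← hk, hk0, zero_smul]; exact Submodule.zero_mem _)
    · exact hhs (by
        rw [show h = k⁻¹ • v by rw [← hk, smul_smul, inv_mul_cancel₀ hk0, one_smul]]
        exact Submodule.smul_mem _ _ (Submodule.subset_span (by simp)))
  refine mem_subfieldSubgroup_of_lines fun x hx => ?_
  obtain ⟨u, rfl⟩ := exists_emb hx
  obtain ⟨y, hy⟩ := hp u
  exact ⟨c, _, ratVec_emb y, hy⟩

/-- A singular vector off the rational lines pairs irrationally with an orthogonal rational singular pair. -/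
theorem Rs.exists_irrational (R : Rs Q F₀ P r) {w : ι → F} (hw : Q w = 0) (hl : ¬ Line F₀ P w) :
    ∃ a b, Q (E a) = 0 ∧ Q (E b) = 0 ∧ polarBilin Q (E a) (E b) = 0 ∧ polarBilin Q w (E a) ≠ 0 ∧
      polarBilin Q w (E b) / polarBilin Q w (E a) ∉ F₀ := by
  classical
  by_contra hno
  push Not at hno
  refine hl ?_
  have hw0 : w ≠ 0 := fun h => hl ⟨0, 0, by rw [h, zero_smul]⟩
  obtain ⟨a, hQa, hβ⟩ : ∃ a, Q (E a) = 0 ∧ polarBilin Q w (E a) ≠ 0 := by
    by_contra hall
    push Not at hall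
    exact hw0 (by simpa using R.mem_span_of_kills ∅ (by simp) (v := w) fun z hz _ => hall z hz)
  set β := polarBilin Q w (E a) with hβdef
  have hC : ∀ v, ∃ k : F₀, polarBilin Q w (E v) = k * β := fun v => by
    refine R.induct_perp ∅ (by simp) (p := fun v => ∃ k : F₀, polarBilin Q w (E v) = k * β) ?_ ?_ ?_ ?_ (by simp)
    · rintro x y ⟨k, hk⟩ ⟨l, hl⟩
      exact ⟨k + l, by rw [emb_add, map_add, hk, hl]; push_cast; ring⟩
    · rintro e x ⟨k, hk⟩
      exact ⟨e * k, by rw [emb_smul, map_smul, hk, smul_eq_mul]; push_cast; ring⟩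
    · exact ⟨0, by rw [emb_zero, map_zero]; simp⟩
    intro v hQv _
    by_cases hav : polarBilin Q (E a) (E v) = 0
    · exact ⟨⟨_, hno a v hQa hQv hav hβ⟩, (div_mul_cancel₀ _ hβ).symm⟩
    obtain ⟨h, hQh, hah, hvh, hwh⟩ : ∃ h, Q (E h) = 0 ∧ polarBilin Q (E a) (E h) = 0 ∧
        polarBilin Q (E v) (E h) = 0 ∧ polarBilin Q w (E h) ≠ 0 := by
      by_contra hall
      push Not at hall
      have hsp := R.mem_span_of_kills {a, v} (by
        have : ({a, v} : Finset (ι → F₀)).card ≤ 2 := Finset.card_le_two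
        omega) (v := w) fun z hQz hz => hall z hQz (hz a (by simp)) (hz v (by simp))
      rw [Finset.coe_pair, Set.image_pair, Submodule.mem_span_pair] at hsp
      obtain ⟨s, t, hst⟩ := hsp
      rw [← hst, quad_add, quad_smul, quad_smul, hQa, hQv, map_smul, map_smul, LinearMap.smul_apply, smul_eq_mul,
        smul_eq_mul] at hw
      simp [hav] at hw
      rcases hw with h0 | h0
      · exact hl ⟨s, a, by rw [← hst, h0, zero_smul, add_zero]⟩
      · exact hl ⟨t, v, by rw [← hst, h0, zero_smul, zero_add]⟩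
    have h1 := hno a h hQa hQh hah hβ
    have h2 := hno h v hQh hQv (Orth.polar_symm Q _ _ hvh) hwh
    refine ⟨⟨_, F₀.mul_mem h2 h1⟩, ?_⟩
    show polarBilin Q w (E v) = polarBilin Q w (E v) / polarBilin Q w (E h) * (polarBilin Q w (E h) / β) * β
    field_simp
  choose k hk using hC
  let φ : (ι → F₀) →ₗ[F₀] F₀ :=
    { toFun := k
      map_add' := fun x y => Subtype.ext (mul_right_cancel₀ hβ (by
        rw [← hk, emb_add, map_add, hk, hk, Subfield.coe_add, add_mul]))
      map_smul' := fun e x => Subtype.ext (mul_right_cancel₀ hβ (by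
        rw [← hk, emb_smul, map_smul, hk, RingHom.id_apply, smul_eq_mul, smul_eq_mul, Subfield.coe_mul, mul_assoc])) }
  set y := (LinearMap.BilinForm.toDual (polarBilin R.Q₀) R.nondeg₀).symm φ with hy
  have hyv : ∀ v, polarBilin R.Q₀ y v = k v := fun v =>
    LinearMap.BilinForm.apply_toDual_symm_apply (B := polarBilin R.Q₀) φ v
  refine ⟨β, y, sub_eq_zero.mp ?_⟩
  refine R.hN.1 _ fun v => ?_
  rw [emb_expand (F₀ := F₀) (P := P) v, map_sum]
  refine Finset.sum_eq_zero fun i _ => ?_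
  rw [map_smul, map_sub, LinearMap.sub_apply, map_smul, LinearMap.smul_apply, hk, ← R.pol, hyv, smul_eq_mul,
    smul_eq_mul, mul_comm β, sub_self, mul_zero]

/-- The spread: everything outside the subfield group generates. -/
theorem Rs.omega_le (R : Rs Q F₀ P r) (hM : Cfsg.Geo.subfieldSubgroup F₀ P ⊓ Cfsg.Geo.omegaGL ⇑Q ≤ M) {g : GL ι F}
    (hgM : g ∈ M) (hgi : g ∈ Cfsg.isometryGroup F ⇑Q) (hg : g ∉ Cfsg.Geo.subfieldSubgroup F₀ P) :
    Cfsg.Geo.omegaGL ⇑Q ≤ M := by
  classical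
  haveI : Fintype F := Fintype.ofFinite F
  have hK := R.base hM
  obtain ⟨u₀, hQu₀, hline⟩ := R.exists_notLine hg
  set w := (g : Matrix ι ι F) *ᵥ E u₀ with hw
  have hQw : Q w = 0 := by rw [hw, Orth.iso_quad hgi, hQu₀]
  obtain ⟨a, b, hQa, hQb, hab, hβ, hγ⟩ := R.exists_irrational hQw hline
  set β := polarBilin Q w (E a) with hβdef
  set γ := polarBilin Q w (E b) with hγdef
  have haa : polarBilin Q (E a) (E a) = 0 := Orth.polar_self_of_sing Q hQa
  have hbb : polarBilin Q (E b) (E b) = 0 := Orth.polar_self_of_sing Q hQb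
  have hba : polarBilin Q (E b) (E a) = 0 := Orth.polar_symm Q _ _ hab
  have hb0 : b ≠ 0 := fun h => hγ (by
    rw [hγdef, h, emb_zero, map_zero, zero_div]; exact F₀.zero_mem)
  have hind : a ∉ Submodule.span F₀ {b} := fun h => by
    obtain ⟨k, hk⟩ := Submodule.mem_span_singleton.mp h
    refine hγ ?_
    have h1 : β = (k : F) * γ := by rw [hβdef, ← hk, emb_smul, map_smul, smul_eq_mul]
    have hγ0 : γ ≠ 0 := fun h0 => hβ (by rw [h1, h0, mul_zero])
    rw [h1, div_mul_cancel_right₀ hγ0]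
    exact F₀.inv_mem k.2
  set δ := β • E b - γ • E a with hδ
  have seed : ∀ {y : ι → F}, InE Q M δ y → y ∉ Submodule.span F (E '' ({a, b} : Set (ι → F₀))) →
      Cfsg.Geo.omegaGL ⇑Q ≤ M := by
    intro y hy hys
    refine R.omega_le_of_seed hK hQa hQb hab (s := -γ) (t := β) hβ ?_ hind hb0 hys ?_
    · rw [neg_div]; exact fun h => hγ (by simpa using F₀.neg_mem h)
    · rwa [show (-γ) • E a + β • E b = δ by rw [hδ]; module]
  obtain ⟨hQa', hab', hkM⟩ := hK a b hQa hab
  set k := Orth.eichGL Q (E a) (E b) hQa' hab' with hk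
  have hki : k ∈ Cfsg.isometryGroup F ⇑Q := Orth.toGL_mem_isometry Q _
  have hkapp : ∀ X : ι → F, (k : Matrix ι ι F) *ᵥ X =
      X + polarBilin Q X (E a) • E b - polarBilin Q X (E b) • E a := fun X => by
    rw [hk, Orth.eichGL_mulVec, hQb, zero_mul, add_zero]
  set w' := w + δ with hw'
  have hkw : (k : Matrix ι ι F) *ᵥ w = w' := by
    rw [hkapp, ← hβdef, ← hγdef, hw', hδ]; abel
  have hwδ : polarBilin Q w δ = 0 := by
    rw [hδ, map_sub, map_smul, map_smul, ← hβdef, ← hγdef, smul_eq_mul, smul_eq_mul]; ring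
  have hww : polarBilin Q w w = 0 := Orth.polar_self_of_sing Q hQw
  have hww' : polarBilin Q w w' = 0 := by rw [hw', map_add, hww, hwδ, add_zero]
  -- the rational vectors giving Eichler elements with centre `w`
  have hu₀0 : u₀ ≠ 0 := fun h => hline ⟨0, 0, by rw [hw, h, emb_zero, Matrix.mulVec_zero, zero_smul]⟩
  obtain ⟨f₀, hQf₀, huf₀, -⟩ := R.exists_partner ∅ hQu₀ (by simp) (by simpa using hu₀0)
  set V : Submodule F₀ (ι → F₀) := LinearMap.ker (polarBilin R.Q₀ u₀) ⊓ LinearMap.ker (polarBilin R.Q₀ f₀) with hV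
  have hVm : ∀ {x}, x ∈ V → polarBilin Q (E u₀) (E x) = 0 ∧ polarBilin Q (E f₀) (E x) = 0 := fun hx =>
    ⟨(R.pz _ _).mp hx.1, (R.pz _ _).mp hx.2⟩
  set G : (ι → F₀) → (ι → F) := fun x => (g : Matrix ι ι F) *ᵥ E x with hG
  have hwX : ∀ {x}, x ∈ V → InE Q M w (G x) := fun hx => (hK u₀ _ hQu₀ (hVm hx).1).conj hgM hgi
  have hwX' : ∀ {x}, x ∈ V → InE Q M w' ((k : Matrix ι ι F) *ᵥ G x) := fun hx => hkw ▸ (hwX hx).conj hkM hki
  have hwXz : ∀ {x}, x ∈ V → polarBilin Q w (G x) = 0 := fun hx => (hwX hx).2.1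
  have hGp : ∀ x y, polarBilin Q (G x) (G y) = polarBilin Q (E x) (E y) := fun x y => Orth.iso_polar hgi _ _
  let μ : V →ₗ[F₀] F :=
    { toFun := fun x => polarBilin Q (G x.1) δ
      map_add' := fun x y => by simp only [hG, Submodule.coe_add, emb_add, Matrix.mulVec_add, map_add, LinearMap.add_apply]
      map_smul' := fun c x => by
        simp only [hG, Submodule.coe_smul, emb_smul, Matrix.mulVec_smul, map_smul, LinearMap.smul_apply,
          RingHom.id_apply]
        rfl }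
  have hμw : ∀ x : V, polarBilin Q (G x) w' = μ x := fun x => by
    rw [hw', map_add, quad_polar_comm Q (G x) w, hwXz x.2, zero_add]; rfl
  have hμk : ∀ x : V, polarBilin Q w ((k : Matrix ι ι F) *ᵥ G x) = -μ x := fun x => by
    show _ = -polarBilin Q (G x) δ
    rw [hkapp, map_sub, map_add, map_smul, map_smul, hwXz x.2, ← hβdef, ← hγdef, hδ, map_sub, map_smul, map_smul,
      smul_eq_mul, smul_eq_mul, smul_eq_mul, smul_eq_mul]
    ring
  have hn := R.hn
  have hVdim : Fintype.card ι ≤ Module.finrank F₀ V + 2 := by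
    have h1 := finrank_inf_ker (⊤ : Submodule F₀ (ι → F₀)) (polarBilin R.Q₀ u₀)
    have h2 := finrank_inf_ker (LinearMap.ker (polarBilin R.Q₀ u₀)) (polarBilin R.Q₀ f₀)
    rw [top_inf_eq, finrank_top, Module.finrank_fintype_fun_eq_card] at h1
    rw [hV]
    omega
  have hrk := μ.finrank_range_add_finrank_ker
  by_cases hsmall : 2 * Module.finrank F₀ (LinearMap.range μ) + 2 < Fintype.card ι
  · -- a large kernel
    obtain ⟨x₁, x₂, hx₁, hx₂, hc⟩ : ∃ x₁ x₂ : V, μ x₁ = 0 ∧ μ x₂ = 0 ∧ polarBilin R.Q₀ x₂.1 x₁.1 ≠ 0 := by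
      by_contra hall
      push Not at hall
      have hsym : ∀ i, ∀ x ∈ (LinearMap.ker μ).map V.subtype, polarBilin R.Q₀ (![u₀, f₀] i) x = 0 := by
        rintro i _ ⟨x, -, rfl⟩
        fin_cases i
        · exact x.2.1
        · exact x.2.2
      have h1 := gen_iso_bound R.nondeg₀ ((LinearMap.ker μ).map V.subtype)
        (by
          rintro _ ⟨x, hx, rfl⟩ _ ⟨y, hy, rfl⟩
          exact hall y x (LinearMap.mem_ker.mp hy) (LinearMap.mem_ker.mp hx))
        ![u₀, f₀] ![f₀, u₀] hsym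
        (fun i x hx => by
          rw [quad_polar_comm]
          fin_cases i
          · exact hsym 1 x hx
          · exact hsym 0 x hx)
        (fun i j => by
          apply Subtype.ext
          rw [R.pol]
          fin_cases i <;> fin_cases j <;>
            simp [huf₀, quad_polar_comm Q (E f₀) (E u₀), Orth.polar_self_of_sing Q hQu₀,
              Orth.polar_self_of_sing Q hQf₀])
      rw [Submodule.finrank_map_subtype_eq] at h1
      omega
    set X₁ := G x₁.1 with hX₁
    set X₂ := (k : Matrix ι ι F) *ᵥ G x₂.1 with hX₂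
    set c : F := polarBilin Q (G x₂.1) X₁ with hcdef
    have hc0 : c ≠ 0 := by
      rw [hcdef, hX₁, hGp, ← R.pol]
      exact fun h => hc (Subtype.ext h)
    have hz1 : β * polarBilin Q X₁ (E b) = γ * polarBilin Q X₁ (E a) := by
      have : polarBilin Q X₁ δ = 0 := hx₁
      rw [hδ, map_sub, map_smul, map_smul, smul_eq_mul, smul_eq_mul] at this
      linear_combination this
    have hz2 : β * polarBilin Q (G x₂.1) (E b) = γ * polarBilin Q (G x₂.1) (E a) := by
      have : polarBilin Q (G x₂.1) δ = 0 := hx₂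
      rw [hδ, map_sub, map_smul, map_smul, smul_eq_mul, smul_eq_mul] at this
      linear_combination this
    have hX21 : polarBilin Q X₂ X₁ = c := by
      rw [hX₂, hkapp, map_sub, map_add, map_smul, map_smul, LinearMap.sub_apply, LinearMap.add_apply,
        LinearMap.smul_apply, LinearMap.smul_apply, smul_eq_mul, smul_eq_mul, quad_polar_comm Q (E b) X₁,
        quad_polar_comm Q (E a) X₁, ← hcdef]
      apply mul_left_cancel₀ hβ
      linear_combination (polarBilin Q (G x₂.1) (E a)) * hz1 - (polarBilin Q X₁ (E a)) * hz2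
    obtain ⟨_, _, hm⟩ := hwX x₁.2
    have hiso : ∀ {u x : ι → F} (h1 : Q u = 0) (h2 : polarBilin Q u x = 0),
        Orth.eichGL Q u x h1 h2 ∈ Cfsg.isometryGroup F ⇑Q := fun _ _ => Orth.toGL_mem_isometry Q _
    have h1 := (hwX' x₂.2).conj hm (hiso _ _)
    rw [Orth.eichGL_mulVec, Orth.eichGL_mulVec, quad_polar_comm Q w' w, hww', quad_polar_comm Q w' X₁, ← hX₂,
      quad_polar_comm Q X₂ w, hμk x₂, hX21, ← hX₁, hμw x₁, hx₁, hx₂] at h1
    simp only [neg_zero, zero_smul, add_zero, mul_zero, sub_zero] at h1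
    have h2 := (hwX' x₂.2).sub h1
    rw [← hX₂, sub_sub_cancel] at h2
    have hQc : Q (c • w) = 0 := by rw [quad_smul, hQw, mul_zero]
    have h3 := inE_neg (inE_flip h2 hQc)
    rw [neg_neg] at h3
    have h4 := (h3.scale hc0).sub (inE_line hQw c)
    rw [← smul_sub, hw', add_sub_cancel_left] at h4
    have hQcδ : Q (c • δ) = 0 := by
      rw [quad_smul, hδ, quad_sub, quad_smul, quad_smul, hQa, hQb, map_smul, map_smul, LinearMap.smul_apply, hba]
      simp
    refine seed ((inE_flip h4 hQcδ).scale hc0) fun hm => ?_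
    have hle : Submodule.span F (E '' ({a, b} : Set (ι → F₀))) ≤ LinearMap.ker (polarBilin Q (E a)) :=
      Submodule.span_le.mpr (by
        rintro _ ⟨z, hz, rfl⟩
        rcases hz with rfl | rfl
        · exact haa
        · exact hab)
    have h5 : polarBilin Q (E a) (c • -w) = 0 := hle hm
    rw [map_smul, map_neg, quad_polar_comm, ← hβdef, smul_neg, neg_eq_zero, smul_eq_mul] at h5
    exact mul_ne_zero hc0 hβ h5
  · -- many parameters
    have hrank : 6 ≤ Module.finrank F₀ (LinearMap.range μ) := by omega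
    obtain ⟨x₀, hμ0⟩ : ∃ x₀ : V, μ x₀ ≠ 0 := by
      by_contra hall
      push Not at hall
      rw [show LinearMap.range μ = ⊥ from LinearMap.range_eq_bot.mpr (LinearMap.ext hall), finrank_bot] at hrank
      omega
    set μ₀ := μ x₀ with hμ₀
    set v := μ₀ • w' with hv
    have hup : ∀ x : V, upper (-(μ₀ * μ x)) ∈ plane Q M w v := fun x => by
      obtain ⟨_, _, hm⟩ := hwX x.2
      refine ⟨_, hm, Orth.toGL_mem_isometry Q _, ?_, ?_⟩
      · simp [Orth.eichGL_mulVec, hww, hwXz x.2, coe_upper]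
      · rw [hv, Matrix.mulVec_smul, Orth.eichGL_mulVec, quad_polar_comm Q w' w, hww', quad_polar_comm Q w', hμw]
        simp only [coe_upper, Matrix.cons_val', Matrix.cons_val_zero, Matrix.cons_val_one, Matrix.of_apply,
          Matrix.empty_val', Matrix.cons_val_fin_one]
        module
    have hlow : ∀ x : V, lower (μ x / μ₀) ∈ plane Q M w v := fun x => by
      obtain ⟨hq, _, hm⟩ := hwX' x.2
      refine ⟨_, hm, Orth.toGL_mem_isometry Q _, ?_, ?_⟩
      · rw [Orth.eichGL_mulVec, hww', hμk]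
        simp only [coe_lower, Matrix.cons_val', Matrix.cons_val_zero, Matrix.cons_val_one, Matrix.of_apply,
          Matrix.empty_val', Matrix.cons_val_fin_one, hv, smul_smul, div_mul_cancel₀ _ hμ0]
        module
      · rw [hv, Matrix.mulVec_smul, eich_apply_perp hq _ (Orth.polar_self_of_sing Q hq) (hwX' x.2).2.1]
        simp [coe_lower]
    set G' := plane Q M w v ⊔ Subgroup.center (Matrix.SpecialLinearGroup (Fin 2) F) with hG'
    have hone : lower 1 ∈ G' := Subgroup.mem_sup_left (by simpa [← hμ₀, div_self hμ0] using hlow x₀)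
    have hA : Nat.card F₀ ^ Module.finrank F₀ (LinearMap.range μ) ≤ Nat.card (upperParams G') := by
      rw [← Module.natCard_eq_pow_finrank]
      refine Nat.card_le_card_of_injective
        (fun z => (⟨-(μ₀ * z.1), ?_⟩ : upperParams G')) fun z z' h => ?_
      · obtain ⟨x, hx⟩ := z.2
        rw [← hx]
        exact Subgroup.mem_sup_left (hup x)
      · exact Subtype.ext (mul_left_cancel₀ hμ0 (neg_injective (congrArg Subtype.val h)))
    have h2 : 2 ≤ Nat.card F₀ := Finite.one_lt_card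
    have hbig : 120 < Nat.card (upperParams G') ∨ ((2 : F) = 0 ∧ 60 < Nat.card (upperParams G')) := by
      rcases (show Nat.card F₀ = 2 ∨ 3 ≤ Nat.card F₀ by omega) with hq | hq
      · refine Or.inr ⟨?_, lt_of_lt_of_le (lt_of_lt_of_le ?_ (Nat.pow_le_pow_right (by omega) hrank)) hA⟩
        · have h1 : ((2 : ℕ) : F₀) = 0 := by
            rw [← hq, Nat.card_eq_fintype_card]; exact Nat.cast_card_eq_zero F₀
          have h3 := congrArg (fun z : F₀ => (z : F)) h1
          push_cast at h3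
          exact h3
        · rw [hq]; norm_num
      · exact Or.inl (lt_of_lt_of_le (lt_of_lt_of_le (by norm_num : 120 < 3 ^ 6) ((Nat.pow_le_pow_left hq 6).trans
          (Nat.pow_le_pow_right (by omega) hrank))) hA)
    obtain ⟨S, hSu, hSl⟩ := exists_subfield G' le_sup_right hone hbig
    have hμS : ∀ x : V, μ x / μ₀ ∈ S := fun x => (hSl _).mp (Subgroup.mem_sup_left (hlow x))
    have hle : F₀ ≤ S := fun c hc => by
      have := hμS ((⟨c, hc⟩ : F₀) • x₀)
      rw [map_smul, ← hμ₀] at this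
      rwa [show (⟨c, hc⟩ : F₀) • μ₀ = c * μ₀ from rfl, mul_div_cancel_right₀ _ hμ0] at this
    have htop : S = ⊤ := by
      obtain ⟨c, hc, hc0⟩ : ∃ c ∈ S, c ∉ F₀ := by
        by_contra hall
        push Not at hall
        have h1 : Nat.card (upperParams G') ≤ Nat.card F₀ :=
          Nat.card_le_card_of_injective (fun z => (⟨z.1, hall _ ((hSu _).mp z.2)⟩ : F₀))
            fun a b h => Subtype.ext (Subtype.mk.injEq _ _ _ _ ▸ h)
        have h3 := (Nat.pow_le_pow_right (by omega) hrank).trans (hA.trans h1)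
        have h4 : Nat.card F₀ ^ 2 ≤ Nat.card F₀ ^ 6 := Nat.pow_le_pow_right (by omega) (by omega)
        rw [pow_two] at h4
        have h5 : 2 * Nat.card F₀ ≤ Nat.card F₀ * Nat.card F₀ := Nat.mul_le_mul_right _ h2
        omega
      exact LinSubfield.eq_top_of_lt R.hr R.hcard S hle hc hc0
    have hlast : lower (-μ₀⁻¹) ∈ G' := (hSl _).mpr (htop ▸ Subfield.mem_top _)
    rw [hG'] at hlast
    obtain ⟨T, ⟨m, hmM, hmi, hmw, -⟩, z, hz, hTz⟩ := Subgroup.mem_sup_of_normal_right.mp hlast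
    obtain ⟨ε, hε, hT⟩ : ∃ ε : F, ε * ε = 1 ∧ ∀ i j, T i j = ε * (lower (-μ₀⁻¹) : Matrix.SpecialLinearGroup (Fin 2) F) i j := by
      rcases Cfsg.Agent.Lib.SL2Trace.mem_center_iff.mp hz with rfl | rfl
      · exact ⟨1, one_mul 1, fun i j => by rw [← hTz, mul_one, one_mul]⟩
      · exact ⟨-1, by ring, fun i j => by rw [← hTz, mul_neg, mul_one, Matrix.SpecialLinearGroup.coe_neg]; simp⟩
    have hε0 : ε ≠ 0 := left_ne_zero_of_mul_eq_one hε
    have hmw' : (m : Matrix ι ι F) *ᵥ w = (-ε) • δ := by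
      rw [hmw, hT, hT]
      simp only [coe_lower, Matrix.cons_val', Matrix.cons_val_zero, Matrix.cons_val_one, Matrix.of_apply,
        Matrix.empty_val', Matrix.cons_val_fin_one, hv, hw']
      match_scalars <;> field_simp <;> ring
    obtain ⟨e, f, hQe, hQf, hef, hs⟩ := gen_pair R.nondeg₀ {u₀, f₀} (by
      have : ({u₀, f₀} : Finset (ι → F₀)).card ≤ 2 := Finset.card_le_two
      omega)
    have heV : e ∈ V := ⟨(hs u₀ (by simp)).1, (hs f₀ (by simp)).1⟩
    have hfV : f ∈ V := ⟨(hs u₀ (by simp)).2, (hs f₀ (by simp)).2⟩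
    have hgo : ∀ x ∈ V, InE Q M δ ((-ε) • ((m : Matrix ι ι F) *ᵥ G x)) := fun x hx => by
      have h1 := (hwX hx).conj hmM hmi
      rw [hmw'] at h1
      exact h1.scale (neg_ne_zero.mpr hε0)
    by_cases he : (m : Matrix ι ι F) *ᵥ G e ∈ Submodule.span F (E '' ({a, b} : Set (ι → F₀)))
    · by_cases hf : (m : Matrix ι ι F) *ᵥ G f ∈ Submodule.span F (E '' ({a, b} : Set (ι → F₀)))
      · exfalso
        rw [Set.image_pair, Submodule.mem_span_pair] at he hf
        obtain ⟨i, j, he⟩ := he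
        obtain ⟨i', j', hf⟩ := hf
        have h1 : polarBilin Q ((m : Matrix ι ι F) *ᵥ G e) ((m : Matrix ι ι F) *ᵥ G f) = 1 := by
          rw [Orth.iso_polar hmi, hGp, ← R.pol, hef]; rfl
        rw [← he, ← hf] at h1
        simp [haa, hbb, hab, hba] at h1
      · exact seed (hgo f hfV) fun h => hf ((Submodule.smul_mem_iff _ (neg_ne_zero.mpr hε0)).mp h)
    · exact seed (hgo e heV) fun h => he ((Submodule.smul_mem_iff _ (neg_ne_zero.mpr hε0)).mp h)

/-- An element of `omegaGL` outside the subfield group. -/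
theorem Rs.lt (R : Rs Q F₀ P r) :
    Cfsg.Geo.subfieldSubgroup F₀ P ⊓ Cfsg.Geo.omegaGL ⇑Q < Cfsg.Geo.omegaGL ⇑Q := by
  classical
  obtain ⟨τ, hτ⟩ : ∃ τ : F, τ ∉ F₀ := by
    by_contra hall
    push Not at hall
    have h1 : Nat.card F ≤ Nat.card F₀ :=
      Nat.card_le_card_of_injective (fun z => (⟨z, hall z⟩ : F₀)) fun a b h => congrArg Subtype.val h
    rw [R.hcard] at h1
    have h2 : 2 ≤ Nat.card F₀ := Finite.one_lt_card
    have h3 : Nat.card F₀ ^ 1 < Nat.card F₀ ^ r := Nat.pow_lt_pow_right (by omega) R.hr.one_lt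
    rw [pow_one] at h3
    omega
  obtain ⟨u, hQu, hu, -⟩ := R.exists_sing ∅ ∅ (by simp)
  have hu0 : u ≠ 0 := fun h => hu (by rw [h]; exact Submodule.zero_mem _)
  obtain ⟨x, hQx, hxs, hxu⟩ := R.exists_sing {u} {u} (by simp)
  have hux : polarBilin Q (E u) (E x) = 0 := hxu u (by simp)
  have hx' : x ∉ Submodule.span F₀ {u} := by simpa using hxs
  have hx0 : x ≠ 0 := fun h => hx' (by rw [h]; exact Submodule.zero_mem _)
  obtain ⟨f, hQf, huf, hfx⟩ := R.exists_partner {x} hQu (by simpa using Orth.polar_symm Q _ _ hux) (by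
    rw [Finset.coe_singleton]
    intro hm
    obtain ⟨i, hi⟩ := Submodule.mem_span_singleton.mp hm
    rcases eq_or_ne i 0 with hi0 | hi0
    · exact hu0 (by rw [← hi, hi0, zero_smul])
    · exact hx' (Submodule.mem_span_singleton.mpr ⟨i⁻¹, by rw [← hi, smul_smul, inv_mul_cancel₀ hi0, one_smul]⟩))
  have hfx' : polarBilin Q (E x) (E f) = 0 := hfx x (by simp)
  have hp : polarBilin Q (E u) (τ • E x) = 0 := by rw [map_smul, hux, smul_zero]
  have hm := Orth.eichGL_mem_omega R.hN (by have := R.hn; omega) hQu hp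
  refine SetLike.lt_iff_le_and_exists.mpr ⟨inf_le_right, _, hm, fun hin => hτ ?_⟩
  obtain ⟨c, hc, hl⟩ := subfieldSubgroup_apply hin.1
  have e1 : (Orth.eichGL Q (E u) (τ • E x) hQu hp : Matrix ι ι F) *ᵥ E u = E u :=
    eich_apply_perp hQu hp (Orth.polar_self_of_sing Q hQu) hp
  have e2 : (Orth.eichGL Q (E u) (τ • E x) hQu hp : Matrix ι ι F) *ᵥ E f = E f + τ • E x := by
    rw [Orth.eichGL_mulVec, quad_polar_comm Q (E f) (E u), huf, map_smul, quad_polar_comm Q (E f) (E x), hfx',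
      quad_smul, hQx]
    simp
  obtain ⟨y, hy, h1⟩ := hl _ (ratVec_emb u)
  obtain ⟨y', hy', h2⟩ := hl _ (ratVec_emb f)
  rw [e1] at h1
  rw [e2] at h2
  have hc' : c⁻¹ ∈ F₀ := (ratVec_emb (P := P) u).coeff_mem (emb_ne_zero hu0) (by
    rw [h1, smul_smul, inv_mul_cancel₀ hc, one_smul]; exact hy)
  have hc'' : c ∈ F₀ := inv_inv c ▸ F₀.inv_mem hc'
  refine (ratVec_emb (P := P) x).coeff_mem (emb_ne_zero hx0) ?_
  rw [show τ • E x = c • y' - E f by rw [← h2]; abel]
  exact (hy'.smul hc'').sub (ratVec_emb f)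

/-- Maximality. -/
theorem Rs.maximal (R : Rs Q F₀ P r) :
    Cfsg.Geo.IsMaximalIn (Cfsg.Geo.omegaGL ⇑Q) (Cfsg.Geo.subfieldSubgroup F₀ P ⊓ Cfsg.Geo.omegaGL ⇑Q) := by
  refine ⟨R.lt, fun M h1 h2 => ?_⟩
  by_cases h : M ≤ Cfsg.Geo.subfieldSubgroup F₀ P
  · exact Or.inl (le_antisymm (le_inf h h2) h1)
  · obtain ⟨g, hg, hgN⟩ := SetLike.not_le_iff_exists.mp h
    exact Or.inr (le_antisymm h2 (R.omega_le h1 hg (Orth.omegaGL_le_isometry (h2 hg)) hgN))

end Cfsg.Agent.Lib.ThreeTransp.SubOrth
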