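import Cfsg.Agent.Lib.ThreeTransp.SubOrthBase

/-!
An Eichler element whose centre is an irrational combination of two orthogonal rational singular vectors
gives all of `omegaGL`.
-/

set_option autoImplicit false

namespace Cfsg.Agent.Lib.ThreeTransp.SubOrth

open Matrix QuadraticMap
open Cfsg.Agent.Lib.MaxSub
open Cfsg.Agent.Lib.MaxSub.OrthSplit (InE)
open Cfsg.Agent.Lib.ThreeTransp.DecompOrth (inE_zero inE_neg inE_add inE_flip)
open Cfsg.Agent.Lib.Geometry (quad_add quad_sub quad_smul quad_polar_self quad_polar_comm)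
open scoped MatrixGroups Matrix

attribute [-simp] QuadraticMap.polarBilin_apply_apply

variable {ι : Type} [Fintype ι] [DecidableEq ι] {F : Type*} [Field F] {Q : QuadraticForm F (ι → F)}
  {K : Subgroup (GL ι F)}

theorem eich_apply_perp {u x y : ι → F} (hu : Q u = 0) (hx : polarBilin Q u x = 0) (h1 : polarBilin Q y u = 0)
    (h2 : polarBilin Q y x = 0) : (Orth.eichGL Q u x hu hx : Matrix ι ι F) *ᵥ y = y := by
  rw [Orth.eichGL_mulVec, h1, h2]; simp

/-- Conjugating by an Eichler element: two vectors differing by a translate give the translate. -/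
theorem inE_diff {u x d : ι → F} (h : InE Q K u x) (h' : InE Q K u (x + d)) : InE Q K u d := by
  have := h'.sub h
  rwa [add_sub_cancel_left] at this

variable {F₀ : Subfield F} {P : GL ι F} {r : ℕ} [Finite F]

set_option quotPrecheck false in
local notation "E" => emb F₀ P

/-- The seed. -/
theorem Rs.omega_le_of_seed (R : Rs Q F₀ P r) (hK : Base Q F₀ P K) {a b : ι → F₀} (hQa : Q (emb F₀ P a) = 0)
    (hQb : Q (emb F₀ P b) = 0) (hab : polarBilin Q (emb F₀ P a) (emb F₀ P b) = 0) {s t : F} (ht : t ≠ 0)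
    (hst : s / t ∉ F₀) (hind : a ∉ Submodule.span F₀ {b}) (hb0 : b ≠ 0) {y : ι → F}
    (hy : y ∉ Submodule.span F (emb F₀ P '' ({a, b} : Set (ι → F₀))))
    (h : InE Q K (s • emb F₀ P a + t • emb F₀ P b) y) : Cfsg.Geo.omegaGL ⇑Q ≤ K := by
  classical
  set δ := s • E a + t • E b with hδ
  have hc : ∀ {x y : ι → F}, polarBilin Q x y = 0 → polarBilin Q y x = 0 := fun {x y} h => Orth.polar_symm Q _ _ h
  obtain ⟨a', hQa', haa', has⟩ := R.exists_partner {b} hQa (by simpa using hc hab) (by simpa using hind)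
  have hba' : polarBilin Q (E b) (E a') = 0 := has b (by simp)
  have haa : polarBilin Q (E a) (E a) = 0 := Orth.polar_self_of_sing Q hQa
  have hbb : polarBilin Q (E b) (E b) = 0 := Orth.polar_self_of_sing Q hQb
  obtain ⟨b', hQb', hbb', hbs⟩ := R.exists_partner {a, a'} hQb (by
    simp only [Finset.mem_insert, Finset.mem_singleton, forall_eq_or_imp, forall_eq]
    exact ⟨hab, hc hba'⟩) (fun hm => by
      rw [Finset.coe_pair, Submodule.mem_span_pair] at hm
      obtain ⟨i, j, hij⟩ := hm
      have h1 : polarBilin Q (E a) (E b) = (j : F) := by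
        rw [← hij, emb_add, emb_smul, emb_smul, map_add, map_smul, map_smul, haa, haa', smul_zero, zero_add,
          smul_eq_mul, mul_one]
      rw [hab] at h1
      have hj : j = 0 := Subtype.ext h1.symm
      rw [hj, zero_smul, add_zero] at hij
      rcases eq_or_ne i 0 with hi | hi
      · exact hb0 (by rw [← hij, hi, zero_smul])
      · exact hind (Submodule.mem_span_singleton.mpr ⟨i⁻¹, by rw [← hij, smul_smul, inv_mul_cancel₀ hi, one_smul]⟩))
  have hab' : polarBilin Q (E a) (E b') = 0 := hbs a (by simp)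
  have ha'b' : polarBilin Q (E a') (E b') = 0 := hbs a' (by simp)
  set T : Finset (ι → F₀) := {a, b, a', b'} with hT
  have hTc : T.card ≤ 4 := Finset.card_le_four
  -- a singular rational vector orthogonal to the frame and not to the second vector
  obtain ⟨y, c, hy, hQc, hcT, hcy⟩ : ∃ (y : ι → F) (c : ι → F₀), InE Q K δ y ∧ Q (E c) = 0 ∧
      (∀ x ∈ T, polarBilin Q (E x) (E c) = 0) ∧ polarBilin Q y (E c) ≠ 0 := by
    by_contra hno
    push Not at hno
    have hspan := R.mem_span_of_kills T (by omega) (v := y) fun z hQz hz => hno y z h hQz hz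
    obtain ⟨x, hxab, hyx⟩ : ∃ x, (x = a ∨ x = b) ∧ polarBilin Q y (E x) ≠ 0 := by
      by_contra hall
      push Not at hall
      refine hy ?_
      rw [hT] at hspan
      simp only [Finset.coe_insert, Finset.coe_singleton, Set.image_insert_eq, Set.image_singleton] at hspan
      obtain ⟨i, m, hm, hy1⟩ := Submodule.mem_span_insert.mp hspan
      obtain ⟨j, m', hm', hy2⟩ := Submodule.mem_span_insert.mp hm
      obtain ⟨k, l, hy3⟩ := Submodule.mem_span_pair.mp hm'
      subst hy2 hy3 hy1
      have h1 := hall a (Or.inl rfl)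
      have h2 := hall b (Or.inr rfl)
      simp only [map_add, map_smul, LinearMap.add_apply, LinearMap.smul_apply, smul_eq_mul, haa, hc hab, hab, hbb,
        quad_polar_comm Q (E a') (E a), haa', quad_polar_comm Q (E b') (E a), hab', quad_polar_comm Q (E b') (E b),
        hbb', quad_polar_comm Q (E a') (E b), hba', mul_zero, mul_one, zero_add, add_zero] at h1 h2
      rw [h1, h2, zero_smul, zero_smul, add_zero, add_zero, Set.image_pair]
      exact Submodule.mem_span_pair.mpr ⟨i, j, rfl⟩
    obtain ⟨o, hQo, hos, hoT⟩ := R.exists_sing T T (by omega)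
    have hyo : polarBilin Q y (E o) = 0 := hno y o h hQo hoT
    have hxo : polarBilin Q (E x) (E o) = 0 := hoT x (by rcases hxab with rfl | rfl <;> simp [hT])
    have hxQ : Q (E x) = 0 := by rcases hxab with rfl | rfl <;> assumption
    have hxp : ∀ z, (z = a ∨ z = b) → polarBilin Q (E z) (E x) = 0 := by
      rintro z (rfl | rfl) <;> rcases hxab with rfl | rfl <;> first | assumption | exact hc hab
    obtain ⟨_, _, hm⟩ := hK x o hxQ hxo
    have hfix : (Orth.eichGL Q (E x) (E o) hxQ hxo : Matrix ι ι F) *ᵥ δ = δ := by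
      rw [hδ, Matrix.mulVec_add, Matrix.mulVec_smul, Matrix.mulVec_smul,
        eich_apply_perp hxQ hxo (hxp a (Or.inl rfl)) (hoT a (by simp [hT])),
        eich_apply_perp hxQ hxo (hxp b (Or.inr rfl)) (hoT b (by simp [hT]))]
    have h1 := h.conj hm (Orth.toGL_mem_isometry Q _)
    rw [hfix, Orth.eichGL_mulVec, hyo, hQo, zero_mul, add_zero, zero_smul, sub_zero] at h1
    have h2 := inE_diff h h1
    obtain ⟨c, hQc, hoc, hcs⟩ := R.exists_partner T hQo hoT hos
    have h3 := hno _ c h2 hQc hcs
    rw [map_smul, LinearMap.smul_apply, hoc, smul_eq_mul, mul_one] at h3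
    exact hyx h3
  have hac : polarBilin Q (E a) (E c) = 0 := hcT a (by simp [hT])
  have hbc : polarBilin Q (E b) (E c) = 0 := hcT b (by simp [hT])
  set η := polarBilin Q y (E c) with hη
  obtain ⟨d, hQd, hds, hdT⟩ := R.exists_sing (insert c T) (insert c T) (by
    have := Finset.card_insert_le c T
    omega)
  have hdc : polarBilin Q (E c) (E d) = 0 := hdT c (by simp)
  obtain ⟨_, _, hm⟩ := hK c d hQc hdc
  set θ := polarBilin Q y (E d) with hθ
  set ε := η • E d - θ • E c with hε
  have hy' : InE Q K δ ε := by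
    have h1 := hy.conj hm (Orth.toGL_mem_isometry Q _)
    rw [hδ, Matrix.mulVec_add, Matrix.mulVec_smul, Matrix.mulVec_smul,
      eich_apply_perp hQc hdc hac (hdT a (by simp [hT])), eich_apply_perp hQc hdc hbc (hdT b (by simp [hT])), ← hδ,
      Orth.eichGL_mulVec, hQd, zero_mul, add_zero, add_sub_assoc, ← hη, ← hθ] at h1
    exact inE_diff hy h1
  obtain ⟨d', hQd', hdd', hds'⟩ := R.exists_partner (insert c T) hQd hdT hds
  have hcd' : polarBilin Q (E c) (E d') = 0 := hds' c (by simp)
  set T7 : Finset (ι → F₀) := insert d' (insert d (insert c T)) with hT7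
  have hT7c : T7.card ≤ 7 := by
    have := Finset.card_insert_le c T
    have := Finset.card_insert_le d (insert c T)
    have := Finset.card_insert_le d' (insert d (insert c T))
    rw [hT7]
    omega
  obtain ⟨z, hQz, hz0, hzT⟩ := R.exists_sing T7 ∅ (by simp; omega)
  have hz0 : z ≠ 0 := fun h => hz0 (by rw [h]; exact Submodule.zero_mem _)
  obtain ⟨z₂, hQz₂, hz₂s, hz₂T⟩ := R.exists_sing (insert z T7) {z} (by
    have := Finset.card_insert_le z T7
    simp; omega)
  have hzz₂ : polarBilin Q (E z) (E z₂) = 0 := hz₂T z (by simp)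
  have hQε : Q ε = 0 := by
    rw [hε, quad_sub, quad_smul, quad_smul, map_smul, map_smul, LinearMap.smul_apply, hQd, hQc, hc hdc]
    simp
  -- translating the centre
  have key : ∀ e : ι → F₀, ∀ σ : F, Q (E e) = 0 → e ∈ T → polarBilin Q (E c) (E e) = 0 → polarBilin Q (E d) (E e) = 0 →
      polarBilin Q δ (E e) = σ → InE Q K (E z) (σ • ε) := by
    intro e σ hQe heT hce hde hσ
    have hez : polarBilin Q (E e) (E z) = 0 := hzT e (by simp [hT7, heT])
    have hεe : polarBilin Q ε (E e) = 0 := by simp [hε, hde, hce]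
    have hεz : polarBilin Q ε (E z) = 0 := by
      simp [hε, hzT d (by simp [hT7]), hzT c (by simp [hT7])]
    have hδz : polarBilin Q δ (E z) = 0 := by
      simp [hδ, hzT a (by simp [hT7, hT]), hzT b (by simp [hT7, hT])]
    obtain ⟨_, _, hm⟩ := hK e z hQe hez
    have h1 := hy'.conj hm (Orth.toGL_mem_isometry Q _)
    rw [eich_apply_perp hQe hez hεe hεz, Orth.eichGL_mulVec, hσ, hδz, hQz, zero_mul, add_zero, zero_smul,
      sub_zero] at h1
    have h2 := (inE_flip hy' hQε).sub (inE_flip h1 hQε)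
    rw [show -δ - -(δ + σ • E z) = σ • E z by abel] at h2
    have hQσ : Q (σ • E z) = 0 := by rw [quad_smul, hQz, mul_zero]
    rcases eq_or_ne σ 0 with hσ0 | hσ0
    · rw [hσ0, zero_smul]; simpa using inE_line (K := K) hQz 0
    have h3 := inE_neg ((inE_flip h2 hQσ).scale hσ0)
    rwa [smul_neg, neg_neg] at h3
  have ht' : InE Q K (E z) (t • ε) := key b' t hQb' (by simp [hT]) (hc (hcT b' (by simp [hT])))
    (hc (hdT b' (by simp [hT]))) (by simp [hδ, hab', hbb'])
  have hs' : InE Q K (E z) (s • ε) := key a' s hQa' (by simp [hT]) (hc (hcT a' (by simp [hT])))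
    (hc (hdT a' (by simp [hT]))) (by simp [hδ, haa', hba'])
  -- reading off a scalar
  have hd'z : polarBilin Q (E d') (E z₂) = 0 := hz₂T d' (by simp [hT7])
  obtain ⟨_, _, hm2⟩ := hK d' z₂ hQd' hd'z
  have hzd' : polarBilin Q (E z) (E d') = 0 := hc (hzT d' (by simp [hT7]))
  have hεd' : polarBilin Q ε (E d') = η := by simp [hε, hdd', hcd']
  have hεz₂ : polarBilin Q ε (E z₂) = 0 := by
    simp [hε, hz₂T d (by simp [hT7]), hz₂T c (by simp [hT7])]
  have hk2 : ∀ σ : F, InE Q K (E z) (σ • ε) → InE Q K (E z) ((σ * η) • E z₂) := by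
    intro σ hσ
    have h1 := hσ.conj hm2 (Orth.toGL_mem_isometry Q _)
    rw [eich_apply_perp hQd' hd'z hzd' hzz₂, Matrix.mulVec_smul, Orth.eichGL_mulVec, hεd', hεz₂, hQz₂, zero_mul,
      add_zero, zero_smul, sub_zero, smul_add, smul_smul] at h1
    exact inE_diff hσ h1
  have hz2 : z₂ ∉ Submodule.span F₀ {z} := by simpa using hz₂s
  have hz₂0 : z₂ ≠ 0 := fun h => hz2 (by rw [h]; exact Submodule.zero_mem _)
  have hzz : z ∉ Submodule.span F₀ {z₂} := fun hm => by
    obtain ⟨i, hi⟩ := Submodule.mem_span_singleton.mp hm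
    rcases eq_or_ne i 0 with hi0 | hi0
    · exact hz0 (by rw [← hi, hi0, zero_smul])
    · exact hz2 (Submodule.mem_span_singleton.mpr ⟨i⁻¹, by rw [← hi, smul_smul, inv_mul_cancel₀ hi0, one_smul]⟩)
  obtain ⟨σ, hσ, hσK⟩ : ∃ σ : F, σ ∉ F₀ ∧ InE Q K (E z) (σ • E z₂) := by
    by_contra hall
    push Not at hall
    refine hst ?_
    have h1 : s * η ∈ F₀ := by_contra fun h => hall _ h (hk2 s hs')
    have h2 : t * η ∈ F₀ := by_contra fun h => hall _ h (hk2 t ht')
    have := F₀.div_mem h1 h2
    rwa [mul_div_mul_right _ _ hcy] at this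
  exact R.omega_le_of_param hK hQz hQz₂ hzz₂ hzz hz₂0 hσ hσK

end Cfsg.Agent.Lib.ThreeTransp.SubOrth
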