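import Cfsg.Agent.Lib.MaxSub.Transvec

/-!
Pure tensors in `F^a ⊗ F^b`, Kronecker products, and the recognition of `1 ⊗ transvection`.
-/

set_option autoImplicit false

namespace Cfsg.Agent.Lib.ThreeTransp.Tensor

open Matrix Module
open Cfsg.Agent.Lib.MaxSub (tv tvMat_mulVec exists_functional eq_of_mulVec_eq toVec toVec_dot)
open scoped MatrixGroups Matrix Kronecker

variable {a b : ℕ} {F : Type*} [Field F]

/-- The pure tensor. -/
def pure (x : Fin a → F) (u : Fin b → F) : Fin a × Fin b → F := fun p => x p.1 * u p.2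

theorem pure_add_left (x y : Fin a → F) (u : Fin b → F) : pure (x + y) u = pure x u + pure y u := by
  funext p; simp [pure, add_mul]

theorem pure_add_right (x : Fin a → F) (u w : Fin b → F) : pure x (u + w) = pure x u + pure x w := by
  funext p; simp [pure, mul_add]

theorem pure_smul_left (c : F) (x : Fin a → F) (u : Fin b → F) : pure (c • x) u = c • pure x u := by
  funext p; simp [pure, mul_assoc]

theorem pure_smul_right (c : F) (x : Fin a → F) (u : Fin b → F) : pure x (c • u) = c • pure x u := by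
  funext p; simp [pure, mul_left_comm]

theorem pure_zero_left (u : Fin b → F) : pure (0 : Fin a → F) u = 0 := by funext p; simp [pure]

theorem pure_zero_right (x : Fin a → F) : pure x (0 : Fin b → F) = 0 := by funext p; simp [pure]

theorem pure_sub_right (x : Fin a → F) (u w : Fin b → F) : pure x (u - w) = pure x u - pure x w := by
  funext p; simp [pure, mul_sub]

theorem pure_dot (x : Fin a → F) (u : Fin b → F) (y : Fin a → F) (w : Fin b → F) :
    pure x u ⬝ᵥ pure y w = (x ⬝ᵥ y) * (u ⬝ᵥ w) := by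
  simp only [dotProduct, pure, Fintype.sum_prod_type, Finset.sum_mul_sum]
  exact Finset.sum_congr rfl fun i _ => Finset.sum_congr rfl fun j _ => by ring

theorem vecMulVec_pure (x : Fin a → F) (u : Fin b → F) (y : Fin a → F) (w : Fin b → F) :
    Matrix.vecMulVec (pure x u) (pure y w) = Matrix.vecMulVec x y ⊗ₖ Matrix.vecMulVec u w := by
  ext ⟨i, j⟩ ⟨k, l⟩
  simp [pure, Matrix.vecMulVec_apply]
  ring

theorem kron_mulVec_pure (A : Matrix (Fin a) (Fin a) F) (B : Matrix (Fin b) (Fin b) F) (x : Fin a → F)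
    (u : Fin b → F) : (A ⊗ₖ B) *ᵥ pure x u = pure (A *ᵥ x) (B *ᵥ u) := by
  funext ⟨i, j⟩
  simp only [Matrix.mulVec, dotProduct, pure, kroneckerMap_apply, Fintype.sum_prod_type, Finset.sum_mul_sum]
  exact Finset.sum_congr rfl fun k _ => Finset.sum_congr rfl fun l _ => by ring

theorem single_pure (i : Fin a) (j : Fin b) (c : F) :
    (Pi.single (i, j) c : Fin a × Fin b → F) = pure (Pi.single i c) (Pi.single j 1) := by
  funext ⟨k, l⟩
  simp only [pure, Pi.single_apply, Prod.mk.injEq]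
  by_cases hk : k = i <;> by_cases hl : l = j <;> simp [hk, hl]

/-- Matrices agreeing on pure tensors are equal. -/
theorem eq_of_pure {A B : Matrix (Fin a × Fin b) (Fin a × Fin b) F}
    (h : ∀ x u, A *ᵥ pure x u = B *ᵥ pure x u) : A = B :=
  Matrix.ext_of_mulVec_single fun p => by rw [show p = (p.1, p.2) from rfl, single_pure]; exact h _ _

/-- Contraction of the second factor. -/
def ctr (φ : Fin b → F) : (Fin a × Fin b → F) →ₗ[F] (Fin a → F) where
  toFun p i := ∑ j, p (i, j) * φ j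
  map_add' p q := by funext i; simp [add_mul, Finset.sum_add_distrib]
  map_smul' c p := by funext i; simp [mul_assoc, Finset.mul_sum]

theorem ctr_pure (φ : Fin b → F) (x : Fin a → F) (u : Fin b → F) : ctr φ (pure x u) = (φ ⬝ᵥ u) • x := by
  funext i
  simp only [ctr, LinearMap.coe_mk, AddHom.coe_mk, pure, Pi.smul_apply, smul_eq_mul, dotProduct, Finset.sum_mul]
  exact Finset.sum_congr rfl fun j _ => by ring

/-- Contraction of the first factor. -/
def ctl (η : Fin a → F) : (Fin a × Fin b → F) →ₗ[F] (Fin b → F) where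
  toFun p j := ∑ i, η i * p (i, j)
  map_add' p q := by funext j; simp [mul_add, Finset.sum_add_distrib]
  map_smul' c p := by funext j; simp [mul_left_comm, Finset.mul_sum]

theorem ctl_pure (η : Fin a → F) (x : Fin a → F) (u : Fin b → F) : ctl η (pure x u) = (η ⬝ᵥ x) • u := by
  funext j
  simp only [ctl, LinearMap.coe_mk, AddHom.coe_mk, pure, Pi.smul_apply, smul_eq_mul, dotProduct, Finset.sum_mul]
  exact Finset.sum_congr rfl fun i _ => by ring

theorem eq_smul_of_ctr {p : Fin a × Fin b → F} {β ξ : Fin b → F} (hξ : ξ ⬝ᵥ β = 1)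
    (h : ∀ ψ : Fin b → F, ψ ⬝ᵥ β = 0 → ctr ψ p = 0) : p = pure (ctr ξ p) β := by
  funext ⟨i, j⟩
  have h1 := congrFun (h (Pi.single j 1 - β j • ξ)
    (by rw [sub_dotProduct, smul_dotProduct, hξ, single_dotProduct]; simp)) i
  simp only [ctr, LinearMap.coe_mk, AddHom.coe_mk, Pi.sub_apply, Pi.smul_apply, smul_eq_mul, mul_sub,
    Finset.sum_sub_distrib, Pi.single_apply, mul_ite, mul_one, mul_zero, Finset.sum_ite_eq', Finset.mem_univ,
    if_true, Pi.zero_apply, sub_eq_zero] at h1
  rw [h1, pure]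
  simp only [ctr, LinearMap.coe_mk, AddHom.coe_mk, Finset.sum_mul]
  exact Finset.sum_congr rfl fun k _ => by ring

theorem exists_dot_one {β : Fin b → F} (hβ : β ≠ 0) : ∃ ξ : Fin b → F, ξ ⬝ᵥ β = 1 := by
  obtain ⟨ξ, -, h⟩ := exists_functional (⊥ : Submodule F (Fin b → F)) (x := β) (by simpa using hβ)
  exact ⟨ξ, h⟩

theorem pure_left_cancel {x y : Fin a → F} {u : Fin b → F} (hu : u ≠ 0) (h : pure x u = pure y u) : x = y := by
  obtain ⟨φ, hφ⟩ := exists_dot_one hu
  have := congrArg (ctr φ) h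
  rwa [ctr_pure, ctr_pure, hφ, one_smul, one_smul] at this

theorem pure_right_cancel {x : Fin a → F} {u w : Fin b → F} (hx : x ≠ 0) (h : pure x u = pure x w) : u = w := by
  obtain ⟨η, -, hη⟩ := exists_functional (⊥ : Submodule F (Fin a → F)) (x := x) (by simpa using hx)
  have := congrArg (ctl η) h
  rwa [ctl_pure, ctl_pure, hη, one_smul, one_smul] at this

theorem pure_ne_zero {x : Fin a → F} {u : Fin b → F} (hx : x ≠ 0) (hu : u ≠ 0) : pure x u ≠ 0 := fun h =>
  hu (pure_right_cancel hx (h.trans (pure_zero_right x).symm))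

theorem pure_indep {x y : Fin a → F} (h : ¬ ∃ c : F, c • x = y) (hx : x ≠ 0) {u w : Fin b → F}
    (e : pure x u + pure y w = 0) : u = 0 ∧ w = 0 := by
  obtain ⟨η, hη, hη1⟩ := exists_functional (F ∙ x) (x := y) fun hy => h (Submodule.mem_span_singleton.mp hy)
  have e1 := congrArg (ctl η) e
  rw [map_add, ctl_pure, ctl_pure, hη1, hη x (Submodule.mem_span_singleton_self x), zero_smul, zero_add, one_smul,
    map_zero] at e1
  subst e1
  rw [pure_zero_right, add_zero] at e
  exact ⟨pure_right_cancel hx (e.trans (pure_zero_right x).symm), rfl⟩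

/-- Kronecker products as a homomorphism. -/
noncomputable def kr : GL (Fin a) F × GL (Fin b) F →* GL (Fin a × Fin b) F where
  toFun gh :=
    { val := (gh.1 : Matrix (Fin a) (Fin a) F) ⊗ₖ (gh.2 : Matrix (Fin b) (Fin b) F)
      inv := ((gh.1⁻¹ : GL (Fin a) F) : Matrix (Fin a) (Fin a) F) ⊗ₖ ((gh.2⁻¹ : GL (Fin b) F) : Matrix (Fin b) (Fin b) F)
      val_inv := by
        rw [← Matrix.mul_kronecker_mul, ← Units.val_mul, ← Units.val_mul, mul_inv_cancel, mul_inv_cancel,
          Units.val_one, Units.val_one, Matrix.one_kronecker_one]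
      inv_val := by
        rw [← Matrix.mul_kronecker_mul, ← Units.val_mul, ← Units.val_mul, inv_mul_cancel, inv_mul_cancel,
          Units.val_one, Units.val_one, Matrix.one_kronecker_one] }
  map_one' := Units.ext (by simp)
  map_mul' g h := Units.ext (by simp [Matrix.mul_kronecker_mul])

theorem kr_pure (gh : GL (Fin a) F × GL (Fin b) F) (x : Fin a → F) (u : Fin b → F) :
    (kr gh : Matrix (Fin a × Fin b) (Fin a × Fin b) F) *ᵥ pure x u =
      pure ((gh.1 : Matrix (Fin a) (Fin a) F) *ᵥ x) ((gh.2 : Matrix (Fin b) (Fin b) F) *ᵥ u) :=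
  kron_mulVec_pure _ _ _ _

theorem mem_kronecker {g : GL (Fin a × Fin b) F} :
    g ∈ Cfsg.Geo.kroneckerSubgroup a b F ↔ ∃ gh, kr gh = g :=
  ⟨fun ⟨x, y, h⟩ => ⟨(x, y), Units.ext h.symm⟩, fun ⟨gh, h⟩ => ⟨gh.1, gh.2, h ▸ rfl⟩⟩

theorem kr_det (gh : GL (Fin a) F × GL (Fin b) F) (h1 : gh.1 ∈ Cfsg.Geo.specialLinear (Fin a) F)
    (h2 : gh.2 ∈ Cfsg.Geo.specialLinear (Fin b) F) : kr gh ∈ Cfsg.Geo.specialLinear (Fin a × Fin b) F := by
  refine MonoidHom.mem_ker.mpr (Units.ext ?_)
  have e1 : (gh.1 : Matrix (Fin a) (Fin a) F).det = 1 := congrArg Units.val (MonoidHom.mem_ker.mp h1)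
  have e2 : (gh.2 : Matrix (Fin b) (Fin b) F).det = 1 := congrArg Units.val (MonoidHom.mem_ker.mp h2)
  show ((gh.1 : Matrix (Fin a) (Fin a) F) ⊗ₖ (gh.2 : Matrix (Fin b) (Fin b) F)).det = 1
  rw [Matrix.det_kronecker, e1, e2, one_pow, one_pow, one_mul]

/-- A matrix sending every vector to a multiple is scalar. -/
theorem eq_smul_one {m : ℕ} {C : Matrix (Fin m) (Fin m) F} (h : ∀ x, ∃ c : F, C *ᵥ x = c • x) :
    ∃ c : F, C = c • 1 := by
  classical
  rcases isEmpty_or_nonempty (Fin m) with hm | hm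
  · exact ⟨0, Matrix.ext fun i => (hm.false i).elim⟩
  choose c hc using fun i : Fin m => h (Pi.single i 1)
  have key : ∀ i j, c i = c j := by
    intro i j
    rcases eq_or_ne i j with rfl | hij
    · rfl
    obtain ⟨d, hd⟩ := h (Pi.single i 1 + Pi.single j 1)
    rw [Matrix.mulVec_add, hc, hc] at hd
    have e1 := congrFun hd i
    have e2 := congrFun hd j
    simp [hij, hij.symm] at e1 e2
    rw [e1, e2]
  obtain ⟨i₀⟩ := hm
  refine ⟨c i₀, Matrix.ext_of_mulVec_single fun j => ?_⟩
  rw [hc, key j i₀, Matrix.smul_mulVec, Matrix.one_mulVec]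

/-- `1 ⊗` transvection. -/
noncomputable def T (β φ : Fin b → F) (h : φ ⬝ᵥ β = 0) : GL (Fin a × Fin b) F := kr (1, tv β φ h)

theorem T_pure {β φ : Fin b → F} (h : φ ⬝ᵥ β = 0) (x : Fin a → F) (u : Fin b → F) :
    (T (a := a) β φ h : Matrix (Fin a × Fin b) (Fin a × Fin b) F) *ᵥ pure x u = pure x u + (φ ⬝ᵥ u) • pure x β := by
  rw [T, kr_pure, Units.val_one, Matrix.one_mulVec, Cfsg.Agent.Lib.MaxSub.tv_mulVec, pure_add_right, pure_smul_right]

/-- The linear map `x ↦ x ⊗ u`. -/
def left (u : Fin b → F) : (Fin a → F) →ₗ[F] (Fin a × Fin b → F) where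
  toFun x := pure x u
  map_add' x y := pure_add_left x y u
  map_smul' c x := pure_smul_left c x u

/-- The linear map `u ↦ x ⊗ u`. -/
def right (x : Fin a → F) : (Fin b → F) →ₗ[F] (Fin a × Fin b → F) where
  toFun u := pure x u
  map_add' u w := pure_add_right x u w
  map_smul' c u := pure_smul_right c x u

theorem T_mulVec {β φ : Fin b → F} (h : φ ⬝ᵥ β = 0) (p : Fin a × Fin b → F) :
    (T (a := a) β φ h : Matrix (Fin a × Fin b) (Fin a × Fin b) F) *ᵥ p = p + pure (ctr φ p) β := by
  have h1 : Matrix.mulVecLin (T (a := a) β φ h : Matrix (Fin a × Fin b) (Fin a × Fin b) F) =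
      LinearMap.id + (left β).comp (ctr φ) := by
    refine (Pi.basisFun F (Fin a × Fin b)).ext fun q => ?_
    rw [Pi.basisFun_apply, show q = (q.1, q.2) from rfl, single_pure, Matrix.mulVecLin_apply, T_pure,
      LinearMap.add_apply, LinearMap.id_apply, LinearMap.comp_apply, ctr_pure, map_smul]
    rfl
  exact LinearMap.congr_fun h1 p

/-- An element of the Kronecker group with small square-zero displacement is `1 ⊗` a transvection. -/
theorem eq_T [Finite F] (h1a : 1 ≤ a) (hab : a < b) (h5 : 5 ≤ b) (gh : GL (Fin a) F × GL (Fin b) F) (hne : kr gh ≠ 1)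
    (hsq : ∀ p, ((kr gh : Matrix (Fin a × Fin b) (Fin a × Fin b) F) - 1) *ᵥ
      (((kr gh : Matrix (Fin a × Fin b) (Fin a × Fin b) F) - 1) *ᵥ p) = 0)
    (hrk : finrank F (LinearMap.range (Matrix.mulVecLin ((kr gh : Matrix (Fin a × Fin b) (Fin a × Fin b) F) - 1))) ≤ a) :
    ∃ (β φ : Fin b → F) (h : φ ⬝ᵥ β = 0), β ≠ 0 ∧ φ ≠ 0 ∧ kr gh = T β φ h := by
  classical
  obtain ⟨g, h⟩ := gh
  set G : Matrix (Fin a) (Fin a) F := (g : Matrix (Fin a) (Fin a) F) with hG
  set H : Matrix (Fin b) (Fin b) F := (h : Matrix (Fin b) (Fin b) F) with hH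
  set D := (kr (g, h) : Matrix (Fin a × Fin b) (Fin a × Fin b) F) - 1 with hD
  have hDp : ∀ x u, D *ᵥ pure x u = pure (G *ᵥ x) (H *ᵥ u) - pure x u := fun x u => by
    rw [hD, Matrix.sub_mulVec, kr_pure, Matrix.one_mulVec]
  have hinjG : Function.Injective (G *ᵥ ·) := Matrix.mulVec_injective_of_isUnit g.isUnit
  have hinjH : Function.Injective (H *ᵥ ·) := Matrix.mulVec_injective_of_isUnit h.isUnit
  have hsq' : ∀ x u, pure (G *ᵥ (G *ᵥ x)) (H *ᵥ (H *ᵥ u)) - pure (G *ᵥ x) (H *ᵥ u) -
      (pure (G *ᵥ x) (H *ᵥ u) - pure x u) = 0 := fun x u => by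
    have := hsq (pure x u)
    rwa [hDp, Matrix.mulVec_sub, hDp, hDp] at this
  by_cases hg : ∃ lam : F, G = lam • 1
  · -- the left factor is scalar
    obtain ⟨lam, hlam⟩ := hg
    set H' := lam • H - 1 with hH'
    have hDH : ∀ x u, D *ᵥ pure x u = pure x (H' *ᵥ u) := fun x u => by
      rw [hDp, hlam, Matrix.smul_mulVec, Matrix.one_mulVec, hH', Matrix.sub_mulVec, Matrix.smul_mulVec,
        Matrix.one_mulVec, pure_smul_left, pure_sub_right, pure_smul_right]
    obtain ⟨u₀, hu₀⟩ : ∃ u, H' *ᵥ u ≠ 0 := by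
      by_contra hc
      push Not at hc
      refine hne (Units.ext (eq_of_pure fun x u => ?_))
      have := hDH x u
      rw [hc, pure_zero_right, hD, Matrix.sub_mulVec, sub_eq_zero] at this
      exact this
    set β := H' *ᵥ u₀ with hβ
    have hall : ∀ u, ∃ c : F, H' *ᵥ u = c • β := by
      intro u
      by_contra hc
      push Not at hc
      set z := H' *ᵥ u with hz
      let f : (Fin a → F) × (Fin a → F) →ₗ[F] (Fin a × Fin b → F) := (left β).coprod (left z)
      have hf : ∀ q, f q = pure q.1 β + pure q.2 z := fun q => rfl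
      have hinj : Function.Injective f := (injective_iff_map_eq_zero f).mpr fun q hq => by
        rw [hf] at hq
        obtain ⟨φ, hφ, hφ1⟩ := exists_functional (F ∙ β) (x := z) fun hzm => by
          obtain ⟨c, hc'⟩ := Submodule.mem_span_singleton.mp hzm
          exact hc c hc'.symm
        have e1 := congrArg (ctr φ) hq
        rw [map_add, ctr_pure, ctr_pure, hφ1, hφ β (Submodule.mem_span_singleton_self β), zero_smul, zero_add,
          one_smul, map_zero] at e1
        rw [e1, pure_zero_left, add_zero] at hq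
        exact Prod.ext (pure_left_cancel hu₀ (hq.trans (pure_zero_left β).symm)) e1
      have hle : LinearMap.range f ≤ LinearMap.range (Matrix.mulVecLin D) := by
        rintro _ ⟨q, rfl⟩
        refine ⟨pure q.1 u₀ + pure q.2 u, ?_⟩
        rw [Matrix.mulVecLin_apply, Matrix.mulVec_add, hDH, hDH, hf]
      have h1 := Submodule.finrank_mono hle
      rw [LinearMap.finrank_range_of_inj hinj, Module.finrank_prod, Module.finrank_fin_fun] at h1
      omega
    choose c hc using hall
    let φ : Fin b → F := fun j => c (Pi.single j 1)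
    have hH'v : ∀ u, H' *ᵥ u = (φ ⬝ᵥ u) • β := by
      intro u
      conv_lhs => rw [pi_eq_sum_univ' u]
      rw [Matrix.mulVec_sum, dotProduct, Finset.sum_smul]
      refine Finset.sum_congr rfl fun j _ => ?_
      rw [Matrix.mulVec_smul, hc (Pi.single j 1), smul_smul, mul_comm]
    have hφ0 : φ ≠ 0 := fun e => hu₀ (by rw [hβ, hH'v, e, zero_dotProduct, zero_smul])
    have hφβ : φ ⬝ᵥ β = 0 := by
      let i₀ : Fin a := ⟨0, h1a⟩
      have hx : (Pi.single i₀ (1 : F) : Fin a → F) ≠ 0 := by simp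
      have h1 := hsq (pure (Pi.single i₀ (1 : F) : Fin a → F) u₀)
      rw [hDH, hDH, ← hβ] at h1
      have h2 := pure_right_cancel hx (h1.trans (pure_zero_right _).symm)
      rw [hH'v, smul_eq_zero] at h2
      exact h2.resolve_right hu₀
    refine ⟨β, φ, hφβ, hu₀, hφ0, Units.ext (eq_of_pure fun x u => ?_)⟩
    rw [T_pure]
    have h1 := hDH x u
    rw [hD, Matrix.sub_mulVec, Matrix.one_mulVec, sub_eq_iff_eq_add', hH'v, pure_smul_right] at h1
    exact h1
  exfalso
  by_cases hh : ∃ lam : F, H = lam • 1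
  · -- the right factor is scalar
    obtain ⟨lam, hlam⟩ := hh
    set G' := lam • G - 1 with hG'
    have hDG : ∀ x u, D *ᵥ pure x u = pure (G' *ᵥ x) u := fun x u => by
      rw [hDp, hlam, Matrix.smul_mulVec, Matrix.one_mulVec, hG', Matrix.sub_mulVec, Matrix.smul_mulVec,
        Matrix.one_mulVec, pure_smul_right, ← pure_smul_left]
      funext p; simp [pure, sub_mul]
    obtain ⟨x₀, hx₀⟩ : ∃ x, G' *ᵥ x ≠ 0 := by
      by_contra hc
      push Not at hc
      refine hne (Units.ext (eq_of_pure fun x u => ?_))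
      have := hDG x u
      rw [hc, pure_zero_left, hD, Matrix.sub_mulVec, sub_eq_zero] at this
      exact this
    have hle : LinearMap.range (right (b := b) (G' *ᵥ x₀)) ≤ LinearMap.range (Matrix.mulVecLin D) := by
      rintro _ ⟨u, rfl⟩
      exact ⟨pure x₀ u, hDG x₀ u⟩
    have h1 := Submodule.finrank_mono hle
    rw [LinearMap.finrank_range_of_inj fun u w e => pure_right_cancel hx₀ e, Module.finrank_fin_fun] at h1
    omega
  by_cases h2 : (2 : F) = 0
  swap
  · -- a factor must be scalar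
    obtain ⟨x, hx⟩ : ∃ x, ¬ ∃ c : F, c • x = G *ᵥ x := by
      by_contra hc
      push Not at hc
      exact hg (eq_smul_one fun x => (hc x).imp fun c hc => hc.symm)
    obtain ⟨η, hη, hη1⟩ := exists_functional (F ∙ x) (x := G *ᵥ x) fun hm => hx (Submodule.mem_span_singleton.mp hm)
    have key : ∀ u, (η ⬝ᵥ G *ᵥ (G *ᵥ x)) • (H *ᵥ (H *ᵥ u)) = (2 : F) • (H *ᵥ u) := fun u => by
      have h1 := congrArg (ctl η) (hsq' x u)
      simp only [map_sub, map_zero, ctl_pure, hη1, hη x (Submodule.mem_span_singleton_self x), zero_smul,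
        one_smul] at h1
      linear_combination (norm := module) h1
    set cst := η ⬝ᵥ G *ᵥ (G *ᵥ x)
    refine hh ⟨2 / cst, Matrix.ext_of_mulVec_single fun j => ?_⟩
    generalize (Pi.single j (1 : F) : Fin b → F) = u
    rw [Matrix.smul_mulVec, Matrix.one_mulVec]
    have hc0 : cst ≠ 0 := fun e => by
      have h1 := key (Pi.single ⟨0, by omega⟩ 1)
      rw [e, zero_smul, eq_comm, smul_eq_zero] at h1
      have h3 := hinjH ((h1.resolve_left h2).trans (Matrix.mulVec_zero H).symm)
      simp at h3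
    refine hinjH ?_
    show H *ᵥ (H *ᵥ u) = H *ᵥ ((2 / cst) • u)
    rw [Matrix.mulVec_smul, div_eq_mul_inv, mul_comm, mul_smul, ← key, inv_smul_smul₀ hc0]
  -- characteristic two: both squares are scalar
  have hadd : ∀ x : Fin a × Fin b → F, -x = x := fun x => by
    funext q
    have : x q + x q = 0 := by rw [← two_mul, h2, zero_mul]
    rw [Pi.neg_apply, neg_eq_of_add_eq_zero_left this]
  have hnegF : ∀ c : F, -c = c := fun c => neg_eq_of_add_eq_zero_left (by rw [← two_mul, h2, zero_mul])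
  have he : ∀ x u, pure (G *ᵥ (G *ᵥ x)) (H *ᵥ (H *ᵥ u)) + pure x u = 0 := fun x u => by
    have h1 := hsq' x u
    have h3 := hadd (pure (G *ᵥ x) (H *ᵥ u))
    linear_combination (norm := module) h1 - h3
  obtain ⟨μ, hμ⟩ : ∃ μ : F, G * G = μ • 1 := by
    refine eq_smul_one fun x => ?_
    rw [← Matrix.mulVec_mulVec]
    by_contra hc
    push Not at hc
    obtain ⟨η, hη, hη1⟩ := exists_functional (F ∙ x) (x := G *ᵥ (G *ᵥ x)) fun hm => by
      obtain ⟨c, hc'⟩ := Submodule.mem_span_singleton.mp hm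
      exact hc c hc'.symm
    have h1 := congrArg (ctl η) (he x (Pi.single ⟨0, by omega⟩ 1))
    rw [map_add, ctl_pure, ctl_pure, hη1, hη x (Submodule.mem_span_singleton_self x), zero_smul, one_smul, add_zero,
      map_zero] at h1
    have h3 := hinjH ((hinjH (h1.trans (by simp [Matrix.mulVec_zero]) :
      H *ᵥ (H *ᵥ (Pi.single ⟨0, by omega⟩ 1)) = H *ᵥ (0 : Fin b → F))).trans (Matrix.mulVec_zero H).symm)
    simp at h3
  obtain ⟨x₀, hx₀, hx₀g⟩ : ∃ x : Fin a → F, x ≠ 0 ∧ G *ᵥ (G *ᵥ x) = μ • x := ⟨Pi.single ⟨0, h1a⟩ 1, by simp,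
    by rw [Matrix.mulVec_mulVec, hμ, Matrix.smul_mulVec, Matrix.one_mulVec]⟩
  have hμ0 : μ ≠ 0 := fun e => by
    rw [e, zero_smul] at hx₀g
    exact hx₀ (hinjG ((hinjG (hx₀g.trans (Matrix.mulVec_zero G).symm)).trans (Matrix.mulVec_zero G).symm))
  have hH2 : ∀ u, H *ᵥ (H *ᵥ u) = μ⁻¹ • u := by
    intro u
    have h1 := he x₀ u
    rw [hx₀g, pure_smul_left, ← pure_smul_right, ← pure_add_right] at h1
    have h3 := pure_right_cancel hx₀ (h1.trans (pure_zero_right x₀).symm)
    have h4 : μ • (H *ᵥ (H *ᵥ u)) = u := by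
      funext j
      have := congrFun h3 j
      simp only [Pi.add_apply, Pi.zero_apply] at this
      rw [eq_neg_of_add_eq_zero_left this, hnegF]
    rw [eq_inv_smul_iff₀ hμ0]
    exact h4
  obtain ⟨s, hs⟩ := FiniteField.isSquare_of_char_two (by
    haveI : CharP F 2 := CharTwo.of_one_ne_zero_of_two_eq_zero one_ne_zero h2
    exact ringChar.eq F 2) μ
  have hs0 : s ≠ 0 := fun e => hμ0 (by rw [hs, e, mul_zero])
  set G' := s⁻¹ • G - 1 with hG'
  set H' := s • H - 1 with hH'
  have hG'2 : ∀ x, G' *ᵥ (G' *ᵥ x) = 0 := fun x => by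
    have h1 : G *ᵥ (G *ᵥ x) = μ • x := by rw [Matrix.mulVec_mulVec, hμ, Matrix.smul_mulVec, Matrix.one_mulVec]
    simp only [hG', Matrix.sub_mulVec, Matrix.smul_mulVec, Matrix.one_mulVec, Matrix.mulVec_sub, Matrix.mulVec_smul,
      h1, hs]
    match_scalars
    · field_simp; linear_combination h2
    · field_simp; linear_combination -h2
  have hH'2 : ∀ u, H' *ᵥ (H' *ᵥ u) = 0 := fun u => by
    simp only [hH', Matrix.sub_mulVec, Matrix.smul_mulVec, Matrix.one_mulVec, Matrix.mulVec_sub, Matrix.mulVec_smul,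
      hH2 u, hs]
    match_scalars
    · field_simp; linear_combination h2
    · field_simp; linear_combination (-s) * h2
  have hDGH : ∀ x u, D *ᵥ pure x u = pure (G' *ᵥ x) (H' *ᵥ u) + pure (G' *ᵥ x) u + pure x (H' *ᵥ u) := by
    intro x u
    rw [hDp]
    funext q
    simp only [hG', hH', Matrix.sub_mulVec, Matrix.smul_mulVec, Matrix.one_mulVec, pure, Pi.sub_apply, Pi.smul_apply,
      Pi.add_apply, smul_eq_mul]
    field_simp
    ring
  obtain ⟨y₁, hy₁⟩ : ∃ y, G' *ᵥ y ≠ 0 := by
    by_contra hc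
    push Not at hc
    refine hg ⟨s, Matrix.ext_of_mulVec_single fun j => ?_⟩
    have h1 := hc (Pi.single j 1)
    rw [hG', Matrix.sub_mulVec, Matrix.smul_mulVec, Matrix.one_mulVec, sub_eq_zero, inv_smul_eq_iff₀ hs0] at h1
    rw [Matrix.smul_mulVec, Matrix.one_mulVec, h1]
  obtain ⟨w₀, hw₀⟩ : ∃ w, H' *ᵥ w ≠ 0 := by
    by_contra hc
    push Not at hc
    refine hh ⟨s⁻¹, Matrix.ext_of_mulVec_single fun j => ?_⟩
    have h1 := hc (Pi.single j 1)
    rw [hH', Matrix.sub_mulVec, Matrix.smul_mulVec, Matrix.one_mulVec, sub_eq_zero] at h1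
    rw [Matrix.smul_mulVec, Matrix.one_mulVec, eq_inv_smul_iff₀ hs0, h1]
  set Kh := LinearMap.ker (Matrix.mulVecLin H') with hKh
  have hKH : ∀ w : Kh, H' *ᵥ (w : Fin b → F) = 0 := fun w => w.2
  have hKhdim : b ≤ 2 * finrank F Kh := by
    have h1 := (Matrix.mulVecLin H').finrank_range_add_finrank_ker
    have h3 : finrank F (LinearMap.range (Matrix.mulVecLin H')) ≤ finrank F Kh := Submodule.finrank_mono (by
      rintro _ ⟨u, rfl⟩; exact hH'2 u)
    rw [Module.finrank_fin_fun, ← hKh] at h1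
    omega
  have hDker : ∀ y (w : Kh), D *ᵥ pure y (w : Fin b → F) = pure (G' *ᵥ y) (w : Fin b → F) := fun y w => by
    rw [hDGH, hKH, pure_zero_right, pure_zero_right, zero_add, add_zero]
  have hbig : ∀ {W : Type _} [AddCommGroup W] [Module F W] [FiniteDimensional F W] (f : W →ₗ[F] (Fin a × Fin b → F)),
      Function.Injective f → (∀ q, ∃ p, D *ᵥ p = f q) → a < finrank F W → False := by
    intro W _ _ _ f hinj hf hlt
    have hle : LinearMap.range f ≤ LinearMap.range (Matrix.mulVecLin D) := by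
      rintro _ ⟨q, rfl⟩
      obtain ⟨p, hp⟩ := hf q
      exact ⟨p, hp⟩
    have h1 := Submodule.finrank_mono hle
    rw [LinearMap.finrank_range_of_inj hinj] at h1
    omega
  by_cases hr : ∃ y₂, ¬ ∃ c : F, c • (G' *ᵥ y₁) = G' *ᵥ y₂
  · obtain ⟨y₂, hy₂⟩ := hr
    let f : Kh × Kh →ₗ[F] (Fin a × Fin b → F) :=
      ((right (G' *ᵥ y₁)).comp Kh.subtype).coprod ((right (G' *ᵥ y₂)).comp Kh.subtype)
    refine hbig f ((injective_iff_map_eq_zero f).mpr fun q hq => ?_) (fun q => ⟨pure y₁ q.1 + pure y₂ q.2, ?_⟩) ?_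
    · obtain ⟨e1, e2⟩ := pure_indep hy₂ hy₁ (show pure (G' *ᵥ y₁) (q.1 : Fin b → F) + pure (G' *ᵥ y₂) q.2 = 0 from hq)
      exact Prod.ext (Subtype.ext e1) (Subtype.ext e2)
    · rw [Matrix.mulVec_add, hDker, hDker]; rfl
    · rw [Module.finrank_prod]; omega
  · push Not at hr
    set u₁ := G' *ᵥ y₁ with hu₁
    obtain ⟨η, -, hη1⟩ := exists_functional (⊥ : Submodule F (Fin a → F)) (x := u₁) (by simpa using hy₁)
    let dη : (Fin a → F) →ₗ[F] F :=
      { toFun := fun x => η ⬝ᵥ x
        map_add' := fun x y => dotProduct_add η x y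
        map_smul' := fun c x => dotProduct_smul c η x }
    set U := LinearMap.ker (Matrix.mulVecLin G') ⊓ LinearMap.ker dη with hU
    have hUdim : a ≤ finrank F U + 2 := by
      have h1 := (Matrix.mulVecLin G').finrank_range_add_finrank_ker
      have h3 : finrank F (LinearMap.range (Matrix.mulVecLin G')) ≤ 1 := by
        refine (Submodule.finrank_mono (show LinearMap.range (Matrix.mulVecLin G') ≤ F ∙ u₁ by
          rintro _ ⟨y, rfl⟩
          obtain ⟨c, hc⟩ := hr y
          exact Submodule.mem_span_singleton.mpr ⟨c, hc⟩)).trans ?_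
        exact (finrank_span_singleton hy₁).le
      have h4 := (dη.domRestrict (LinearMap.ker (Matrix.mulVecLin G'))).finrank_range_add_finrank_ker
      have h6 : finrank F (LinearMap.range (dη.domRestrict (LinearMap.ker (Matrix.mulVecLin G')))) ≤ 1 :=
        (Submodule.finrank_le _).trans (finrank_self F).le
      have h7 : finrank F (LinearMap.ker (dη.domRestrict (LinearMap.ker (Matrix.mulVecLin G')))) ≤ finrank F U := by
        rw [← Submodule.finrank_map_subtype_eq]
        refine Submodule.finrank_mono ?_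
        rintro _ ⟨z, hz, rfl⟩
        exact ⟨z.2, hz⟩
      rw [Module.finrank_fin_fun] at h1
      omega
    set z := H' *ᵥ w₀ with hz
    let f : Kh × U →ₗ[F] (Fin a × Fin b → F) := ((right u₁).comp Kh.subtype).coprod ((left z).comp U.subtype)
    refine hbig f ((injective_iff_map_eq_zero f).mpr fun q hq => ?_)
      (fun q => ⟨pure y₁ q.1 + pure (q.2 : Fin a → F) w₀, ?_⟩) ?_
    · have h0 : pure u₁ (q.1 : Fin b → F) + pure (q.2 : Fin a → F) z = 0 := hq
      have h1 := congrArg (ctl η) h0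
      rw [map_add, ctl_pure, ctl_pure, hη1, show η ⬝ᵥ (q.2 : Fin a → F) = 0 from q.2.2.2, one_smul, zero_smul,
        add_zero, map_zero] at h1
      rw [h1, pure_zero_right, zero_add] at h0
      exact Prod.ext (Subtype.ext h1) (Subtype.ext (pure_left_cancel hw₀ (h0.trans (pure_zero_left z).symm)))
    · rw [Matrix.mulVec_add, hDker, hDGH, show G' *ᵥ (q.2 : Fin a → F) = 0 from q.2.2.1, pure_zero_left,
        pure_zero_left, zero_add, zero_add]
      rfl
    · rw [Module.finrank_prod]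
      omega

end Cfsg.Agent.Lib.ThreeTransp.Tensor
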