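import Cfsg.Agent.Lib.ThreeTransp.TensorBase

/-!
A group containing `SL_a ⊗ SL_b`, `a < b`, either preserves the tensor decomposition or contains the special linear
group.
-/

set_option autoImplicit false

namespace Cfsg.Agent.Lib.ThreeTransp.Tensor

open Matrix Module
open Cfsg.Agent.Lib.MaxSub (tv InK tv_mulVec tv_mem_specialLinear exists_functional)
open scoped MatrixGroups Matrix Kronecker

variable {a b : ℕ} {F : Type*} [Field F]

/-- The subgroup contains the products of special linear elements. -/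
def Contains (M : Subgroup (GL (Fin a × Fin b) F)) : Prop :=
  ∀ gh : GL (Fin a) F × GL (Fin b) F, gh.1 ∈ Cfsg.Geo.specialLinear (Fin a) F →
    gh.2 ∈ Cfsg.Geo.specialLinear (Fin b) F → kr gh ∈ M

/-- No transvection with pure centre and axis, incident in both factors. -/
def NoPure (M : Subgroup (GL (Fin a × Fin b) F)) : Prop :=
  ∀ (α η : Fin a → F) (β χ : Fin b → F), α ≠ 0 → η ≠ 0 → β ≠ 0 → χ ≠ 0 → η ⬝ᵥ α = 0 → χ ⬝ᵥ β = 0 →
    ¬ InK M (pure α β) (pure η χ)

/-- `x ⊗ u ↦ x ⊗ u + (χ u) • C x ⊗ β` lies in `M`. -/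
def InX (M : Subgroup (GL (Fin a × Fin b) F)) (C : Matrix (Fin a) (Fin a) F) (β χ : Fin b → F) : Prop :=
  χ ⬝ᵥ β = 0 ∧ ∃ g ∈ M, ∀ x u,
    (g : Matrix (Fin a × Fin b) (Fin a × Fin b) F) *ᵥ pure x u = pure x u + (χ ⬝ᵥ u) • pure (C *ᵥ x) β

variable {M : Subgroup (GL (Fin a × Fin b) F)}

theorem mulVec_inv_mulVec {κ : Type} [Fintype κ] [DecidableEq κ] (g : GL κ F) (p : κ → F) :
    ((g⁻¹ : GL κ F) : Matrix κ κ F) *ᵥ ((g : Matrix κ κ F) *ᵥ p) = p := by
  rw [Matrix.mulVec_mulVec, ← Units.val_mul, inv_mul_cancel, Units.val_one, Matrix.one_mulVec]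

theorem mulVec_mulVec_inv {κ : Type} [Fintype κ] [DecidableEq κ] (g : GL κ F) (p : κ → F) :
    (g : Matrix κ κ F) *ᵥ (((g⁻¹ : GL κ F) : Matrix κ κ F) *ᵥ p) = p := by
  rw [Matrix.mulVec_mulVec, ← Units.val_mul, mul_inv_cancel, Units.val_one, Matrix.one_mulVec]

theorem mulVec_mul {κ : Type} [Fintype κ] [DecidableEq κ] (g h : GL κ F) (p : κ → F) :
    ((g * h : GL κ F) : Matrix κ κ F) *ᵥ p = (g : Matrix κ κ F) *ᵥ ((h : Matrix κ κ F) *ᵥ p) := by
  rw [Units.val_mul, Matrix.mulVec_mulVec]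

theorem InX.add_axis {C : Matrix (Fin a) (Fin a) F} {β χ χ' : Fin b → F} (h : InX M C β χ) (h' : InX M C β χ') :
    InX M C β (χ + χ') := by
  obtain ⟨h0, g, hg, e⟩ := h
  obtain ⟨h0', g', hg', e'⟩ := h'
  refine ⟨by rw [add_dotProduct, h0, h0', add_zero], g * g', M.mul_mem hg hg', fun x u => ?_⟩
  rw [mulVec_mul, e', Matrix.mulVec_add, Matrix.mulVec_smul, e, e, h0, zero_smul, add_zero, add_dotProduct, add_smul]
  abel

theorem InX.add_map {C C' : Matrix (Fin a) (Fin a) F} {β χ : Fin b → F} (h : InX M C β χ) (h' : InX M C' β χ) :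
    InX M (C + C') β χ := by
  obtain ⟨h0, g, hg, e⟩ := h
  obtain ⟨-, g', hg', e'⟩ := h'
  refine ⟨h0, g * g', M.mul_mem hg hg', fun x u => ?_⟩
  rw [mulVec_mul, e', Matrix.mulVec_add, Matrix.mulVec_smul, e, e, h0, zero_smul, add_zero, Matrix.add_mulVec,
    pure_add_left, smul_add]
  abel

theorem InX.neg {C : Matrix (Fin a) (Fin a) F} {β χ : Fin b → F} (h : InX M C β χ) :
    InX M (-C) β χ ∧ InX M C β (-χ) := by
  obtain ⟨h0, g, hg, e⟩ := h
  have hi : ∀ x u, ((g⁻¹ : GL (Fin a × Fin b) F) : Matrix (Fin a × Fin b) (Fin a × Fin b) F) *ᵥ pure x u =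
      pure x u - (χ ⬝ᵥ u) • pure (C *ᵥ x) β := by
    intro x u
    have h1 : (g : Matrix (Fin a × Fin b) (Fin a × Fin b) F) *ᵥ (pure x u - (χ ⬝ᵥ u) • pure (C *ᵥ x) β) =
        pure x u := by
      rw [Matrix.mulVec_sub, Matrix.mulVec_smul, e, e, h0, zero_smul, add_zero, add_sub_cancel_right]
    conv_lhs => rw [← h1, mulVec_inv_mulVec]
  refine ⟨⟨h0, g⁻¹, M.inv_mem hg, fun x u => ?_⟩, by rw [neg_dotProduct, h0, neg_zero], g⁻¹, M.inv_mem hg,
    fun x u => ?_⟩
  · rw [hi, Matrix.neg_mulVec, ← neg_one_smul F (C *ᵥ x), pure_smul_left, smul_comm, neg_one_smul, sub_eq_add_neg]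
  · rw [hi, neg_dotProduct, neg_smul, sub_eq_add_neg]

theorem InX.sub_axis {C : Matrix (Fin a) (Fin a) F} {β χ χ' : Fin b → F} (h : InX M C β χ) (h' : InX M C β χ') :
    InX M C β (χ - χ') := sub_eq_add_neg χ χ' ▸ h.add_axis h'.neg.2

theorem InX.sub_map {C C' : Matrix (Fin a) (Fin a) F} {β χ : Fin b → F} (h : InX M C β χ) (h' : InX M C' β χ) :
    InX M (C - C') β χ := sub_eq_add_neg C C' ▸ h.add_map h'.neg.1

theorem InX.congr_smul {C : Matrix (Fin a) (Fin a) F} {β χ : Fin b → F} {c : F} (h : InX M C β (c • χ))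
    (h0 : χ ⬝ᵥ β = 0) : InX M (c • C) β χ := by
  obtain ⟨-, g, hg, e⟩ := h
  refine ⟨h0, g, hg, fun x u => ?_⟩
  rw [e, smul_dotProduct, Matrix.smul_mulVec, pure_smul_left, smul_smul, smul_eq_mul, mul_comm]

/-- Conjugation by a product element fixing the centre. -/
theorem InX.conj {C : Matrix (Fin a) (Fin a) F} {β χ : Fin b → F} (h : InX M C β χ)
    (gh : GL (Fin a) F × GL (Fin b) F) (hgh : kr gh ∈ M) (hβ : (gh.2 : Matrix (Fin b) (Fin b) F) *ᵥ β = β) :
    InX M ((gh.1 : Matrix (Fin a) (Fin a) F) * C * ((gh.1⁻¹ : GL (Fin a) F) : Matrix (Fin a) (Fin a) F)) β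
      (χ ᵥ* ((gh.2⁻¹ : GL (Fin b) F) : Matrix (Fin b) (Fin b) F)) := by
  obtain ⟨h0, g, hg, e⟩ := h
  refine ⟨?_, kr gh * g * (kr gh)⁻¹, M.mul_mem (M.mul_mem hgh hg) (M.inv_mem hgh), fun x u => ?_⟩
  · rw [← Matrix.dotProduct_mulVec]
    conv_lhs => rw [← hβ, mulVec_inv_mulVec]
    exact h0
  · rw [← map_inv, mulVec_mul, mulVec_mul, kr_pure, e, Matrix.mulVec_add, Matrix.mulVec_smul, kr_pure, kr_pure, hβ]
    simp only [Prod.fst_inv, Prod.snd_inv, mulVec_mulVec_inv, Matrix.mulVec_mulVec, ← Matrix.dotProduct_mulVec]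
    simp only [← Units.val_mul, mul_inv_cancel, Units.val_one, Matrix.one_mulVec, Matrix.mul_assoc]

variable (hM : Contains M)
include hM

/-- One axis gives all. -/
theorem InX.all_axes (hb : 3 ≤ b) {C : Matrix (Fin a) (Fin a) F} {β χ₀ : Fin b → F} (h : InX M C β χ₀)
    (hβ : β ≠ 0) (hχ₀ : χ₀ ≠ 0) {χ : Fin b → F} (hχ : χ ⬝ᵥ β = 0) : InX M C β χ := by
  classical
  have h0 := h.1
  have step : ∀ (w χ' : Fin b → F), χ₀ ⬝ᵥ w = 1 → χ' ⬝ᵥ β = 0 → χ' ⬝ᵥ w = 0 → InX M C β χ' := by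
    intro w χ' hw hβ' hw'
    have hg : kr ((1 : GL (Fin a) F), tv w χ' hw') ∈ M := hM _ (one_mem _) (tv_mem_specialLinear _ _ hw')
    have h1 := h.conj _ hg (by rw [tv_mulVec, hβ', zero_smul, add_zero])
    have h2 : χ₀ ᵥ* ((((tv w χ' hw')⁻¹ : GL (Fin b) F)) : Matrix (Fin b) (Fin b) F) = χ₀ - χ' := by
      refine dotProduct_eq _ _ fun u => ?_
      rw [← Matrix.dotProduct_mulVec, Cfsg.Agent.Lib.MaxSub.tv_inv, tv_mulVec, dotProduct_add, dotProduct_smul, hw,
        neg_dotProduct, sub_dotProduct, smul_eq_mul, mul_one, sub_eq_add_neg]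
    simp only [h2, inv_one, Units.val_one, mul_one, one_mul] at h1
    have h3 := h.sub_axis h1
    rwa [sub_sub_cancel] at h3
  obtain ⟨w, hw⟩ : ∃ w : Fin b → F, χ₀ ⬝ᵥ w = 1 := by
    obtain ⟨ξ, hξ⟩ := exists_dot_one hχ₀
    exact ⟨ξ, by rw [dotProduct_comm]; exact hξ⟩
  -- a second vector
  let dχ : (Fin b → F) →ₗ[F] F :=
    { toFun := fun x => χ₀ ⬝ᵥ x
      map_add' := fun x y => dotProduct_add χ₀ x y
      map_smul' := fun c x => dotProduct_smul c χ₀ x }
  obtain ⟨z, hz, hzβ⟩ : ∃ z, χ₀ ⬝ᵥ z = 0 ∧ z ∉ F ∙ β := by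
    by_contra hc
    push Not at hc
    have h1 := dχ.finrank_range_add_finrank_ker
    have h2 : finrank F (LinearMap.ker dχ) ≤ 1 :=
      (Submodule.finrank_mono (show LinearMap.ker dχ ≤ F ∙ β from fun z hz => hc z hz)).trans
        (finrank_span_singleton hβ).le
    have h3 : finrank F (LinearMap.range dχ) ≤ 1 := (Submodule.finrank_le _).trans (finrank_self F).le
    rw [Module.finrank_fin_fun] at h1
    omega
  have hwn : w ∉ Submodule.span F {β, w + z} := by
    intro hm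
    obtain ⟨c, d, hcd⟩ := Submodule.mem_span_pair.mp hm
    have h1 := congrArg (χ₀ ⬝ᵥ ·) hcd
    simp [dotProduct_add, dotProduct_smul, h0, hw, hz] at h1
    rw [h1, one_smul] at hcd
    refine hzβ (Submodule.mem_span_singleton.mpr ⟨-c, ?_⟩)
    linear_combination (norm := module) -hcd
  obtain ⟨φ, hφ, hφw⟩ := exists_functional _ hwn
  have hφβ := hφ β (Submodule.subset_span (by simp))
  have hφz := hφ (w + z) (Submodule.subset_span (by simp))
  have h1 := step w (χ - (χ ⬝ᵥ w) • φ) hw (by rw [sub_dotProduct, smul_dotProduct, hχ, hφβ]; simp)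
    (by rw [sub_dotProduct, smul_dotProduct, hφw]; simp)
  have h2 := step (w + z) ((χ ⬝ᵥ w) • φ) (by rw [dotProduct_add, hw, hz, add_zero])
    (by rw [smul_dotProduct, hφβ, smul_zero]) (by rw [smul_dotProduct, hφz, smul_zero])
  simpa using h1.add_axis h2

/-- A non-scalar map gives a pure transvection. -/
theorem scalar_of_all [Finite F] (hex : 3 ≤ a ∨ 2 < Nat.card F) (hno : NoPure M) {β : Fin b → F} (hβ : β ≠ 0)
    {χ₀ : Fin b → F} (hχ₀ : χ₀ ≠ 0) (hχ₀β : χ₀ ⬝ᵥ β = 0) {C : Matrix (Fin a) (Fin a) F}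
    (hC : ∀ χ : Fin b → F, χ ⬝ᵥ β = 0 → InX M C β χ) : ∃ c : F, C = c • 1 := by
  classical
  by_contra hns
  -- the family of maps
  let P : Matrix (Fin a) (Fin a) F → Prop := fun D => ∀ χ : Fin b → F, χ ⬝ᵥ β = 0 → InX M D β χ
  have hPsub : ∀ D D', P D → P D' → P (D - D') := fun D D' h h' χ hχ => (h χ hχ).sub_map (h' χ hχ)
  have hPsmul : ∀ (c : F) D, P D → P (c • D) := fun c D h χ hχ =>
    (h (c • χ) (by rw [smul_dotProduct, hχ, smul_zero])).congr_smul hχ
  obtain ⟨u, hu⟩ : ∃ u, ¬ ∃ c : F, C *ᵥ u = c • u := by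
    by_contra h
    push Not at h
    exact hns (eq_smul_one h)
  have hu0 : u ≠ 0 := fun e => hu ⟨0, by simp [e]⟩
  let Δ : (Fin a → F) → Matrix (Fin a) (Fin a) F := fun η =>
    Matrix.vecMulVec u η * C - C * Matrix.vecMulVec u η - (η ⬝ᵥ C *ᵥ u) • Matrix.vecMulVec u η
  have hΔ : ∀ η : Fin a → F, η ⬝ᵥ u = 0 → P (Δ η) := by
    intro η hη χ hχ
    have hg : kr (tv u η hη, (1 : GL (Fin b) F)) ∈ M := hM _ (tv_mem_specialLinear _ _ hη) (one_mem _)
    have h1 := (hC χ hχ).conj _ hg (by simp)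
    simp only [inv_one, Units.val_one, Matrix.vecMul_one] at h1
    have h2 := h1.sub_map (hC χ hχ)
    convert h2 using 1
    refine Cfsg.Agent.Lib.MaxSub.eq_of_mulVec_eq fun x => ?_
    simp only [Δ, Matrix.sub_mulVec, Matrix.smul_mulVec, ← Matrix.mulVec_mulVec, Matrix.vecMulVec_mulVec,
      Cfsg.Agent.Lib.MaxSub.tv_inv, tv_mulVec, Matrix.mulVec_add, Matrix.mulVec_smul, dotProduct_add, dotProduct_smul,
      neg_dotProduct, smul_eq_mul, op_smul_eq_smul]
    module
  have finish : ∀ (c : F) (η : Fin a → F), c ≠ 0 → η ≠ 0 → η ⬝ᵥ u = 0 → P (c • Matrix.vecMulVec u η) → False := by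
    intro c η hc hη hηu h
    have h1 := hPsmul c⁻¹ _ h χ₀ hχ₀β
    rw [inv_smul_smul₀ hc] at h1
    obtain ⟨h0, g, hg, e⟩ := h1
    have hd : pure η χ₀ ⬝ᵥ pure u β = 0 := by rw [pure_dot, hηu, zero_mul]
    refine hno u η β χ₀ hu0 hη hβ hχ₀ hηu h0 ⟨hd, ?_⟩
    convert hg using 1
    refine Units.ext (eq_of_pure fun x w => ?_)
    rw [tv_mulVec, e, pure_dot, Matrix.vecMulVec_mulVec, op_smul_eq_smul, pure_smul_left, smul_smul, mul_comm]
  -- a functional with a prescribed value at `C u`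
  obtain ⟨η₁, hη₁, hη₁1⟩ := exists_functional (F ∙ u) (x := C *ᵥ u) fun hm => by
    obtain ⟨c, hc⟩ := Submodule.mem_span_singleton.mp hm
    exact hu ⟨c, hc.symm⟩
  have hη₁u := hη₁ u (Submodule.mem_span_singleton_self u)
  have hη₁0 : η₁ ≠ 0 := fun e => by rw [e, zero_dotProduct] at hη₁1; exact zero_ne_one hη₁1
  rcases hex with ha | hq
  · -- the cross term
    obtain ⟨z, hz⟩ : ∃ z : Fin a → F, z ∉ Submodule.span F {u, C *ᵥ u} := by
      by_contra hc
      push Not at hc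
      have h1 := Submodule.finrank_mono (show (⊤ : Submodule F (Fin a → F)) ≤ Submodule.span F {u, C *ᵥ u} from
        fun z _ => hc z)
      rw [finrank_top, Module.finrank_fin_fun] at h1
      have h7 := finrank_span_finset_le_card (R := F) ({u, C *ᵥ u} : Finset (Fin a → F))
      rw [Set.finrank, Finset.coe_insert, Finset.coe_singleton] at h7
      have := Finset.card_le_two (a := u) (b := C *ᵥ u)
      omega
    obtain ⟨η₂, hη₂, hη₂1⟩ := exists_functional _ hz
    have hη₂u := hη₂ u (Submodule.subset_span (by simp))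
    have hη₂C := hη₂ (C *ᵥ u) (Submodule.subset_span (by simp))
    have hη₂0 : η₂ ≠ 0 := fun e => by rw [e, zero_dotProduct] at hη₂1; exact zero_ne_one hη₂1
    refine finish (-1) η₂ (by simp) hη₂0 hη₂u ?_
    convert hPsub _ _ (hPsub _ _ (hΔ (η₁ + η₂) (by rw [add_dotProduct, hη₁u, hη₂u, add_zero])) (hΔ η₁ hη₁u))
      (hΔ η₂ hη₂u) using 1
    refine Cfsg.Agent.Lib.MaxSub.eq_of_mulVec_eq fun x => ?_
    simp only [Δ, Matrix.sub_mulVec, Matrix.smul_mulVec, ← Matrix.mulVec_mulVec, Matrix.vecMulVec_mulVec,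
      Matrix.mulVec_smul, add_dotProduct, op_smul_eq_smul, hη₁1, hη₂C]
    module
  · -- the quadratic term
    haveI := Fintype.ofFinite F
    obtain ⟨lam, hl0, hl1⟩ : ∃ lam : F, lam ≠ 0 ∧ lam ≠ 1 := by
      by_contra hc
      push Not at hc
      have : Finset.univ ⊆ ({0, 1} : Finset F) := fun x _ => by
        rcases eq_or_ne x 0 with rfl | hx
        · simp
        · simp [hc x hx]
      have h1 := Finset.card_le_card this
      have h2 := Finset.card_le_two (a := (0 : F)) (b := 1)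
      rw [Finset.card_univ, ← Nat.card_eq_fintype_card] at h1
      omega
    refine finish (lam * (1 - lam)) η₁ (mul_ne_zero hl0 (sub_ne_zero.mpr (Ne.symm hl1))) hη₁0 hη₁u ?_
    convert hPsub _ _ (hΔ (lam • η₁) (by rw [smul_dotProduct, hη₁u, smul_zero])) (hPsmul lam _ (hΔ η₁ hη₁u)) using 1
    refine Cfsg.Agent.Lib.MaxSub.eq_of_mulVec_eq fun x => ?_
    simp only [Δ, Matrix.sub_mulVec, Matrix.smul_mulVec, ← Matrix.mulVec_mulVec, Matrix.vecMulVec_mulVec,
      Matrix.mulVec_smul, smul_dotProduct, op_smul_eq_smul, hη₁1, smul_eq_mul]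
    module

omit hM in
theorem exists_SL_map {m : ℕ} (hm : 2 ≤ m) {v w : Fin m → F} (hv : v ≠ 0) (hw : w ≠ 0) :
    ∃ h ∈ Cfsg.Geo.specialLinear (Fin m) F, (h : Matrix (Fin m) (Fin m) F) *ᵥ v = w := by
  have one : ∀ {v w : Fin m → F}, v ≠ 0 → w ∉ F ∙ v →
      ∃ h ∈ Cfsg.Geo.specialLinear (Fin m) F, (h : Matrix (Fin m) (Fin m) F) *ᵥ v = w := by
    intro v w hv hw
    obtain ⟨φ, hφ, hφ1⟩ := exists_functional (F ∙ (w - v)) (x := v) fun hm' => by
      obtain ⟨c, hc⟩ := Submodule.mem_span_singleton.mp hm'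
      rcases eq_or_ne c 0 with rfl | hc0
      · exact hv (by rw [← hc, zero_smul])
      · refine hw (Submodule.mem_span_singleton.mpr ⟨c⁻¹ * (1 + c), ?_⟩)
        rw [mul_smul, eq_comm, eq_inv_smul_iff₀ hc0]
        linear_combination (norm := module) hc
    refine ⟨tv (w - v) φ (hφ _ (Submodule.mem_span_singleton_self _)), tv_mem_specialLinear _ _ _, ?_⟩
    rw [tv_mulVec, hφ1, one_smul, add_sub_cancel]
  by_cases h : w ∈ F ∙ v
  swap; · exact one hv h
  obtain ⟨z, hz⟩ : ∃ z, z ∉ F ∙ v := by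
    by_contra hc
    push Not at hc
    have h1 := Submodule.finrank_mono (show (⊤ : Submodule F (Fin m → F)) ≤ F ∙ v from fun z _ => hc z)
    rw [finrank_top, Module.finrank_fin_fun, finrank_span_singleton hv] at h1
    omega
  obtain ⟨h₁, m₁, e₁⟩ := one hv hz
  obtain ⟨h₂, m₂, e₂⟩ := one (v := z) (w := w) (fun e => hz (by rw [e]; exact Submodule.zero_mem _)) fun hm' => by
    obtain ⟨c, hc⟩ := Submodule.mem_span_singleton.mp hm'
    rcases eq_or_ne c 0 with rfl | hc0
    · exact hw (by rw [← hc, zero_smul])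
    · refine hz ?_
      rw [← inv_smul_smul₀ hc0 z, hc]
      exact Submodule.smul_mem _ _ h
  exact ⟨h₂ * h₁, Subgroup.mul_mem _ m₂ m₁, by rw [mulVec_mul, e₁, e₂]⟩

/-- A pure transvection gives the special linear group. -/
theorem SL_le_of_pure [Finite F] (ha : 2 ≤ a) (hb : 3 ≤ b) {α η : Fin a → F} {β χ : Fin b → F} (hα : α ≠ 0)
    (hη : η ≠ 0) (hβ : β ≠ 0) (hχ : χ ≠ 0) (hηα : η ⬝ᵥ α = 0) (hχβ : χ ⬝ᵥ β = 0)
    (h : InK M (pure α β) (pure η χ)) : Cfsg.Geo.specialLinear (Fin a × Fin b) F ≤ M := by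
  classical
  -- all centres and all axes
  have centre : ∀ (i : Fin a) (j : Fin b), ∃ η' χ', η' ≠ 0 ∧ χ' ≠ 0 ∧ η' ⬝ᵥ (Pi.single i 1 : Fin a → F) = 0 ∧
      χ' ⬝ᵥ (Pi.single j 1 : Fin b → F) = 0 ∧ InK M (pure (Pi.single i 1) (Pi.single j 1)) (pure η' χ') := by
    intro i j
    obtain ⟨g, hg, hgα⟩ := exists_SL_map ha hα (w := Pi.single i 1) (by simp)
    obtain ⟨k, hk, hkβ⟩ := exists_SL_map (by omega) hβ (w := Pi.single j 1) (by simp)
    have hne : ∀ {m : ℕ} (g : GL (Fin m) F) {η : Fin m → F}, η ≠ 0 →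
        η ᵥ* ((g⁻¹ : GL (Fin m) F) : Matrix (Fin m) (Fin m) F) ≠ 0 := fun g η hη e => hη (by
      have h2 := congrArg (fun y => Matrix.vecMul y (Units.val g)) e
      simpa [Matrix.vecMul_vecMul, ← Units.val_mul] using h2)
    refine ⟨_, _, hne g hη, hne k hχ, ?_, ?_, ?_⟩
    · rw [← hgα, ← Matrix.dotProduct_mulVec, mulVec_inv_mulVec, hηα]
    · rw [← hkβ, ← Matrix.dotProduct_mulVec, mulVec_inv_mulVec, hχβ]
    · have h1 := h.conj (hM (g, k) hg hk)
      rw [kr_pure, hgα, hkβ] at h1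
      convert h1 using 1
      refine dotProduct_eq _ _ fun p => ?_
      rw [← Matrix.dotProduct_mulVec, ← map_inv]
      have e1 : ∀ x u, pure (η ᵥ* ((g⁻¹ : GL (Fin a) F) : Matrix (Fin a) (Fin a) F))
          (χ ᵥ* ((k⁻¹ : GL (Fin b) F) : Matrix (Fin b) (Fin b) F)) ⬝ᵥ pure x u =
          pure η χ ⬝ᵥ (kr (g, k)⁻¹ : Matrix (Fin a × Fin b) (Fin a × Fin b) F) *ᵥ pure x u := fun x u => by
        rw [kr_pure, pure_dot, pure_dot, ← Matrix.dotProduct_mulVec, ← Matrix.dotProduct_mulVec]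
        rfl
      rw [show p = ∑ q, p q • (Pi.single q (1 : F) : Fin a × Fin b → F) by
        conv_lhs => rw [pi_eq_sum_univ' p]]
      simp only [Matrix.mulVec_sum, Matrix.mulVec_smul, dotProduct_sum, dotProduct_smul]
      refine Finset.sum_congr rfl fun q _ => ?_
      rw [show q = (q.1, q.2) from rfl, single_pure, e1]
  have generic : ∀ (i k : Fin a) (j l : Fin b), i ≠ k → j ≠ l → ∀ c : F,
      InK M (Pi.single (i, j) 1) (Pi.single (k, l) c) := by
    intro i k j l hik hjl c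
    obtain ⟨η', χ', hη', hχ', hη'i, hχ'j, h'⟩ := centre i j
    have hj0 : (Pi.single j 1 : Fin b → F) ≠ 0 := by simp
    -- all axes in the second factor
    have hsecond : ∀ χ'' : Fin b → F, χ'' ⬝ᵥ (Pi.single j 1 : Fin b → F) = 0 →
        InK M (pure (Pi.single i 1) (Pi.single j 1)) (pure η' χ'') := by
      intro χ'' h''
      have hX : InX M (Matrix.vecMulVec (Pi.single i 1) η') (Pi.single j 1) χ' := by
        obtain ⟨hd, hm⟩ := h'
        refine ⟨hχ'j, _, hm, fun x u => ?_⟩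
        rw [tv_mulVec, pure_dot, Matrix.vecMulVec_mulVec, op_smul_eq_smul, pure_smul_left, smul_smul, mul_comm]
      obtain ⟨-, g, hg, e⟩ := hX.all_axes hM hb hj0 hχ' h''
      refine ⟨by rw [pure_dot, hη'i, zero_mul], ?_⟩
      convert hg using 1
      refine Units.ext (eq_of_pure fun x u => ?_)
      rw [tv_mulVec, e, pure_dot, Matrix.vecMulVec_mulVec, op_smul_eq_smul, pure_smul_left, smul_smul, mul_comm]
    have hlj : (Pi.single l (1 : F) : Fin b → F) ⬝ᵥ (Pi.single j 1 : Fin b → F) = 0 := by simp [hjl.symm]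
    have hki : (Pi.single k c : Fin a → F) ⬝ᵥ (Pi.single i 1 : Fin a → F) = 0 := by simp [hik.symm]
    rw [single_pure, single_pure]
    rcases Nat.lt_or_ge 2 a with ha3 | ha2
    · -- all axes in the first factor, by the symmetric argument
      let dη : (Fin a → F) →ₗ[F] F :=
        { toFun := fun x => η' ⬝ᵥ x
          map_add' := fun x y => dotProduct_add η' x y
          map_smul' := fun c x => dotProduct_smul c η' x }
      let e₁ : Fin a → F := Pi.single i 1
      let e₂ : Fin b → F := Pi.single j 1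
      let e₃ : Fin b → F := Pi.single l 1
      let Good : (Fin a → F) → Prop := fun θ => InK M (pure e₁ e₂) (pure θ e₃)
      have hGood : Good η' := hsecond _ hlj
      have hsub : ∀ θ θ', Good θ → Good θ' → Good (θ - θ') := fun θ θ' h h' => by
        show InK M _ (pure (θ - θ') e₃)
        rw [show pure (θ - θ') e₃ = pure θ e₃ - pure θ' e₃ by funext q; simp [pure, sub_mul]]
        exact h.sub h'
      have step : ∀ (w θ : Fin a → F), η' ⬝ᵥ w = 1 → θ ⬝ᵥ e₁ = 0 → θ ⬝ᵥ w = 0 → Good θ := by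
        intro w θ hw hθ hθw
        have h1 := hGood.conj (hM (tv w θ hθw, (1 : GL (Fin b) F)) (tv_mem_specialLinear _ _ hθw) (one_mem _))
        rw [kr_pure, tv_mulVec, hθ, zero_smul, add_zero, Units.val_one, Matrix.one_mulVec] at h1
        have h2 : pure η' e₃ ᵥ* (((kr (tv w θ hθw, (1 : GL (Fin b) F)))⁻¹ : GL (Fin a × Fin b) F) :
            Matrix (Fin a × Fin b) (Fin a × Fin b) F) = pure (η' - θ) e₃ := by
          refine dotProduct_eq _ _ fun p => ?_
          rw [show p = ∑ q, p q • (Pi.single q (1 : F) : Fin a × Fin b → F) by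
            conv_lhs => rw [pi_eq_sum_univ' p]]
          simp only [dotProduct_sum, dotProduct_smul]
          refine Finset.sum_congr rfl fun q _ => ?_
          rw [show q = (q.1, q.2) from rfl, single_pure, ← Matrix.dotProduct_mulVec, ← map_inv, kr_pure, pure_dot,
            pure_dot]
          simp only [Prod.fst_inv, Prod.snd_inv, Cfsg.Agent.Lib.MaxSub.tv_inv, tv_mulVec, inv_one, Units.val_one,
            Matrix.one_mulVec, dotProduct_add, dotProduct_smul, hw, neg_dotProduct, sub_dotProduct, smul_eq_mul,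
            mul_one]
          ring
        rw [h2] at h1
        have h3 := hsub _ _ hGood h1
        rwa [sub_sub_cancel] at h3
      obtain ⟨w, hw⟩ : ∃ w : Fin a → F, η' ⬝ᵥ w = 1 := by
        obtain ⟨ξ, hξ⟩ := exists_dot_one hη'
        exact ⟨ξ, by rw [dotProduct_comm]; exact hξ⟩
      obtain ⟨z, hz, hze⟩ : ∃ z, η' ⬝ᵥ z = 0 ∧ z ∉ F ∙ e₁ := by
        by_contra hc
        push Not at hc
        have h1 := dη.finrank_range_add_finrank_ker
        have h2 : finrank F (LinearMap.ker dη) ≤ 1 :=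
          (Submodule.finrank_mono (show LinearMap.ker dη ≤ F ∙ e₁ from fun z hz => hc z hz)).trans
            (finrank_span_singleton (by simp [e₁])).le
        have h3 : finrank F (LinearMap.range dη) ≤ 1 := (Submodule.finrank_le _).trans (finrank_self F).le
        rw [Module.finrank_fin_fun] at h1
        omega
      have hwn : w ∉ Submodule.span F {e₁, w + z} := by
        intro hm
        obtain ⟨c', d, hcd⟩ := Submodule.mem_span_pair.mp hm
        have h1 := congrArg (η' ⬝ᵥ ·) hcd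
        simp only [dotProduct_add, dotProduct_smul, show η' ⬝ᵥ e₁ = 0 from hη'i, hw, hz, zero_add, mul_zero,
          add_zero, smul_eq_mul, mul_one] at h1
        rw [h1, one_smul] at hcd
        refine hze (Submodule.mem_span_singleton.mpr ⟨-c', ?_⟩)
        linear_combination (norm := module) -hcd
      obtain ⟨φ, hφ, hφw⟩ := exists_functional _ hwn
      have hφe := hφ e₁ (Submodule.subset_span (by simp))
      have hφz := hφ (w + z) (Submodule.subset_span (by simp))
      set θ : Fin a → F := Pi.single k c with hθ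
      have h1 := step w (θ - (θ ⬝ᵥ w) • φ) hw
        (by rw [sub_dotProduct, smul_dotProduct, show θ ⬝ᵥ e₁ = 0 from hki, hφe]; simp)
        (by rw [sub_dotProduct, smul_dotProduct, hφw]; simp)
      have h2 := step (w + z) ((θ ⬝ᵥ w) • φ) (by rw [dotProduct_add, hw, hz, add_zero])
        (by rw [smul_dotProduct, hφe, smul_zero]) (by rw [smul_dotProduct, hφz, smul_zero])
      have h3 : InK M (pure e₁ e₂) (pure (θ - (θ ⬝ᵥ w) • φ) e₃ + pure ((θ ⬝ᵥ w) • φ) e₃) := h1.add h2
      rwa [← pure_add_left, sub_add_cancel] at h3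
    · -- in dimension two the axis is unique up to scalars
      have h2 : ∀ p : Fin a, p = i ∨ p = k := fun p => by
        rcases eq_or_ne p i with h | h
        · exact Or.inl h
        · refine Or.inr (Fin.ext ?_)
          have := p.2; have := i.2; have := k.2
          have : (p : ℕ) ≠ i := fun e => h (Fin.ext e)
          have : (i : ℕ) ≠ k := fun e => hik (Fin.ext e)
          omega
      have hη'e : η' = η' k • (Pi.single k 1 : Fin a → F) := by
        funext p
        rcases h2 p with rfl | rfl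
        · simpa [hik] using hη'i
        · simp
      have hk0 : η' k ≠ 0 := fun e => hη' (by rw [hη'e, e, zero_smul])
      have h3 := hsecond ((c / η' k) • (Pi.single l 1 : Fin b → F)) (by rw [smul_dotProduct, hlj, smul_zero])
      convert h3 using 1
      rw [hη'e, pure_smul_left, pure_smul_right, smul_smul]
      funext q
      simp only [pure, Pi.smul_apply, smul_eq_mul, Pi.single_apply]
      have : η' k * (c / η' k) = c := mul_div_cancel₀ c hk0
      by_cases hq : q.1 = k <;> simp [hq]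
      rw [this]
  -- commutators give the rest
  have comm : ∀ (p q r : Fin a × Fin b) (c : F), p ≠ q → q ≠ r → p ≠ r →
      InK M (Pi.single p 1) (Pi.single q 1) → InK M (Pi.single q 1) (Pi.single r c) →
      InK M (Pi.single p 1) (Pi.single r c) := by
    intro p q r c hpq hqr hpr hA hB
    obtain ⟨hA0, hA1⟩ := hA
    obtain ⟨hB0, hB1⟩ := hB
    refine ⟨by simp [Ne.symm hpr], ?_⟩
    have hmem := M.mul_mem (M.mul_mem (M.mul_mem hA1 hB1) (M.inv_mem hA1)) (M.inv_mem hB1)
    convert hmem using 1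
    refine Units.ext (Cfsg.Agent.Lib.MaxSub.eq_of_mulVec_eq fun x => ?_)
    simp only [mulVec_mul, Cfsg.Agent.Lib.MaxSub.tv_inv, tv_mulVec, dotProduct_add, dotProduct_smul, neg_dotProduct,
      single_dotProduct, Pi.single_eq_same, Pi.single_eq_of_ne hpq, Pi.single_eq_of_ne hqr, Pi.single_eq_of_ne hpr,
      Pi.single_eq_of_ne (Ne.symm hpq), Pi.single_eq_of_ne (Ne.symm hqr), Pi.single_eq_of_ne (Ne.symm hpr), mul_zero,
      mul_one, one_mul, zero_mul, add_zero, zero_add, smul_eq_mul, neg_zero]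
    module
  have row : ∀ (i : Fin a) (j l : Fin b), j ≠ l → ∀ c : F, InK M (Pi.single (i, j) 1) (Pi.single (i, l) c) := by
    intro i j l hjl c
    obtain ⟨k, hk⟩ : ∃ k : Fin a, k ≠ i := by
      haveI : Nontrivial (Fin a) := Fin.nontrivial_iff_two_le.mpr ha
      exact exists_ne i
    obtain ⟨m, hm1, hm2⟩ : ∃ m : Fin b, m ≠ j ∧ m ≠ l := by
      obtain ⟨m, hm⟩ : ∃ m, m ∈ ({j, l} : Finset (Fin b))ᶜ := by
        refine Finset.card_pos.mp ?_
        rw [Finset.card_compl, Fintype.card_fin]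
        have := Finset.card_le_two (a := j) (b := l)
        omega
      simp at hm
      exact ⟨m, hm.1, hm.2⟩
    exact comm (i, j) (k, m) (i, l) c (by simp [Ne.symm hm1]) (by simp [hk]) (by simp [hjl])
      (generic i k j m hk.symm hm1.symm 1) (generic k i m l hk hm2 c)
  have all : ∀ (p q : Fin a × Fin b), p ≠ q → ∀ c : F, InK M (Pi.single p 1) (Pi.single q c) := by
    rintro ⟨i, j⟩ ⟨k, l⟩ hpq c
    rcases eq_or_ne i k with rfl | hik
    · exact row i j l (fun e => hpq (by rw [e])) c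
    rcases eq_or_ne j l with rfl | hjl
    · obtain ⟨m, hm⟩ : ∃ m : Fin b, m ≠ j := by
        haveI : Nontrivial (Fin b) := Fin.nontrivial_iff_two_le.mpr (by omega)
        exact exists_ne j
      exact comm (i, j) (i, m) (k, j) c (by simp [hm.symm]) (by simp [hik]) (by simp [hik])
        (row i j m hm.symm 1) (generic i k m j hik hm c)
    · exact generic i k j l hik hjl c
  have htop : M.comap (Matrix.SpecialLinearGroup.toGL :
      Matrix.SpecialLinearGroup (Fin a × Fin b) F →* GL (Fin a × Fin b) F) = ⊤ := by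
    refine Cfsg.Agent.Lib.Classical.SL_eq_top_of_transvection_mem fun p q hpq c => ?_
    obtain ⟨h1, hk⟩ := all p q hpq c
    show Matrix.SpecialLinearGroup.toGL _ ∈ M
    convert hk using 1
    refine Units.ext ?_
    show (1 : Matrix _ _ F) + Matrix.single p q c = 1 + Matrix.vecMulVec _ _
    congr 1
    ext s t
    by_cases hp : s = p <;> by_cases hq : t = q <;>
      simp [Matrix.single, Matrix.vecMulVec_apply, hp, hq, Ne.symm]
  intro g hg
  have hrange : g ∈ (Matrix.SpecialLinearGroup.toGL :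
      Matrix.SpecialLinearGroup (Fin a × Fin b) F →* GL (Fin a × Fin b) F).range := by
    have h1 : (g : Matrix (Fin a × Fin b) (Fin a × Fin b) F).det = 1 := congrArg Units.val (MonoidHom.mem_ker.mp hg)
    exact ⟨⟨(g : Matrix (Fin a × Fin b) (Fin a × Fin b) F), h1⟩, Units.ext rfl⟩
  obtain ⟨s, rfl⟩ := hrange
  have : s ∈ M.comap (Matrix.SpecialLinearGroup.toGL :
      Matrix.SpecialLinearGroup (Fin a × Fin b) F →* GL (Fin a × Fin b) F) := by
    rw [htop]; trivial
  exact this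

end Cfsg.Agent.Lib.ThreeTransp.Tensor
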