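import Cfsg.Agent.Lib.ThreeTransp.SubOrthBase
import Cfsg.Agent.Lib.ThreeTransp.TensorDich

/-!
Quadratic forms on tensor products: basic elements of the product of the two commutator subgroups.
-/

set_option autoImplicit false
set_option linter.unusedSectionVars false
set_option linter.unusedSimpArgs false

namespace Cfsg.Agent.Lib.ThreeTransp.TensorOrth

open Matrix Module QuadraticMap
open Cfsg.Agent.Lib.MaxSub
open Cfsg.Agent.Lib.MaxSub.OrthSplit (InE finrank_inf_ker)
open Cfsg.Agent.Lib.Geometry (quad_add quad_sub quad_smul quad_polar_self quad_polar_comm refl refl_apply)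
open Cfsg.Agent.Lib.ThreeTransp.DecompOrth (Nd perp rr rr_mulVec rr_fix rr_mem_omega)
open Cfsg.Agent.Lib.ThreeTransp.Tensor
open scoped MatrixGroups Matrix Kronecker commutatorElement

attribute [-simp] QuadraticMap.polarBilin_apply_apply

section one

variable {ι : Type} [Fintype ι] [DecidableEq ι] {F : Type*} [Field F] {Q : QuadraticForm F (ι → F)}

/-- The row of the polar form at `v`. -/
def psi (Q : QuadraticForm F (ι → F)) (v : ι → F) : ι → F := fun j => polarBilin Q v (Pi.single j 1)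

theorem psi_dot (v x : ι → F) : psi Q v ⬝ᵥ x = polarBilin Q v x := by
  conv_rhs => rw [pi_eq_sum_univ' x, map_sum]
  exact Finset.sum_congr rfl fun j _ => by rw [map_smul, smul_eq_mul, mul_comm]; rfl

theorem nd_top (hN : (polarBilin Q).Nondegenerate) : Nd Q ⊤ := fun x _ hx => by
  by_contra h
  push Not at h
  exact hx (hN.1 x fun y => h y trivial)

theorem one_mem_iso : (1 : GL ι F) ∈ Cfsg.isometryGroup F ⇑Q := one_mem _

theorem exists_partner' (hN : (polarBilin Q).Nondegenerate) {u : ι → F} (hu : Q u = 0) (hu0 : u ≠ 0) :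
    ∃ f, Q f = 0 ∧ polarBilin Q u f = 1 := by
  obtain ⟨z, -, hz⟩ := nd_top hN u trivial hu0
  obtain ⟨f, -, h1, h2⟩ := Orth.exists_partner hN hu (W := ⊤) trivial (z := z) trivial hz
  exact ⟨f, h1, h2⟩

theorem finrank_perp_two (e f : ι → F) :
    Fintype.card ι ≤ finrank F (perp Q (perp Q ⊤ e) f) + 2 := by
  have h1 := finrank_inf_ker (⊤ : Submodule F (ι → F)) (polarBilin Q e)
  have h2 := finrank_inf_ker (perp Q ⊤ e) (polarBilin Q f)
  rw [finrank_top, Module.finrank_fintype_fun_eq_card] at h1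
  unfold perp at h2 ⊢
  omega

/-- A non-singular vector orthogonal to a pair. -/
theorem exists_aniso_pair (hN : (polarBilin Q).Nondegenerate) (hn : 3 ≤ Fintype.card ι) {e f : ι → F}
    (hQe : Q e = 0) (hQf : Q f = 0) (hef : polarBilin Q e f = 1) :
    ∃ z, polarBilin Q e z = 0 ∧ polarBilin Q f z = 0 ∧ Q z ≠ 0 := by
  obtain ⟨z, hz, hQz⟩ := ((nd_top hN).perp_pair (e := e) (f := f) trivial trivial hQe hQf hef).exists_aniso fun h => by
    have h1 := finrank_perp_two (Q := Q) e f
    rw [h, finrank_bot] at h1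
    omega
  exact ⟨z, hz.1.2, hz.2, hQz⟩

theorem exists_aniso_one (hN : (polarBilin Q).Nondegenerate) (hn : 3 ≤ Fintype.card ι) {u : ι → F}
    (hu : Q u = 0) (hu0 : u ≠ 0) : ∃ z, polarBilin Q u z = 0 ∧ Q z ≠ 0 := by
  obtain ⟨f, hf, huf⟩ := exists_partner' hN hu hu0
  obtain ⟨z, h1, -, h2⟩ := exists_aniso_pair hN hn hu hf huf
  exact ⟨z, h1, h2⟩

theorem exists_hyp [Finite F] (hN : (polarBilin Q).Nondegenerate) (hn : 3 ≤ Fintype.card ι) :
    ∃ e f, Q e = 0 ∧ Q f = 0 ∧ polarBilin Q e f = 1 := by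
  obtain ⟨e, -, he0, he⟩ := Orth.exists_singular (Q := Q) (⊤ : Submodule F (ι → F))
    (by rw [finrank_top, Module.finrank_fintype_fun_eq_card]; exact hn)
  obtain ⟨f, hf, hef⟩ := exists_partner' hN he he0
  exact ⟨e, f, he, hf, hef⟩

/-- Singular vectors span. -/
theorem span_sing [Finite F] (hN : (polarBilin Q).Nondegenerate) (hn : 3 ≤ Fintype.card ι) (x : ι → F) :
    x ∈ Submodule.span F {z | Q z = 0} := by
  have h := SubOrth.gen_span_sing hN ∅ (by simpa using hn) (x := x) (by simp)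
  simpa using h

theorem eq_zero_of_sing_perp [Finite F] (hN : (polarBilin Q).Nondegenerate) (hn : 3 ≤ Fintype.card ι) {s : ι → F}
    (hs : ∀ z, Q z = 0 → polarBilin Q z s = 0) : s = 0 := by
  refine hN.2 s fun x => ?_
  have hx := span_sing hN hn x
  induction hx using Submodule.span_induction with
  | mem w hw => exact hs w hw
  | zero => rw [map_zero, LinearMap.zero_apply]
  | add p q _ _ hp hq => rw [map_add, LinearMap.add_apply, hp, hq, add_zero]
  | smul c p _ hp => rw [map_smul, LinearMap.smul_apply, hp, smul_zero]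

theorem exists_quad_ne (hN : (polarBilin Q).Nondegenerate) (hn : 1 ≤ Fintype.card ι) : ∃ x, Q x ≠ 0 := by
  obtain ⟨x, -, hx⟩ := (nd_top hN).exists_aniso fun h => by
    have h1 : finrank F (⊤ : Submodule F (ι → F)) = 0 := by rw [h, finrank_bot]
    rw [finrank_top, Module.finrank_fintype_fun_eq_card] at h1
    omega
  exact ⟨x, hx⟩

/-- A commutator of isometries, in `omegaGL`. -/
theorem toGL_comm_mem (a b : Cfsg.Agent.Lib.Geometry.quadIsometries Q) :
    Orth.toGL Q ⁅a, b⁆ ∈ Cfsg.Geo.omegaGL ⇑Q := by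
  refine ⟨(Cfsg.Agent.Lib.Geometry.isometryEquiv Q).symm ⁅a, b⁆, ?_, rfl⟩
  rw [map_commutatorElement]
  exact Subgroup.commutator_mem_commutator (Subgroup.mem_top _) (Subgroup.mem_top _)

variable [Finite F]

/-- The Eichler elements lie in `omegaGL`, from dimension three. -/
theorem eich_omega (h2 : (2 : F) ≠ 0) (hN : (polarBilin Q).Nondegenerate) (hn : 3 ≤ Fintype.card ι) {u x : ι → F}
    (hu : Q u = 0) (hx : polarBilin Q u x = 0) : Orth.eichGL Q u x hu hx ∈ Cfsg.Geo.omegaGL ⇑Q := by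
  have aniso : ∀ z, polarBilin Q u z = 0 → Q z ≠ 0 → InE Q (Cfsg.Geo.omegaGL ⇑Q) u z := by
    intro z hz hQz
    have hz' : polarBilin Q u (-(2 : F)⁻¹ • z) = 0 := by rw [map_smul, hz, smul_zero]
    set y := -(2 : F)⁻¹ • z with hy
    have h1 := toGL_comm_mem (refl Q z) (Cfsg.Agent.Lib.Classical.eich Q u y hu hz')
    refine ⟨hu, hz, ?_⟩
    convert h1 using 1
    rw [commutatorElement_def, map_mul, map_mul, map_mul, map_inv, map_inv]
    set r := Orth.toGL Q (refl Q z)
    have hr : r * r = 1 := by rw [← map_mul, Cfsg.Agent.Lib.Geometry.refl_mul_self, map_one]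
    have hri : r⁻¹ = r := inv_eq_of_mul_eq_one_right hr
    have hrmem : r ∈ Cfsg.isometryGroup F ⇑Q := Orth.toGL_mem_isometry Q _
    show Orth.eichGL Q u z hu hz = r * Orth.eichGL Q u y hu hz' * r⁻¹ * (Orth.eichGL Q u y hu hz')⁻¹
    rw [Orth.conj_eichGL hrmem hu hz']
    have e1 : (r : Matrix ι ι F) *ᵥ u = u := by
      rw [Orth.toGL_mulVec, refl_apply, quad_polar_comm Q z u, hz, mul_zero, zero_smul, sub_zero]
    have e2 : (r : Matrix ι ι F) *ᵥ y = -y := by
      rw [Orth.toGL_mulVec, refl_apply, hy, map_smul, quad_polar_self, smul_eq_mul]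
      match_scalars
      field_simp
      ring
    simp only [e1, e2]
    rw [eq_mul_inv_iff_mul_eq]
    refine Units.ext (Matrix.ext_of_mulVec_single fun j => ?_)
    rw [Units.val_mul, ← Matrix.mulVec_mulVec, Orth.eichGL_mulVec, Orth.eichGL_mulVec, Orth.eichGL_mulVec]
    set p : ι → F := Pi.single j 1
    simp only [hy, map_add, map_sub, map_neg, map_smul, LinearMap.add_apply, LinearMap.sub_apply,
      LinearMap.smul_apply, LinearMap.neg_apply, QuadraticMap.map_neg, quad_smul, smul_eq_mul,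
      Orth.polar_self_of_sing Q hu, hz, quad_polar_comm Q z u, quad_polar_self]
    match_scalars <;> field_simp <;> ring
  rcases eq_or_ne u 0 with rfl | hu0
  · exact (SubOrth.inE_left_zero (Q := Q) (K := Cfsg.Geo.omegaGL ⇑Q) x).2.2
  obtain ⟨z, hz, hQz⟩ := exists_aniso_one hN hn hu hu0
  by_cases hQx : Q x = 0
  swap; · exact (aniso x hx hQx).2.2
  obtain ⟨c, hc0, hc⟩ : ∃ c : F, c ≠ 0 ∧ Q (x + c • z) ≠ 0 := by
    by_contra hcon
    push Not at hcon
    have e1 := hcon 1 one_ne_zero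
    have e2 := hcon (-1) (neg_ne_zero.mpr one_ne_zero)
    rw [quad_add, quad_smul, hQx, map_smul, smul_eq_mul] at e1 e2
    exact mul_ne_zero h2 hQz (by linear_combination e1 + e2)
  have h1 := (aniso (x + c • z) (by rw [map_add, map_smul, hx, hz, smul_zero, add_zero]) hc).sub
    (aniso (c • z) (by rw [map_smul, hz, smul_zero]) (by
      rw [quad_smul]; exact mul_ne_zero (mul_ne_zero hc0 hc0) hQz))
  rw [add_sub_cancel_right] at h1
  exact h1.2.2

theorem move_one (h2 : (2 : F) ≠ 0) (hN : (polarBilin Q).Nondegenerate) (hn : 3 ≤ Fintype.card ι) {u v w : ι → F}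
    (hu : Q u = 0) (hv : Q v = 0) (hw : Q w = 0) (huv : polarBilin Q u v ≠ 0) (huw : polarBilin Q u w ≠ 0) :
    ∃ (g : GL ι F) (c : F), g ∈ Cfsg.Geo.omegaGL ⇑Q ∧ c ≠ 0 ∧ (g : Matrix ι ι F) *ᵥ v = c • w := by
  set v' := (polarBilin Q u v)⁻¹ • v with hv'
  set w' := (polarBilin Q u w)⁻¹ • w with hw'
  have h1 : polarBilin Q u v' = 1 := by rw [hv', map_smul, smul_eq_mul, inv_mul_cancel₀ huv]
  have h2' : polarBilin Q u w' = 1 := by rw [hw', map_smul, smul_eq_mul, inv_mul_cancel₀ huw]
  have hqv : Q v' = 0 := by rw [hv', quad_smul, hv, mul_zero]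
  have hqw : Q w' = 0 := by rw [hw', quad_smul, hw, mul_zero]
  have hx : polarBilin Q u (w' - v') = 0 := by rw [map_sub, h1, h2', sub_self]
  have him : (Orth.eichGL Q u (w' - v') hu hx : Matrix ι ι F) *ᵥ v' = w' := by
    rw [Orth.eichGL_mulVec, quad_polar_comm Q v' u, h1, one_smul, mul_one, map_sub, Orth.polar_self_of_sing Q hqv,
      sub_zero, quad_sub, hqw, hqv, zero_add, zero_sub, quad_polar_comm Q w' v', add_neg_cancel, zero_smul, sub_zero,
      add_sub_cancel]
  refine ⟨_, polarBilin Q u v * (polarBilin Q u w)⁻¹, eich_omega h2 hN hn hu hx, mul_ne_zero huv (inv_ne_zero huw), ?_⟩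
  have h5 := congrArg ((polarBilin Q u v) • ·) him
  simp only [← Matrix.mulVec_smul] at h5
  rw [show polarBilin Q u v • v' = v by rw [hv', smul_inv_smul₀ huv]] at h5
  rw [h5, hw', smul_smul]

/-- Singular lines are equivalent under `omegaGL`. -/
theorem move (h2 : (2 : F) ≠ 0) (hN : (polarBilin Q).Nondegenerate) (hn : 3 ≤ Fintype.card ι) {v w : ι → F}
    (hv : Q v = 0) (hw : Q w = 0) (hv0 : v ≠ 0) (hw0 : w ≠ 0) :
    ∃ (g : GL ι F) (c : F), g ∈ Cfsg.Geo.omegaGL ⇑Q ∧ c ≠ 0 ∧ (g : Matrix ι ι F) *ᵥ v = c • w := by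
  suffices h : ∃ u, Q u = 0 ∧ polarBilin Q u v ≠ 0 ∧ polarBilin Q u w ≠ 0 by
    obtain ⟨u, hu, h1, h3⟩ := h
    exact move_one h2 hN hn hu hv hw h1 h3
  by_cases hvw : polarBilin Q v w = 0
  · obtain ⟨v', hv', h1⟩ := exists_partner' hN hv hv0
    obtain ⟨w', hw', h3⟩ := exists_partner' hN hw hw0
    have hwv : polarBilin Q w v = 0 := by rw [quad_polar_comm]; exact hvw
    by_cases h4 : polarBilin Q v' w = 0
    swap; · exact ⟨v', hv', by rw [quad_polar_comm, h1]; exact one_ne_zero, h4⟩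
    by_cases h5 : polarBilin Q w' v = 0
    swap; · exact ⟨w', hw', h5, by rw [quad_polar_comm, h3]; exact one_ne_zero⟩
    refine ⟨v' + w' - polarBilin Q v' w' • v, ?_, ?_, ?_⟩
    · rw [quad_sub, quad_add, quad_smul, hv', hw', hv, map_smul, map_add, LinearMap.add_apply,
        quad_polar_comm Q v' v, h1, h5, smul_eq_mul]
      ring
    · simp only [map_sub, map_add, map_smul, LinearMap.sub_apply, LinearMap.add_apply, LinearMap.smul_apply,
        quad_polar_comm Q v' v, h1, h5, Orth.polar_self_of_sing Q hv, smul_zero, add_zero, sub_zero]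
      exact one_ne_zero
    · simp only [map_sub, map_add, map_smul, LinearMap.sub_apply, LinearMap.add_apply, LinearMap.smul_apply,
        h4, quad_polar_comm Q w' w, h3, hvw, smul_zero, zero_add, sub_zero]
      exact one_ne_zero
  · set v' := (polarBilin Q v w)⁻¹ • w with hv'
    have h1 : polarBilin Q v v' = 1 := by rw [hv', map_smul, smul_eq_mul, inv_mul_cancel₀ hvw]
    have hqv' : Q v' = 0 := by rw [hv', quad_smul, hw, mul_zero]
    obtain ⟨z, hvz, hv'z, hQz⟩ := exists_aniso_pair hN hn hv hqv' h1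
    refine ⟨v - Q z • v' + z, ?_, ?_, ?_⟩
    · simp only [quad_add, quad_sub, quad_smul, hv, hqv', map_smul, map_sub, LinearMap.sub_apply,
        LinearMap.smul_apply, h1, hvz, hv'z, smul_eq_mul]
      ring
    · simp only [map_add, map_sub, map_smul, LinearMap.add_apply, LinearMap.sub_apply, LinearMap.smul_apply,
        Orth.polar_self_of_sing Q hv, quad_polar_comm Q v' v, h1, quad_polar_comm Q z v, hvz, smul_eq_mul]
      simpa using hQz
    · have hzw : polarBilin Q z w = 0 := by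
        rw [hv', map_smul, LinearMap.smul_apply, smul_eq_mul, mul_eq_zero] at hv'z
        rw [quad_polar_comm]
        exact hv'z.resolve_left (inv_ne_zero hvw)
      have hv'w : polarBilin Q v' w = 0 := by
        rw [hv', map_smul, LinearMap.smul_apply, Orth.polar_self_of_sing Q hw, smul_zero]
      simp only [map_add, map_sub, map_smul, LinearMap.add_apply, LinearMap.sub_apply, LinearMap.smul_apply,
        hzw, hv'w, smul_zero, sub_zero, add_zero]
      exact hvw

/-- A singular vector can be scaled. -/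
theorem scale (h2 : (2 : F) ≠ 0) (hN : (polarBilin Q).Nondegenerate) (hn : 4 ≤ Fintype.card ι) {β : ι → F}
    (hβ : Q β = 0) (hβ0 : β ≠ 0) {s : F} (hs : s ≠ 0) :
    ∃ g, g ∈ Cfsg.Geo.omegaGL ⇑Q ∧ (g : Matrix ι ι F) *ᵥ β = s • β := by
  haveI : Fintype F := Fintype.ofFinite F
  obtain ⟨β', hβ', h1⟩ := exists_partner' hN hβ hβ0
  have hW := (nd_top hN).perp_pair (e := β) (f := β') trivial trivial hβ hβ' h1
  have hd : 2 ≤ finrank F (perp Q (perp Q ⊤ β) β') := by
    have := finrank_perp_two (Q := Q) β β'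
    omega
  obtain ⟨p, hp, hQp⟩ := hW.exists_value h2 hd (-1)
  obtain ⟨c, hc, hQc⟩ := hW.exists_value h2 hd (-s)
  have hb1 : polarBilin Q β' β = 1 := by rw [quad_polar_comm, h1]
  have hv1 : Q (β - β') = -1 := by rw [quad_sub, hβ, hβ', h1]; ring
  have hv2 : Q (β - s • β') = -s := by
    rw [quad_sub, quad_smul, hβ, hβ', map_smul, h1, smul_eq_mul]; ring
  refine ⟨rr Q (β - β') p * rr Q (β - s • β') c, mul_mem (rr_mem_omega hN (hv1.trans hQp.symm)
    (by rw [hQp]; exact neg_ne_zero.mpr one_ne_zero)) (rr_mem_omega hN (hv2.trans hQc.symm)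
    (by rw [hQc]; exact neg_ne_zero.mpr hs)), ?_⟩
  have pb : polarBilin Q p β = 0 := by rw [quad_polar_comm]; exact hp.1.2
  have cb : polarBilin Q c β = 0 := by rw [quad_polar_comm]; exact hc.1.2
  have pb' : polarBilin Q p β' = 0 := by rw [quad_polar_comm]; exact hp.2
  have e1 : (rr Q (β - s • β') c : Matrix ι ι F) *ᵥ β = s⁻¹⁻¹ • β' := by
    rw [rr_mulVec, cb, mul_zero, zero_smul, sub_zero, hv2, map_sub, LinearMap.sub_apply, map_smul,
      LinearMap.smul_apply, Orth.polar_self_of_sing Q hβ, hb1, smul_eq_mul, inv_inv]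
    match_scalars <;> field_simp <;> ring
  have e2 : (rr Q (β - β') p : Matrix ι ι F) *ᵥ β' = β := by
    rw [rr_mulVec, pb', mul_zero, zero_smul, sub_zero, hv1, map_sub, LinearMap.sub_apply, h1,
      Orth.polar_self_of_sing Q hβ']
    match_scalars <;> field_simp <;> ring
  rw [Units.val_mul, ← Matrix.mulVec_mulVec, e1, Matrix.mulVec_smul, e2, inv_inv]

end one

variable {a b : ℕ} {F : Type*} [Field F]

/-- `QA ⊗ QB = Q` on the polar forms. -/
structure Setting (QA : QuadraticForm F (Fin a → F)) (QB : QuadraticForm F (Fin b → F))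
    (Q : QuadraticForm F (Fin a × Fin b → F)) : Prop where
  two : (2 : F) ≠ 0
  ndA : (polarBilin QA).Nondegenerate
  ndB : (polarBilin QB).Nondegenerate
  nd : (polarBilin Q).Nondegenerate
  form : ∀ x u y w, polarBilin Q (pure x u) (pure y w) = polarBilin QA x y * polarBilin QB u w

/-- Isometries, containing the products. -/
structure Grp (QA : QuadraticForm F (Fin a → F)) (QB : QuadraticForm F (Fin b → F))
    (Q : QuadraticForm F (Fin a × Fin b → F)) (M : Subgroup (GL (Fin a × Fin b) F)) : Prop where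
  pres : M ≤ Cfsg.isometryGroup F ⇑Q
  prod : ∀ gh : GL (Fin a) F × GL (Fin b) F, gh.1 ∈ Cfsg.Geo.omegaGL ⇑QA → gh.2 ∈ Cfsg.Geo.omegaGL ⇑QB → kr gh ∈ M

theorem lext {W : Type*} [AddCommGroup W] [Module F W] {g g' : (Fin a × Fin b → F) →ₗ[F] W}
    (hg : ∀ x u, g (pure x u) = g' (pure x u)) (p : Fin a × Fin b → F) : g p = g' p :=
  Tensor.lin_ext hg p

/-- Contraction with `β` in the second factor. -/
noncomputable def cB (QB : QuadraticForm F (Fin b → F)) (β : Fin b → F) : (Fin a × Fin b → F) →ₗ[F] (Fin a → F) :=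
  ctr (psi QB β)

/-- Contraction with `x` in the first factor. -/
noncomputable def cA (QA : QuadraticForm F (Fin a → F)) (x : Fin a → F) : (Fin a × Fin b → F) →ₗ[F] (Fin b → F) :=
  ctl (psi QA x)

theorem cB_pure (QB : QuadraticForm F (Fin b → F)) (β : Fin b → F) (x : Fin a → F) (u : Fin b → F) :
    cB QB β (pure x u) = polarBilin QB β u • x := by rw [cB, ctr_pure, psi_dot]

theorem cA_pure (QA : QuadraticForm F (Fin a → F)) (x y : Fin a → F) (u : Fin b → F) :
    cA QA x (pure y u) = polarBilin QA x y • u := by rw [cA, ctl_pure, psi_dot]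

theorem cB_add (QB : QuadraticForm F (Fin b → F)) (β β' : Fin b → F) (p : Fin a × Fin b → F) :
    cB QB (β + β') p = cB QB β p + cB QB β' p :=
  lext (g := cB QB (β + β')) (g' := cB QB β + cB QB β') (fun x u => by
    simp only [LinearMap.add_apply, cB_pure, map_add, add_smul]) p

theorem cB_smul (QB : QuadraticForm F (Fin b → F)) (c : F) (β : Fin b → F) (p : Fin a × Fin b → F) :
    cB QB (c • β) p = c • cB QB β p :=
  lext (g := cB QB (c • β)) (g' := c • cB QB β) (fun x u => by
    simp only [LinearMap.smul_apply, cB_pure, map_smul, smul_eq_mul, mul_smul]) p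

theorem cA_add (QA : QuadraticForm F (Fin a → F)) (x x' : Fin a → F) (p : Fin a × Fin b → F) :
    cA QA (x + x') p = cA QA x p + cA QA x' p :=
  lext (g := cA QA (x + x')) (g' := cA QA x + cA QA x') (fun y u => by
    simp only [LinearMap.add_apply, cA_pure, map_add, add_smul]) p

theorem cA_smul (QA : QuadraticForm F (Fin a → F)) (c : F) (x : Fin a → F) (p : Fin a × Fin b → F) :
    cA QA (c • x) p = c • cA QA x p :=
  lext (g := cA QA (c • x)) (g' := c • cA QA x) (fun y u => by
    simp only [LinearMap.smul_apply, cA_pure, map_smul, smul_eq_mul, mul_smul]) p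

variable {QA : QuadraticForm F (Fin a → F)} {QB : QuadraticForm F (Fin b → F)}
  {Q : QuadraticForm F (Fin a × Fin b → F)} (hS : Setting QA QB Q)
include hS

theorem Q_pure (x : Fin a → F) (u : Fin b → F) : Q (pure x u) = 2 * QA x * QB u := by
  have h := hS.form x u x u
  rw [quad_polar_self, quad_polar_self, quad_polar_self] at h
  refine mul_left_cancel₀ hS.two ?_
  linear_combination h

theorem sing_right (x : Fin a → F) {u : Fin b → F} (hu : QB u = 0) : Q (pure x u) = 0 := by
  rw [Q_pure hS, hu, mul_zero]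

theorem sing_left {x : Fin a → F} (hx : QA x = 0) (u : Fin b → F) : Q (pure x u) = 0 := by
  rw [Q_pure hS, hx, mul_zero, zero_mul]

theorem B_left (y : Fin a → F) (β : Fin b → F) (p : Fin a × Fin b → F) :
    polarBilin Q (pure y β) p = polarBilin QA y (cB QB β p) :=
  lext (g := polarBilin Q (pure y β)) (g' := (polarBilin QA y).comp (cB QB β)) (fun x u => by
    rw [LinearMap.comp_apply, cB_pure, map_smul, hS.form, smul_eq_mul, mul_comm]) p

theorem B_right (x : Fin a → F) (u : Fin b → F) (p : Fin a × Fin b → F) :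
    polarBilin Q (pure x u) p = polarBilin QB u (cA QA x p) :=
  lext (g := polarBilin Q (pure x u)) (g' := (polarBilin QB u).comp (cA QA x)) (fun y w => by
    rw [LinearMap.comp_apply, cA_pure, map_smul, hS.form, smul_eq_mul]) p

theorem cA_eq_zero {p : Fin a × Fin b → F} {x : Fin a → F}
    (h : ∀ u, polarBilin Q (pure x u) p = 0) : cA QA x p = 0 :=
  hS.ndB.2 _ fun u => by rw [← B_right hS]; exact h u

theorem cB_eq_zero {p : Fin a × Fin b → F} {β : Fin b → F}
    (h : ∀ y, polarBilin Q (pure y β) p = 0) : cB QB β p = 0 :=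
  hS.ndA.2 _ fun y => by rw [← B_left hS]; exact h y

theorem cA_comm (x : Fin a → F) (β : Fin b → F) (p : Fin a × Fin b → F) :
    polarBilin QB β (cA QA x p) = polarBilin QA x (cB QB β p) := by
  rw [← B_right hS, ← B_left hS]

/-- Isometry of a map checked on pure tensors. -/
theorem iso_of_pure {g : GL (Fin a × Fin b) F}
    (hg : ∀ x u y w, polarBilin Q ((g : Matrix (Fin a × Fin b) (Fin a × Fin b) F) *ᵥ pure x u)
      ((g : Matrix (Fin a × Fin b) (Fin a × Fin b) F) *ᵥ pure y w) = polarBilin Q (pure x u) (pure y w)) :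
    g ∈ Cfsg.isometryGroup F ⇑Q := by
  have h1 : ∀ x u p, polarBilin Q ((g : Matrix (Fin a × Fin b) (Fin a × Fin b) F) *ᵥ pure x u)
      ((g : Matrix (Fin a × Fin b) (Fin a × Fin b) F) *ᵥ p) = polarBilin Q (pure x u) p := fun x u p =>
    lext (g := (polarBilin Q ((g : Matrix (Fin a × Fin b) (Fin a × Fin b) F) *ᵥ pure x u)).comp
      (Matrix.mulVecLin (g : Matrix (Fin a × Fin b) (Fin a × Fin b) F))) (g' := polarBilin Q (pure x u))
      (fun y w => hg x u y w) p
  have h2 : ∀ p p', polarBilin Q ((g : Matrix (Fin a × Fin b) (Fin a × Fin b) F) *ᵥ p)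
      ((g : Matrix (Fin a × Fin b) (Fin a × Fin b) F) *ᵥ p') = polarBilin Q p p' := fun p p' =>
    lext (g := (polarBilin Q ((g : Matrix (Fin a × Fin b) (Fin a × Fin b) F) *ᵥ p)).comp
      (Matrix.mulVecLin (g : Matrix (Fin a × Fin b) (Fin a × Fin b) F))) (g' := polarBilin Q p) (fun y w => by
      show polarBilin Q _ _ = _
      rw [Matrix.mulVecLin_apply, quad_polar_comm, h1, quad_polar_comm]) p'
  intro x y
  refine mul_left_cancel₀ hS.two ?_
  show 2 * Q ((g : Matrix (Fin a × Fin b) (Fin a × Fin b) F) *ᵥ x) = 2 * Q x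
  rw [← quad_polar_self, ← quad_polar_self, h2]

theorem kr_iso {gh : GL (Fin a) F × GL (Fin b) F} (h1 : gh.1 ∈ Cfsg.isometryGroup F ⇑QA)
    (h2 : gh.2 ∈ Cfsg.isometryGroup F ⇑QB) : kr gh ∈ Cfsg.isometryGroup F ⇑Q :=
  iso_of_pure hS fun x u y w => by
    rw [kr_pure, kr_pure, hS.form, hS.form, Orth.iso_polar h1, Orth.iso_polar h2]

/-- A pair `β`, `w` of the second factor annihilating `p`. -/
def Good (QB : QuadraticForm F (Fin b → F)) (p : Fin a × Fin b → F) : Prop :=
  ∃ β w : Fin b → F, β ≠ 0 ∧ QB β = 0 ∧ polarBilin QB β w = 0 ∧ w ∉ F ∙ β ∧ cB QB β p = 0 ∧ cB QB w p = 0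

/-- Vectors with few rows are good, jointly. -/
theorem good_of_subspace [Finite F] (U : Submodule F (Fin b → F)) (hU : finrank F U + 3 ≤ b) :
    ∃ β w : Fin b → F, β ≠ 0 ∧ QB β = 0 ∧ polarBilin QB β w = 0 ∧ w ∉ F ∙ β ∧
      ∀ p : Fin a × Fin b → F, (∀ x, cA QA x p ∈ U) → cB QB β p = 0 ∧ cB QB w p = 0 := by
  set O := LinearMap.BilinForm.orthogonal (polarBilin QB) U with hO
  have h1 : finrank F O = b - finrank F U := by
    rw [hO, LinearMap.BilinForm.finrank_orthogonal hS.ndB, Module.finrank_fin_fun]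
  obtain ⟨β, hβ, hβ0, hQβ⟩ := Orth.exists_singular (Q := QB) O (by omega)
  obtain ⟨w, hw, hwβ⟩ := OrthSplit.exists_outside (F ∙ β) (X := O ⊓ LinearMap.ker (polarBilin QB β)) (by
    have := finrank_inf_ker O (polarBilin QB β)
    rw [finrank_span_singleton hβ0]
    omega)
  refine ⟨β, w, hβ0, hQβ, hw.2, hwβ, fun p hp => ⟨cB_eq_zero hS fun y => ?_, cB_eq_zero hS fun y => ?_⟩⟩
  · rw [B_right hS, quad_polar_comm]; exact hβ _ (hp y)
  · rw [B_right hS, quad_polar_comm]; exact hw.1 _ (hp y)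

/-- The range of the rows. -/
theorem good_of_rank [Finite F] {p : Fin a × Fin b → F}
    (L : (Fin a → F) →ₗ[F] (Fin b → F)) (hL : ∀ x, L x = cA QA x p) (hr : finrank F (LinearMap.range L) + 3 ≤ b) :
    Good QB p := by
  obtain ⟨β, w, h1, h2, h3, h4, h5⟩ := good_of_subspace hS (LinearMap.range L) hr
  obtain ⟨h6, h7⟩ := h5 p fun x => ⟨x, hL x⟩
  exact ⟨β, w, h1, h2, h3, h4, h6, h7⟩

/-- A vector killed by a contraction is good. -/
theorem good_of_kill [Finite F] (hab : a + 2 ≤ b) {p : Fin a × Fin b → F} {z : Fin a → F} (hz : z ≠ 0)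
    (h : cA QA z p = 0) : Good QB p := by
  let L : (Fin a → F) →ₗ[F] (Fin b → F) :=
    { toFun := fun x => cA QA x p
      map_add' := fun x y => cA_add QA x y p
      map_smul' := fun c x => cA_smul QA c x p }
  refine good_of_rank hS L (fun x => rfl) ?_
  have h1 := L.finrank_range_add_finrank_ker
  have h2 : 1 ≤ finrank F (LinearMap.ker L) := Submodule.one_le_finrank_iff.mpr fun e => hz (by
    have hm : z ∈ LinearMap.ker L := h
    rwa [e, Submodule.mem_bot] at hm)
  rw [Module.finrank_fin_fun] at h1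
  omega

/-- Few pure tensors are good, jointly. -/
theorem good_span [Finite F] (s : Finset (Fin b → F)) (hs : s.card + 3 ≤ b) :
    ∃ β w : Fin b → F, β ≠ 0 ∧ QB β = 0 ∧ polarBilin QB β w = 0 ∧ w ∉ F ∙ β ∧
      ∀ (x : Fin a → F), ∀ u ∈ s, cB QB β (pure x u) = 0 ∧ cB QB w (pure x u) = 0 := by
  obtain ⟨β, w, h1, h2, h3, h4, h5⟩ := good_of_subspace hS (Submodule.span F (s : Set (Fin b → F))) (by
    have : finrank F (Submodule.span F (s : Set (Fin b → F))) ≤ s.card := finrank_span_finset_le_card s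
    omega)
  exact ⟨β, w, h1, h2, h3, h4, fun x u hu => h5 _ fun y => by
    rw [cA_pure]; exact Submodule.smul_mem _ _ (Submodule.subset_span hu)⟩

end Cfsg.Agent.Lib.ThreeTransp.TensorOrth
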