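import Cfsg.Agent.Lib.ThreeTransp.TensorOrthOmega
import Cfsg.Agent.Lib.MaxSub.TensorFrame

/-!
From a tensor form structure to the setting, and the maximality.
-/

set_option autoImplicit false
set_option linter.unusedSectionVars false
set_option linter.unusedSimpArgs false

namespace Cfsg.Agent.Lib.ThreeTransp.TensorOrth

open Matrix Module QuadraticMap
open Cfsg.Agent.Lib.MaxSub
open Cfsg.Agent.Lib.Geometry (quad_add quad_sub quad_smul quad_polar_self quad_polar_comm)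
open Cfsg.Agent.Lib.ThreeTransp.Tensor
open scoped MatrixGroups Matrix Kronecker

attribute [-simp] QuadraticMap.polarBilin_apply_apply

variable {F : Type*} [Field F]

/-- A symmetric form times a constant, as a quadratic form. -/
theorem exists_quad_symm {k : ℕ} (h2 : (2 : F) ≠ 0) {f : (Fin k → F) → (Fin k → F) → F}
    (hf : Cfsg.Geo.IsSymmetricForm f) {c : F} (hc : c ≠ 0) :
    ∃ Q : QuadraticForm F (Fin k → F), (∀ x y, polarBilin Q x y = c * f x y) ∧ (polarBilin Q).Nondegenerate := by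
  let B : LinearMap.BilinForm F (Fin k → F) := LinearMap.mk₂ F f hf.bilinear.add_left hf.bilinear.smul_left
    hf.bilinear.add_right hf.bilinear.smul_right
  let Q : QuadraticForm F (Fin k → F) := LinearMap.BilinMap.toQuadraticMap ((c / 2) • B)
  have hQ : ∀ x y, polarBilin Q x y = c * f x y := fun x y => by
    rw [polarBilin_apply_apply, LinearMap.BilinMap.polar_toQuadraticMap]
    show c / 2 * f x y + c / 2 * f y x = _
    rw [hf.symm y x]
    field_simp
    ring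
  refine ⟨Q, hQ, fun x hx => ?_, fun y hy => ?_⟩
  · by_contra hx0
    obtain ⟨-, y, hy⟩ := hf.nondegenerate x hx0
    have := hx y
    rw [hQ] at this
    first
      | exact hy ((mul_eq_zero.mp this).resolve_left hc)
      | exact hy (by rw [hf.symm]; exact (mul_eq_zero.mp this).resolve_left hc)
  · by_contra hy0
    obtain ⟨-, x, hx⟩ := hf.nondegenerate y hy0
    have := hy x
    rw [hQ] at this
    first
      | exact hx ((mul_eq_zero.mp this).resolve_left hc)
      | exact hx (by rw [hf.symm]; exact (mul_eq_zero.mp this).resolve_left hc)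

variable [Fintype F]

/-- The stabiliser of an orthogonal tensor decomposition is maximal. -/
theorem maximal {ι : Type} [Fintype ι] [DecidableEq ι] (h2 : (2 : F) ≠ 0) {Q₀ : QuadraticForm F (ι → F)}
    (hN₀ : (polarBilin Q₀).Nondegenerate) {n₁ n₂ : ℕ} (ha : 3 ≤ n₁) (hb : 5 ≤ n₂) (hab : n₁ + 2 ≤ n₂)
    (hn4 : n₁ ≠ 4) (hq : 5 ≤ n₁ ∨ ∃ s : F, s ≠ 0 ∧ s * s ≠ 1) (hside : n₁ + 3 ≤ n₂ ∨ Odd n₂)
    (e : ι ≃ Fin n₁ × Fin n₂) (P : GL ι F) (f₁ : (Fin n₁ → F) → (Fin n₁ → F) → F)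
    (f₂ : (Fin n₂ → F) → (Fin n₂ → F) → F) (hf₁ : Cfsg.Geo.IsSymmetricForm f₁) (hf₂ : Cfsg.Geo.IsSymmetricForm f₂)
    (hT : Cfsg.Geo.IsTensorFormStructure id (QuadraticMap.polar ⇑Q₀) f₁ f₂ e P) :
    Cfsg.Geo.IsMaximalIn (Cfsg.Geo.omegaGL ⇑Q₀)
      (Cfsg.Geo.tensorProductSubgroup n₁ n₂ e P ⊓ Cfsg.Geo.omegaGL ⇑Q₀) := by
  classical
  haveI : Finite F := Finite.of_fintype F
  obtain ⟨c, hc0, hc⟩ := hT
  let L : (Fin n₁ × Fin n₂ → F) →ₗ[F] (ι → F) :=
    (Matrix.mulVecLin (P : Matrix ι ι F)).comp (LinearMap.funLeft F F e)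
  have hL : ∀ x, L x = (P : Matrix ι ι F) *ᵥ (x ∘ e) := fun x => rfl
  have hLs : ∀ v, ∃ x, L x = v := fun v =>
    ⟨(((P⁻¹ : GL ι F) : Matrix ι ι F) *ᵥ v) ∘ e.symm, by
      rw [hL, Function.comp_assoc, Equiv.symm_comp_self, Function.comp_id, Matrix.mulVec_mulVec, ← Units.val_mul,
        mul_inv_cancel, Units.val_one, Matrix.one_mulVec]⟩
  have hLi : ∀ x y, L x = L y → x = y := fun x y h => by
    rw [hL, hL] at h
    have h' := Matrix.mulVec_injective_of_isUnit P.isUnit h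
    funext p
    simpa using congrFun h' (e.symm p)
  let Q : QuadraticForm F (Fin n₁ × Fin n₂ → F) := Q₀.comp L
  have hQa : ∀ x, Q x = Q₀ (L x) := fun x => rfl
  have hQp : ∀ x y, polarBilin Q x y = polarBilin Q₀ (L x) (L y) := fun x y => by
    simp only [polarBilin_apply_apply, polar, hQa, map_add]
  have hN : (polarBilin Q).Nondegenerate := ⟨fun x hx => hLi x 0 (by
      rw [map_zero]
      refine hN₀.1 _ fun v => ?_
      obtain ⟨y, rfl⟩ := hLs v
      rw [← hQp]; exact hx y),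
    fun y hy => hLi y 0 (by
      rw [map_zero]
      refine hN₀.2 _ fun v => ?_
      obtain ⟨x, rfl⟩ := hLs v
      rw [← hQp]; exact hy x)⟩
  obtain ⟨QA, hQA, hNA⟩ := exists_quad_symm h2 hf₁ one_ne_zero
  obtain ⟨QB, hQB, hNB⟩ := exists_quad_symm h2 hf₂ hc0
  have hgram : ∀ {k : ℕ} {g : (Fin k → F) → (Fin k → F) → F}, Cfsg.Geo.IsSymmetricForm g → ∀ x y,
      Cfsg.Geo.formOfGram id (Cfsg.Geo.gramMatrix g) x y = g x y := fun {k g} hg x y =>
    TensorFrame.formOfGram_gram id hg.bilinear.add_left hg.bilinear.smul_left hg.bilinear.add_right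
      hg.bilinear.smul_right x y
  have hS : Setting QA QB Q := ⟨h2, hNA, hNB, hN, fun x u y w => by
    rw [hQp, hQA, hQB, polarBilin_apply_apply, ← hgram hf₁, ← hgram hf₂]
    refine (TensorFrame.form_tau (σ := id) (fun _ _ => rfl) hc x y u w).trans ?_
    ring⟩
  -- the isomorphism
  set φ : GL (Fin n₁ × Fin n₂) F ≃* GL ι F := (Geo.glReindex e.symm).trans (MulAut.conj P) with hφ
  have hT' : Geo.tensorProductSubgroup n₁ n₂ e P = (Geo.kroneckerSubgroup n₁ n₂ F).map φ.toMonoidHom := by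
    rw [Geo.tensorProductSubgroup, Subgroup.map_map]; rfl
  have hφL : ∀ (g : GL (Fin n₁ × Fin n₂) F) x, (φ g : Matrix ι ι F) *ᵥ L x =
      L ((g : Matrix (Fin n₁ × Fin n₂) (Fin n₁ × Fin n₂) F) *ᵥ x) := by
    intro g x
    rw [hL, hL, hφ, MulEquiv.trans_apply, MulAut.conj_apply, Matrix.mulVec_mulVec, ← Units.val_mul,
      inv_mul_cancel_right, Units.val_mul, ← Matrix.mulVec_mulVec]
    congr 1
    show Matrix.reindex e.symm e.symm (g : Matrix (Fin n₁ × Fin n₂) (Fin n₁ × Fin n₂) F) *ᵥ _ = _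
    rw [Matrix.reindex_apply, Equiv.symm_symm, Matrix.submatrix_mulVec_equiv, Function.comp_assoc,
      Equiv.self_comp_symm, Function.comp_id]
  have hiso : ∀ g, φ g ∈ Cfsg.isometryGroup F ⇑Q₀ ↔ g ∈ Cfsg.isometryGroup F ⇑Q := fun g => by
    refine ⟨fun h x y => ?_, fun h u v => ?_⟩
    · show Q _ = Q x
      rw [Units.coeHom_apply, hQa, hQa, ← hφL]; exact h _ (L y)
    · obtain ⟨x, rfl⟩ := hLs u
      show Q₀ _ = Q₀ (L x)
      rw [show ((Units.coeHom (Matrix ι ι F)) (φ g)) = (φ g : Matrix ι ι F) from rfl, hφL, ← hQa, ← hQa]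
      exact h x x
  have hom : ∀ g, φ g ∈ Cfsg.Geo.omegaGL ⇑Q₀ ↔ g ∈ Cfsg.Geo.omegaGL ⇑Q := omega_map φ hiso
  refine ⟨lt_of_le_of_ne inf_le_right fun h => ?_, fun M hMl hMu => ?_⟩
  · obtain ⟨g, hg, hgn⟩ := exists_outside_kronecker hS ha (by omega)
    have ht := (hom g).mpr hg
    rw [← h, hT', Subgroup.mem_inf, Subgroup.mem_map_equiv, MulEquiv.symm_apply_apply] at ht
    exact hgn ht.1
  · have hM : Grp QA QB Q (M.comap φ.toMonoidHom) := ⟨fun g hg => (hiso g).mp (Orth.omegaGL_le_isometry (hMu hg)),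
      fun gh h1 h3 => hMl ⟨by rw [hT']; exact ⟨kr gh, mem_kronecker.mpr ⟨gh, rfl⟩, rfl⟩,
        (hom _).mpr (kr_omega hS h1 h3)⟩⟩
    rcases dichotomy hS hM ha hb hab (fun h => absurd h hn4) hq hside with hge | hle
    · refine Or.inr (le_antisymm hMu fun g hg => ?_)
      rw [← φ.apply_symm_apply g] at hg ⊢
      exact hge ((hom _).mp hg)
    · refine Or.inl (le_antisymm (le_inf ?_ hMu) hMl)
      intro g hg
      rw [hT', Subgroup.mem_map_equiv]
      exact hle (show φ (φ.symm g) ∈ M by rwa [φ.apply_symm_apply])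

end Cfsg.Agent.Lib.ThreeTransp.TensorOrth
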