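import Cfsg.Agent.Lib.ThreeTransp.TensorOrthInc

/-!
From a full family at one point to all roots.
-/

set_option autoImplicit false
set_option linter.unusedSectionVars false
set_option linter.unusedSimpArgs false

namespace Cfsg.Agent.Lib.ThreeTransp.TensorOrth

open Matrix Module QuadraticMap
open Cfsg.Agent.Lib.MaxSub
open Cfsg.Agent.Lib.MaxSub.OrthSplit (InE)
open Cfsg.Agent.Lib.ThreeTransp.DecompOrth (Nd perp inE_zero inE_neg inE_add inE_flip eq_top_of_sq)
open Cfsg.Agent.Lib.ThreeTransp.SubOrth (inE_line inE_comm inE_left_zero gen_span_sing gen_partner gen_exists_sing)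
open Cfsg.Agent.Lib.Geometry (quad_add quad_sub quad_smul quad_polar_self quad_polar_comm)
open Cfsg.Agent.Lib.ThreeTransp.Tensor
open scoped MatrixGroups Matrix Kronecker

attribute [-simp] QuadraticMap.polarBilin_apply_apply

variable {a b : ℕ} {F : Type*} [Field F] [Finite F]
variable {QA : QuadraticForm F (Fin a → F)} {QB : QuadraticForm F (Fin b → F)}
  {Q : QuadraticForm F (Fin a × Fin b → F)} {M : Subgroup (GL (Fin a × Fin b) F)}

/-- A non-trivial central element gives `omegaGL`. -/
theorem omega_of_inc (hS : Setting QA QB Q) (hM : Grp QA QB Q M) (ha : 3 ≤ a) (hb : 5 ≤ b)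
    (hA : a = 4 → ∀ e c : Fin a → F, QA e = 0 → QA c = 0 → polarBilin QA e c = 0 → c ∈ F ∙ e ∨ e = 0)
    {β₀ : Fin b → F} (hβ₀ : QB β₀ = 0) (hβ₀0 : β₀ ≠ 0) {C : (Fin a → F) →ₗ[F] (Fin a → F)} (h : Inc QB M β₀ C)
    (hC : C ≠ 0) : Cfsg.Geo.omegaGL ⇑Q ≤ M := by
  classical
  haveI : Fintype F := Fintype.ofFinite F
  obtain ⟨e₀, he₀0, he₀, hfull⟩ := exists_full hS hM ha hb hA hβ₀ hβ₀0 h hC
  have hac : 3 ≤ Fintype.card (Fin a) := by rw [Fintype.card_fin]; exact ha
  have hbc : 3 ≤ Fintype.card (Fin b) := by rw [Fintype.card_fin]; omega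
  have R : ∀ α β ω, QA α = 0 → QB β = 0 → polarBilin QA α ω = 0 → InE Q M (pure α β) (pure ω β) := by
    intro α β ω hα hβ hω
    rcases eq_or_ne α 0 with rfl | hα0
    · rw [pure_zero_left]; exact inE_left_zero _
    rcases eq_or_ne β 0 with rfl | hβ0
    · rw [pure_zero_right]; exact inE_left_zero _
    obtain ⟨g, c, hg, hc, hge⟩ := move hS.two hS.ndA hac he₀ hα he₀0 hα0
    obtain ⟨k, d, hk, hd, hke⟩ := move hS.two hS.ndB hbc hβ₀ hβ hβ₀0 hβ0
    have hgk := hM.prod (g, k) hg hk
    set w := ((g⁻¹ : GL (Fin a) F) : Matrix (Fin a) (Fin a) F) *ᵥ ((c * d * d)⁻¹ • ω) with hw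
    have hew : polarBilin QA e₀ w = 0 := by
      rw [← Orth.iso_polar (Orth.omegaGL_le_isometry hg), hw, mulVec_mulVec_inv, hge, map_smul, map_smul,
        LinearMap.smul_apply, hω, smul_zero, smul_zero]
    have h1 := (inE_of_inc hS hew hβ₀ (hfull w hew)).conj hgk (hM.pres hgk)
    rw [kr_pure, kr_pure, hge, hke, hw, mulVec_mulVec_inv, pure_smul_left, pure_smul_left, pure_smul_right,
      pure_smul_right, smul_smul, smul_smul] at h1
    have h2 := h1.scale (mul_ne_zero hc hd)
    convert h2 using 1
    rw [smul_smul, show c * d * ((c * d * d)⁻¹ * d) = 1 by field_simp, one_smul]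
  have UA : ∀ α β, QA α = 0 → QB β = 0 → ∀ γ, InE Q M (pure α β) (pure α γ) := by
    intro α β hα hβ γ
    rcases eq_or_ne α 0 with rfl | hα0
    · rw [pure_zero_left]; exact inE_left_zero _
    rcases eq_or_ne β 0 with rfl | hβ0
    · rw [pure_zero_right]; exact inE_left_zero _
    obtain ⟨ω, hαω, hQω⟩ := exists_aniso_one hS.ndA hac hα hα0
    have key : ∀ γ, QB γ = 0 → polarBilin QB β γ ≠ 0 → InE Q M (pure α β) (pure α γ) := by
      intro γ hγ hne
      set k := (2 * QA ω * polarBilin QB β γ)⁻¹ with hk
      have hk0 : k ≠ 0 := inv_ne_zero (mul_ne_zero (mul_ne_zero hS.two hQω) hne)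
      let S : AddSubgroup F :=
        { carrier := {t | InE Q M (pure α β) ((t * k) • pure α γ)}
          zero_mem' := by
            show InE Q M _ _
            rw [zero_mul, zero_smul]; exact inE_zero (R α β ω hα hβ hαω)
          add_mem' := fun {x y} hx hy => by
            show InE Q M _ _
            rw [add_mul, add_smul]; exact inE_add hx hy
          neg_mem' := fun {x} hx => by
            show InE Q M _ _
            rw [neg_mul, neg_smul]; exact inE_neg hx }
      have hS' : S = ⊤ := eq_top_of_sq hS.two S fun x => by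
        show InE Q M _ _
        rcases eq_or_ne x 0 with rfl | hx
        · simp only [mul_zero, zero_mul, zero_smul]; exact inE_zero (R α β ω hα hβ hαω)
        have hαω' : polarBilin QA α (x⁻¹ • ω) = 0 := by rw [map_smul, hαω, smul_zero]
        set k' := x * x * k with hk'
        have hk'0 : k' ≠ 0 := mul_ne_zero (mul_ne_zero hx hx) hk0
        have h1 := inE_flip (R α β (x⁻¹ • ω) hα hβ hαω') (sing_right hS _ hβ)
        have hkγ : QB (k' • γ) = 0 := by rw [quad_smul, hγ, mul_zero]
        have h2 := inE_flip (R α (k' • γ) (x⁻¹ • ω) hα hkγ hαω') (sing_right hS _ hkγ)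
        rw [← neg_one_smul F] at h1
        rw [pure_smul_right k' α γ, ← neg_smul] at h2
        have h3 := inE_comm (by
          rw [hS.form]
          simp only [map_smul, LinearMap.smul_apply, smul_eq_mul, quad_polar_self, hk', hk]
          have := hS.two
          field_simp) (sing_right hS _ hβ) (sing_right hS α hβ) (sing_right hS α hγ)
          (by rw [hS.form, quad_polar_comm, hαω', zero_mul])
          (by rw [hS.form, Orth.polar_self_of_sing QA hα, zero_mul])
          (by rw [hS.form, quad_polar_comm, hαω', zero_mul]) h1 h2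
        rwa [show (-1 : F) * -k' = x * x * k by rw [hk']; ring] at h3
      have hmem : k⁻¹ ∈ S := by rw [hS']; trivial
      have h1 : InE Q M (pure α β) ((k⁻¹ * k) • pure α γ) := hmem
      rwa [inv_mul_cancel₀ hk0, one_smul] at h1
    have hline : ∀ t : F, InE Q M (pure α β) (pure α (t • β)) := fun t => by
      rw [pure_smul_right]; exact inE_line (sing_right hS α hβ) t
    obtain ⟨β', hβ', hββ'⟩ := exists_partner' hS.ndB hβ hβ0
    have hsing : ∀ γ, QB γ = 0 → InE Q M (pure α β) (pure α γ) := by
      intro γ hγ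
      by_cases hne : polarBilin QB β γ = 0
      swap; · exact key γ hγ hne
      set k := polarBilin QB γ β' with hk
      have h1 := key (γ + β' - k • β) (by
        rw [quad_sub, quad_add, quad_smul, hγ, hβ', hβ, map_smul, map_add, LinearMap.add_apply,
          quad_polar_comm QB γ β, hne, quad_polar_comm QB β' β, hββ', ← hk, smul_eq_mul]; ring) (by
        rw [map_sub, map_add, map_smul, hne, hββ', Orth.polar_self_of_sing QB hβ, smul_zero, sub_zero, zero_add]
        exact one_ne_zero)
      have h2 := inE_add (inE_add h1 (inE_neg (key β' hβ' (by rw [hββ']; exact one_ne_zero)))) (hline k)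
      convert h2 using 1
      rw [pure_sub_right, pure_add_right]
      abel
    have hspan : ∀ t : F, InE Q M (pure α β) (pure α (t • γ)) := by
      have hx := span_sing hS.ndB hbc γ
      induction hx using Submodule.span_induction with
      | mem z hz => exact fun t => hsing _ (by rw [quad_smul, show QB z = 0 from hz, mul_zero])
      | zero => exact fun t => by rw [smul_zero, pure_zero_right]; exact inE_zero (hline 1)
      | add p q _ _ hp hq => exact fun t => by rw [smul_add, pure_add_right]; exact inE_add (hp t) (hq t)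
      | smul c p _ hp => exact fun t => by rw [smul_smul]; exact hp _
    simpa using hspan 1
  have W1 : ∀ α α' ω β γ, QA α = 0 → QA α' = 0 → polarBilin QA α α' = 1 → polarBilin QA α ω = 0 →
      polarBilin QA α' ω = 0 → QB β = 0 → QB γ = 0 → γ ≠ 0 → polarBilin QB β γ = 0 →
      InE Q M (pure α β) (pure ω γ) := by
    intro α α' ω β γ hα hα' hαα' hαω hα'ω hβ hγ hγ0 hβγ
    obtain ⟨δ, hδ, hγδ⟩ := exists_partner' hS.ndB hγ hγ0
    have h1 := UA α δ hα hδ β
    have h2 := R α' γ ω hα' hγ hα'ω
    rw [← one_smul F (pure α β)] at h1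
    rw [← one_smul F (pure ω γ)] at h2
    have h3 := inE_comm (by rw [hS.form, hαα', quad_polar_comm, hγδ, one_mul]) (sing_left hS hα _)
      (sing_left hS hα _) (sing_right hS ω hγ) (by rw [hS.form, hαω, zero_mul])
      (by rw [hS.form, hαω, zero_mul]) (by rw [hS.form, quad_polar_comm QB γ β, hβγ, mul_zero]) h1 h2
    simpa using h3
  obtain ⟨e, e', he, he', hee'⟩ := exists_hyp hS.ndA hac
  obtain ⟨β, β', hβ, hβ', hββ'⟩ := exists_hyp hS.ndB hbc
  have hroot : ∀ e e' β β', QA e = 0 → QA e' = 0 → polarBilin QA e e' = 1 → QB β = 0 → QB β' = 0 →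
      polarBilin QB β β' = 1 → Orth.Root Q M (pure e β) := by
    intro e e' β β' he he' hee' hβ hβ' hββ'
    have hβ0 : β ≠ 0 := fun e0 => by rw [e0, map_zero, LinearMap.zero_apply] at hββ'; exact zero_ne_one hββ'
    let π : (Fin a → F) → (Fin a → F) := fun y => y - polarBilin QA e' y • e - polarBilin QA e y • e'
    have hπ : ∀ y, polarBilin QA e (π y) = 0 ∧ polarBilin QA e' (π y) = 0 := fun y => by
      constructor <;> simp [π, Orth.polar_self_of_sing QA he, Orth.polar_self_of_sing QA he',
        quad_polar_comm QA e' e, hee']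
    have W2 : ∀ ω, polarBilin QA e ω = 0 → polarBilin QA e' ω = 0 → ∀ γ, InE Q M (pure e β) (pure ω γ) := by
      intro ω h1 h2 γ
      have hs : ∀ γ, QB γ = 0 → InE Q M (pure e β) (pure ω γ) := by
        intro γ hγ
        obtain ⟨δ', hδ', hδ'0, hδ's⟩ := gen_exists_sing (Q := QB) {β, γ} ∅ (by
          have : ({β, γ} : Finset (Fin b → F)).card ≤ 2 := Finset.card_le_two
          simp only [Finset.card_empty, Fintype.card_fin]
          omega)
        simp only [Finset.coe_empty, Submodule.span_empty, Submodule.mem_bot] at hδ'0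
        have hβd : polarBilin QB β δ' = 0 := hδ's β (by simp)
        have hγd : polarBilin QB γ δ' = 0 := hδ's γ (by simp)
        rcases eq_or_ne γ 0 with rfl | hγ0
        · rw [pure_zero_right]; exact inE_zero (R e β ω he hβ h1)
        obtain ⟨δ, hδ, hδδ'⟩ := exists_partner' hS.ndB hδ' hδ'0
        have g1 := UA e δ he hδ β
        have g2 := W1 e' e ω δ' γ he' he (by rw [quad_polar_comm]; exact hee') h2 h1 hδ' hγ hγ0
          (by rw [quad_polar_comm]; exact hγd)
        rw [← one_smul F (pure e β)] at g1
        rw [← one_smul F (pure ω γ)] at g2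
        have g3 := inE_comm (by rw [hS.form, hee', quad_polar_comm, hδδ', one_mul]) (sing_left hS he _)
          (sing_left hS he _) (sing_right hS ω hγ) (by rw [hS.form, h1, zero_mul])
          (by rw [hS.form, h1, zero_mul]) (by rw [hS.form, quad_polar_comm QB δ' β, hβd, mul_zero]) g1 g2
        simpa using g3
      have hspan : ∀ t : F, InE Q M (pure e β) (pure ω (t • γ)) := by
        have hx := span_sing hS.ndB hbc γ
        induction hx using Submodule.span_induction with
        | mem z hz => exact fun t => hs _ (by rw [quad_smul, show QB z = 0 from hz, mul_zero])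
        | zero => exact fun t => by rw [smul_zero]; exact hs 0 (map_zero _)
        | add p q _ _ hp hq => exact fun t => by rw [smul_add, pure_add_right]; exact inE_add (hp t) (hq t)
        | smul c p _ hp => exact fun t => by rw [smul_smul]; exact hp _
      simpa using hspan 1
    have W3 : ∀ γ, polarBilin QB β γ = 0 → InE Q M (pure e β) (pure e' γ) := by
      have hs : ∀ γ, QB γ = 0 → polarBilin QB β γ = 0 → InE Q M (pure e β) (pure e' γ) := by
        intro γ hγ hβγ
        obtain ⟨δ', δ, hδ', hδ, hδδ', hd1, hd2⟩ : ∃ δ' δ, QB δ' = 0 ∧ QB δ = 0 ∧ polarBilin QB δ δ' = 1 ∧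
            polarBilin QB β δ' = 0 ∧ polarBilin QB δ γ = 0 := by
          by_cases hγβ : γ ∈ F ∙ β
          · obtain ⟨t, rfl⟩ := Submodule.mem_span_singleton.mp hγβ
            obtain ⟨δ', hδ', hδ'n, hδ's⟩ := gen_exists_sing (Q := QB) {β} {β} (by simp; omega)
            have hd1 : polarBilin QB β δ' = 0 := hδ's β (by simp)
            obtain ⟨δ, hδ, hf, hs'⟩ := gen_partner hS.ndB {β} hδ' (fun x hx => by
              rw [Finset.mem_singleton.mp hx]; exact hd1) hδ'n
            refine ⟨δ', δ, hδ', hδ, by rw [quad_polar_comm]; exact hf, hd1, ?_⟩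
            rw [map_smul, quad_polar_comm, hs' β (by simp), smul_zero]
          · obtain ⟨δ, hδ, hf, hs'⟩ := gen_partner hS.ndB {γ} hβ (fun x hx => by
              rw [Finset.mem_singleton.mp hx, quad_polar_comm]; exact hβγ) (by
              rw [Finset.coe_singleton]
              intro hm
              obtain ⟨t, ht⟩ := Submodule.mem_span_singleton.mp hm
              have ht0 : t ≠ 0 := fun e0 => hβ0 (by rw [← ht, e0, zero_smul])
              exact hγβ (Submodule.mem_span_singleton.mpr ⟨t⁻¹, by rw [← ht, inv_smul_smul₀ ht0]⟩))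
            exact ⟨β, δ, hβ, hδ, by rw [quad_polar_comm]; exact hf, Orth.polar_self_of_sing QB hβ,
              by rw [quad_polar_comm]; exact hs' γ (by simp)⟩
        have g1 := UA e δ he hδ β
        have g2 := UA e' δ' he' hδ' γ
        rw [← one_smul F (pure e β)] at g1
        rw [← one_smul F (pure e' γ)] at g2
        have g3 := inE_comm (by rw [hS.form, hee', hδδ', one_mul]) (sing_left hS he _)
          (sing_left hS he _) (sing_left hS he' γ) (by rw [hS.form, hd2, mul_zero])
          (by rw [hS.form, hβγ, mul_zero]) (by rw [hS.form, quad_polar_comm QB δ' β, hd1, mul_zero]) g1 g2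
        simpa using g3
      intro γ hγ
      have hx := gen_span_sing hS.ndB {β} (by simp; omega) (x := γ) (by simpa using hγ)
      have hspan : ∀ t : F, InE Q M (pure e β) (pure e' (t • γ)) := by
        clear hγ
        induction hx using Submodule.span_induction with
        | mem z hz =>
          exact fun t => hs _ (by rw [quad_smul, hz.1, mul_zero]) (by rw [map_smul, hz.2 β (by simp), smul_zero])
        | zero => exact fun t => by rw [smul_zero]; exact hs 0 (map_zero _) (map_zero _)
        | add p q _ _ hp hq => exact fun t => by rw [smul_add, pure_add_right]; exact inE_add (hp t) (hq t)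
        | smul c p _ hp => exact fun t => by rw [smul_smul]; exact hp _
      simpa using hspan 1
    refine ⟨sing_right hS e hβ, fun X hX => ?_⟩
    suffices hI : InE Q M (pure e β) X from hI.2.2
    have hdec : X = pure e (cA QA e' X) + pure e' (cA QA e X) + ∑ i, pure (π (Pi.single i 1)) (fun j => X (i, j)) := by
      have hp : X = ∑ i, pure (Pi.single i 1) (fun j => X (i, j)) := by
        funext q
        simp [Tensor.pure, Pi.single_apply, Finset.sum_apply]
      conv_rhs => arg 1; rw [hp, map_sum, map_sum]
      conv_lhs => rw [hp]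
      simp only [cA_pure]
      rw [← left_sum_aux e, ← left_sum_aux e', ← Finset.sum_add_distrib, ← Finset.sum_add_distrib]
      refine Finset.sum_congr rfl fun i _ => ?_
      funext q
      simp [π, Tensor.pure]
      ring
    rw [hdec]
    refine inE_add (inE_add (UA e β he hβ _) (W3 _ ?_)) ?_
    · rw [← B_right hS]; exact hX
    · refine Finset.sum_induction _ (fun p => InE Q M (pure e β) p) (fun _ _ => inE_add) ?_ fun i _ =>
        W2 _ (hπ _).1 (hπ _).2 _
      exact inE_zero (UA e β he hβ 0)
  refine Orth.omega_le hS.nd ?_ (Orth.Root.all hS.nd (hroot e e' β β' he he' hee' hβ hβ' hββ')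
    (hroot e' e β' β he' he (by rw [quad_polar_comm]; exact hee') hβ' hβ (by rw [quad_polar_comm]; exact hββ'))
    (by rw [hS.form, hee', hββ', one_mul]; exact one_ne_zero))
  rw [Fintype.card_prod, Fintype.card_fin, Fintype.card_fin]
  have : 3 * 5 ≤ a * b := Nat.mul_le_mul ha hb
  omega
where
  left_sum_aux {a b : ℕ} {F : Type _} [Field F] {s : Finset (Fin a)} (x : Fin a → F) (v : Fin a → Fin b → F) :
      ∑ i ∈ s, pure x (v i) = pure x (∑ i ∈ s, v i) := (map_sum (right x) v s).symm

end Cfsg.Agent.Lib.ThreeTransp.TensorOrth
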