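import Cfsg.Agent.Lib.ThreeTransp.TensorOrthBase

/-!
A non-trivial element of the centre of the radical of a totally singular `A ⊗ β` gives all of `omegaGL`.
-/

set_option autoImplicit false
set_option linter.unusedSectionVars false
set_option linter.unusedSimpArgs false

namespace Cfsg.Agent.Lib.ThreeTransp.TensorOrth

open Matrix Module QuadraticMap
open Cfsg.Agent.Lib.MaxSub
open Cfsg.Agent.Lib.MaxSub.OrthSplit (InE)
open Cfsg.Agent.Lib.ThreeTransp.DecompOrth (Nd perp inE_zero inE_neg inE_add inE_flip eq_top_of_sq)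
open Cfsg.Agent.Lib.ThreeTransp.SubOrth (inE_line inE_comm gen_span_sing gen_partner gen_exists_sing)
open Cfsg.Agent.Lib.Geometry (quad_add quad_sub quad_smul quad_polar_self quad_polar_comm)
open Cfsg.Agent.Lib.ThreeTransp.Tensor
open scoped MatrixGroups Matrix Kronecker

attribute [-simp] QuadraticMap.polarBilin_apply_apply

variable {a b : ℕ} {F : Type*} [Field F]

/-- `x ↦ (x, e) w - (x, w) e`. -/
noncomputable def wedge (QA : QuadraticForm F (Fin a → F)) (e w : Fin a → F) : (Fin a → F) →ₗ[F] (Fin a → F) :=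
  ((polarBilin QA).flip e).smulRight w - ((polarBilin QA).flip w).smulRight e

theorem wedge_apply (QA : QuadraticForm F (Fin a → F)) (e w x : Fin a → F) :
    wedge QA e w x = polarBilin QA x e • w - polarBilin QA x w • e := rfl

theorem wedge_add (QA : QuadraticForm F (Fin a → F)) (e w w' : Fin a → F) :
    wedge QA e (w + w') = wedge QA e w + wedge QA e w' :=
  LinearMap.ext fun x => by simp only [LinearMap.add_apply, wedge_apply, map_add]; module

theorem wedge_smul (QA : QuadraticForm F (Fin a → F)) (e : Fin a → F) (c : F) (w : Fin a → F) :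
    wedge QA e (c • w) = c • wedge QA e w :=
  LinearMap.ext fun x => by simp only [LinearMap.smul_apply, wedge_apply, map_smul, smul_eq_mul]; module

/-- `x ⊗ u ↦ x ⊗ u + B(β, u) C x ⊗ β` lies in `M`. -/
def Inc (QB : QuadraticForm F (Fin b → F)) (M : Subgroup (GL (Fin a × Fin b) F)) (β : Fin b → F)
    (C : (Fin a → F) →ₗ[F] (Fin a → F)) : Prop :=
  ∃ g ∈ M, ∀ x u, (g : Matrix (Fin a × Fin b) (Fin a × Fin b) F) *ᵥ pure x u =
    pure x u + polarBilin QB β u • pure (C x) β

variable {QA : QuadraticForm F (Fin a → F)} {QB : QuadraticForm F (Fin b → F)}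
  {Q : QuadraticForm F (Fin a × Fin b → F)} {M : Subgroup (GL (Fin a × Fin b) F)}

theorem skew_of (hS : Setting QA QB Q) {β β' : Fin b → F} (hβ : QB β = 0) (hββ' : polarBilin QB β β' = 1)
    {C : (Fin a → F) →ₗ[F] (Fin a → F)} {g : GL (Fin a × Fin b) F} (hg : g ∈ Cfsg.isometryGroup F ⇑Q)
    (he : ∀ x u, (g : Matrix (Fin a × Fin b) (Fin a × Fin b) F) *ᵥ pure x u =
      pure x u + polarBilin QB β u • pure (C x) β) (x y : Fin a → F) :
    polarBilin QA (C x) y + polarBilin QA x (C y) = 0 := by
  have h1 := Orth.iso_polar hg (pure x β') (pure y β')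
  simp only [he, hββ', one_smul, map_add, LinearMap.add_apply, hS.form, quad_polar_comm QB β' β,
    Orth.polar_self_of_sing QB hβ, mul_zero, mul_one, add_zero] at h1
  linear_combination h1

theorem Inc.add {β : Fin b → F} (hβ : QB β = 0) {C C' : (Fin a → F) →ₗ[F] (Fin a → F)} (h : Inc QB M β C)
    (h' : Inc QB M β C') : Inc QB M β (C + C') := by
  obtain ⟨g, hg, e⟩ := h
  obtain ⟨g', hg', e'⟩ := h'
  refine ⟨g * g', M.mul_mem hg hg', fun x u => ?_⟩
  rw [mulVec_mul, e', Matrix.mulVec_add, Matrix.mulVec_smul, e, e, Orth.polar_self_of_sing QB hβ, zero_smul, add_zero,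
    LinearMap.add_apply, pure_add_left, smul_add]
  abel

theorem Inc.neg {β : Fin b → F} (hβ : QB β = 0) {C : (Fin a → F) →ₗ[F] (Fin a → F)} (h : Inc QB M β C) :
    Inc QB M β (-C) := by
  obtain ⟨g, hg, e⟩ := h
  refine ⟨g⁻¹, M.inv_mem hg, fun x u => ?_⟩
  have h1 : (g : Matrix (Fin a × Fin b) (Fin a × Fin b) F) *ᵥ (pure x u + polarBilin QB β u • pure ((-C) x) β) = pure x u := by
    rw [Matrix.mulVec_add, Matrix.mulVec_smul, e, e, Orth.polar_self_of_sing QB hβ, zero_smul, add_zero,
      LinearMap.neg_apply, ← neg_one_smul F (C x), pure_smul_left]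
    module
  conv_lhs => rw [← h1, mulVec_inv_mulVec]

theorem inc_zero {β : Fin b → F} : Inc QB M β 0 :=
  ⟨1, M.one_mem, fun x u => by simp [pure_zero_left]⟩

variable (hS : Setting QA QB Q) (hM : Grp QA QB Q M)

include hM in
theorem Inc.conj {β : Fin b → F} {C : (Fin a → F) →ₗ[F] (Fin a → F)} (h : Inc QB M β C) {g : GL (Fin a) F}
    {k : GL (Fin b) F} (hg : g ∈ Cfsg.Geo.omegaGL ⇑QA) (hk : k ∈ Cfsg.Geo.omegaGL ⇑QB) {s : F}
    (hkβ : (k : Matrix (Fin b) (Fin b) F) *ᵥ β = s • β)
    (C' : (Fin a → F) →ₗ[F] (Fin a → F)) (hC' : ∀ x, C' x = (s * s) •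
      ((g : Matrix (Fin a) (Fin a) F) *ᵥ C (((g⁻¹ : GL (Fin a) F) : Matrix (Fin a) (Fin a) F) *ᵥ x))) :
    Inc QB M β C' := by
  obtain ⟨G, hG, e⟩ := h
  have hgk := hM.prod (g, k) hg hk
  refine ⟨kr (g, k) * G * (kr (g, k))⁻¹, M.mul_mem (M.mul_mem hgk hG) (M.inv_mem hgk), fun x u => ?_⟩
  have hB : polarBilin QB β (((k⁻¹ : GL (Fin b) F) : Matrix (Fin b) (Fin b) F) *ᵥ u) = s * polarBilin QB β u := by
    rw [← Orth.iso_polar (Orth.omegaGL_le_isometry hk), mulVec_mulVec_inv, hkβ, map_smul, LinearMap.smul_apply,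
      smul_eq_mul]
  rw [← map_inv, mulVec_mul, mulVec_mul, kr_pure, e, Matrix.mulVec_add, Matrix.mulVec_smul, kr_pure, kr_pure]
  simp only [Prod.fst_inv, Prod.snd_inv, mulVec_mulVec_inv, hB, hkβ, hC', pure_smul_left, pure_smul_right, smul_smul]
  congr 2
  ring

variable [Finite F]
include hS hM

theorem Inc.smul (hb : 4 ≤ b) {β : Fin b → F} (hβ : QB β = 0) (hβ0 : β ≠ 0) {C : (Fin a → F) →ₗ[F] (Fin a → F)}
    (h : Inc QB M β C) (t : F) : Inc QB M β (t • C) := by
  haveI : Fintype F := Fintype.ofFinite F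
  let S : AddSubgroup F :=
    { carrier := {t | Inc QB M β (t • C)}
      zero_mem' := by show Inc QB M β _; rw [zero_smul]; exact inc_zero
      add_mem' := fun {x y} hx hy => by
        show Inc QB M β _
        rw [add_smul]; exact Inc.add hβ hx hy
      neg_mem' := fun {x} hx => by
        show Inc QB M β _
        rw [show (-x) • C = -(x • C) from LinearMap.ext fun y => by simp]; exact Inc.neg hβ hx }
  suffices hS' : S = ⊤ by
    have : t ∈ S := by rw [hS']; trivial
    exact this
  refine eq_top_of_sq hS.two S fun x => ?_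
  show Inc QB M β _
  rcases eq_or_ne x 0 with rfl | hx
  · rw [mul_zero, zero_smul]; exact inc_zero
  obtain ⟨k, hk, hkβ⟩ := scale hS.two hS.ndB (by rw [Fintype.card_fin]; exact hb) hβ hβ0 hx
  exact h.conj hM (one_mem _) hk hkβ _ fun y => by simp [LinearMap.smul_apply]

omit [Finite F] hM in
theorem inE_of_inc {e w : Fin a → F} (hwe : polarBilin QA e w = 0) {β : Fin b → F} (hβ : QB β = 0)
    (h : Inc QB M β (wedge QA e w)) : InE Q M (pure e β) (pure w β) := by
  obtain ⟨g, hg, hge⟩ := h
  refine ⟨sing_right hS e hβ, by rw [hS.form, hwe, zero_mul], ?_⟩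
  convert hg using 1
  refine Units.ext (eq_of_pure fun x u => ?_)
  rw [Orth.eichGL_mulVec, hge, hS.form, hS.form, sing_right hS w hβ, wedge_apply, quad_polar_comm QB u β]
  funext q
  simp [Tensor.pure]
  ring

omit [Finite F] hM in
theorem inc_of_inE {e w : Fin a → F} {β : Fin b → F} (hβ : QB β = 0) (h : InE Q M (pure e β) (pure w β)) :
    Inc QB M β (wedge QA e w) := by
  obtain ⟨_, _, hg⟩ := h
  refine ⟨_, hg, fun x u => ?_⟩
  rw [Orth.eichGL_mulVec, hS.form, hS.form, sing_right hS w hβ, wedge_apply, quad_polar_comm QB u β]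
  funext q
  simp [Tensor.pure]
  ring

/-- A non-zero element of the centre gives a full family. -/
theorem exists_full (ha : 3 ≤ a) (hb : 5 ≤ b)
    (hA : a = 4 → ∀ e c : Fin a → F, QA e = 0 → QA c = 0 → polarBilin QA e c = 0 → c ∈ F ∙ e ∨ e = 0)
    {β : Fin b → F} (hβ : QB β = 0) (hβ0 : β ≠ 0) {C : (Fin a → F) →ₗ[F] (Fin a → F)} (h : Inc QB M β C)
    (hC : C ≠ 0) : ∃ e, e ≠ 0 ∧ QA e = 0 ∧ ∀ w, polarBilin QA e w = 0 → Inc QB M β (wedge QA e w) := by
  have hb4 : 4 ≤ b := by omega
  have hac : 3 ≤ Fintype.card (Fin a) := by rw [Fintype.card_fin]; exact ha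
  obtain ⟨β', hβ', hββ'⟩ := exists_partner' hS.ndB hβ hβ0
  -- the basic step
  have step : ∀ {C : (Fin a → F) →ₗ[F] (Fin a → F)}, Inc QB M β C → ∀ e, QA e = 0 → ∀ w,
      polarBilin QA e w = 0 →
      Inc QB M β (wedge QA e (-(2 * QA w) • C e + (2 * polarBilin QA (C e) w) • w)) := by
    intro C h e he w hw
    obtain ⟨G, hG, hGe⟩ := id h
    have hsk := skew_of hS hβ hββ' (hM.pres hG) hGe
    have hw' : polarBilin QA e (-w) = 0 := by rw [map_neg, hw, neg_zero]
    have hmem : ∀ (v : Fin a → F) (hv : polarBilin QA e v = 0), Orth.eichGL QA e v he hv ∈ Cfsg.Geo.omegaGL ⇑QA :=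
      fun v hv => eich_omega hS.two hS.ndA hac he hv
    have hinv : ((Orth.eichGL QA e w he hw)⁻¹ : GL (Fin a) F) = Orth.eichGL QA e (-w) he hw' := by
      rw [Orth.eichGL, Orth.eichGL, ← map_inv, Cfsg.Agent.Lib.Classical.eich_inv]
    have hinv' : ((Orth.eichGL QA e (-w) he hw')⁻¹ : GL (Fin a) F) = Orth.eichGL QA e w he hw := by
      rw [← hinv, inv_inv]
    let conjm : GL (Fin a) F → (Fin a → F) →ₗ[F] (Fin a → F) := fun g =>
      (Matrix.mulVecLin (g : Matrix (Fin a) (Fin a) F)).comp
        (C.comp (Matrix.mulVecLin ((g⁻¹ : GL (Fin a) F) : Matrix (Fin a) (Fin a) F)))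
    have hc : ∀ g, g ∈ Cfsg.Geo.omegaGL ⇑QA → Inc QB M β (conjm g) := fun g hg =>
      h.conj hM hg (one_mem _) (s := 1) (by simp) _ fun x => by simp [conjm]
    have h2 := Inc.add hβ (Inc.add hβ (hc _ (hmem w hw)) (hc _ (hmem (-w) hw')))
      (Inc.neg hβ (Inc.add hβ h h))
    convert h2 using 1
    refine LinearMap.ext fun x => ?_
    have see : polarBilin QA e (C e) = 0 := by
      have := hsk e e
      rw [quad_polar_comm QA (C e) e, ← two_mul] at this
      exact (mul_eq_zero.mp this).resolve_left hS.two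
    have sww : polarBilin QA w (C w) = 0 := by
      have := hsk w w
      rw [quad_polar_comm QA (C w) w, ← two_mul] at this
      exact (mul_eq_zero.mp this).resolve_left hS.two
    have sew : polarBilin QA e (C w) = -polarBilin QA (C e) w := by linear_combination hsk e w
    have sCe : ∀ y, polarBilin QA (C y) e = -polarBilin QA (C e) y := fun y => by
      rw [quad_polar_comm QA (C e) y]; linear_combination hsk y e
    have sCw : ∀ y, polarBilin QA (C y) w = -polarBilin QA (C w) y := fun y => by
      rw [quad_polar_comm QA (C w) y]; linear_combination hsk y w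
    have c1 := sCe x
    have c2 := sCw x
    have c3 : polarBilin QA (C w) e = -polarBilin QA (C e) w := sCe w
    have c4 : polarBilin QA (C e) e = 0 := by rw [quad_polar_comm]; exact see
    have c5 : polarBilin QA (C w) w = 0 := by rw [quad_polar_comm]; exact sww
    simp only [conjm, LinearMap.add_apply, LinearMap.neg_apply, LinearMap.comp_apply, Matrix.mulVecLin_apply, hinv,
      hinv', wedge_apply, Orth.eichGL_mulVec, map_add, map_sub, map_neg, map_smul, QuadraticMap.map_neg,
      LinearMap.sub_apply, LinearMap.smul_apply, smul_eq_mul, quad_polar_comm QA x (C e), c1, c2, c3, c4, c5, sew,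
      quad_polar_comm QA w e, hw, Orth.polar_self_of_sing QA he, see, sww, quad_polar_comm QA w (C e)]
    match_scalars <;> ring
  -- a vector not fixed up to scalars
  obtain ⟨G, hG, hGe⟩ := id h
  have hsk := skew_of hS hβ hββ' (hM.pres hG) hGe
  obtain ⟨e, he, he0, hCe⟩ : ∃ e, QA e = 0 ∧ e ≠ 0 ∧ C e ∉ F ∙ e := by
    by_contra hcon
    push Not at hcon
    refine hC (LinearMap.ext fun x => ?_)
    have hx := span_sing hS.ndA hac x
    induction hx using Submodule.span_induction with
    | mem e he =>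
      rcases eq_or_ne e 0 with rfl | he0
      · simp
      obtain ⟨e', he', hee'⟩ := exists_partner' hS.ndA he he0
      obtain ⟨z, hez, he'z, hQz⟩ := exists_aniso_pair hS.ndA hac he he' hee'
      set e'' := e + z - QA z • e' with he''
      have hq : QA e'' = 0 := by
        rw [he'', quad_sub, quad_add, quad_smul, he, he', map_smul, map_add, LinearMap.add_apply, hee', hez,
          quad_polar_comm QA z e', he'z, smul_eq_mul]
        ring
      have h2 : polarBilin QA e e'' = -QA z := by
        rw [he'', map_sub, map_add, map_smul, Orth.polar_self_of_sing QA he, hez, hee', smul_eq_mul]; ring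
      have h3 : polarBilin QA e' e'' = 1 := by
        rw [he'', map_sub, map_add, map_smul, Orth.polar_self_of_sing QA he', he'z, quad_polar_comm QA e' e, hee',
          smul_zero]
        ring
      have he'0 : e' ≠ 0 := fun e0 => by rw [e0, map_zero] at hee'; exact zero_ne_one hee'
      have he''0 : e'' ≠ 0 := fun e0 => by rw [e0, map_zero] at h3; exact zero_ne_one h3
      obtain ⟨l, hl⟩ := Submodule.mem_span_singleton.mp (hcon e he he0)
      obtain ⟨l', hl'⟩ := Submodule.mem_span_singleton.mp (hcon e' he' he'0)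
      obtain ⟨l'', hl''⟩ := Submodule.mem_span_singleton.mp (hcon e'' hq he''0)
      have r1 := hsk e e'
      have r2 := hsk e e''
      have r3 := hsk e' e''
      rw [← hl, ← hl', map_smul, map_smul, LinearMap.smul_apply, hee', smul_eq_mul, smul_eq_mul] at r1
      rw [← hl, ← hl'', map_smul, map_smul, LinearMap.smul_apply, h2, smul_eq_mul, smul_eq_mul] at r2
      rw [← hl', ← hl'', map_smul, map_smul, LinearMap.smul_apply, h3, smul_eq_mul, smul_eq_mul] at r3
      have hl0 : l = 0 := by
        refine mul_left_cancel₀ hS.two (mul_left_cancel₀ hQz ?_)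
        linear_combination QA z * r1 - QA z * r3 - r2
      rw [← hl, hl0, zero_smul, LinearMap.zero_apply]
    | zero => simp
    | add p q _ _ hp hq => simp [map_add, hp, hq]
    | smul c p _ hp => simp [map_smul, hp]
  have hec : polarBilin QA e (C e) = 0 := by
    have := hsk e e
    rw [quad_polar_comm QA (C e) e, ← two_mul] at this
    exact (mul_eq_zero.mp this).resolve_left hS.two
  set c := C e with hc
  let W : (Fin a → F) → Prop := fun v => Inc QB M β (wedge QA e v)
  have Wadd : ∀ v v', W v → W v' → W (v + v') := fun v v' hv hv' => by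
    show Inc QB M β _; rw [wedge_add]; exact Inc.add hβ hv hv'
  have Wsmul : ∀ (t : F) v, W v → W (t • v) := fun t v hv => by
    show Inc QB M β _; rw [wedge_smul]; exact hv.smul hS hM hb4 hβ hβ0 t
  have Wq : ∀ w, polarBilin QA e w = 0 → W (-(2 * QA w) • c + (2 * polarBilin QA c w) • w) := fun w hw =>
    step h e he w hw
  have Wpol : ∀ w y, polarBilin QA e w = 0 → polarBilin QA e y = 0 →
      W (-polarBilin QA w y • c + polarBilin QA c w • y + polarBilin QA c y • w) := by
    intro w y hw hy
    have h1 := Wadd _ _ (Wadd _ _ (Wq (w + y) (by rw [map_add, hw, hy, add_zero])) (Wsmul (-1) _ (Wq w hw)))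
      (Wsmul (-1) _ (Wq y hy))
    have h2 := Wsmul (2 : F)⁻¹ _ h1
    convert h2 using 1
    rw [quad_add, map_add]
    have := hS.two
    match_scalars <;> field_simp <;> ring
  by_cases hQc : QA c = 0
  · obtain ⟨z, hze, hzc⟩ := Orth.exists_dual hS.ndA (F ∙ e) hCe
    have hez : polarBilin QA e z = 0 := by
      rw [quad_polar_comm]; exact hze e (Submodule.mem_span_singleton_self e)
    set w := z - QA z • c with hw
    have hcz : polarBilin QA c z = 1 := by rw [quad_polar_comm]; exact hzc
    have hew : polarBilin QA e w = 0 := by rw [hw, map_sub, map_smul, hez, hec, smul_zero, sub_zero]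
    have hcw : polarBilin QA c w = 1 := by
      rw [hw, map_sub, map_smul, hcz, Orth.polar_self_of_sing QA hQc, smul_zero, sub_zero]
    have hQw : QA w = 0 := by
      rw [hw, quad_sub, quad_smul, hQc, map_smul, hzc, smul_eq_mul]; ring
    have hc0 : c ≠ 0 := fun e0 => hCe (by rw [e0]; exact Submodule.zero_mem _)
    have ha5 : 5 ≤ a := by
      by_contra hlt
      have h4 : 4 ≤ a := by
        have hU : ∀ u ∈ Submodule.span F {e, c}, QA u = 0 := fun u hu => by
          obtain ⟨p, q, rfl⟩ := Submodule.mem_span_pair.mp hu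
          rw [quad_add, quad_smul, quad_smul, he, hQc, map_smul, map_smul, LinearMap.smul_apply, hec]
          simp
        have h5 := Orth.finrank_sing_le hS.ndA hU
        have hli : LinearIndependent F ![e, c] := (LinearIndependent.pair_iff' he0).mpr fun t ht =>
          hCe (Submodule.mem_span_singleton.mpr ⟨t, ht⟩)
        have h6 := finrank_span_eq_card hli
        rw [Matrix.range_cons_cons_empty, Fintype.card_fin] at h6
        rw [Fintype.card_fin] at h5
        omega
      exact (hA (by omega) e c he hQc hec).elim hCe he0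
    -- the complement of the pair `c`, `w`
    have hnd := (nd_top hS.ndA).perp_pair (e := c) (f := w) trivial trivial hQc hQw hcw
    have hece : e ∈ perp QA (perp QA ⊤ c) w :=
      ⟨⟨trivial, show polarBilin QA c e = 0 by rw [quad_polar_comm]; exact hec⟩,
        show polarBilin QA w e = 0 by rw [quad_polar_comm]; exact hew⟩
    obtain ⟨z', hz', hez'⟩ := hnd e hece he0
    obtain ⟨e', he'm, hQe', hee'⟩ := Orth.exists_partner hS.ndA he hece hz' hez'
    obtain ⟨y, hy, hQy⟩ := (hnd.perp_pair hece he'm he hQe' hee').exists_aniso fun hbot => by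
      have h1 := finrank_perp_two (Q := QA) c w
      have h2 := OrthSplit.finrank_inf_ker (perp QA (perp QA ⊤ c) w) (polarBilin QA e)
      have h3 := OrthSplit.finrank_inf_ker (perp QA (perp QA (perp QA ⊤ c) w) e) (polarBilin QA e')
      unfold perp at hbot h3 h2 h1
      rw [hbot, finrank_bot] at h3
      rw [Fintype.card_fin] at h1
      omega
    have hey : polarBilin QA e y = 0 := hy.1.2
    have he'y : polarBilin QA e' y = 0 := hy.2
    have hcy : polarBilin QA c y = 0 := hy.1.1.1.2
    have hwy : polarBilin QA w y = 0 := hy.1.1.2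
    have hWy : W y := by
      have := Wpol w y hew hey
      rwa [hcw, hcy, hwy, neg_zero, zero_smul, zero_smul, zero_add, one_smul, add_zero] at this
    -- now at the partner
    have hy1 : wedge QA e y e' = y := by
      rw [wedge_apply, quad_polar_comm QA e' e, hee', he'y, one_smul, zero_smul, sub_zero]
    have he'0 : e' ≠ 0 := fun e0 => by rw [e0, map_zero] at hee'; exact zero_ne_one hee'
    refine ⟨e', he'0, hQe', fun w' hw' => ?_⟩
    let W2 : (Fin a → F) → Prop := fun v => Inc QB M β (wedge QA e' v)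
    have q2 : ∀ u, polarBilin QA e' u = 0 →
        W2 (-(2 * QA u) • y + (2 * polarBilin QA y u) • u) := fun u hu => by
      have := step hWy e' hQe' u hu
      rwa [hy1] at this
    have h1 := q2 (y + w') (by rw [map_add, he'y, hw', add_zero])
    have h2 := q2 w' hw'
    have h3 := q2 y he'y
    have h4 : W2 ((-(2 * QA (y + w')) • y + (2 * polarBilin QA y (y + w')) • (y + w')) +
        ((-1 : F) • (-(2 * QA w') • y + (2 * polarBilin QA y w') • w')) +
        ((-1 : F) • (-(2 * QA y) • y + (2 * polarBilin QA y y) • y))) := by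
      show Inc QB M β _
      rw [wedge_add, wedge_add, wedge_smul QA e' (-1), wedge_smul QA e' (-1)]
      exact Inc.add hβ (Inc.add hβ h1 (h2.smul hS hM hb4 hβ hβ0 _)) (h3.smul hS hM hb4 hβ hβ0 _)
    have h5 : Inc QB M β (wedge QA e' ((4 * QA y) • w')) := by
      convert h4 using 2
      rw [quad_add, map_add, quad_polar_self]
      match_scalars <;> ring
    rw [wedge_smul] at h5
    have h6 := h5.smul hS hM hb4 hβ hβ0 (4 * QA y)⁻¹
    have h40 : (4 * QA y : F) ≠ 0 := mul_ne_zero (by
      rw [show (4 : F) = 2 * 2 by norm_num]; exact mul_ne_zero hS.two hS.two) hQy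
    rwa [smul_smul, inv_mul_cancel₀ h40, one_smul] at h6
  · refine ⟨e, he0, he, fun y hy => ?_⟩
    have hWc : W c := by
      have h1 := Wq c hec
      rw [quad_polar_self, ← add_smul] at h1
      have h2 := Wsmul (2 * QA c)⁻¹ _ h1
      rwa [smul_smul, show (2 * QA c)⁻¹ * (-(2 * QA c) + 2 * (2 * QA c)) = 1 by
        have := hS.two; field_simp; ring, one_smul] at h2
    have h1 := Wadd _ _ (Wpol c y hec hy) (Wsmul (polarBilin QA c y - polarBilin QA c y) _ hWc)
    have h2 := Wsmul (2 * QA c)⁻¹ _ h1
    convert h2 using 1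
    show wedge QA e y = wedge QA e _
    congr 1
    rw [quad_polar_self]
    have := hS.two
    match_scalars <;> field_simp <;> ring

end Cfsg.Agent.Lib.ThreeTransp.TensorOrth
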