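import Cfsg.Agent.Lib.ThreeTransp.TensorOrthStab

/-!
Conjugates of Eichler elements of the second factor inside the Kronecker group, and transfer.
-/

set_option autoImplicit false
set_option linter.unusedSectionVars false
set_option linter.unusedSimpArgs false

namespace Cfsg.Agent.Lib.ThreeTransp.TensorOrth

open Matrix Module QuadraticMap
open Cfsg.Agent.Lib.MaxSub
open Cfsg.Agent.Lib.MaxSub.OrthSplit (finrank_inf_ker)
open Cfsg.Agent.Lib.Geometry (quad_add quad_sub quad_smul quad_polar_self quad_polar_comm)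
open Cfsg.Agent.Lib.ThreeTransp.Tensor
open scoped MatrixGroups Matrix Kronecker

attribute [-simp] QuadraticMap.polarBilin_apply_apply

local notation:74 g:74 " ▷ " p:73 => Matrix.mulVec (Units.val g) p

variable {a b : ℕ} {F : Type*} [Field F]
variable {QA : QuadraticForm F (Fin a → F)} {QB : QuadraticForm F (Fin b → F)}
  {Q : QuadraticForm F (Fin a × Fin b → F)} {M : Subgroup (GL (Fin a × Fin b) F)}

variable [Finite F]

/-- The linear part of the element at `β`, `w`. -/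
noncomputable def dd (QB : QuadraticForm F (Fin b → F)) (β w : Fin b → F) :
    (Fin a × Fin b → F) →ₗ[F] (Fin a × Fin b → F) :=
  (left w).comp (cB QB β) - (left β).comp (cB QB w)

theorem dd_apply (β w : Fin b → F) (p : Fin a × Fin b → F) :
    dd QB β w p = pure (cB QB β p) w - pure (cB QB w p) β := rfl

/-- The element `1 ⊗` Eichler. -/
noncomputable abbrev tT (QB : QuadraticForm F (Fin b → F)) (β w : Fin b → F) (hβ : QB β = 0)
    (hw : polarBilin QB β w = 0) : GL (Fin a × Fin b) F :=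
  kr ((1 : GL (Fin a) F), Orth.eichGL QB β w hβ hw)

theorem tT_apply {β w : Fin b → F} (hβ : QB β = 0) (hw : polarBilin QB β w = 0) (p : Fin a × Fin b → F) :
    tT (a := a) QB β w hβ hw ▷ p = p + dd QB β w p - QB w • pure (cB QB β p) β := by
  rw [kr_eich_mulVec, dd_apply, pure_add_left, pure_smul_left]
  abel

theorem tT_fix {β w : Fin b → F} (hβ : QB β = 0) (hw : polarBilin QB β w = 0) {p : Fin a × Fin b → F}
    (h1 : cB QB β p = 0) (h2 : cB QB w p = 0) : tT (a := a) QB β w hβ hw ▷ p = p := by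
  rw [tT_apply, dd_apply, h1, h2, pure_zero_left, pure_zero_left, smul_zero, sub_zero, sub_zero, add_zero]

theorem tT_pure_fix {β w : Fin b → F} (hβ : QB β = 0) (hw : polarBilin QB β w = 0) (x : Fin a → F)
    {u : Fin b → F} (h1 : polarBilin QB β u = 0) (h2 : polarBilin QB w u = 0) :
    tT (a := a) QB β w hβ hw ▷ pure x u = pure x u :=
  tT_fix hβ hw (by rw [cB_pure, h1, zero_smul]) (by rw [cB_pure, h2, zero_smul])

theorem cB_dd {β w : Fin b → F} (hβ : QB β = 0) (hw : polarBilin QB β w = 0) (p : Fin a × Fin b → F) :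
    cB QB β (dd QB β w p) = 0 ∧ cB QB w (dd QB β w p) = (2 * QB w) • cB QB β p := by
  rw [dd_apply, map_sub, map_sub, cB_pure, cB_pure, cB_pure, cB_pure, hw, Orth.polar_self_of_sing QB hβ,
    quad_polar_comm QB w β, hw, quad_polar_self]
  simp

theorem dd_dd {β w : Fin b → F} (hβ : QB β = 0) (hw : polarBilin QB β w = 0) (p : Fin a × Fin b → F) :
    dd QB β w (dd QB β w p) = -((2 * QB w) • pure (cB QB β p) β) := by
  rw [dd_apply β w (dd QB β w p), (cB_dd hβ hw p).1, (cB_dd hβ hw p).2, pure_zero_left, zero_sub, pure_smul_left]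

theorem tT_pow {β w : Fin b → F} (hβ : QB β = 0) (hw : polarBilin QB β w = 0) (m : ℕ) (p : Fin a × Fin b → F) :
    (tT (a := a) QB β w hβ hw ^ m) ▷ p =
      p + (m : F) • dd QB β w p - ((m : F) * m * QB w) • pure (cB QB β p) β := by
  induction m generalizing p with
  | zero => simp
  | succ m ih =>
    have h0 : cB QB β (pure (cB QB β p) β) = 0 := by
      rw [cB_pure, Orth.polar_self_of_sing QB hβ, zero_smul]
    have h1 : dd QB β w (pure (cB QB β p) β) = 0 := by
      rw [dd_apply, h0, cB_pure, quad_polar_comm QB w β, hw, zero_smul, pure_zero_left, pure_zero_left, sub_zero]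
    rw [pow_succ', mulVec_mul, ih, tT_apply, map_sub, map_add, map_smul, map_smul, map_sub, map_add, map_smul,
      map_smul, dd_dd hβ hw, h0, h1, (cB_dd hβ hw p).1]
    simp only [smul_zero, add_zero, sub_zero, Nat.cast_succ]
    module

theorem tT_pow_char {p : ℕ} [CharP F p] {β w : Fin b → F} (hβ : QB β = 0) (hw : polarBilin QB β w = 0) :
    tT (a := a) QB β w hβ hw ^ p = 1 :=
  Units.ext (Tensor.eq_of_pure fun x u => by
    rw [tT_pow, CharP.cast_eq_zero, zero_smul, zero_mul, zero_mul, zero_smul, add_zero, sub_zero, Units.val_one,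
      Matrix.one_mulVec])

theorem dd_skew (hS : Setting QA QB Q) (β w : Fin b → F) (p p' : Fin a × Fin b → F) :
    polarBilin Q (dd QB β w p) p' = -polarBilin Q p (dd QB β w p') := by
  rw [quad_polar_comm Q p (dd QB β w p'), dd_apply, dd_apply, map_sub, map_sub, LinearMap.sub_apply,
    LinearMap.sub_apply, B_left hS, B_left hS, B_left hS, B_left hS, quad_polar_comm QA (cB QB β p') (cB QB w p),
    quad_polar_comm QA (cB QB w p') (cB QB β p)]
  ring

theorem eq_zero_of_cA (hS : Setting QA QB Q) {p : Fin a × Fin b → F} (h : ∀ x, cA QA x p = 0) : p = 0 :=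
  hS.nd.2 p fun q => by
    refine lext (g := (polarBilin Q).flip p) (g' := 0) (fun x u => ?_) q
    rw [LinearMap.flip_apply, LinearMap.zero_apply, B_right hS, h, map_zero]

theorem sc_mulVec {m : ℕ} (μ : Fˣ) (x : Fin m → F) :
    (Matrix.GeneralLinearGroup.scalar (Fin m) μ : GL (Fin m) F) ▷ x = (μ : F) • x := by
  funext i
  simp [Matrix.GeneralLinearGroup.scalar, Matrix.scalar_apply, Matrix.mulVec_diagonal]

section unipotent

variable {p : ℕ} [CharP F p] [hp : Fact p.Prime]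

theorem eq_one_of_pow (c : F) (h : c ^ p = 1) : c = 1 :=
  frobenius_inj F p (show c ^ p = (1 : F) ^ p by rw [h, one_pow])

theorem pow_mulVec_eigen {m : ℕ} {g : GL (Fin m) F} {v : Fin m → F} {c : F} (h : g ▷ v = c • v) (k : ℕ) :
    (g ^ k) ▷ v = c ^ k • v := by
  induction k with
  | zero => simp
  | succ k ih => rw [pow_succ, mulVec_mul, h, Matrix.mulVec_smul, ih, smul_smul, pow_succ']

theorem eigen_one {m : ℕ} {g : GL (Fin m) F} (hg : g ^ p = 1) {v : Fin m → F} (hv : v ≠ 0) {c : F}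
    (h : g ▷ v = c • v) : c = 1 := by
  have h1 := pow_mulVec_eigen h p
  rw [hg, Units.val_one, Matrix.one_mulVec] at h1
  refine eq_one_of_pow (p := p) c ?_
  have h2 : (c ^ p - 1) • v = 0 := by rw [sub_smul, one_smul, ← h1, sub_self]
  exact sub_eq_zero.mp ((smul_eq_zero.mp h2).resolve_right hv)

theorem sub_one_nil {m : ℕ} {g : GL (Fin m) F} (hg : g ^ p = 1) :
    ((g : Matrix (Fin m) (Fin m) F) - 1) ^ p = 0 := by
  rcases Nat.eq_zero_or_pos m with rfl | hm
  · exact Subsingleton.elim _ _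
  haveI : Nonempty (Fin m) := ⟨⟨0, hm⟩⟩
  rw [sub_pow_char_of_commute p (Commute.one_right _), one_pow, ← Units.val_pow_eq_pow_val, hg, Units.val_one,
    sub_self]

/-- A non-trivial unipotent isometry moves at least two dimensions. -/
theorem ker_le (h2 : (2 : F) ≠ 0) (hN : (polarBilin QA).Nondegenerate) {g : GL (Fin a) F}
    (hgp : g ∈ Cfsg.isometryGroup F ⇑QA) (hg : g ^ p = 1) (h1 : g ≠ 1) :
    finrank F (LinearMap.ker (Matrix.mulVecLin (g : Matrix (Fin a) (Fin a) F) - LinearMap.id)) + 2 ≤ a := by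
  set N := Matrix.mulVecLin (g : Matrix (Fin a) (Fin a) F) - LinearMap.id with hN'
  have hNx : ∀ x, N x = g ▷ x - x := fun x => rfl
  have hr := N.finrank_range_add_finrank_ker
  rw [Module.finrank_fin_fun] at hr
  by_contra hc
  obtain ⟨v, hv⟩ : ∃ v, v ∈ LinearMap.range N ∧ v ≠ 0 := by
    refine (Submodule.ne_bot_iff _).mp fun e => h1 (Units.ext (Matrix.ext_of_mulVec_single fun j => ?_))
    have h : N (Pi.single j 1) ∈ LinearMap.range N := ⟨_, rfl⟩
    rw [e, Submodule.mem_bot, hNx, sub_eq_zero] at h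
    rw [h, Units.val_one, Matrix.one_mulVec]
  obtain ⟨hvr, hv0⟩ := hv
  have hline : LinearMap.range N = F ∙ v :=
    (Submodule.eq_of_le_of_finrank_le ((Submodule.span_singleton_le_iff_mem _ _).mpr hvr)
      (by rw [finrank_span_singleton hv0]; omega)).symm
  obtain ⟨z, -, hz⟩ := Orth.exists_dual hN ⊥ (x := v) (by simpa using hv0)
  set φ := (polarBilin QA z).comp N with hφ
  have hφN : ∀ x, N x = φ x • v := fun x => by
    obtain ⟨c, hc⟩ := Submodule.mem_span_singleton.mp (hline.le (⟨x, rfl⟩ : N x ∈ LinearMap.range N))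
    rw [hφ, LinearMap.comp_apply, ← hc, map_smul, hz, smul_eq_mul, mul_one]
  have hgx : ∀ x, g ▷ x = x + φ x • v := fun x => by rw [← hφN, hNx]; abel
  have hφv : φ v = 0 := by
    have h := eigen_one (p := p) hg hv0 (c := 1 + φ v) (by rw [hgx, add_smul, one_smul])
    linear_combination h
  set ψ := (2 : F) • polarBilin QA v + polarBilin QA v v • φ with hψ
  have hψ1 : ∀ x, φ x * ψ x = 0 := fun x => by
    have h := Orth.iso_polar hgp x x
    rw [hgx] at h
    simp only [map_add, map_smul, LinearMap.add_apply, LinearMap.smul_apply, smul_eq_mul,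
      quad_polar_comm QA x v] at h
    simp only [hψ, LinearMap.add_apply, LinearMap.smul_apply, smul_eq_mul]
    linear_combination h
  obtain ⟨x1, hx1⟩ : ∃ x1, φ x1 ≠ 0 := by
    obtain ⟨x1, rfl⟩ := hvr
    exact ⟨x1, fun e => hv0 (by rw [hφN, e, zero_smul])⟩
  have hψ0 : ∀ x, ψ x = 0 := fun x => by
    have e1 := (mul_eq_zero.mp (hψ1 x1)).resolve_left hx1
    by_cases hx : φ x = 0
    · have h := hψ1 (x + x1)
      rw [map_add, hx, zero_add, mul_eq_zero, or_iff_right hx1, map_add, e1, add_zero] at h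
      exact h
    · exact (mul_eq_zero.mp (hψ1 x)).resolve_left hx
  have hvv : polarBilin QA v v = 0 := by
    have h := hψ0 v
    simp only [hψ, LinearMap.add_apply, LinearMap.smul_apply, smul_eq_mul, hφv, mul_zero, add_zero] at h
    exact (mul_eq_zero.mp h).resolve_left h2
  refine hv0 (hN.1 v fun x => ?_)
  have h := hψ0 x
  simp only [hψ, LinearMap.add_apply, LinearMap.smul_apply, smul_eq_mul, hvv, zero_mul, add_zero] at h
  exact (mul_eq_zero.mp h).resolve_left h2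

/-- The two factors of an isometry of order `p`. -/
theorem iso_of_kr (hS : Setting QA QB Q) (ha : 3 ≤ a) (hb : 3 ≤ b) {g : GL (Fin a) F}
    {h : GL (Fin b) F} (hg : g ^ p = 1) (hh : h ^ p = 1) (hE : kr (g, h) ∈ Cfsg.isometryGroup F ⇑Q) :
    g ∈ Cfsg.isometryGroup F ⇑QA ∧ h ∈ Cfsg.isometryGroup F ⇑QB := by
  obtain ⟨x0, y0, -, -, hxy⟩ := exists_hyp hS.ndA (by rw [Fintype.card_fin]; exact ha)
  obtain ⟨u0, w0, -, -, huw⟩ := exists_hyp hS.ndB (by rw [Fintype.card_fin]; exact hb)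
  have hp' : ∀ x u y w, polarBilin QA (g ▷ x) (g ▷ y) * polarBilin QB (h ▷ u) (h ▷ w) =
      polarBilin QA x y * polarBilin QB u w := fun x u y w => by
    rw [← hS.form, ← hS.form, ← kr_pure (g, h), ← kr_pure (g, h), Orth.iso_polar hE]
  set r := polarBilin QA (g ▷ x0) (g ▷ y0) with hr
  have hit : ∀ k : ℕ, ∀ u w, r ^ k * polarBilin QB ((h ^ k) ▷ u) ((h ^ k) ▷ w) = polarBilin QB u w := by
    intro k
    induction k with
    | zero => simp
    | succ k ih =>
      intro u w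
      rw [pow_succ h, mulVec_mul, mulVec_mul, pow_succ' r, mul_assoc, ih]
      have := hp' x0 u y0 w
      rwa [hxy, one_mul] at this
  have hr1 : r = 1 := by
    have h1 := hit p u0 w0
    rw [hh, Units.val_one, Matrix.one_mulVec, Matrix.one_mulVec, huw, mul_one] at h1
    exact eq_one_of_pow (p := p) r h1
  have hhiso : ∀ u w, polarBilin QB (h ▷ u) (h ▷ w) = polarBilin QB u w := fun u w => by
    have := hp' x0 u y0 w
    rwa [← hr, hr1, one_mul, hxy, one_mul] at this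
  have hgiso : ∀ x y, polarBilin QA (g ▷ x) (g ▷ y) = polarBilin QA x y := fun x y => by
    have := hp' x u0 y w0
    rwa [hhiso, huw, mul_one, mul_one] at this
  constructor <;> intro x y <;> refine mul_left_cancel₀ hS.two ?_
  · show 2 * QA (g ▷ x) = 2 * QA x
    rw [← quad_polar_self, ← quad_polar_self, hgiso]
  · show 2 * QB (h ▷ x) = 2 * QB x
    rw [← quad_polar_self, ← quad_polar_self, hhiso]

theorem cA_kr {g : GL (Fin a) F} (hg : g ∈ Cfsg.isometryGroup F ⇑QA) (h : GL (Fin b) F) (x : Fin a → F)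
    (q : Fin a × Fin b → F) : cA QA x (kr (g, h) ▷ q) = h ▷ cA QA (g⁻¹ ▷ x) q := by
  refine lext (g := (cA QA x).comp (Matrix.mulVecLin (kr (g, h) : Matrix (Fin a × Fin b) (Fin a × Fin b) F)))
    (g' := (Matrix.mulVecLin (h : Matrix (Fin b) (Fin b) F)).comp (cA QA (g⁻¹ ▷ x))) (fun y u => ?_) q
  simp only [LinearMap.comp_apply, Matrix.mulVecLin_apply, kr_pure, cA_pure, Matrix.mulVec_smul]
  conv_lhs => rw [← mulVec_mulVec_inv g x, Orth.iso_polar hg]

/-- The vectors fixed by a product of unipotent isometries. -/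
theorem fix_bound (hS : Setting QA QB Q) {g : GL (Fin a) F} (hg : g ∈ Cfsg.isometryGroup F ⇑QA)
    {h : GL (Fin b) F} (hh : h ^ p = 1) (n : ℕ) (F₀ : Submodule F (Fin b → F)) (hn : finrank F F₀ = n)
    (hst : ∀ u ∈ F₀, h ▷ u - u ∈ F₀) :
    finrank F ↥(LinearMap.ker (Matrix.mulVecLin (kr (g, h) : Matrix (Fin a × Fin b) (Fin a × Fin b) F) -
        LinearMap.id) ⊓ ⨅ x : Fin a → F, F₀.comap (cA QA x)) ≤
      n * finrank F (LinearMap.ker (Matrix.mulVecLin (g : Matrix (Fin a) (Fin a) F) - LinearMap.id)) := by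
  induction n using Nat.strong_induction_on generalizing F₀ with
  | _ n ih =>
  set K := LinearMap.ker (Matrix.mulVecLin (kr (g, h) : Matrix (Fin a × Fin b) (Fin a × Fin b) F) -
    LinearMap.id) with hK
  set d := finrank F (LinearMap.ker (Matrix.mulVecLin (g : Matrix (Fin a) (Fin a) F) - LinearMap.id)) with hd
  rcases Nat.eq_zero_or_pos n with rfl | hn0
  · rw [zero_mul, Nat.le_zero, Submodule.finrank_eq_zero, eq_bot_iff]
    rintro q ⟨-, hq⟩
    rw [Submodule.mem_bot]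
    refine eq_zero_of_cA hS fun x => ?_
    have h1 := (Submodule.mem_iInf _).mp hq x
    rwa [Submodule.mem_comap, Submodule.finrank_eq_zero.mp hn, Submodule.mem_bot] at h1
  let R := F₀.map (Matrix.mulVecLin (h : Matrix (Fin b) (Fin b) F) - LinearMap.id)
  have hRle : R ≤ F₀ := by
    rintro _ ⟨u, hu, rfl⟩
    exact hst u hu
  obtain ⟨u₀, hu₀, hu₀R⟩ : ∃ u ∈ F₀, u ∉ R := by
    by_contra hc
    push Not at hc
    have hpre : ∀ m : ℕ, ∀ u ∈ F₀, ∃ v ∈ F₀, ((h : Matrix (Fin b) (Fin b) F) - 1) ^ m *ᵥ v = u := by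
      intro m
      induction m with
      | zero => exact fun u hu => ⟨u, hu, by rw [pow_zero, Matrix.one_mulVec]⟩
      | succ m ihm =>
        intro u hu
        obtain ⟨v, hv, rfl⟩ := ihm u hu
        obtain ⟨w, hw, rfl⟩ := hc v hv
        exact ⟨w, hw, by
          rw [pow_succ, ← Matrix.mulVec_mulVec, Matrix.sub_mulVec, Matrix.one_mulVec]; rfl⟩
    have hbot : F₀ = ⊥ := eq_bot_iff.mpr fun u hu => by
      obtain ⟨v, -, rfl⟩ := hpre p u hu
      rw [sub_one_nil hh, Matrix.zero_mulVec]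
      exact Submodule.zero_mem _
    rw [hbot, finrank_bot] at hn
    omega
  obtain ⟨z, hzR, hz1⟩ := Orth.exists_dual hS.ndB R hu₀R
  let F₁ : Submodule F (Fin b → F) := F₀ ⊓ LinearMap.ker (polarBilin QB z)
  have hlt : finrank F F₁ < n := hn ▸ Submodule.finrank_lt_finrank_of_lt
    (lt_of_le_of_ne inf_le_left fun e => by
      have hm : u₀ ∈ F₁ := by rw [show F₁ = F₀ from e]; exact hu₀
      have h0 : polarBilin QB z u₀ = 0 := hm.2
      rw [hz1] at h0
      exact one_ne_zero h0)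
  have hst1 : ∀ u ∈ F₁, h ▷ u - u ∈ F₁ := fun u hu =>
    ⟨hst u hu.1, hzR _ ⟨u, hu.1, rfl⟩⟩
  set V := K ⊓ ⨅ x : Fin a → F, F₀.comap (cA QA x) with hV
  have h1 := ((cB QB z).domRestrict V).finrank_range_add_finrank_ker
  have h2 : finrank F (LinearMap.range ((cB QB z).domRestrict V)) ≤ d := Submodule.finrank_mono (by
    rintro _ ⟨⟨q, hqK, hq⟩, rfl⟩
    show g ▷ cB QB z q - cB QB z q = 0
    have hqE : kr (g, h) ▷ q = q := sub_eq_zero.mp hqK
    rw [sub_eq_zero]
    refine sub_eq_zero.mp (hS.ndA.2 _ fun x => ?_)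
    have hR : polarBilin QB z (h ▷ cA QA (g⁻¹ ▷ x) q) = polarBilin QB z (cA QA (g⁻¹ ▷ x) q) := by
      rw [← sub_eq_zero, ← map_sub]
      exact hzR _ ⟨_, (Submodule.mem_iInf _).mp hq _, rfl⟩
    rw [← cA_kr hg, hqE, cA_comm hS, cA_comm hS, ← Orth.iso_polar hg (g⁻¹ ▷ x), mulVec_mulVec_inv] at hR
    rw [map_sub, ← hR, sub_self])
  have h3 : finrank F (LinearMap.ker ((cB QB z).domRestrict V)) ≤ finrank F F₁ * d := by
    rw [← Submodule.finrank_map_subtype_eq]
    refine (Submodule.finrank_mono ?_).trans (ih _ hlt F₁ rfl hst1)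
    rintro _ ⟨⟨q, hqK, hq⟩, hq0, rfl⟩
    refine ⟨hqK, (Submodule.mem_iInf _).mpr fun x => ⟨(Submodule.mem_iInf _).mp hq x, ?_⟩⟩
    show polarBilin QB z (cA QA x q) = 0
    have hq0' : cB QB z q = 0 := hq0
    rw [cA_comm hS, hq0', map_zero]
  have h4 : (finrank F F₁ + 1) * d ≤ n * d := Nat.mul_le_mul_right d hlt
  rw [add_mul, one_mul] at h4
  omega

/-- An isometry of order `p` of small rank in the Kronecker group lives on the second factor. -/
theorem kr_of_small (hS : Setting QA QB Q) (ha : 3 ≤ a) (hab : a < b) {E : GL (Fin a × Fin b) F}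
    (hEN : E ∈ Cfsg.Geo.kroneckerSubgroup a b F) (hEp : E ∈ Cfsg.isometryGroup F ⇑Q) (hE : E ^ p = 1)
    (hrk : finrank F (LinearMap.range (Matrix.mulVecLin (E : Matrix (Fin a × Fin b) (Fin a × Fin b) F) -
      LinearMap.id)) ≤ 2 * a) : ∃ h : GL (Fin b) F, E = kr ((1 : GL (Fin a) F), h) := by
  haveI := Fintype.ofFinite F
  obtain ⟨⟨g, h⟩, hgh⟩ := mem_kronecker.mp hEN
  subst hgh
  obtain ⟨x0, y0, -, -, hxy⟩ := exists_hyp hS.ndA (by rw [Fintype.card_fin]; exact ha)
  obtain ⟨u0, w0, -, -, huw⟩ := exists_hyp hS.ndB (by rw [Fintype.card_fin]; omega)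
  have hpp : ∀ x u, pure ((g ^ p) ▷ x) ((h ^ p) ▷ u) = pure x u := fun x u => by
    have e := congrArg (fun G : GL (Fin a × Fin b) F => G ▷ pure x u) hE
    rw [← map_pow, Prod.pow_mk] at e
    simpa only [kr_pure, Units.val_one, Matrix.one_mulVec] using e
  set r := polarBilin QA y0 ((g ^ p) ▷ x0) with hr
  have hB : ∀ u, r • ((h ^ p) ▷ u) = u := fun u => by
    have e := congrArg (cA QA y0) (hpp x0 u)
    rwa [cA_pure, cA_pure, ← hr, quad_polar_comm QA y0 x0, hxy, one_smul] at e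
  have hr0 : r ≠ 0 := fun e => by
    have h0 := hB u0
    rw [e, zero_smul] at h0
    rw [← h0, map_zero, LinearMap.zero_apply] at huw
    exact zero_ne_one huw
  have hA : ∀ x, (g ^ p) ▷ x = r • x := fun x => by
    have e := congrArg (cB QB w0) (hpp x u0)
    have hBu : (h ^ p) ▷ u0 = r⁻¹ • u0 := by
      conv_rhs => rw [← hB u0, inv_smul_smul₀ hr0]
    rw [hBu, cB_pure, cB_pure, map_smul, quad_polar_comm QB w0 u0, huw, smul_eq_mul, mul_one, one_smul] at e
    exact (inv_smul_eq_iff₀ hr0).mp e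
  obtain ⟨μ, hμ⟩ := (Finite.injective_iff_surjective.mp (frobenius_inj F p)) r
  have hμp : μ ^ p = r := hμ
  have hμ0 : μ ≠ 0 := fun e => hr0 (by rw [← hμp, e, zero_pow hp.out.ne_zero])
  set s := Matrix.GeneralLinearGroup.scalar (Fin a) (Units.mk0 μ hμ0) with hs
  set t := Matrix.GeneralLinearGroup.scalar (Fin b) (Units.mk0 μ hμ0) with ht
  have hsv : ∀ x, s ▷ x = μ • x := fun x => sc_mulVec _ x
  have htv : ∀ u, t ▷ u = μ • u := fun u => sc_mulVec _ u
  have hsi : ∀ x, s⁻¹ ▷ x = μ⁻¹ • x := fun x => by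
    conv_lhs => rw [← smul_inv_smul₀ hμ0 x, ← hsv, mulVec_inv_mulVec]
  have hE' : kr (g, h) = kr (s⁻¹ * g, t * h) := Units.ext (Tensor.eq_of_pure fun x u => by
    rw [kr_pure, kr_pure, mulVec_mul, mulVec_mul, hsi, htv, pure_smul_left, pure_smul_right, smul_smul,
      inv_mul_cancel₀ hμ0, one_smul])
  have hg1 : (s⁻¹ * g) ^ p = 1 := Units.ext (Matrix.ext_of_mulVec_single fun j => by
    have hit : ∀ k : ℕ, ∀ x, ((s⁻¹ * g) ^ k) ▷ x = (μ⁻¹) ^ k • ((g ^ k) ▷ x) := fun k => by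
      induction k with
      | zero => simp
      | succ k ih =>
        intro x
        rw [pow_succ, mulVec_mul, ih, mulVec_mul, hsi, Matrix.mulVec_smul, smul_smul, pow_succ g, mulVec_mul,
          pow_succ]
    rw [hit, hA, smul_smul, ← hμp, ← mul_pow, inv_mul_cancel₀ hμ0, one_pow, one_smul, Units.val_one,
      Matrix.one_mulVec])
  have hh1 : (t * h) ^ p = 1 := Units.ext (Matrix.ext_of_mulVec_single fun j => by
    have hit : ∀ k : ℕ, ∀ x, ((t * h) ^ k) ▷ x = μ ^ k • ((h ^ k) ▷ x) := fun k => by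
      induction k with
      | zero => simp
      | succ k ih =>
        intro x
        rw [pow_succ, mulVec_mul, ih, mulVec_mul, htv, Matrix.mulVec_smul, smul_smul, pow_succ h, mulVec_mul,
          pow_succ]
    rw [hit, hμp, hB, Units.val_one, Matrix.one_mulVec])
  obtain ⟨hgi, hhi⟩ := iso_of_kr hS ha (by omega) hg1 hh1 (hE' ▸ hEp)
  by_cases h1 : s⁻¹ * g = 1
  · exact ⟨t * h, by rw [hE', h1]⟩
  exfalso
  have hd := ker_le hS.two hS.ndA hgi hg1 h1
  have hbd := fix_bound hS hgi hh1 b ⊤ (by rw [finrank_top, Module.finrank_fin_fun]) fun u _ => Submodule.mem_top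
  rw [← hE'] at hbd
  replace hbd := (Submodule.finrank_mono (le_inf le_rfl (le_iInf fun _ _ _ => Submodule.mem_top))).trans hbd
  have hrn := (Matrix.mulVecLin (kr (g, h) : Matrix (Fin a × Fin b) (Fin a × Fin b) F) -
    LinearMap.id).finrank_range_add_finrank_ker
  rw [Module.finrank_fintype_fun_eq_card, Fintype.card_prod, Fintype.card_fin, Fintype.card_fin] at hrn
  have h5 : b * finrank F (LinearMap.ker (Matrix.mulVecLin ((s⁻¹ * g : GL (Fin a) F) :
      Matrix (Fin a) (Fin a) F) - LinearMap.id)) + b * 2 ≤ b * a := by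
    rw [← Nat.mul_add]; exact Nat.mul_le_mul_left b hd
  rw [Nat.mul_comm a b] at hrn
  omega

end unipotent

theorem range_dd_le (β w : Fin b → F) :
    LinearMap.range (dd (a := a) QB β w) ≤ LinearMap.range (left w) ⊔ LinearMap.range (left β) := by
  rintro _ ⟨q, rfl⟩
  exact Submodule.sub_mem _ (Submodule.mem_sup_left ⟨_, rfl⟩) (Submodule.mem_sup_right ⟨_, rfl⟩)

/-- An element mapping a totally singular `A ⊗ β` to some `A ⊗ η`. -/
theorem mem_of_map (X : Ctx QA QB Q M) {k : GL (Fin a × Fin b) F} (hk : k ∈ M) {β η : Fin b → F} (hβ : QB β = 0)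
    (hβ0 : β ≠ 0) (hη0 : η ≠ 0) (hmap : ∀ y, ∃ x, k ▷ pure y β = pure x η) :
    k ∈ Cfsg.Geo.kroneckerSubgroup a b F := by
  obtain ⟨x, hx⟩ := exists_quad_ne X.hS.ndA (by rw [Fintype.card_fin]; have := X.ha; omega)
  let f : (Fin a → F) →ₗ[F] (Fin a × Fin b → F) :=
    (Matrix.mulVecLin (k : Matrix (Fin a × Fin b) (Fin a × Fin b) F)).comp (left β)
  have hfi : Function.Injective f := fun y y' e =>
    pure_left_cancel hβ0 (Matrix.mulVec_injective_of_isUnit k.isUnit e)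
  obtain ⟨z, -, hz⟩ := Orth.exists_dual X.hS.ndB ⊥ (x := η) (by simpa using hη0)
  let Y := (cB QB z).comp f
  have hY : ∀ y, k ▷ pure y β = pure (Y y) η := fun y => by
    obtain ⟨x, hx⟩ := hmap y
    rw [hx, show Y y = cB QB z (k ▷ pure y β) from rfl, hx, cB_pure, hz, one_smul]
  have hYs : Function.Surjective Y := LinearMap.injective_iff_surjective.mp fun y y' e => hfi (by
    show k ▷ pure y β = k ▷ pure y' β
    rw [hY, hY, e])
  obtain ⟨y, hy⟩ := hYs x
  have hη : QB η = 0 := by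
    have h := Orth.iso_quad (X.hM.pres hk) (pure y β)
    rw [hY, hy, sing_right X.hS y hβ, Q_pure X.hS] at h
    exact (mul_eq_zero.mp h).resolve_left (mul_ne_zero X.hS.two hx)
  obtain ⟨n, c, hn, hc, hnη⟩ := move X.hS.two X.hS.ndB X.hbc hη hβ hη0 hβ0
  have h := mem_of_stab X (s := kr ((1 : GL (Fin a) F), n) * k)
    (M.mul_mem (X.hM.prod _ (one_mem _) hn) hk) hβ hβ0 fun y => ⟨c • Y y, by
      rw [mulVec_mul, hY, kr_pure, Units.val_one, Matrix.one_mulVec, hnη, pure_smul_left, pure_smul_right]⟩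
  have := Subgroup.mul_mem _ (Subgroup.inv_mem _ (mem_kronecker.mpr ⟨((1 : GL (Fin a) F), n), rfl⟩)) h
  rwa [inv_mul_cancel_left] at this

theorem kr_of_conj (X : Ctx QA QB Q M) (hab : a < b) {k : GL (Fin a × Fin b) F} (hk : k ∈ M) {β w : Fin b → F}
    (hβ : QB β = 0) (hw : polarBilin QB β w = 0)
    (hkN : k * tT QB β w hβ hw * k⁻¹ ∈ Cfsg.Geo.kroneckerSubgroup a b F) :
    ∃ h : GL (Fin b) F, ∀ q, k ▷ (dd QB β w q - QB w • pure (cB QB β q) β) =
      kr ((1 : GL (Fin a) F), h) ▷ (k ▷ q) - k ▷ q := by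
  obtain ⟨p, hchar⟩ := CharP.exists F
  haveI := hchar
  haveI : Fact p.Prime := ⟨CharP.char_is_prime F p⟩
  set t := tT (a := a) QB β w hβ hw with ht
  have hD : ∀ q, (k * t * k⁻¹) ▷ q - q = k ▷ (dd QB β w (k⁻¹ ▷ q) - QB w • pure (cB QB β (k⁻¹ ▷ q)) β) :=
    fun q => by
      rw [mulVec_mul, mulVec_mul, ht, tT_apply, add_sub_assoc, Matrix.mulVec_add, mulVec_mulVec_inv,
        add_sub_cancel_left]
  obtain ⟨h, hh⟩ := kr_of_small (p := p) X.hS X.ha hab hkN
    (X.hM.pres (M.mul_mem (M.mul_mem hk (one_eich_mem X hβ hw)) (M.inv_mem hk)))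
    (by rw [conj_pow, ht, tT_pow_char, mul_one, mul_inv_cancel]) (by
      refine (Submodule.finrank_mono (show _ ≤ (LinearMap.range (left (a := a) w) ⊔ LinearMap.range (left β)).map
          (Matrix.mulVecLin (k : Matrix (Fin a × Fin b) (Fin a × Fin b) F)) by
        rintro _ ⟨q, rfl⟩
        refine ⟨_, Submodule.sub_mem _ (range_dd_le (QB := QB) β w ⟨k⁻¹ ▷ q, rfl⟩)
          (Submodule.smul_mem _ (QB w) (Submodule.mem_sup_right ⟨cB QB β (k⁻¹ ▷ q), rfl⟩)), ?_⟩
        exact (hD q).symm)).trans ((Submodule.finrank_map_le _ _).trans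
          ((Submodule.finrank_add_le_finrank_add_finrank _ _).trans ?_))
      have h1 := LinearMap.finrank_range_le (left (a := a) (F := F) w)
      have h2 := LinearMap.finrank_range_le (left (a := a) (F := F) β)
      rw [Module.finrank_fin_fun] at h1 h2
      omega)
  refine ⟨h, fun q => ?_⟩
  rw [← hh, hD, mulVec_inv_mulVec]

theorem key_aniso (X : Ctx QA QB Q M) (hab : a < b) {k : GL (Fin a × Fin b) F} (hk : k ∈ M) {β w : Fin b → F}
    (hβ : QB β = 0) (hβ0 : β ≠ 0) (hw : polarBilin QB β w = 0) (hQw : QB w ≠ 0)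
    (hkN : k * tT QB β w hβ hw * k⁻¹ ∈ Cfsg.Geo.kroneckerSubgroup a b F) :
    k ∈ Cfsg.Geo.kroneckerSubgroup a b F := by
  obtain ⟨h, hh⟩ := kr_of_conj X hab hk hβ hw hkN
  obtain ⟨β', -, hββ'⟩ := exists_partner' X.hS.ndB hβ hβ0
  let D : (Fin b → F) →ₗ[F] (Fin b → F) := Matrix.mulVecLin (h : Matrix (Fin b) (Fin b) F) - LinearMap.id
  let G : (Fin a × Fin b → F) → (Fin a × Fin b → F) := fun q => kr ((1 : GL (Fin a) F), h) ▷ q - q
  have hG : ∀ q, G (k ▷ q) = k ▷ (dd QB β w q - QB w • pure (cB QB β q) β) := fun q => (hh q).symm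
  have hG2 : ∀ q, G (G (k ▷ q)) = (-(2 * QB w)) • (k ▷ pure (cB QB β q) β) := fun q => by
    rw [hG, hG, map_sub, map_smul, dd_dd hβ hw, map_sub, map_smul, (cB_dd hβ hw q).1, dd_apply, cB_pure, cB_pure,
      Orth.polar_self_of_sing QB hβ, quad_polar_comm QB w β, hw]
    simp [pure_zero_left, Matrix.mulVec_neg, Matrix.mulVec_smul]
  have hGp : ∀ x u, G (pure x u) = pure x (D u) := fun x u => by
    show kr ((1 : GL (Fin a) F), h) ▷ pure x u - pure x u = _
    rw [kr_pure, Units.val_one, Matrix.one_mulVec, ← pure_sub_right]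
    rfl
  have hc0 : -(2 * QB w) ≠ 0 := neg_ne_zero.mpr (mul_ne_zero X.hS.two hQw)
  have hpre : ∀ q, ∃ y, k ▷ pure y β = G (G q) := fun q => ⟨(-(2 * QB w)) • cB QB β (k⁻¹ ▷ q), by
    have h1 := hG2 (k⁻¹ ▷ q)
    rw [mulVec_mulVec_inv] at h1
    rw [h1, pure_smul_left, Matrix.mulVec_smul]⟩
  obtain ⟨u, hu⟩ : ∃ u, D (D u) ≠ 0 := by
    by_contra hc
    push Not at hc
    let Gl : (Fin a × Fin b → F) →ₗ[F] (Fin a × Fin b → F) :=
      Matrix.mulVecLin (kr ((1 : GL (Fin a) F), h) : Matrix (Fin a × Fin b) (Fin a × Fin b) F) - LinearMap.id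
    have hz : ∀ q, G (G q) = 0 := fun q =>
      lext (g := Gl.comp Gl) (g' := 0) (fun x u => by
        show G (G (pure x u)) = 0
        rw [hGp, hGp, hc, pure_zero_right]) q
    obtain ⟨x, hx⟩ := exists_quad_ne X.hS.ndA (by rw [Fintype.card_fin]; have := X.ha; omega)
    have hx0 : x ≠ 0 := fun e => hx (by rw [e, QuadraticMap.map_zero])
    have e := hG2 (pure x β')
    rw [hz, cB_pure, hββ', one_smul] at e
    exact pure_ne_zero hx0 hβ0 (Matrix.mulVec_injective_of_isUnit k.isUnit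
      (((smul_eq_zero.mp e.symm).resolve_left hc0).trans (Matrix.mulVec_zero _).symm))
  let f : (Fin a → F) →ₗ[F] (Fin a → F) := ((cB QB β').comp
    ((Matrix.mulVecLin ((k⁻¹ : GL (Fin a × Fin b) F) : Matrix (Fin a × Fin b) (Fin a × Fin b) F)).comp
      (left (D (D u)))))
  have hf : ∀ x, k ▷ pure (f x) β = pure x (D (D u)) := fun x => by
    obtain ⟨y, hy⟩ := hpre (pure x u)
    rw [hGp, hGp] at hy
    show k ▷ pure (cB QB β' (k⁻¹ ▷ pure x (D (D u)))) β = _
    rw [← hy, mulVec_inv_mulVec, cB_pure, quad_polar_comm QB β' β, hββ', one_smul]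
  have hfs : Function.Surjective f := LinearMap.injective_iff_surjective.mp fun x x' e =>
    pure_left_cancel hu (by rw [← hf, ← hf, e])
  refine mem_of_map X hk hβ hβ0 hu fun y => ?_
  obtain ⟨x, rfl⟩ := hfs y
  exact ⟨x, hf x⟩

/-- A conjugate of an element at a pair inside the Kronecker group. -/
theorem key (X : Ctx QA QB Q M) (hab : a < b) {k : GL (Fin a × Fin b) F} (hk : k ∈ M) {β w : Fin b → F}
    (hβ : QB β = 0) (hβ0 : β ≠ 0) (hw : polarBilin QB β w = 0) (hwβ : w ∉ F ∙ β)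
    (hkN : k * tT QB β w hβ hw * k⁻¹ ∈ Cfsg.Geo.kroneckerSubgroup a b F) :
    k ∈ Cfsg.Geo.kroneckerSubgroup a b F := by
  by_cases hQw : QB w = 0
  swap; · exact key_aniso X hab hk hβ hβ0 hw hQw hkN
  have hS := X.hS
  have ww := Orth.polar_self_of_sing QB hQw
  have ββ := Orth.polar_self_of_sing QB hβ
  obtain ⟨w₂, hw₂β, hw₂w, hQw₂⟩ : ∃ w₂, polarBilin QB β w₂ = 0 ∧ polarBilin QB w w₂ = 0 ∧ QB w₂ ≠ 0 := by
    by_contra hc
    push Not at hc
    set U := (⊤ : Submodule F (Fin b → F)) ⊓ LinearMap.ker (polarBilin QB β) ⊓ LinearMap.ker (polarBilin QB w)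
      with hU
    have h1 := Orth.finrank_sing_le hS.ndB (U := U) fun v hv => hc v hv.1.2 hv.2
    have h2 := finrank_inf_ker (⊤ : Submodule F (Fin b → F)) (polarBilin QB β)
    have h3 := finrank_inf_ker ((⊤ : Submodule F (Fin b → F)) ⊓ LinearMap.ker (polarBilin QB β)) (polarBilin QB w)
    have hb := X.hb
    rw [finrank_top, Module.finrank_fin_fun] at h2
    rw [Fintype.card_fin] at h1
    rw [← hU] at h3
    rcases Nat.lt_or_ge b 5 with hlt | hge
    · omega
    -- totally singular and containing `β` and `w` makes `U` a plane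
    have hle : U ≤ Submodule.span F ({β, w} : Set (Fin b → F)) := by
      intro v hv
      by_contra hvn
      obtain ⟨z, hz, hzv⟩ := Orth.exists_dual hS.ndB _ hvn
      have hzU : z ∈ U := ⟨⟨trivial, by
        show polarBilin QB β z = 0
        rw [quad_polar_comm]; exact hz β (Submodule.subset_span (by simp))⟩, by
        show polarBilin QB w z = 0
        rw [quad_polar_comm]; exact hz w (Submodule.subset_span (by simp))⟩
      have hzv' := hc (z + v) (U.add_mem hzU hv).1.2 (U.add_mem hzU hv).2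
      rw [quad_add, hc z hzU.1.2 hzU.2, hc v hv.1.2 hv.2, zero_add, zero_add] at hzv'
      rw [hzv] at hzv'
      exact one_ne_zero hzv'
    have h4 := Submodule.finrank_mono hle
    have h5 : finrank F (Submodule.span F ({β, w} : Set (Fin b → F))) ≤ 2 := by
      classical
      rw [show ({β, w} : Set (Fin b → F)) = (({β, w} : Finset (Fin b → F)) : Set (Fin b → F)) by simp]
      exact (finrank_span_finset_le_card _).trans Finset.card_le_two
    omega
  obtain ⟨h, hh⟩ := kr_of_conj X hab hk hβ hw hkN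
  obtain ⟨β', -, hββ'⟩ := exists_partner' hS.ndB hβ hβ0
  let D : (Fin b → F) →ₗ[F] (Fin b → F) := Matrix.mulVecLin (h : Matrix (Fin b) (Fin b) F) - LinearMap.id
  obtain ⟨u, hu⟩ : ∃ u, D u ≠ 0 := by
    by_contra hc
    push Not at hc
    have h1 : h = 1 := Units.ext (Matrix.ext_of_mulVec_single fun j => by
      rw [Units.val_one, Matrix.one_mulVec]; exact sub_eq_zero.mp (hc (Pi.single j 1)))
    obtain ⟨x, hx⟩ := exists_quad_ne hS.ndA (by rw [Fintype.card_fin]; have := X.ha; omega)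
    have hx0 : x ≠ 0 := fun e => hx (by rw [e, QuadraticMap.map_zero])
    have e := hh (pure x β')
    rw [h1, show ((1 : GL (Fin a) F), (1 : GL (Fin b) F)) = 1 from rfl, map_one, Units.val_one, Matrix.one_mulVec,
      sub_self, hQw, zero_smul, sub_zero, dd_apply, cB_pure, hββ', one_smul, cB_pure] at e
    have e1 := Matrix.mulVec_injective_of_isUnit k.isUnit (e.trans (Matrix.mulVec_zero _).symm)
    rw [sub_eq_zero, pure_smul_left, ← pure_smul_right] at e1
    exact hwβ (Submodule.mem_span_singleton.mpr ⟨_, (pure_right_cancel hx0 e1).symm⟩)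
  have hfix : ∀ x, (k * tT QB β w₂ hβ hw₂β * k⁻¹) ▷ pure x (D u) = pure x (D u) := fun x => by
    have hy : pure x (D u) = k ▷ dd QB β w (k⁻¹ ▷ pure x u) := by
      have h1 := hh (k⁻¹ ▷ pure x u)
      rw [hQw, zero_smul, sub_zero, mulVec_mulVec_inv] at h1
      rw [h1, kr_pure, Units.val_one, Matrix.one_mulVec, ← pure_sub_right]
      rfl
    conv_lhs => rw [hy]
    rw [mulVec_mul, mulVec_mul, mulVec_inv_mulVec, tT_fix, ← hy]
    · exact (cB_dd hβ hw _).1
    · rw [dd_apply, map_sub, cB_pure, cB_pure, quad_polar_comm QB w₂ w, hw₂w, quad_polar_comm QB w₂ β, hw₂β,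
        zero_smul, zero_smul, sub_zero]
  have hkt : k * tT QB β w₂ hβ hw₂β * k⁻¹ ∈ M :=
    M.mul_mem (M.mul_mem hk (one_eich_mem X hβ hw₂β)) (M.inv_mem hk)
  refine key_aniso X hab hk hβ hβ0 hw₂β hQw₂ (mem_of_stab X hkt ?_ hu fun x => ⟨x, hfix x⟩)
  obtain ⟨x, hx⟩ := exists_quad_ne hS.ndA (by rw [Fintype.card_fin]; have := X.ha; omega)
  have h1 := hh (k⁻¹ ▷ pure x u)
  rw [hQw, zero_smul, sub_zero, mulVec_mulVec_inv, kr_pure, Units.val_one, Matrix.one_mulVec, ← pure_sub_right]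
    at h1
  have h2 : Q (pure x (D u)) = 0 := by
    show Q (pure x (h ▷ u - u)) = 0
    rw [← h1, Orth.iso_quad (X.hM.pres hk), dd_apply, quad_sub, sing_right hS _ hQw, sing_right hS _ hβ,
      hS.form, quad_polar_comm QB w β, hw, mul_zero]
    ring
  rw [Q_pure hS] at h2
  exact (mul_eq_zero.mp h2).resolve_left (mul_ne_zero hS.two hx)

/-- Vectors killed by a pair, with images killed by a pair, are moved by one element of the Kronecker group. -/
theorem transfer (X : Ctx QA QB Q M) (hab : a < b) {g : GL (Fin a × Fin b) F} (hg : g ∈ M)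
    (W : Set (Fin a × Fin b → F)) {β₀ w₀ : Fin b → F} (hβ₀ : QB β₀ = 0) (hβ₀0 : β₀ ≠ 0)
    (hw₀ : polarBilin QB β₀ w₀ = 0) (hw₀β : w₀ ∉ F ∙ β₀) (hW₀ : ∀ v ∈ W, cB QB β₀ v = 0 ∧ cB QB w₀ v = 0)
    {β w : Fin b → F} (hβ : QB β = 0) (hβ0 : β ≠ 0) (hw : polarBilin QB β w = 0) (hwβ : w ∉ F ∙ β)
    (hgW : ∀ v ∈ W, cB QB β (g ▷ v) = 0 ∧ cB QB w (g ▷ v) = 0) :
    ∃ n, n ∈ M ∧ n ∈ Cfsg.Geo.kroneckerSubgroup a b F ∧ ∀ v ∈ W, g ▷ v = n ▷ v := by
  classical
  obtain ⟨p, hchar⟩ := CharP.exists F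
  haveI := hchar
  haveI hpf : Fact p.Prime := ⟨CharP.char_is_prime F p⟩
  set N := Cfsg.Geo.kroneckerSubgroup a b F with hN
  set t := tT (a := a) QB β₀ w₀ hβ₀ hw₀ with ht
  let Mv : Subgroup (GL (Fin a × Fin b) F) :=
    { carrier := {g | g ∈ M ∧ ∀ v ∈ W, g ▷ v = v}
      one_mem' := ⟨M.one_mem, fun v _ => by simp⟩
      mul_mem' := fun {g g'} hg hg' =>
        ⟨M.mul_mem hg.1 hg'.1, fun v hv => by rw [mulVec_mul, hg'.2 v hv, hg.2 v hv]⟩
      inv_mem' := fun {g} hg => ⟨M.inv_mem hg.1, fun v hv => by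
        conv_lhs => rw [← hg.2 v hv, mulVec_inv_mulVec]⟩ }
  have hTp : ∀ (β w : Fin b → F) (h : QB β = 0) (h' : polarBilin QB β w = 0),
      IsPGroup p (Subgroup.zpowers (tT (a := a) QB β w h h')) := by
    intro β w h h'
    exact fun y => ⟨1, by
      obtain ⟨y, i, rfl⟩ := y
      refine Subtype.ext ?_
      rw [SubmonoidClass.coe_pow, pow_one, ← zpow_natCast, ← _root_.zpow_mul, mul_comm, _root_.zpow_mul,
        zpow_natCast, tT_pow_char, _root_.one_zpow]
      rfl⟩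
  have htv : t ∈ Mv := ⟨one_eich_mem X hβ₀ hw₀, fun v hv => tT_fix hβ₀ hw₀ (hW₀ v hv).1 (hW₀ v hv).2⟩
  have htN : t ∈ N := mem_kronecker.mpr ⟨_, rfl⟩
  obtain ⟨P₀, hP₀⟩ := ((hTp _ _ hβ₀ hw₀).comap_subtype (K := Mv ⊓ N)).exists_le_sylow
  set P : Subgroup (GL (Fin a × Fin b) F) := (P₀ : Subgroup ↥(Mv ⊓ N)).map (Mv ⊓ N).subtype with hP
  have hPle : P ≤ Mv ⊓ N := Subgroup.map_subtype_le _
  have htP : t ∈ P := ⟨⟨t, htv, htN⟩, hP₀ (Subgroup.mem_zpowers t), rfl⟩
  have hPp : IsPGroup p P := P₀.isPGroup'.map _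
  obtain ⟨P₁, hP₁⟩ := (hPp.comap_subtype (K := Mv)).exists_le_sylow
  set P' : Subgroup (GL (Fin a × Fin b) F) := (P₁ : Subgroup Mv).map Mv.subtype with hP'
  have hP'le : P' ≤ Mv := Subgroup.map_subtype_le _
  have hPP' : P ≤ P' := fun y hy => ⟨⟨y, (hPle hy).1⟩, hP₁ hy, rfl⟩
  have hPN : P' ≤ N := by
    have hP'p : IsPGroup p P' := P₁.isPGroup'.map _
    have hint : P' ⊓ N ≤ P := by
      intro y hy
      have hle : (P₀ : Subgroup ↥(Mv ⊓ N)) ≤ (P' ⊓ N).subgroupOf (Mv ⊓ N) := fun z hz =>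
        ⟨hPP' ⟨z, hz, rfl⟩, z.2.2⟩
      have h1 := P₀.3 ((hP'p.to_le inf_le_left).comap_subtype) hle
      have hy' : (⟨y, hP'le hy.1, hy.2⟩ : ↥(Mv ⊓ N)) ∈ (P₀ : Subgroup ↥(Mv ⊓ N)) := h1 ▸ hy
      exact ⟨_, hy', rfl⟩
    by_contra hne
    haveI := hP'p.isNilpotent
    have hlt : P.subgroupOf P' < ⊤ := lt_top_iff_ne_top.mpr fun e => hne fun y hy =>
      (hPle ((Subgroup.subgroupOf_eq_top.mp e) hy)).2
    obtain ⟨⟨y, hy⟩, hyN, hyP⟩ := SetLike.exists_of_lt (Group.normalizerCondition_of_isNilpotent _ hlt)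
    rw [Subgroup.mem_normalizer_iff] at hyN
    have h1 : y * t * y⁻¹ ∈ P := (hyN ⟨t, hPP' htP⟩).mp htP
    exact hyP (hint ⟨hy, key X hab (hP'le hy).1 hβ₀ hβ₀0 hw₀ hw₀β (hPle h1).2⟩)
  set t' := tT (a := a) QB β w hβ hw with ht'
  have hmem : g⁻¹ * t' * g ∈ Mv := ⟨M.mul_mem (M.mul_mem (M.inv_mem hg) (one_eich_mem X hβ hw)) hg, fun v hv => by
    rw [mulVec_mul, mulVec_mul, ht', tT_fix hβ hw (hgW v hv).1 (hgW v hv).2, mulVec_inv_mulVec]⟩
  obtain ⟨P₂, hP₂⟩ := (((hTp β w hβ hw).map (MulAut.conj g⁻¹).toMonoidHom).comap_subtype (K := Mv)).exists_le_sylow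
  obtain ⟨j, hjP⟩ := MulAction.exists_smul_eq Mv P₂ P₁
  have h1 : (j : GL (Fin a × Fin b) F) * (g⁻¹ * t' * g) * (j : GL (Fin a × Fin b) F)⁻¹ ∈ P' := by
    let mm : Mv := ⟨g⁻¹ * t' * g, hmem⟩
    refine ⟨j * mm * j⁻¹, ?_, by simp only [map_mul, map_inv, Subgroup.coe_subtype, mm]⟩
    rw [← hjP, Sylow.coe_subgroup_smul]
    exact ⟨mm, hP₂ ⟨t', Subgroup.mem_zpowers t', by
      rw [MulEquiv.coe_toMonoidHom, MulAut.conj_apply, inv_inv]; rfl⟩, by
      rw [MulDistribMulAction.toMonoidEnd_apply]; rfl⟩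
  have hjg : (j : GL (Fin a × Fin b) F) * g⁻¹ ∈ M := M.mul_mem j.2.1 (M.inv_mem hg)
  have h2 : (j : GL (Fin a × Fin b) F) * g⁻¹ ∈ N := key X hab hjg hβ hβ0 hw hwβ (by
    rw [show (j : GL (Fin a × Fin b) F) * g⁻¹ * t' * ((j : GL (Fin a × Fin b) F) * g⁻¹)⁻¹ =
      (j : GL (Fin a × Fin b) F) * (g⁻¹ * t' * g) * (j : GL (Fin a × Fin b) F)⁻¹ by group]
    exact hPN h1)
  refine ⟨_, M.inv_mem hjg, N.inv_mem h2, fun v hv => ?_⟩
  have hjv : (j : GL (Fin a × Fin b) F)⁻¹ ▷ v = v :=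
    (congrArg (_ *ᵥ ·) (j.2.2 v hv)).symm.trans (mulVec_inv_mulVec _ _)
  rw [_root_.mul_inv_rev, inv_inv, mulVec_mul, hjv]

end Cfsg.Agent.Lib.ThreeTransp.TensorOrth
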