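import Cfsg.Agent.Lib.ThreeTransp.TensorOrthPlane

/-!
A group containing the product of the two commutator subgroups preserves the tensor decomposition or contains
`omegaGL`.
-/

set_option autoImplicit false
set_option linter.unusedSectionVars false
set_option linter.unusedSimpArgs false

namespace Cfsg.Agent.Lib.ThreeTransp.TensorOrth

open Matrix Module QuadraticMap
open Cfsg.Agent.Lib.MaxSub
open Cfsg.Agent.Lib.MaxSub.OrthSplit (exists_outside finrank_inf_ker)
open Cfsg.Agent.Lib.ThreeTransp.DecompOrth (Nd perp)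
open Cfsg.Agent.Lib.ThreeTransp.SubOrth (gen_span_sing)
open Cfsg.Agent.Lib.Geometry (quad_add quad_sub quad_smul quad_polar_self quad_polar_comm)
open Cfsg.Agent.Lib.ThreeTransp.Tensor
open scoped MatrixGroups Matrix Kronecker

attribute [-simp] QuadraticMap.polarBilin_apply_apply

local notation:74 g:74 " ▷ " p:73 => Matrix.mulVec (Units.val g) p

variable {a b : ℕ} {F : Type*} [Field F]
variable {QA : QuadraticForm F (Fin a → F)} {QB : QuadraticForm F (Fin b → F)}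
  {Q : QuadraticForm F (Fin a × Fin b → F)} {M : Subgroup (GL (Fin a × Fin b) F)}

/-- The second factors of images of a row with first factor `y`. -/
def rim (g : GL (Fin a × Fin b) F) (x y : Fin a → F) : Submodule F (Fin b → F) :=
  (LinearMap.range ((Matrix.mulVecLin (g : Matrix (Fin a × Fin b) (Fin a × Fin b) F)).comp (right x))).comap (right y)

theorem mem_rim {g : GL (Fin a × Fin b) F} {x y : Fin a → F} {η : Fin b → F} :
    η ∈ rim g x y ↔ ∃ u, g ▷ pure x u = pure y η := Iff.rfl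

/-- The column through `w` and `γ`. -/
def col (g : GL (Fin a × Fin b) F) (w γ : Fin b → F) : Submodule F (Fin a → F) :=
  (LinearMap.range (left γ)).comap ((Matrix.mulVecLin (g : Matrix (Fin a × Fin b) (Fin a × Fin b) F)).comp (left w))

theorem mem_col {g : GL (Fin a × Fin b) F} {z : Fin a → F} {w γ : Fin b → F} :
    z ∈ col g w γ ↔ ∃ y, g ▷ pure z w = pure y γ :=
  ⟨fun ⟨y, h⟩ => ⟨y, h.symm⟩, fun ⟨y, h⟩ => ⟨y, h.symm⟩⟩

/-- The map reading the second factor of an image. -/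
noncomputable def readSnd (QA : QuadraticForm F (Fin a → F)) (g : GL (Fin a × Fin b) F) (x z : Fin a → F) :
    (Fin b → F) →ₗ[F] (Fin b → F) :=
  (cA QA z).comp ((Matrix.mulVecLin (g : Matrix (Fin a × Fin b) (Fin a × Fin b) F)).comp (right x))

theorem readSnd_eq {g : GL (Fin a × Fin b) F} {x z y : Fin a → F} {u η : Fin b → F} (hz : polarBilin QA z y = 1)
    (h : g ▷ pure x u = pure y η) : readSnd QA g x z u = η := by
  show cA QA z (g ▷ pure x u) = η
  rw [h, cA_pure, hz, one_smul]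

/-- The kernel of the pairing with `γ` along a row. -/
noncomputable def kerRow (QB : QuadraticForm F (Fin b → F)) (g : GL (Fin a × Fin b) F) (x : Fin a → F)
    (γ : Fin b → F) : Submodule F (Fin b → F) :=
  LinearMap.ker ((cB QB γ).comp
    ((Matrix.mulVecLin (g : Matrix (Fin a × Fin b) (Fin a × Fin b) F)).comp (right x)))

theorem mem_kerRow {g : GL (Fin a × Fin b) F} {x : Fin a → F} {γ u : Fin b → F} :
    u ∈ kerRow QB g x γ ↔ cB QB γ (g ▷ pure x u) = 0 := Iff.rfl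

theorem finrank_ker_lt {n : ℕ} {φ : (Fin n → F) →ₗ[F] F} {v : Fin n → F} (h : φ v ≠ 0) :
    finrank F (LinearMap.ker φ) + 1 ≤ n := by
  have h1 : finrank F (LinearMap.ker φ) < finrank F (⊤ : Submodule F (Fin n → F)) :=
    Submodule.finrank_lt_finrank_of_lt (lt_top_iff_ne_top.mpr fun e => h (by
      have hm : v ∈ LinearMap.ker φ := e ▸ Submodule.mem_top
      exact hm))
  rw [finrank_top, Module.finrank_fin_fun] at h1
  omega

theorem kerRow_dim (hS : Setting QA QB Q) {g : GL (Fin a × Fin b) F} {x y : Fin a → F} {γ : Fin b → F} (hy : y ≠ 0)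
    (h : ∀ u, polarBilin QA y (cB QB γ (g ▷ pure x u)) = 0) : b + 1 ≤ finrank F (kerRow QB g x γ) + a := by
  set L := (cB QB γ).comp ((Matrix.mulVecLin (g : Matrix (Fin a × Fin b) (Fin a × Fin b) F)).comp (right x)) with hL
  have h1 := L.finrank_range_add_finrank_ker
  rw [Module.finrank_fin_fun] at h1
  obtain ⟨z, -, hz⟩ := Orth.exists_dual hS.ndA ⊥ (x := y) (by simpa using hy)
  have h2 : finrank F (LinearMap.range L) + 1 ≤ a := by
    refine le_trans (Nat.add_le_add_right (Submodule.finrank_mono (?_ : LinearMap.range L ≤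
      LinearMap.ker (polarBilin QA y))) 1) (finrank_ker_lt (v := z) (by
        rw [quad_polar_comm, hz]; exact one_ne_zero))
    rintro _ ⟨u, rfl⟩
    exact h u
  show b + 1 ≤ finrank F (LinearMap.ker L) + a
  omega

variable [Finite F]

/-- A subspace of a row with pure images. -/
theorem row_image (X : Ctx QA QB Q M) (hab : a < b) {g : GL (Fin a × Fin b) F} (hg : g ∈ M)
    {x y : Fin a → F} {u₀ η₀ : Fin b → F} (e : g ▷ pure x u₀ = pure y η₀) (hx : x ≠ 0) (hu₀ : u₀ ≠ 0)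
    (V : Submodule F (Fin b → F)) (hV : ∀ u ∈ V, IsPure (g ▷ pure x u)) :
    ∃ H : Submodule F (Fin b → F), finrank F V ≤ finrank F H ∧ ∀ η ∈ H, ∃ u ∈ V, g ▷ pure x u = pure y η := by
  have hy := (ne_zero_of_pure (e ▸ image_ne_zero (g := g) (pure_ne_zero hx hu₀))).1
  obtain ⟨z, -, hz⟩ := Orth.exists_dual X.hS.ndA ⊥ (x := y) (by simpa using hy)
  have hread : ∀ u ∈ V, g ▷ pure x u = pure y (readSnd QA g x z u) := fun u hu => by
    obtain ⟨η, h⟩ := row_fst X hab hg e hx hu₀ (hV u hu)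
    rw [readSnd_eq hz h, h]
  refine ⟨V.map (readSnd QA g x z), ?_, ?_⟩
  · have hinj : Function.Injective ((readSnd QA g x z).domRestrict V) := fun u u' h => Subtype.ext
      (pure_right_cancel hx (Matrix.mulVec_injective_of_isUnit g.isUnit ((hread _ u.2).trans
        ((congrArg (fun t => pure y t) h).trans (hread _ u'.2).symm))))
    have h1 := LinearMap.finrank_range_of_inj hinj
    rw [← h1, LinearMap.range_domRestrict]
  rintro _ ⟨u, hu, rfl⟩
  exact ⟨u, hu, hread u hu⟩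

/-- Some pure tensor in a singular row has an image with singular second factor. -/
theorem exists_sing (X : Ctx QA QB Q M) (hab : a + 2 ≤ b) (hodd : Odd b) {g : GL (Fin a × Fin b) F} (hg : g ∈ M)
    {x : Fin a → F} (hx : QA x = 0) (hx0 : x ≠ 0) :
    ∃ u y γ, u ≠ 0 ∧ QB γ = 0 ∧ g ▷ pure x u = pure y γ := by
  haveI := Fintype.ofFinite F
  have hab' : a < b := by omega
  have hS := X.hS
  have hb := X.hb
  by_contra hno
  push Not at hno
  obtain ⟨β, w, hβ0, hβ, hQw, hw, hwβ⟩ := exists_plane hS.ndB hb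
  obtain ⟨u₀, y, η₀, hu₀, e₀, -, -⟩ := exists_row_perp X hab hodd hg hx hx0 hβ0 hβ hQw hw hwβ
  have hsing : ∀ η ∈ rim g x y, QB η = 0 → η = 0 := fun η hη hQη => by
    by_contra hη0
    obtain ⟨u, hu⟩ := mem_rim.mp hη
    refine hno u y η (fun e0 => ?_) hQη hu
    rw [e0, pure_zero_right, Matrix.mulVec_zero] at hu
    exact pure_ne_zero (ne_zero_of_pure (e₀ ▸ image_ne_zero (g := g) (pure_ne_zero hx0 hu₀))).1 hη0 hu.symm
  have hdim : finrank F (rim g x y) ≤ 2 := by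
    by_contra hd
    obtain ⟨η, hη, hη0, hQη⟩ := Orth.exists_singular (Q := QB) (rim g x y) (by omega)
    exact hη0 (hsing η hη hQη)
  have hη₀0 : η₀ ≠ 0 := (ne_zero_of_pure (e₀ ▸ image_ne_zero (g := g) (pure_ne_zero hx0 hu₀))).2
  have hη₀ : η₀ ∈ rim g x y := mem_rim.mpr ⟨u₀, e₀⟩
  have hQ₀ : QB η₀ ≠ 0 := fun h => hη₀0 (hsing _ hη₀ h)
  have hW1 := (nd_top hS.ndB).perp_aniso hS.two (Submodule.mem_top (x := η₀)) hQ₀
  have hW1d : b ≤ finrank F (perp QB ⊤ η₀) + 1 := by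
    have := finrank_inf_ker (⊤ : Submodule F (Fin b → F)) (polarBilin QB η₀)
    rw [finrank_top, Module.finrank_fin_fun] at this
    exact this
  set R := rim g x y ⊓ LinearMap.ker (polarBilin QB η₀) with hR
  have hRd : finrank F R ≤ 1 := by
    have h1 : finrank F R < finrank F (rim g x y) := Submodule.finrank_lt_finrank_of_lt
      (lt_of_le_of_ne inf_le_left fun e => by
        have hm : η₀ ∈ R := by rw [show R = rim g x y from e]; exact hη₀
        have h2 : polarBilin QB η₀ η₀ = 0 := hm.2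
        rw [quad_polar_self] at h2
        exact hQ₀ ((mul_eq_zero.mp h2).resolve_left hS.two))
    omega
  obtain ⟨γ₂, hγ₂, hQ₂, hR₂⟩ : ∃ γ₂ ∈ perp QB ⊤ η₀, QB γ₂ ≠ 0 ∧ R ≤ F ∙ γ₂ := by
    rcases eq_or_ne R ⊥ with h | h
    · obtain ⟨γ₂, h1, h2⟩ := hW1.exists_aniso fun e => by rw [e, finrank_bot] at hW1d; omega
      exact ⟨γ₂, h1, h2, by rw [h]; exact bot_le⟩
    · obtain ⟨r, hr, hr0⟩ := (Submodule.ne_bot_iff R).mp h
      exact ⟨r, ⟨trivial, hr.2⟩, fun hQ => hr0 (hsing r hr.1 hQ),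
        (Submodule.eq_of_le_of_finrank_le ((Submodule.span_singleton_le_iff_mem _ _).mpr hr)
          (by rw [finrank_span_singleton hr0]; exact hRd)).ge⟩
  have h12 : polarBilin QB η₀ γ₂ = 0 := hγ₂.2
  have hW := hW1.perp_aniso hS.two hγ₂ hQ₂
  set W := perp QB (perp QB ⊤ η₀) γ₂ with hWdef
  have hWd : b ≤ finrank F W + 2 := by
    have : finrank F (perp QB ⊤ η₀) ≤ finrank F W + 1 := finrank_inf_ker _ _
    omega
  obtain ⟨z₁, hz₁, hQz₁⟩ := hW.exists_value hS.two (by omega) (-QB η₀)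
  have hW' := hW.perp_aniso hS.two hz₁ (by rw [hQz₁]; exact neg_ne_zero.mpr hQ₀)
  obtain ⟨z₂, hz₂, hQz₂⟩ := hW'.exists_value hS.two (by
    have : finrank F W ≤ finrank F (perp QB W z₁) + 1 := finrank_inf_ker _ _
    omega) (-QB γ₂)
  have e11 : polarBilin QB η₀ z₁ = 0 := hz₁.1.2
  have e21 : polarBilin QB γ₂ z₁ = 0 := hz₁.2
  have e12 : polarBilin QB η₀ z₂ = 0 := hz₂.1.1.2
  have e22 : polarBilin QB γ₂ z₂ = 0 := hz₂.1.2
  have ezz : polarBilin QB z₁ z₂ = 0 := hz₂.2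
  have hP1 : QB (η₀ + z₁) = 0 := by rw [quad_add, hQz₁, e11]; ring
  have hP2 : QB (γ₂ + z₂) = 0 := by rw [quad_add, hQz₂, e22]; ring
  have hP12 : polarBilin QB (η₀ + z₁) (γ₂ + z₂) = 0 := by
    simp only [map_add, LinearMap.add_apply, h12, e12, quad_polar_comm QB z₁ γ₂, e21, ezz, add_zero]
  have hne : ∀ c : F, c ≠ 0 → c * (2 * QB η₀) ≠ 0 := fun c hc => mul_ne_zero hc (mul_ne_zero hS.two hQ₀)
  have hP0 : η₀ + z₁ ≠ 0 := fun h => hne 1 one_ne_zero (by
    have h' := congrArg (polarBilin QB η₀) h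
    rw [map_add, map_zero, e11, add_zero, quad_polar_self] at h'
    rw [one_mul, h'])
  have hPi : γ₂ + z₂ ∉ F ∙ (η₀ + z₁) := fun hm => by
    obtain ⟨c, hc⟩ := Submodule.mem_span_singleton.mp hm
    have h1 := congrArg (polarBilin QB η₀) hc
    rw [map_smul, map_add, map_add, e11, h12, e12, add_zero, add_zero, quad_polar_self, smul_eq_mul] at h1
    have hc0 : c = 0 := by_contra fun h0 => hne c h0 h1
    rw [hc0, zero_smul] at hc
    have h2 := congrArg (polarBilin QB γ₂) hc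
    rw [map_add, map_zero, e22, add_zero, quad_polar_self] at h2
    exact mul_ne_zero hS.two hQ₂ h2.symm
  obtain ⟨u, y', η, hu, e, hη1, hη2⟩ := exists_row_perp X hab hodd hg hx hx0 hP0 hP1 hP2 hP12 hPi
  obtain ⟨η', e'⟩ := row_fst X hab' hg e₀ hx0 hu₀ (show IsPure (g ▷ pure x u) from ⟨y', η, e⟩)
  have hη'0 : η' ≠ 0 := (ne_zero_of_pure (e' ▸ image_ne_zero (g := g) (pure_ne_zero hx0 hu))).2
  obtain ⟨hy', hη0⟩ := ne_zero_of_pure (e ▸ image_ne_zero (g := g) (pure_ne_zero hx0 hu))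
  obtain ⟨c, hc⟩ := (pure_parallel (e'.symm.trans e) (ne_zero_of_pure (e' ▸ image_ne_zero (g := g)
    (pure_ne_zero hx0 hu))).1 hη'0).2
  have hη'1 : polarBilin QB (η₀ + z₁) η' = 0 := by rw [← hc, map_smul, hη1, smul_zero]
  have hη'2 : polarBilin QB (γ₂ + z₂) η' = 0 := by rw [← hc, map_smul, hη2, smul_zero]
  set k := polarBilin QB η₀ η' / (2 * QB η₀) with hk
  have hr : η' - k • η₀ ∈ R := ⟨Submodule.sub_mem _ (mem_rim.mpr ⟨u, e'⟩) (Submodule.smul_mem _ _ hη₀), by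
    show polarBilin QB η₀ _ = 0
    rw [map_sub, map_smul, quad_polar_self, smul_eq_mul, hk, div_mul_cancel₀ _ (mul_ne_zero hS.two hQ₀), sub_self]⟩
  obtain ⟨d, hd⟩ := Submodule.mem_span_singleton.mp (hR₂ hr)
  have hη' : η' = k • η₀ + d • γ₂ := by rw [hd]; abel
  simp only [hη', map_add, map_smul, LinearMap.add_apply, smul_eq_mul, quad_polar_self, h12, quad_polar_comm QB γ₂ η₀,
    quad_polar_comm QB z₁ η₀, e11, quad_polar_comm QB z₁ γ₂, e21, quad_polar_comm QB z₂ η₀, e12,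
    quad_polar_comm QB z₂ γ₂, e22, add_zero, zero_add, mul_zero] at hη'1 hη'2
  refine hη'0 ?_
  rw [hη', (mul_eq_zero.mp hη'1).resolve_right (mul_ne_zero hS.two hQ₀),
    (mul_eq_zero.mp hη'2).resolve_right (mul_ne_zero hS.two hQ₂), zero_smul, zero_smul, add_zero]

/-- A column is large. -/
theorem col_large (X : Ctx QA QB Q M) (hab : a + 2 ≤ b) (hb6 : 6 ≤ b) {g : GL (Fin a × Fin b) F} (hg : g ∈ M)
    {x y : Fin a → F} {w γ : Fin b → F} (e : g ▷ pure x w = pure y γ) (hx0 : x ≠ 0) (hw0 : w ≠ 0)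
    (hγ : QB γ = 0) : a ≤ finrank F (col g w γ) + 1 := by
  classical
  have hab' : a < b := by omega
  have hS := X.hS
  obtain ⟨hy, hγ0⟩ := ne_zero_of_pure (e ▸ image_ne_zero (g := g) (pure_ne_zero hx0 hw0))
  set S := col g w γ with hSdef
  have hxS : x ∈ S := mem_col.mpr ⟨y, e⟩
  by_cases hall : S = ⊤
  · rw [hall, finrank_top, Module.finrank_fin_fun]; omega
  obtain ⟨x', -, hx'⟩ := Orth.exists_dual hS.ndA ⊥ (x := x) (by simpa using hx0)
  obtain ⟨z, hzS, hzx⟩ : ∃ z, z ∉ S ∧ polarBilin QA z x ≠ 0 := by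
    obtain ⟨z₀, hz₀⟩ : ∃ z₀, z₀ ∉ S := by
      by_contra h; push Not at h; exact hall (Submodule.eq_top_iff'.mpr h)
    by_cases h0 : polarBilin QA z₀ x = 0
    swap; · exact ⟨z₀, hz₀, h0⟩
    by_cases h1 : x' ∈ S
    swap; · exact ⟨x', h1, by rw [hx']; exact one_ne_zero⟩
    exact ⟨z₀ + x', fun h => hz₀ (by simpa using S.sub_mem h h1), by
      rw [map_add, LinearMap.add_apply, h0, hx', zero_add]; exact one_ne_zero⟩
  have hz0 : z ≠ 0 := fun e0 => hzS (e0 ▸ S.zero_mem)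
  have hzxp : ¬ ∃ c : F, c • x = z := fun ⟨c, hc⟩ => hzS (hc ▸ S.smul_mem c hxS)
  set K := kerRow QB g z γ with hK
  obtain ⟨p₀, -, hp₀, hp₀0, hp₀γ, hp₀n⟩ : ∃ p₀ : Fin b → F, True ∧ QB p₀ = 0 ∧ p₀ ≠ 0 ∧
      polarBilin QB γ p₀ = 0 ∧ p₀ ∉ F ∙ γ := by
    obtain ⟨γ', hγ', h1⟩ := exists_partner' hS.ndB hγ hγ0
    obtain ⟨p, hp, hp0, hQp⟩ := Orth.exists_singular (Q := QB) (perp QB (perp QB ⊤ γ) γ') (by
      have := finrank_perp_two (Q := QB) γ γ'
      rw [Fintype.card_fin] at this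
      omega)
    refine ⟨p, trivial, hQp, hp0, hp.1.2, fun hm => ?_⟩
    obtain ⟨c, rfl⟩ := Submodule.mem_span_singleton.mp hm
    have h2 : polarBilin QB γ' (c • γ) = 0 := hp.2
    rw [map_smul, quad_polar_comm, h1, smul_eq_mul, mul_one] at h2
    exact hp0 (by rw [h2, zero_smul])
  obtain ⟨u₁, y₁, p₁, hu₁, -, e₁⟩ := cover X hab hb6 hg e hγ hγ0 hzx hw0 hp₀ hp₀γ hp₀n
  have hy₁ := (ne_zero_of_pure (e₁ ▸ image_ne_zero (g := g) (pure_ne_zero hz0 hu₁))).1
  obtain ⟨ζ, -, hζ⟩ := Orth.exists_dual hS.ndA ⊥ (x := y₁) (by simpa using hy₁)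
  set H := K.map (readSnd QA g z ζ) with hH
  have hcov : LinearMap.ker (polarBilin QB γ) ≤ H ⊔ F ∙ γ := by
    intro v hv
    have hsp := gen_span_sing hS.ndB {γ} (by simp; omega) (x := v) (fun q hq => by
      rw [Finset.mem_singleton.mp hq]; exact hv)
    refine (Submodule.span_le.mpr ?_) hsp
    rintro p ⟨hQp, hpγ⟩
    have hγp : polarBilin QB γ p = 0 := hpγ γ (by simp)
    by_cases hm : p ∈ F ∙ γ
    · exact Submodule.mem_sup_right hm
    obtain ⟨u, y', p', hu, hp', e'⟩ := cover X hab hb6 hg e hγ hγ0 hzx hw0 hQp hγp hm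
    obtain ⟨η, e''⟩ := row_fst X hab' hg e₁ hz0 hu₁ (show IsPure (g ▷ pure z u) from ⟨y', p', e'⟩)
    obtain ⟨hy', -⟩ := ne_zero_of_pure (e' ▸ image_ne_zero (g := g) (pure_ne_zero hz0 hu))
    obtain ⟨hy₁', hη0⟩ := ne_zero_of_pure (e'' ▸ image_ne_zero (g := g) (pure_ne_zero hz0 hu))
    obtain ⟨c, hc⟩ := (pure_parallel (e''.symm.trans e') hy₁' hη0).2
    obtain ⟨α, δ, hαδ⟩ := Submodule.mem_span_pair.mp hp'
    have hηγ : polarBilin QB γ η = 0 := by
      rw [← hc, ← hαδ, map_smul, map_add, map_smul, map_smul, Orth.polar_self_of_sing QB hγ, hγp, smul_zero, smul_zero,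
        add_zero, smul_zero]
    have hηH : η ∈ H := ⟨u, mem_kerRow.mpr (by rw [e'', cB_pure, hηγ, zero_smul]), readSnd_eq hζ e''⟩
    have hc0 : c ≠ 0 := fun e0 => hη0 (by rw [← hc, e0, zero_smul])
    rcases eq_or_ne δ 0 with hδ | hδ
    · exfalso
      rw [hδ, zero_smul, add_zero] at hαδ
      obtain ⟨d, rfl⟩ := same_snd_inv X hab' hg e (show g ▷ pure z u = pure (α • y') γ by
        rw [e', ← hαδ, pure_smul_right, pure_smul_left]) hx0 hw0 hz0 hu
      have hd : d ≠ 0 := fun e0 => hu (by rw [e0, zero_smul])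
      refine hzS (mem_col.mpr ⟨d⁻¹ • (α • y'), ?_⟩)
      rw [pure_smul_left, show pure (α • y') γ = g ▷ pure z (d • w) by
        rw [e', ← hαδ, pure_smul_right, pure_smul_left], ← Matrix.mulVec_smul, ← pure_smul_right, inv_smul_smul₀ hd]
    · have hp : p = δ⁻¹ • (c⁻¹ • η - α • γ) := by
        rw [show c⁻¹ • η = p' by rw [← hc, inv_smul_smul₀ hc0], ← hαδ, add_sub_cancel_left, inv_smul_smul₀ hδ]
      rw [hp]
      exact Submodule.smul_mem _ _ (Submodule.sub_mem _ (Submodule.smul_mem _ _ (Submodule.mem_sup_left hηH))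
        (Submodule.mem_sup_right (Submodule.smul_mem _ _ (Submodule.mem_span_singleton_self γ))))
  have h1 : b ≤ finrank F K + 2 := by
    have h2 := (Submodule.finrank_mono hcov).trans (Submodule.finrank_add_le_finrank_add_finrank _ _)
    have h3 : finrank F H ≤ finrank F K := Submodule.finrank_map_le _ _
    have h4 : finrank F (⊤ : Submodule F (Fin b → F)) ≤ finrank F (LinearMap.ker (polarBilin QB γ)) + 1 :=
      (finrank_inf_ker _ _).trans (Nat.add_le_add_right (Submodule.finrank_mono inf_le_right) 1)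
    rw [finrank_top, Module.finrank_fin_fun] at h4
    rw [finrank_span_singleton hγ0] at h2
    omega
  -- the orthogonal of the range
  set L := (cB QB γ).comp ((Matrix.mulVecLin (g : Matrix (Fin a × Fin b) (Fin a × Fin b) F)).comp (right z)) with hL
  obtain ⟨ξ, hξ⟩ := exists_dot_one hw0
  let ψ : (Fin a → F) →ₗ[F] (Fin a → F) := (ctr ξ).comp
    ((Matrix.mulVecLin ((g⁻¹ : GL (Fin a × Fin b) F) : Matrix (Fin a × Fin b) (Fin a × Fin b) F)).comp (left γ))
  set O := LinearMap.BilinForm.orthogonal (polarBilin QA) (LinearMap.range L) with hO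
  have hOψ : ∀ y' ∈ O, g⁻¹ ▷ pure y' γ = pure (ψ y') w ∧ polarBilin QA z (ψ y') = 0 := by
    intro y' hy'
    have hk : cA QA z (g⁻¹ ▷ pure y' γ) = 0 := cA_eq_zero hS fun u => by
      rw [← Orth.iso_polar (X.hM.pres hg), mulVec_mulVec_inv, quad_polar_comm, B_left hS, quad_polar_comm]
      exact hy' _ ⟨u, rfl⟩
    obtain ⟨x'', w', h⟩ := pure_of_good X hab' (M.inv_mem hg) ⟨y', γ, rfl⟩ (good_of_kill hS hab hz0 hk)
    obtain ⟨x''', h'⟩ := col_snd X hab' (M.inv_mem hg) (x := y) (u := γ) (y := x) (v := w)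
      (by rw [← e, mulVec_inv_mulVec]) hy hγ0 ⟨x'', w', h⟩
    have hx'' : ψ y' = x''' := by
      show ctr ξ (g⁻¹ ▷ pure y' γ) = x'''
      rw [h', ctr_pure, hξ, one_smul]
    rw [h', cA_pure, smul_eq_zero] at hk
    exact ⟨by rw [hx'', h'], by rw [hx'']; exact hk.resolve_right hw0⟩
  have hψ : finrank F O ≤ finrank F ↥(S ⊓ LinearMap.ker (polarBilin QA z)) := by
    have hinj : Function.Injective (ψ.domRestrict O) := fun y' y'' h => Subtype.ext
      (pure_left_cancel hγ0 (Matrix.mulVec_injective_of_isUnit (g⁻¹).isUnit ((hOψ _ y'.2).1.trans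
        ((congrArg (fun t => pure t w) h).trans (hOψ _ y''.2).1.symm))))
    rw [← LinearMap.finrank_range_of_inj hinj]
    refine Submodule.finrank_mono ?_
    rintro _ ⟨⟨y', hy'⟩, rfl⟩
    exact ⟨mem_col.mpr ⟨y', by
      show g ▷ pure (ψ y') w = pure y' γ
      rw [← (hOψ y' hy').1, mulVec_mulVec_inv]⟩, (hOψ y' hy').2⟩
  have h5 : finrank F ↥(S ⊓ LinearMap.ker (polarBilin QA z)) < finrank F S :=
    Submodule.finrank_lt_finrank_of_lt (lt_of_le_of_ne inf_le_left fun he => hzx (by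
      have hm : x ∈ S ⊓ LinearMap.ker (polarBilin QA z) := by rw [he]; exact hxS
      exact hm.2))
  have h6 := L.finrank_range_add_finrank_ker
  rw [Module.finrank_fin_fun] at h6
  have h7 : finrank F O = a - finrank F (LinearMap.range L) := by
    rw [hO, LinearMap.BilinForm.finrank_orthogonal hS.ndA, Module.finrank_fin_fun]
  have h8 : finrank F K = finrank F (LinearMap.ker L) := rfl
  omega

/-- A row with singular image point and an orthogonal one: a plane of a column. -/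
theorem col_three (X : Ctx QA QB Q M) (ha3 : a = 3) (hb5 : b = 5) {g : GL (Fin a × Fin b) F} (hg : g ∈ M)
    {x y : Fin a → F} {w₁ γ : Fin b → F} (e : g ▷ pure x w₁ = pure y γ) (hQx : QA x = 0) (hx0 : x ≠ 0)
    (hw0 : w₁ ≠ 0) (hγ : QB γ = 0) :
    ∃ w γ', w ≠ 0 ∧ γ' ≠ 0 ∧ QB γ' = 0 ∧ 2 ≤ finrank F (col g w γ') := by
  classical
  have hab : a + 2 ≤ b := by omega
  have hab' : a < b := by omega
  have hS := X.hS
  obtain ⟨hy, hγ0⟩ := ne_zero_of_pure (e ▸ image_ne_zero (g := g) (pure_ne_zero hx0 hw0))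
  obtain ⟨z, hxz, hQz⟩ := exists_aniso_one hS.ndA X.hac hQx hx0
  have hz0 : z ≠ 0 := fun e0 => hQz (by rw [e0, QuadraticMap.map_zero])
  have hzx : ¬ ∃ c : F, c • x = z := fun ⟨c, hc⟩ => hQz (by rw [← hc, quad_smul, hQx, mul_zero])
  have hxz' : ¬ ∃ c : F, c • z = x := fun ⟨c, hc⟩ => by
    have hc0 : c ≠ 0 := fun e0 => hx0 (by rw [← hc, e0, zero_smul])
    exact hzx ⟨c⁻¹, by rw [← hc, inv_smul_smul₀ hc0]⟩
  have hmk : ∀ {u η : Fin b → F} {y₁ y₂ : Fin a → F}, g ▷ pure x u = pure y₁ η → u ≠ 0 → η ≠ 0 → QB η = 0 →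
      ∀ {u'}, g ▷ pure z u' = pure y₂ η → u' ≠ 0 →
      ∃ w γ', w ≠ 0 ∧ γ' ≠ 0 ∧ QB γ' = 0 ∧ 2 ≤ finrank F (col g w γ') := by
    intro u η y₁ y₂ h1 hu hη0 hη u' h2 hu'
    obtain ⟨c, rfl⟩ := same_snd_inv X hab' hg h1 h2 hx0 hu hz0 hu'
    have hc0 : c ≠ 0 := fun e0 => hu' (by rw [e0, zero_smul])
    refine ⟨u, η, hu, hη0, hη, ?_⟩
    have hzc : z ∈ col g u η := mem_col.mpr ⟨c⁻¹ • y₂, by
      rw [pure_smul_left, ← h2, ← Matrix.mulVec_smul, ← pure_smul_right, inv_smul_smul₀ hc0]⟩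
    have hlt : (F ∙ x) < col g u η := lt_of_le_of_ne
      ((Submodule.span_singleton_le_iff_mem _ _).mpr (mem_col.mpr ⟨_, h1⟩)) fun he => hzx
        (Submodule.mem_span_singleton.mp (he ▸ hzc))
    have := Submodule.finrank_lt_finrank_of_lt hlt
    rw [finrank_span_singleton hx0] at this
    omega
  have hperp : ∀ {s t : Fin a → F} {u₀ η₀ : Fin b → F} {y₀ : Fin a → F}, g ▷ pure s u₀ = pure y₀ η₀ →
      polarBilin QA s t = 0 → s ≠ 0 → u₀ ≠ 0 → QB η₀ = 0 → (¬ ∃ c : F, c • s = t) →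
      3 ≤ finrank F (kerRow QB g t η₀) ∧ ∀ u ∈ kerRow QB g t η₀, IsPure (g ▷ pure t u) := by
    intro s t u₀ η₀ y₀ h hst hs0 hu₀ hη₀ hts
    refine ⟨?_, fun u hu => pure_of_perp X hab hg h hs0 hu₀ hη₀ hts (mem_kerRow.mp hu)⟩
    have := kerRow_dim hS (g := g) (x := t) (γ := η₀)
      (ne_zero_of_pure (h ▸ image_ne_zero (g := g) (pure_ne_zero hs0 hu₀))).1 fun u => by
      rw [← B_left hS, ← h, Orth.iso_polar (X.hM.pres hg), hS.form, hst, zero_mul]
    omega
  obtain ⟨hKd, hKp⟩ := hperp e hxz hx0 hw0 hγ hzx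
  obtain ⟨u₂, hu₂, hu₂0⟩ := Submodule.exists_mem_ne_zero_of_ne_bot (p := kerRow QB g z γ) fun h => by
    rw [h, finrank_bot] at hKd; omega
  obtain ⟨yz, η₂, e₂⟩ := hKp u₂ hu₂
  obtain ⟨H, hHd, hH⟩ := row_image X hab' hg e₂ hz0 hu₂0 _ hKp
  have hyz := (ne_zero_of_pure (e₂ ▸ image_ne_zero (g := g) (pure_ne_zero hz0 hu₂0))).1
  have hHγ : H ≤ LinearMap.ker (polarBilin QB γ) := fun η hη => by
    obtain ⟨u, hu, h⟩ := hH η hη
    have h1 := mem_kerRow.mp hu
    rw [h, cB_pure, smul_eq_zero] at h1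
    exact h1.resolve_right hyz
  by_cases hγH : γ ∈ H
  · obtain ⟨u, -, h⟩ := hH γ hγH
    refine hmk e hw0 hγ0 hγ h fun e0 => ?_
    rw [e0, pure_zero_right, Matrix.mulVec_zero] at h
    exact pure_ne_zero hyz hγ0 h.symm
  obtain ⟨γ', -, hγγ'⟩ := exists_partner' hS.ndB hγ hγ0
  have hkγ := finrank_ker_lt (φ := polarBilin QB γ) (v := γ') (by rw [hγγ']; exact one_ne_zero)
  have hHlt : finrank F H + 1 ≤ finrank F ↥(H ⊔ F ∙ γ) :=
    Submodule.finrank_lt_finrank_of_lt (lt_of_le_of_ne le_sup_left fun he =>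
      hγH (he ▸ Submodule.mem_sup_right (Submodule.mem_span_singleton_self γ)))
  have hsup : H ⊔ F ∙ γ = LinearMap.ker (polarBilin QB γ) := Submodule.eq_of_le_of_finrank_le
    (sup_le hHγ ((Submodule.span_singleton_le_iff_mem _ _).mpr (Orth.polar_self_of_sing QB hγ)))
    (by omega)
  have hHnd : Nd QB H := by
    intro h hh hh0
    by_contra hc
    push Not at hc
    have hmem : h ∈ F ∙ γ := by
      by_contra hn
      obtain ⟨q, hq, hq1⟩ := Orth.exists_dual hS.ndB _ hn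
      have hqk : q ∈ H ⊔ F ∙ γ := by
        rw [hsup]
        show polarBilin QB γ q = 0
        rw [quad_polar_comm]; exact hq γ (Submodule.mem_span_singleton_self γ)
      obtain ⟨q₁, hq₁, q₂, hq₂, rfl⟩ := Submodule.mem_sup.mp hqk
      obtain ⟨c, rfl⟩ := Submodule.mem_span_singleton.mp hq₂
      rw [map_add, LinearMap.add_apply, map_smul, LinearMap.smul_apply, quad_polar_comm QB q₁ h, hc q₁ hq₁,
        show polarBilin QB γ h = 0 from hHγ hh, smul_zero, add_zero] at hq1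
      exact zero_ne_one hq1
    obtain ⟨c, rfl⟩ := Submodule.mem_span_singleton.mp hmem
    have hc0 : c ≠ 0 := fun e0 => hh0 (by rw [e0, zero_smul])
    exact hγH (by simpa [smul_smul, inv_mul_cancel₀ hc0] using H.smul_mem c⁻¹ hh)
  have hrimz : finrank F (kerRow QB g z γ) ≤ finrank F (rim g z yz) :=
    hHd.trans (Submodule.finrank_mono fun η hη => by
      obtain ⟨u, -, h⟩ := hH η hη
      exact mem_rim.mpr ⟨u, h⟩)
  have hback : ∀ {η}, η ∈ H → η ≠ 0 → ∃ u, u ≠ 0 ∧ g ▷ pure z u = pure yz η := fun {η} hη hη0 => by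
    obtain ⟨u, -, h⟩ := hH η hη
    refine ⟨u, fun e0 => ?_, h⟩
    rw [e0, pure_zero_right, Matrix.mulVec_zero] at h
    exact pure_ne_zero hyz hη0 h.symm
  have hbackx : ∀ {η}, η ∈ rim g x y → η ≠ 0 → ∃ u, u ≠ 0 ∧ g ▷ pure x u = pure y η := fun {η} hη hη0 => by
    obtain ⟨u, h⟩ := mem_rim.mp hη
    refine ⟨u, fun e0 => ?_, h⟩
    rw [e0, pure_zero_right, Matrix.mulVec_zero] at h
    exact pure_ne_zero hy hη0 h.symm
  have horth : ∀ (T : Submodule F (Fin b → F)), (∀ η ∈ T, ∀ h ∈ H, polarBilin QB η h = 0) → finrank F T ≤ 2 :=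
    fun T hT => by
      have h1 : T ≤ LinearMap.BilinForm.orthogonal (polarBilin QB) H := fun η hη h hh => by
        show polarBilin QB h η = 0
        rw [quad_polar_comm]; exact hT η hη h hh
      have h2 := Submodule.finrank_mono h1
      rw [LinearMap.BilinForm.finrank_orthogonal hS.ndB, Module.finrank_fin_fun] at h2
      omega
  -- the row of `x` is large
  have hrimx : 4 ≤ finrank F (rim g x y) := by
    by_contra hd
    have hHker : ∀ η₃ ∈ H, QB η₃ = 0 → ∀ η ∈ rim g x y, polarBilin QB η η₃ = 0 := by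
      intro η₃ hη₃ hQ₃ η hη
      rcases eq_or_ne η₃ 0 with rfl | h30
      · rw [map_zero]
      obtain ⟨u₃, hu₃, e₃⟩ := hback hη₃ h30
      obtain ⟨h3, h4⟩ := hperp e₃ (by rw [quad_polar_comm]; exact hxz) hz0 hu₃ hQ₃ hxz'
      obtain ⟨H₂, hH₂d, hH₂⟩ := row_image X hab' hg e hx0 hw0 _ h4
      have heq : H₂ = rim g x y := Submodule.eq_of_le_of_finrank_le (fun v hv => by
        obtain ⟨u, -, h⟩ := hH₂ v hv
        exact mem_rim.mpr ⟨u, h⟩) (by omega)
      obtain ⟨u, hu, h⟩ := hH₂ η (heq ▸ hη)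
      have h1 := mem_kerRow.mp hu
      rw [h, cB_pure, smul_eq_zero] at h1
      rw [quad_polar_comm]
      exact h1.resolve_right hy
    have h3 : 3 ≤ finrank F H := by omega
    obtain ⟨η₃, hη₃, h30, hQ₃⟩ := Orth.exists_singular (Q := QB) H h3
    obtain ⟨u₃, hu₃, e₃⟩ := hback hη₃ h30
    obtain ⟨hk3, hk4⟩ := hperp e₃ (by rw [quad_polar_comm]; exact hxz) hz0 hu₃ hQ₃ hxz'
    obtain ⟨H₂, hH₂d, hH₂⟩ := row_image X hab' hg e hx0 hw0 _ hk4
    have hr3 : 3 ≤ finrank F (rim g x y) := le_trans (le_trans hk3 hH₂d) (Submodule.finrank_mono fun v hv => by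
      obtain ⟨u, -, h⟩ := hH₂ v hv
      exact mem_rim.mpr ⟨u, h⟩)
    have := horth (rim g x y) fun η hη h hh => by
      have hs := nd_span hS.ndB hHnd h3 hh
      clear hh
      induction hs using Submodule.span_induction with
      | mem v hv => exact hHker v hv.1 hv.2 η hη
      | zero => rw [map_zero]
      | add p q _ _ hp hq => rw [map_add, hp, hq, add_zero]
      | smul c p _ hp => rw [map_smul, hp, smul_zero]
    omega
  by_cases hz4 : 4 ≤ finrank F (rim g z yz)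
  · obtain ⟨η, hη, hη0, hQη⟩ := Orth.exists_singular (Q := QB) (rim g x y ⊓ rim g z yz) (by
      have h1 := Submodule.finrank_sup_add_finrank_inf_eq (rim g x y) (rim g z yz)
      have h2 := Submodule.finrank_le (rim g x y ⊔ rim g z yz)
      rw [Module.finrank_fin_fun] at h2
      omega)
    obtain ⟨u, hu, h⟩ := hbackx hη.1 hη0
    obtain ⟨u', h'⟩ := mem_rim.mp hη.2
    refine hmk h hu hη0 hQη h' fun e0 => ?_
    rw [e0, pure_zero_right, Matrix.mulVec_zero] at h'
    exact pure_ne_zero hyz hη0 h'.symm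
  exfalso
  -- a hyperplane inside the row of `x`
  obtain ⟨c, hc0, hc⟩ : ∃ c, c ≠ 0 ∧ LinearMap.ker (polarBilin QB c) ≤ rim g x y := by
    set O := LinearMap.BilinForm.orthogonal (polarBilin QB) (rim g x y) with hO
    have hOd : finrank F O ≤ 1 := by
      rw [hO, LinearMap.BilinForm.finrank_orthogonal hS.ndB, Module.finrank_fin_fun]; omega
    obtain ⟨c, hc0, hOc⟩ : ∃ c, c ≠ 0 ∧ O ≤ F ∙ c := by
      rcases eq_or_ne O ⊥ with h | h
      · exact ⟨γ, hγ0, by rw [h]; exact bot_le⟩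
      · obtain ⟨r, hr, hr0⟩ := (Submodule.ne_bot_iff O).mp h
        exact ⟨r, hr0, (Submodule.eq_of_le_of_finrank_le ((Submodule.span_singleton_le_iff_mem _ _).mpr hr)
          (by rw [finrank_span_singleton hr0]; exact hOd)).ge⟩
    refine ⟨c, hc0, fun v hv => ?_⟩
    by_contra hn
    obtain ⟨q, hq, hq1⟩ := Orth.exists_dual hS.ndB _ hn
    obtain ⟨d, rfl⟩ := Submodule.mem_span_singleton.mp (hOc (show q ∈ O from fun r hr => by
      show polarBilin QB r q = 0
      rw [quad_polar_comm]; exact hq r hr))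
    rw [map_smul, LinearMap.smul_apply, show polarBilin QB c v = 0 from hv, smul_zero] at hq1
    exact zero_ne_one hq1
  have hle : rim g z yz ≤ F ∙ c := by
    intro η hη
    by_contra hn
    obtain ⟨q, hq, hq1⟩ := Orth.exists_dual hS.ndB _ hn
    have hqc : polarBilin QB c q = 0 := by
      rw [quad_polar_comm]; exact hq c (Submodule.mem_span_singleton_self c)
    have hzero : polarBilin QB q η = 0 := by
      have hs := gen_span_sing hS.ndB {c} (by simp; omega) (x := q) (fun r hr => by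
        rw [Finset.mem_singleton.mp hr]; exact hqc)
      clear hq hq1 hqc
      induction hs using Submodule.span_induction with
      | mem v hv =>
        rcases eq_or_ne v 0 with rfl | hv0
        · rw [map_zero, LinearMap.zero_apply]
        obtain ⟨u₃, hu₃, e₃⟩ := hbackx (hc (show polarBilin QB c v = 0 from hv.2 c (by simp))) hv0
        obtain ⟨h3, h4⟩ := hperp e₃ hxz hx0 hu₃ hv.1 hzx
        obtain ⟨H₂, hH₂d, hH₂⟩ := row_image X hab' hg e₂ hz0 hu₂0 _ h4
        have heq : H₂ = rim g z yz := Submodule.eq_of_le_of_finrank_le (fun r hr => by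
          obtain ⟨u, -, h⟩ := hH₂ r hr
          exact mem_rim.mpr ⟨u, h⟩) (by omega)
        obtain ⟨u, hu, h⟩ := hH₂ η (heq ▸ hη)
        have h1 := mem_kerRow.mp hu
        rw [h, cB_pure, smul_eq_zero] at h1
        exact h1.resolve_right hyz
      | zero => rw [map_zero, LinearMap.zero_apply]
      | add p r _ _ hp hr => rw [map_add, LinearMap.add_apply, hp, hr, add_zero]
      | smul d p _ hp => rw [map_smul, LinearMap.smul_apply, hp, smul_zero]
    rw [hzero] at hq1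
    exact zero_ne_one hq1
  have := Submodule.finrank_mono hle
  rw [finrank_span_singleton hc0] at this
  omega

/-- A large column is everything. -/
theorem col_top (X : Ctx QA QB Q M) (hab : a + 2 ≤ b) {g : GL (Fin a × Fin b) F} (hg : g ∈ M)
    {w γ : Fin b → F} (hw0 : w ≠ 0) (hγ0 : γ ≠ 0) (hγ : QB γ = 0) (h2 : 2 ≤ finrank F (col g w γ))
    (hbig : a ≤ finrank F (col g w γ) + 1) : col g w γ = ⊤ := by
  classical
  by_contra hne
  have hab' : a < b := by omega
  have hS := X.hS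
  set S := col g w γ with hSdef
  have hlt : finrank F S < a := by
    have := Submodule.finrank_lt_finrank_of_lt (lt_top_iff_ne_top.mpr hne)
    rwa [finrank_top, Module.finrank_fin_fun] at this
  set O := LinearMap.BilinForm.orthogonal (polarBilin QA) S with hO
  have hOd : finrank F O = 1 := by
    rw [hO, LinearMap.BilinForm.finrank_orthogonal hS.ndA, Module.finrank_fin_fun]; omega
  obtain ⟨c, hc, hc0⟩ := (Submodule.ne_bot_iff O).mp fun e => by rw [e, finrank_bot] at hOd; omega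
  have hcS : ∀ s ∈ S, polarBilin QA s c = 0 := fun s hs => hc s hs
  obtain ⟨ζ, -, hζ⟩ := Orth.exists_dual hS.ndB ⊥ (x := γ) (by simpa using hγ0)
  let α : (Fin a → F) →ₗ[F] (Fin a → F) := (cB QB ζ).comp
    ((Matrix.mulVecLin (g : Matrix (Fin a × Fin b) (Fin a × Fin b) F)).comp (left w))
  have hα : ∀ s ∈ S, g ▷ pure s w = pure (α s) γ := fun s hs => by
    obtain ⟨y, h⟩ := mem_col.mp hs
    rw [show α s = cB QB ζ (g ▷ pure s w) from rfl, h, cB_pure, hζ, one_smul]
  have hαd : finrank F S ≤ finrank F (S.map α) := by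
    have hinj : Function.Injective (α.domRestrict S) := fun s s' h => Subtype.ext
      (pure_left_cancel hw0 (Matrix.mulVec_injective_of_isUnit g.isUnit ((hα _ s.2).trans
        ((congrArg (fun t => pure t γ) h).trans (hα _ s'.2).symm))))
    rw [← LinearMap.finrank_range_of_inj hinj, LinearMap.range_domRestrict]
  obtain ⟨s₀, hs₀S, hs₀c⟩ := exists_outside (F ∙ c) (X := S) (by rw [finrank_span_singleton hc0]; omega)
  have hs₀0 : s₀ ≠ 0 := fun e0 => hs₀c (e0 ▸ Submodule.zero_mem _)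
  have hcs₀ : ¬ ∃ k : F, k • s₀ = c := fun ⟨k, hk⟩ => hs₀c (Submodule.mem_span_singleton.mpr
    ⟨k⁻¹, by rw [← hk, inv_smul_smul₀ (fun e0 => hc0 (by rw [← hk, e0, zero_smul]))]⟩)
  -- the row of `c`
  set L := (cB QB γ).comp ((Matrix.mulVecLin (g : Matrix (Fin a × Fin b) (Fin a × Fin b) F)).comp (right c)) with hL
  have hLr : finrank F (LinearMap.range L) ≤ 1 := by
    have h1 : LinearMap.range L ≤ LinearMap.BilinForm.orthogonal (polarBilin QA) (S.map α) := by
      rintro _ ⟨u, rfl⟩ _ ⟨s, hs, rfl⟩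
      show polarBilin QA (α s) (cB QB γ (g ▷ pure c u)) = 0
      rw [← B_left hS, ← hα s hs, Orth.iso_polar (X.hM.pres hg), hS.form, hcS s hs, zero_mul]
    have h2 := Submodule.finrank_mono h1
    rw [LinearMap.BilinForm.finrank_orthogonal hS.ndA, Module.finrank_fin_fun] at h2
    omega
  have hKp : ∀ u ∈ kerRow QB g c γ, IsPure (g ▷ pure c u) := fun u hu =>
    pure_of_perp X hab hg (hα s₀ hs₀S) hs₀0 hw0 hγ hcs₀ (mem_kerRow.mp hu)
  have hKd : b ≤ finrank F (kerRow QB g c γ) + 1 := by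
    have := L.finrank_range_add_finrank_ker
    rw [Module.finrank_fin_fun] at this
    show b ≤ finrank F (LinearMap.ker L) + 1
    omega
  obtain ⟨u₀, hu₀, hu₀0⟩ := Submodule.exists_mem_ne_zero_of_ne_bot (p := kerRow QB g c γ) fun h => by
    rw [h, finrank_bot] at hKd; omega
  obtain ⟨yc, η₀, e₀⟩ := hKp u₀ hu₀
  have hyc := (ne_zero_of_pure (e₀ ▸ image_ne_zero (g := g) (pure_ne_zero hc0 hu₀0))).1
  obtain ⟨H, hHd, hH⟩ := row_image X hab' hg e₀ hc0 hu₀0 _ hKp
  have hHle : H ≤ LinearMap.ker (polarBilin QB γ) := fun η hη => by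
    obtain ⟨u, hu, h⟩ := hH η hη
    have h1 := mem_kerRow.mp hu
    rw [h, cB_pure, smul_eq_zero] at h1
    exact h1.resolve_right hyc
  obtain ⟨γ', hγ', hγγ'⟩ := exists_partner' hS.ndB hγ hγ0
  have hHeq : H = LinearMap.ker (polarBilin QB γ) := Submodule.eq_of_le_of_finrank_le hHle (by
    have := finrank_ker_lt (φ := polarBilin QB γ) (v := γ') (by rw [hγγ']; exact one_ne_zero)
    omega)
  have hnz : ∀ {u η : Fin b → F}, g ▷ pure c u = pure yc η → η ≠ 0 → u ≠ 0 := fun {u η} h hη e0 => by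
    rw [e0, pure_zero_right, Matrix.mulVec_zero] at h
    exact pure_ne_zero hyc hη h.symm
  obtain ⟨uγ, -, hγc⟩ := hH γ (hHeq ▸ Orth.polar_self_of_sing QB hγ)
  obtain ⟨d, rfl⟩ := same_snd_inv X hab' hg (hα s₀ hs₀S) hγc hs₀0 hw0 hc0 (hnz hγc hγ0)
  have hd : d ≠ 0 := fun e0 => hnz hγc hγ0 (by rw [e0, zero_smul])
  have hcmem : c ∈ S := mem_col.mpr ⟨d⁻¹ • yc, by
    rw [pure_smul_left, ← hγc, ← Matrix.mulVec_smul, ← pure_smul_right, inv_smul_smul₀ hd]⟩
  set y := α c with hydef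
  have hcy : g ▷ pure c w = pure y γ := hα c hcmem
  have hy0 : y ≠ 0 := (ne_zero_of_pure (hcy ▸ image_ne_zero (g := g) (pure_ne_zero hc0 hw0))).1
  -- a singular point of the image row
  obtain ⟨η, hη, hη0, hQη⟩ := Orth.exists_singular (Q := QB) (perp QB (perp QB ⊤ γ) γ') (by
    have := finrank_perp_two (Q := QB) γ γ'
    rw [Fintype.card_fin] at this
    have := X.hb
    omega)
  have hγη : polarBilin QB γ η = 0 := hη.1.2
  have hηn : η ∉ F ∙ γ := fun hm => by
    obtain ⟨k, rfl⟩ := Submodule.mem_span_singleton.mp hm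
    have h2 : polarBilin QB γ' (k • γ) = 0 := hη.2
    rw [map_smul, quad_polar_comm, hγγ', smul_eq_mul, mul_one] at h2
    exact hη0 (by rw [h2, zero_smul])
  obtain ⟨κ₀, -, hκ₀⟩ := hH η (hHeq ▸ hγη)
  obtain ⟨κ, hκ⟩ : ∃ κ, g ▷ pure c κ = pure y η := by
    obtain ⟨k, hk⟩ := same_fst X hab' hg hκ₀ hcy hc0 (hnz hκ₀ hη0) hw0
    exact ⟨k • κ₀, by rw [pure_smul_right, Matrix.mulVec_smul, hκ₀, ← pure_smul_left, hk]⟩
  have hκ0 : κ ≠ 0 := fun e0 => by
    rw [e0, pure_zero_right, Matrix.mulVec_zero] at hκ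
    exact pure_ne_zero hy0 hη0 hκ.symm
  -- similitudes
  obtain ⟨a0, a1, -, -, ha01⟩ := exists_hyp hS.ndA X.hac
  obtain ⟨b0, b1, -, -, hb01⟩ := exists_hyp hS.ndB X.hbc
  obtain ⟨σ, h, hσM, h1, h3⟩ := exists_kr_pair X hab' hg hcy hκ
  have hsim : ∀ x u x' u', polarBilin QA (σ ▷ x) (σ ▷ x') * polarBilin QB (h ▷ u) (h ▷ u') =
      polarBilin QA x x' * polarBilin QB u u' := fun x u x' u' => by
    rw [← hS.form, ← hS.form, ← kr_pure (σ, h), ← kr_pure (σ, h), Orth.iso_polar (X.hM.pres hσM)]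
  obtain ⟨k₁, hk₁⟩ := (pure_parallel h1.symm (ne_zero_of_pure (h1 ▸ pure_ne_zero hy0 hγ0)).1
    (ne_zero_of_pure (h1 ▸ pure_ne_zero hy0 hγ0)).2).2
  obtain ⟨k₃, hk₃⟩ := (pure_parallel h3.symm (ne_zero_of_pure (h3 ▸ pure_ne_zero hy0 hη0)).1
    (ne_zero_of_pure (h3 ▸ pure_ne_zero hy0 hη0)).2).2
  have hwκ : polarBilin QB w κ = 0 := by
    have := hsim a0 w a1 κ
    rw [← hk₁, ← hk₃, map_smul, map_smul, LinearMap.smul_apply, hγη, smul_zero, smul_zero, mul_zero, ha01,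
      one_mul] at this
    exact this.symm
  have hww : polarBilin QB w w = 0 := by
    have := hsim a0 w a1 w
    rw [← hk₁, map_smul, map_smul, LinearMap.smul_apply, Orth.polar_self_of_sing QB hγ, smul_zero, smul_zero,
      mul_zero, ha01, one_mul] at this
    exact this.symm
  have hYy : ∀ s ∈ S, polarBilin QA (α s) y = 0 := by
    intro s hs
    rcases eq_or_ne s 0 with rfl | hs0
    · rw [map_zero, map_zero, LinearMap.zero_apply]
    obtain ⟨σ', h', hσM', h1', h3'⟩ := exists_kr_pair X hab' hg (hα s hs) hcy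
    have hyne : pure (α s) γ ≠ 0 := (hα s hs) ▸ image_ne_zero (g := g) (pure_ne_zero hs0 hw0)
    obtain ⟨l₁, hl₁⟩ := (pure_parallel h1' (ne_zero_of_pure hyne).1 hγ0).1
    obtain ⟨l₃, hl₃⟩ := (pure_parallel h3' hy0 hγ0).1
    rw [← hl₁, ← hl₃, map_smul, map_smul, LinearMap.smul_apply]
    have := Orth.iso_polar (X.hM.pres hσM') (pure s b0) (pure c b1)
    rw [kr_pure, kr_pure, hS.form, hS.form, hcS s hs, zero_mul] at this
    have hne : polarBilin QB (h' ▷ b0) (h' ▷ b1) ≠ 0 := fun e0 => by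
      have := Orth.iso_polar (X.hM.pres hσM') (pure a0 b0) (pure a1 b1)
      rw [kr_pure, kr_pure, hS.form, hS.form, e0, mul_zero, ha01, hb01, one_mul] at this
      exact zero_ne_one this
    rw [(mul_eq_zero.mp this).resolve_right hne, smul_zero, smul_zero]
  have hY : S.map α = LinearMap.ker (polarBilin QA y) := Submodule.eq_of_le_of_finrank_le (by
      rintro _ ⟨s, hs, rfl⟩
      show polarBilin QA y (α s) = 0
      rw [quad_polar_comm]; exact hYy s hs) (by
    obtain ⟨q, -, hq⟩ := Orth.exists_dual hS.ndA ⊥ (x := y) (by simpa using hy0)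
    have := finrank_ker_lt (φ := polarBilin QA y) (v := q) (by rw [quad_polar_comm, hq]; exact one_ne_zero)
    omega)
  -- the contradiction
  obtain ⟨z, -, hzc⟩ := Orth.exists_dual hS.ndA ⊥ (x := c) (by simpa using hc0)
  have hzS : z ∉ S := fun hz => zero_ne_one ((hcS z hz).symm.trans hzc)
  have hz0 : z ≠ 0 := fun e0 => hzS (e0 ▸ S.zero_mem)
  set v := g ▷ pure z w with hv
  obtain ⟨lam, hlam⟩ : ∃ lam : F, lam • y = cB QB γ v := by
    refine Submodule.mem_span_singleton.mp ?_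
    by_contra hn
    obtain ⟨q, hq, hq1⟩ := Orth.exists_dual hS.ndA _ hn
    have hqY : q ∈ S.map α := by
      rw [hY]
      show polarBilin QA y q = 0
      rw [quad_polar_comm]; exact hq y (Submodule.mem_span_singleton_self y)
    obtain ⟨s, hs, rfl⟩ := hqY
    rw [← B_left hS, ← hα s hs, hv, Orth.iso_polar (X.hM.pres hg), hS.form, hww, mul_zero] at hq1
    exact zero_ne_one hq1
  obtain ⟨s, hs, hsv⟩ : ∃ s ∈ S, α s = cB QB η v := by
    have hm : cB QB η v ∈ S.map α := by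
      rw [hY]
      show polarBilin QA y (cB QB η v) = 0
      rw [← B_left hS, ← hκ, hv, Orth.iso_polar (X.hM.pres hg), hS.form, quad_polar_comm QB κ w, hwκ, mul_zero]
    exact hm
  have hXv : (g⁻¹ * tT QB γ η hγ hγη * g) ▷ pure z w = pure (z - s) w + pure (lam • c) κ := by
    rw [mulVec_mul, mulVec_mul, ← hv, tT_sing hγ hγη hQη, dd_apply, ← hlam, ← hsv, ← hα s hs, pure_smul_left,
      ← hκ, Matrix.mulVec_add, Matrix.mulVec_sub, Matrix.mulVec_smul, hv, mulVec_inv_mulVec, mulVec_inv_mulVec,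
      mulVec_inv_mulVec, pure_smul_left]
    funext q
    simp [Tensor.pure]
    ring
  obtain ⟨x', u', e'⟩ := pure_of_good X hab' (M.mul_mem (M.mul_mem (M.inv_mem hg) (one_eich_mem X hγ hγη)) hg)
    ⟨z, w, rfl⟩ (hXv ▸ good_sum_two X (z - s) (lam • c) w κ)
  rw [hXv] at e'
  have hzs : z - s ∉ S := fun hm => hzS (by simpa using S.add_mem hm hs)
  have hlam0 : lam = 0 := by
    by_contra hl
    obtain ⟨k, hk⟩ := pure_add_pure e' (fun ⟨k, hk⟩ => hzs (by
      have hk0 : k ≠ 0 := fun e0 => smul_ne_zero hl hc0 (by rw [← hk, e0, zero_smul])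
      rw [show z - s = k⁻¹ • (lam • c) by rw [← hk, inv_smul_smul₀ hk0]]
      exact S.smul_mem _ (S.smul_mem _ hcmem))) (fun e0 => hzs (e0 ▸ S.zero_mem)) hw0
    rw [← hk, pure_smul_right, Matrix.mulVec_smul, hcy, ← pure_smul_right] at hκ
    exact hηn (Submodule.mem_span_singleton.mpr ⟨k, pure_right_cancel hy0 hκ⟩)
  have hsz : ¬ ∃ k : F, k • s₀ = z := fun ⟨k, hk⟩ => hzS (hk ▸ S.smul_mem k hs₀S)
  obtain ⟨y', hy'⟩ := col_snd X hab' hg (hα s₀ hs₀S) hs₀0 hw0
    (pure_of_perp X hab hg (hα s₀ hs₀S) hs₀0 hw0 hγ hsz (u := w) (by rw [← hv, ← hlam, hlam0, zero_smul]))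
  exact hzS (mem_col.mpr ⟨y', hy'⟩)

/-- The dichotomy. -/
theorem dichotomy (hS : Setting QA QB Q) (hM : Grp QA QB Q M) (ha : 3 ≤ a) (hb : 5 ≤ b) (hab : a + 2 ≤ b)
    (hA : a = 4 → ∀ e c : Fin a → F, QA e = 0 → QA c = 0 → polarBilin QA e c = 0 → c ∈ F ∙ e ∨ e = 0)
    (hq : 5 ≤ a ∨ ∃ s : F, s ≠ 0 ∧ s * s ≠ 1) (hside : a + 3 ≤ b ∨ Odd b) :
    Cfsg.Geo.omegaGL ⇑Q ≤ M ∨ M ≤ Cfsg.Geo.kroneckerSubgroup a b F := by
  by_cases hno : Cfsg.Geo.omegaGL ⇑Q ≤ M
  · exact Or.inl hno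
  refine Or.inr fun g hg => ?_
  have X : Ctx QA QB Q M := ⟨hS, hM, ha, hb, hA, hq, hno⟩
  have hab' : a < b := by omega
  by_cases h3 : a + 3 ≤ b
  · obtain ⟨e, e', he, -, hee'⟩ := exists_hyp hS.ndB X.hbc
    have he0 : e ≠ 0 := fun e0 => by rw [e0, map_zero, LinearMap.zero_apply] at hee'; exact zero_ne_one hee'
    obtain ⟨x, hx⟩ := exists_quad_ne hS.ndA (by rw [Fintype.card_fin]; omega)
    have hx0 : x ≠ 0 := fun e0 => hx (by rw [e0, QuadraticMap.map_zero])
    have hall : ∀ x, IsPure (g ▷ pure x e) := fun x => pure_of_good X hab' hg ⟨x, e, rfl⟩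
      (good_of_rows hS (by
        have := (rows QA (g ▷ pure x e)).finrank_range_le
        rw [Module.finrank_fin_fun] at this
        omega))
    obtain ⟨y, η, h⟩ := hall x
    exact mem_of_map X hg he he0 (ne_zero_of_pure (h ▸ image_ne_zero (g := g) (pure_ne_zero hx0 he0))).2 fun x' =>
      col_snd X hab' hg h hx0 he0 (hall x')
  have hodd : Odd b := hside.resolve_left h3
  obtain ⟨e, e', he, -, hee'⟩ := exists_hyp hS.ndA X.hac
  have he0 : e ≠ 0 := fun e0 => by rw [e0, map_zero, LinearMap.zero_apply] at hee'; exact zero_ne_one hee'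
  obtain ⟨u, y, γ, hu, hγ, h⟩ := exists_sing X hab hodd hg he he0
  obtain ⟨hy, hγ0⟩ := ne_zero_of_pure (h ▸ image_ne_zero (g := g) (pure_ne_zero he0 hu))
  obtain ⟨w, γ', hw, hγ'0, hγ', htop⟩ : ∃ w γ', w ≠ 0 ∧ γ' ≠ 0 ∧ QB γ' = 0 ∧ col g w γ' = ⊤ := by
    by_cases h6 : 6 ≤ b
    · have h1 := col_large X hab h6 hg h he0 hu hγ
      exact ⟨u, γ, hu, hγ0, hγ, col_top X hab hg hu hγ0 hγ (by omega) h1⟩
    · obtain ⟨w, γ', hw, hγ'0, hγ', h2⟩ := col_three X (by omega) (by omega) hg h he he0 hu hγ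
      exact ⟨w, γ', hw, hγ'0, hγ', col_top X hab hg hw hγ'0 hγ' h2 (by omega)⟩
  have hmem : ∀ z, ∃ y, g ▷ pure z w = pure y γ' := fun z => mem_col.mp (htop ▸ Submodule.mem_top)
  obtain ⟨ζ, -, hζ⟩ := Orth.exists_dual hS.ndB ⊥ (x := γ') (by simpa using hγ'0)
  let f : (Fin a → F) →ₗ[F] (Fin a → F) := (cB QB ζ).comp
    ((Matrix.mulVecLin (g : Matrix (Fin a × Fin b) (Fin a × Fin b) F)).comp (left w))
  have hf : ∀ z, g ▷ pure z w = pure (f z) γ' := fun z => by
    obtain ⟨y, h⟩ := hmem z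
    rw [show f z = cB QB ζ (g ▷ pure z w) from rfl, h, cB_pure, hζ, one_smul]
  have hfs : Function.Surjective f := LinearMap.injective_iff_surjective.mp fun z z' h =>
    pure_left_cancel hw (Matrix.mulVec_injective_of_isUnit g.isUnit
      ((hf z).trans ((congrArg (fun t => pure t γ') h).trans (hf z').symm)))
  have := mem_of_map X (M.inv_mem hg) hγ' hγ'0 hw fun y => by
    obtain ⟨z, rfl⟩ := hfs y
    exact ⟨z, by rw [← hf, mulVec_inv_mulVec]⟩
  simpa using Subgroup.inv_mem _ this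

end Cfsg.Agent.Lib.ThreeTransp.TensorOrth
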