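import Cfsg.Agent.Lib.ThreeTransp.TensorOrthMain

/-!
The subgroup `omegaGL` as a commutator, and products inside it.
-/

set_option autoImplicit false
set_option linter.unusedSectionVars false
set_option linter.unusedSimpArgs false

namespace Cfsg.Agent.Lib.ThreeTransp.TensorOrth

open Matrix Module QuadraticMap
open Cfsg.Agent.Lib.MaxSub
open Cfsg.Agent.Lib.ThreeTransp.Tensor
open scoped MatrixGroups Matrix Kronecker commutatorElement

attribute [-simp] QuadraticMap.polarBilin_apply_apply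

local notation:74 g:74 " ▷ " p:73 => Matrix.mulVec (Units.val g) p

theorem omega_eq_commutator {ι : Type} [Fintype ι] [DecidableEq ι] {F : Type*} [Field F] (Q : (ι → F) → F) :
    Cfsg.Geo.omegaGL Q = ⁅Cfsg.isometryGroup F Q, Cfsg.isometryGroup F Q⁆ := by
  rw [Cfsg.Geo.omegaGL, Cfsg.Omega, commutator_def, Subgroup.map_commutator, ← MonoidHom.range_eq_map,
    Subgroup.range_subtype]

/-- An isomorphism carrying one isometry group to another carries one `omegaGL` to the other. -/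
theorem omega_map {ι κ : Type} [Fintype ι] [DecidableEq ι] [Fintype κ] [DecidableEq κ] {F : Type*} [Field F]
    {Q : (ι → F) → F} {R : (κ → F) → F} (φ : GL ι F ≃* GL κ F)
    (h : ∀ g, φ g ∈ Cfsg.isometryGroup F R ↔ g ∈ Cfsg.isometryGroup F Q) (g : GL ι F) :
    φ g ∈ Cfsg.Geo.omegaGL R ↔ g ∈ Cfsg.Geo.omegaGL Q := by
  have hmap : (Cfsg.isometryGroup F Q).map φ.toMonoidHom = Cfsg.isometryGroup F R := by
    ext y
    refine ⟨fun ⟨x, hx, hxy⟩ => hxy ▸ (h x).mpr hx, fun hy => ?_⟩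
    exact ⟨φ.symm y, (h _).mp (by rwa [φ.apply_symm_apply]), φ.apply_symm_apply y⟩
  rw [omega_eq_commutator, omega_eq_commutator, ← hmap, ← Subgroup.map_commutator, Subgroup.mem_map_equiv,
    φ.symm_apply_apply]

variable {a b : ℕ} {F : Type*} [Field F] {QA : QuadraticForm F (Fin a → F)} {QB : QuadraticForm F (Fin b → F)}
  {Q : QuadraticForm F (Fin a × Fin b → F)}

/-- Products of elements of the two commutator subgroups. -/
theorem kr_omega (hS : Setting QA QB Q) {gh : GL (Fin a) F × GL (Fin b) F} (h1 : gh.1 ∈ Cfsg.Geo.omegaGL ⇑QA)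
    (h2 : gh.2 ∈ Cfsg.Geo.omegaGL ⇑QB) : kr gh ∈ Cfsg.Geo.omegaGL ⇑Q := by
  rw [omega_eq_commutator] at h1 h2 ⊢
  have e1 : (Cfsg.isometryGroup F ⇑QA).map (kr.comp (MonoidHom.inl (GL (Fin a) F) (GL (Fin b) F))) ≤
      Cfsg.isometryGroup F ⇑Q := by
    rintro _ ⟨g, hg, rfl⟩
    exact kr_iso hS hg (one_mem _)
  have e2 : (Cfsg.isometryGroup F ⇑QB).map (kr.comp (MonoidHom.inr (GL (Fin a) F) (GL (Fin b) F))) ≤
      Cfsg.isometryGroup F ⇑Q := by
    rintro _ ⟨g, hg, rfl⟩
    exact kr_iso hS (one_mem _) hg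
  have k1 := Subgroup.mem_map_of_mem (kr.comp (MonoidHom.inl (GL (Fin a) F) (GL (Fin b) F))) h1
  have k2 := Subgroup.mem_map_of_mem (kr.comp (MonoidHom.inr (GL (Fin a) F) (GL (Fin b) F))) h2
  rw [Subgroup.map_commutator] at k1 k2
  replace k1 := Subgroup.commutator_mono e1 e1 k1
  replace k2 := Subgroup.commutator_mono e2 e2 k2
  have := Subgroup.mul_mem _ k1 k2
  rwa [MonoidHom.comp_apply, MonoidHom.comp_apply, ← map_mul, MonoidHom.inl_apply, MonoidHom.inr_apply,
    Prod.mk_mul_mk, mul_one, one_mul] at this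

variable [Finite F]

/-- An element of `omegaGL` outside the Kronecker group. -/
theorem exists_outside_kronecker (hS : Setting QA QB Q) (ha : 3 ≤ a) (hb : 3 ≤ b) :
    ∃ g, g ∈ Cfsg.Geo.omegaGL ⇑Q ∧ g ∉ Cfsg.Geo.kroneckerSubgroup a b F := by
  have hac : 3 ≤ Fintype.card (Fin a) := by rw [Fintype.card_fin]; exact ha
  have hbc : 3 ≤ Fintype.card (Fin b) := by rw [Fintype.card_fin]; exact hb
  have hc : 3 ≤ Fintype.card (Fin a × Fin b) := by
    rw [Fintype.card_prod, Fintype.card_fin, Fintype.card_fin]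
    calc 3 = 3 * 1 := rfl
      _ ≤ a * b := Nat.mul_le_mul ha (by omega)
  obtain ⟨s, s', hs, hs', hss⟩ := exists_hyp hS.ndA hac
  obtain ⟨β, β', hβ, -, hββ⟩ := exists_hyp hS.ndB hbc
  obtain ⟨z, hsz, hs'z, hQz⟩ := exists_aniso_pair hS.ndA hac hs hs' hss
  have hu : Q (pure s β) = 0 := sing_left hS hs β
  have hx : polarBilin Q (pure s β) (pure z β) = 0 := by rw [hS.form, hsz, zero_mul]
  refine ⟨_, eich_omega hS.two hS.nd hc hu hx, fun hN => ?_⟩
  obtain ⟨gh, hgh⟩ := mem_kronecker.mp hN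
  have h1 := kr_pure gh s' β'
  rw [hgh, Orth.eichGL_mulVec, hS.form, hS.form, Cfsg.Agent.Lib.Geometry.quad_polar_comm QA s' s, hss,
    Cfsg.Agent.Lib.Geometry.quad_polar_comm QB β' β, hββ, hs'z, sing_right hS z hβ, zero_mul, zero_mul, add_zero,
    one_mul, one_smul, zero_smul, sub_zero] at h1
  have hs'0 : s' ≠ 0 := fun e => by rw [e, map_zero] at hss; exact zero_ne_one hss
  have hβ'0 : β' ≠ 0 := fun e => by rw [e, map_zero] at hββ; exact zero_ne_one hββ
  obtain ⟨k, hk⟩ := pure_add_pure h1 (fun ⟨k, hk⟩ => hQz (by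
    rw [← hk, Cfsg.Agent.Lib.Geometry.quad_smul, hs', mul_zero])) hs'0 hβ'0
  have h2 := congrArg (polarBilin QB β) hk
  rw [map_smul, hββ, Orth.polar_self_of_sing QB hβ, smul_eq_mul, mul_one] at h2
  have hβ0 : β ≠ 0 := fun e => by rw [e, map_zero, LinearMap.zero_apply] at hββ; exact zero_ne_one hββ
  exact hβ0 (by rw [← hk, h2, zero_smul])

end Cfsg.Agent.Lib.ThreeTransp.TensorOrth
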