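import Cfsg.Agent.Lib.ThreeTransp.TensorOrthPure

/-!
Pure images inside totally singular planes.
-/

set_option autoImplicit false
set_option linter.unusedSectionVars false
set_option linter.unusedSimpArgs false

namespace Cfsg.Agent.Lib.ThreeTransp.TensorOrth

open Matrix Module QuadraticMap
open Cfsg.Agent.Lib.MaxSub
open Cfsg.Agent.Lib.MaxSub.OrthSplit (exists_outside finrank_inf_ker)
open Cfsg.Agent.Lib.ThreeTransp.DecompOrth (Nd perp)
open Cfsg.Agent.Lib.Geometry (quad_add quad_sub quad_smul quad_polar_self quad_polar_comm)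
open Cfsg.Agent.Lib.ThreeTransp.Tensor
open scoped MatrixGroups Matrix Kronecker

attribute [-simp] QuadraticMap.polarBilin_apply_apply

local notation:74 g:74 " ▷ " p:73 => Matrix.mulVec (Units.val g) p

variable {a b : ℕ} {F : Type*} [Field F]
variable {QA : QuadraticForm F (Fin a → F)} {QB : QuadraticForm F (Fin b → F)}
  {Q : QuadraticForm F (Fin a × Fin b → F)} {M : Subgroup (GL (Fin a × Fin b) F)}

/-- A skew map in odd dimension kills a vector. -/
theorem exists_ker_skew {m : ℕ} {R : QuadraticForm F (Fin m → F)} (h2 : (2 : F) ≠ 0)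
    (hN : (polarBilin R).Nondegenerate) (hm : Odd m) {L : (Fin m → F) →ₗ[F] (Fin m → F)}
    (hs : ∀ u v, polarBilin R (L u) v = -polarBilin R u (L v)) : ∃ u, u ≠ 0 ∧ L u = 0 := by
  set M₀ := LinearMap.toMatrix' L with hM
  have hMv : ∀ v, M₀ *ᵥ v = L v := fun v => by rw [← Matrix.toLin'_apply, hM, Matrix.toLin'_toMatrix']
  let J : Matrix (Fin m) (Fin m) F := Matrix.of fun i => psi R (Pi.single i 1)
  have hJv : ∀ v i, (J *ᵥ v) i = polarBilin R (Pi.single i 1) v := fun v i => psi_dot _ _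
  have hJ0 : J.det ≠ 0 := fun h0 => by
    obtain ⟨v, hv0, hv⟩ := Matrix.exists_mulVec_eq_zero_iff.mpr h0
    refine hv0 (hN.2 v fun x => ?_)
    have h1 : psi R v = 0 := funext fun i => by
      show polarBilin R v (Pi.single i 1) = 0
      rw [quad_polar_comm, ← hJv, hv]; rfl
    rw [quad_polar_comm, ← psi_dot, h1, zero_dotProduct]
  have key : M₀ᵀ * J = -(J * M₀) := Matrix.ext_of_mulVec_single fun j => funext fun i => by
    rw [← Matrix.mulVec_mulVec, Matrix.neg_mulVec, ← Matrix.mulVec_mulVec, Pi.neg_apply, hJv, hMv]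
    have e1 : J *ᵥ Pi.single j 1 = psi R (Pi.single j 1) := funext fun k => by
      rw [hJv, quad_polar_comm]; rfl
    rw [e1]
    show (fun k => M₀ᵀ i k) ⬝ᵥ psi R (Pi.single j 1) = _
    rw [dotProduct_comm, psi_dot, show (fun k => M₀ᵀ i k) = L (Pi.single i 1) by
      rw [← hMv, Matrix.mulVec_single_one]; rfl, quad_polar_comm, hs]
  have hdet := congrArg Matrix.det key
  rw [Matrix.det_mul, Matrix.det_transpose, Matrix.det_neg, Fintype.card_fin, hm.neg_one_pow, Matrix.det_mul] at hdet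
  have hM0 : M₀.det = 0 := (mul_eq_zero.mp (show (2 * J.det) * M₀.det = 0 by linear_combination hdet)).resolve_left
    (mul_ne_zero h2 hJ0)
  obtain ⟨v, hv0, hv⟩ := Matrix.exists_mulVec_eq_zero_iff.mpr hM0
  exact ⟨v, hv0, by rw [← hMv, hv]⟩

variable [Finite F]

theorem rows_dd_le (β w : Fin b → F) (q : Fin a × Fin b → F) :
    LinearMap.range (rows QA (dd QB β w q)) ≤ Submodule.span F ({β, w} : Set (Fin b → F)) := by
  rintro _ ⟨z, rfl⟩
  rw [rows_apply, dd_apply, map_sub, cA_pure, cA_pure]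
  exact Submodule.sub_mem _ (Submodule.smul_mem _ _ (Submodule.subset_span (by simp)))
    (Submodule.smul_mem _ _ (Submodule.subset_span (by simp)))

theorem dd_neg (β w : Fin b → F) (q : Fin a × Fin b → F) : dd QB β (-w) q = -dd QB β w q := by
  rw [dd_apply, dd_apply, show -w = (-1 : F) • w by simp, cB_smul, pure_smul_right, pure_smul_left, neg_one_smul,
    neg_one_smul]
  abel

theorem finrank_span_pair_le (β w : Fin b → F) :
    finrank F (Submodule.span F ({β, w} : Set (Fin b → F))) ≤ 2 := by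
  classical
  rw [show ({β, w} : Set (Fin b → F)) = (({β, w} : Finset (Fin b → F)) : Set (Fin b → F)) by simp]
  exact (finrank_span_finset_le_card _).trans Finset.card_le_two

theorem good_dd (X : Ctx QA QB Q M) (β w : Fin b → F) (q : Fin a × Fin b → F) : Good QB (dd QB β w q) := by
  refine good_of_rows X.hS ?_
  have h1 := Submodule.finrank_mono (rows_dd_le (QA := QA) (QB := QB) β w q)
  have h2 := finrank_span_pair_le β w (F := F)
  have := X.hb
  omega

theorem snd_mem (hS : Setting QA QB Q) {U : Submodule F (Fin b → F)} {y : Fin a → F} {v : Fin b → F} (hy : y ≠ 0)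
    (h : LinearMap.range (rows QA (pure y v)) ≤ U) : v ∈ U := by
  obtain ⟨z, -, hz⟩ := Orth.exists_dual hS.ndA ⊥ (x := y) (by simpa using hy)
  have := h ⟨z, rfl⟩
  rwa [rows_apply, cA_pure, hz, one_smul] at this

theorem tT_sing {β w : Fin b → F} (hβ : QB β = 0) (hw : polarBilin QB β w = 0) (hQw : QB w = 0)
    (p : Fin a × Fin b → F) : tT (a := a) QB β w hβ hw ▷ p = p + dd QB β w p := by
  rw [tT_apply, hQw, zero_smul, sub_zero]

/-- A vector whose two translates are pure. -/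
theorem translate_pure {z : Fin a → F} {u : Fin b → F} (hz : z ≠ 0) (hu : u ≠ 0) (h2 : (2 : F) ≠ 0)
    {D : Fin a × Fin b → F} (h1 : IsPure (pure z u + D)) (h3 : IsPure (pure z u - D)) :
    (∃ u', D = pure z u') ∨ ∃ x', (¬ ∃ c : F, c • x' = z) ∧ D = pure x' u := by
  obtain ⟨a₁, b₁, e₁⟩ := h1
  obtain ⟨a₂, b₂, e₂⟩ := h3
  have hsum : pure a₁ b₁ + pure a₂ b₂ = pure ((2 : F) • z) u := by
    rw [← e₁, ← e₂, pure_smul_left, two_smul]; abel
  have hD : D = pure a₁ b₁ - pure z u := by rw [← e₁]; abel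
  have case1 : (∃ c : F, c • z = a₁) → ∃ u', D = pure z u' := fun ⟨c, hc⟩ =>
    ⟨c • b₁ - u, by rw [hD, pure_sub_right, pure_smul_right, ← pure_smul_left, hc]⟩
  rcases eq_or_ne a₁ 0 with ha | ha
  · exact Or.inl (case1 ⟨0, by rw [ha, zero_smul]⟩)
  rcases eq_or_ne b₁ 0 with hb | hb
  · exact Or.inl ⟨-u, by
      rw [hD, hb, pure_zero_right, zero_sub, ← neg_one_smul F (pure z u), ← pure_smul_right, neg_one_smul]⟩
  by_cases hpar : ∃ c : F, c • a₁ = a₂
  · obtain ⟨c, rfl⟩ := hpar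
    rw [pure_smul_left, ← pure_smul_right, ← pure_add_right] at hsum
    obtain ⟨s, hs⟩ := (pure_parallel hsum.symm (smul_ne_zero h2 hz) hu).1
    have hs0 : s ≠ 0 := fun e0 => smul_ne_zero h2 hz (by rw [← hs, e0, zero_smul])
    exact Or.inl (case1 ⟨s⁻¹ * 2, by rw [mul_smul, ← hs, inv_smul_smul₀ hs0]⟩)
  obtain ⟨c, rfl⟩ := pure_add_pure hsum hpar ha hb
  rw [pure_smul_right, ← pure_smul_left, ← pure_add_left] at hsum
  obtain ⟨s, hs⟩ := (pure_parallel hsum.symm (smul_ne_zero h2 hz) hu).2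
  have hs0 : s ≠ 0 := fun e0 => hu (by rw [← hs, e0, zero_smul])
  have hD' : D = pure (s⁻¹ • a₁ - z) u := by
    rw [hD, show b₁ = s⁻¹ • u by rw [← hs, inv_smul_smul₀ hs0], pure_smul_right, ← pure_smul_left]
    funext q
    simp [Tensor.pure]
    ring
  by_cases hx : ∃ c : F, c • (s⁻¹ • a₁ - z) = z
  swap; · exact Or.inr ⟨_, hx, hD'⟩
  obtain ⟨c, hc⟩ := hx
  have hc0 : c ≠ 0 := fun e0 => hz (by rw [← hc, e0, zero_smul])
  exact Or.inl ⟨c⁻¹ • u, by
    rw [hD', pure_smul_right, ← pure_smul_left, show s⁻¹ • a₁ - z = c⁻¹ • z from (eq_inv_smul_iff₀ hc0).mpr hc]⟩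

/-- A row has a pure image in a totally singular plane, or is moved trivially. -/
theorem plane_image (X : Ctx QA QB Q M) (hab : a + 2 ≤ b) {g : GL (Fin a × Fin b) F} (hg : g ∈ M)
    {γ p : Fin b → F} (hγ : QB γ = 0) (hγp : polarBilin QB γ p = 0) (hp : QB p = 0) (hpγ : p ∉ F ∙ γ) (hγ0 : γ ≠ 0)
    {z : Fin a → F} {u : Fin b → F} (hz : z ≠ 0) (hu : u ≠ 0) (hD0 : dd QB γ p (g ▷ pure z u) ≠ 0)
    (h1 : Good QB (pure z u + g⁻¹ ▷ dd QB γ p (g ▷ pure z u)))
    (h3 : Good QB (pure z u - g⁻¹ ▷ dd QB γ p (g ▷ pure z u))) :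
    ∃ u' y' p', u' ≠ 0 ∧ p' ∈ Submodule.span F ({γ, p} : Set (Fin b → F)) ∧ g ▷ pure z u' = pure y' p' := by
  have hab' : a < b := by omega
  have hS := X.hS
  set v := g ▷ pure z u with hv
  have hγn : polarBilin QB γ (-p) = 0 := by rw [map_neg, hγp, neg_zero]
  have hX1 : IsPure (pure z u + g⁻¹ ▷ dd QB γ p v) := by
    have e : (g⁻¹ * tT QB γ p hγ hγp * g) ▷ pure z u = pure z u + g⁻¹ ▷ dd QB γ p v := by
      rw [mulVec_mul, mulVec_mul, ← hv, tT_sing hγ hγp hp, Matrix.mulVec_add, hv, mulVec_inv_mulVec]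
    have h := pure_of_good X hab' (M.mul_mem (M.mul_mem (M.inv_mem hg) (one_eich_mem X hγ hγp)) hg)
      ⟨z, u, rfl⟩ (e ▸ h1)
    rwa [e] at h
  have hX2 : IsPure (pure z u - g⁻¹ ▷ dd QB γ p v) := by
    have e : (g⁻¹ * tT QB γ (-p) hγ hγn * g) ▷ pure z u = pure z u - g⁻¹ ▷ dd QB γ p v := by
      rw [mulVec_mul, mulVec_mul, ← hv, tT_sing hγ hγn (by rw [QuadraticMap.map_neg, hp]), dd_neg, Matrix.mulVec_add,
        Matrix.mulVec_neg, hv, mulVec_inv_mulVec, sub_eq_add_neg]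
    have h := pure_of_good X hab' (M.mul_mem (M.mul_mem (M.inv_mem hg) (one_eich_mem X hγ hγn)) hg)
      ⟨z, u, rfl⟩ (e ▸ h3)
    rwa [e] at h
  have hgD : ∀ x' u', g⁻¹ ▷ dd QB γ p v = pure x' u' →
      ∃ y' p', p' ∈ Submodule.span F ({γ, p} : Set (Fin b → F)) ∧ x' ≠ 0 ∧ u' ≠ 0 ∧
        g ▷ pure x' u' = pure y' p' ∧ dd QB γ p v = pure y' p' := by
    intro x' u' e
    have e' : g ▷ pure x' u' = dd QB γ p v := by rw [← e, mulVec_mulVec_inv]
    obtain ⟨hx', hu'⟩ := ne_zero_of_pure (e ▸ image_ne_zero (g := g⁻¹) hD0)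
    obtain ⟨y', p', h⟩ := pure_of_good X hab' hg ⟨x', u', rfl⟩ (e' ▸ good_dd X γ p v)
    refine ⟨y', p', snd_mem hS (ne_zero_of_pure (h ▸ image_ne_zero (g := g) (pure_ne_zero hx' hu'))).1 ?_,
      hx', hu', h, e' ▸ h⟩
    rw [← h, e']
    exact rows_dd_le γ p v
  rcases translate_pure hz hu hS.two hX1 hX2 with ⟨u', e⟩ | ⟨x', hx', e⟩
  · obtain ⟨y', p', hp', -, hu', h, -⟩ := hgD _ _ e
    exact ⟨u', y', p', hu', hp', h⟩
  obtain ⟨y', p', hp', hx'0, -, h, hdd⟩ := hgD _ _ e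
  obtain ⟨α, δ, hαδ⟩ := Submodule.mem_span_pair.mp hp'
  have hpγ' : γ ∉ F ∙ p := fun hm => by
    obtain ⟨c, hc⟩ := Submodule.mem_span_singleton.mp hm
    have hc0 : c ≠ 0 := fun e0 => hγ0 (by rw [← hc, e0, zero_smul])
    exact hpγ (Submodule.mem_span_singleton.mpr ⟨c⁻¹, by rw [← hc, inv_smul_smul₀ hc0]⟩)
  obtain ⟨q₁, hq₁γ, hq₁p⟩ := Orth.exists_dual hS.ndB _ hpγ
  obtain ⟨q₂, hq₂p, hq₂γ⟩ := Orth.exists_dual hS.ndB _ hpγ'
  have h1q : cB QB γ v = δ • y' := by
    have h' := congrArg (cB QB q₁) hdd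
    rwa [dd_apply, map_sub, cB_pure, cB_pure, cB_pure, hq₁p, hq₁γ γ (Submodule.mem_span_singleton_self γ), one_smul,
      zero_smul, sub_zero, ← hαδ, map_add, map_smul, map_smul, hq₁p, hq₁γ γ (Submodule.mem_span_singleton_self γ),
      smul_zero, zero_add, smul_eq_mul, mul_one] at h'
  have h2q : -cB QB p v = α • y' := by
    have h' := congrArg (cB QB q₂) hdd
    rwa [dd_apply, map_sub, cB_pure, cB_pure, cB_pure, hq₂γ, hq₂p p (Submodule.mem_span_singleton_self p), one_smul,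
      zero_smul, zero_sub, ← hαδ, map_add, map_smul, map_smul, hq₂γ, hq₂p p (Submodule.mem_span_singleton_self p),
      smul_zero, add_zero, smul_eq_mul, mul_one] at h'
  have hp'v : cB QB p' v = 0 := by
    rw [← hαδ, cB_add, cB_smul, cB_smul, h1q, show cB QB p v = -(α • y') from neg_eq_iff_eq_neg.mp h2q]
    module
  have hQp' : QB p' = 0 := by
    rw [← hαδ, quad_add, quad_smul, quad_smul, hγ, hp, map_smul, map_smul, LinearMap.smul_apply, hγp]
    simp
  obtain ⟨y'', h4⟩ := col_snd X hab' hg h hx'0 hu (pure_of_perp X hab hg h hx'0 hu hQp' hx' hp'v)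
  exact ⟨u, y'', p', hu, hp', h4⟩

theorem exists_plane (hN : (polarBilin QB).Nondegenerate) (hb : 5 ≤ b) :
    ∃ β w : Fin b → F, β ≠ 0 ∧ QB β = 0 ∧ QB w = 0 ∧ polarBilin QB β w = 0 ∧ w ∉ F ∙ β := by
  obtain ⟨β, -, hβ0, hβ⟩ := Orth.exists_singular (Q := QB) (⊤ : Submodule F (Fin b → F))
    (by rw [finrank_top, Module.finrank_fin_fun]; omega)
  obtain ⟨β', hβ', h1⟩ := exists_partner' hN hβ hβ0
  obtain ⟨w, hw, hw0, hQw⟩ := Orth.exists_singular (Q := QB) (perp QB (perp QB ⊤ β) β') (by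
    have := finrank_perp_two (Q := QB) β β'
    rw [Fintype.card_fin] at this
    omega)
  refine ⟨β, w, hβ0, hβ, hQw, hw.1.2, fun hm => ?_⟩
  obtain ⟨c, rfl⟩ := Submodule.mem_span_singleton.mp hm
  have h2 : polarBilin QB β' (c • β) = 0 := hw.2
  rw [map_smul, quad_polar_comm, h1, smul_eq_mul, mul_one] at h2
  exact hw0 (by rw [h2, zero_smul])

/-- Every singular row has a pure image in the orthogonal of a totally singular plane. -/
theorem exists_row_perp (X : Ctx QA QB Q M) (hab : a + 2 ≤ b) (hodd : Odd b) {g : GL (Fin a × Fin b) F}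
    (hg : g ∈ M) {x : Fin a → F} (hx : QA x = 0) (hx0 : x ≠ 0) {β w : Fin b → F} (hβ0 : β ≠ 0) (hβ : QB β = 0)
    (hQw : QB w = 0) (hw : polarBilin QB β w = 0) (hwβ : w ∉ F ∙ β) :
    ∃ u y η, u ≠ 0 ∧ g ▷ pure x u = pure y η ∧ polarBilin QB β η = 0 ∧ polarBilin QB w η = 0 := by
  have hab' : a < b := by omega
  have hS := X.hS
  let L : (Fin b → F) →ₗ[F] (Fin b → F) := (cA QA x).comp
    ((Matrix.mulVecLin ((g⁻¹ : GL (Fin a × Fin b) F) : Matrix (Fin a × Fin b) (Fin a × Fin b) F)).comp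
      ((dd QB β w).comp ((Matrix.mulVecLin (g : Matrix (Fin a × Fin b) (Fin a × Fin b) F)).comp (right x))))
  have hL : ∀ u u', polarBilin QB u' (L u) = polarBilin Q (g ▷ pure x u') (dd QB β w (g ▷ pure x u)) := fun u u' => by
    show polarBilin QB u' (cA QA x (g⁻¹ ▷ dd QB β w (g ▷ pure x u))) = _
    rw [← B_right hS]
    conv_lhs => rw [← Orth.iso_polar (X.hM.pres hg), mulVec_mulVec_inv]
  obtain ⟨u, hu0, hu⟩ := exists_ker_skew hS.two hS.ndB hodd (L := L) fun u v => by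
    rw [quad_polar_comm, hL, hL, quad_polar_comm, dd_skew hS]
  have hk : ∀ q, cA QA x q = 0 → Good QB q := fun q hq => good_of_kill hS hab hx0 hq
  set v := g ▷ pure x u with hv
  have hu' : cA QA x (g⁻¹ ▷ dd QB β w v) = 0 := hu
  have hxx : cA QA x (pure x u) = 0 := by rw [cA_pure, Orth.polar_self_of_sing QA hx, zero_smul]
  rcases eq_or_ne (dd QB β w v) 0 with h0 | h0
  · obtain ⟨β', -, h1⟩ := exists_partner' hS.ndB hβ hβ0
    obtain ⟨q, hqβ, hqw⟩ := Orth.exists_dual hS.ndB _ hwβ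
    have e1 : cB QB β v = 0 := by
      have h := congrArg (cB QB q) h0
      rwa [map_zero, dd_apply, map_sub, cB_pure, cB_pure, hqw, hqβ β (Submodule.mem_span_singleton_self β), one_smul,
        zero_smul, sub_zero] at h
    have e2 : cB QB w v = 0 := by
      have h := congrArg (cB QB β') h0
      rwa [map_zero, dd_apply, e1, pure_zero_left, zero_sub, map_neg, neg_eq_zero, cB_pure, quad_polar_comm QB β' β,
        h1, one_smul] at h
    obtain ⟨y, η, e⟩ := pure_of_good X hab' hg ⟨x, u, rfl⟩ (good_of_mem hβ hβ0 hw hwβ e1 e2)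
    have hy := (ne_zero_of_pure (e ▸ image_ne_zero (g := g) (pure_ne_zero hx0 hu0))).1
    rw [hv, e, cB_pure, smul_eq_zero] at e1 e2
    exact ⟨u, y, η, hu0, e, e1.resolve_right hy, e2.resolve_right hy⟩
  obtain ⟨u', y', p', hu'0, hp', e⟩ := plane_image X hab hg hβ hw hQw hwβ hβ0 hx0 hu0 h0
    (hk _ (by rw [map_add, hxx, zero_add]; exact hu')) (hk _ (by rw [map_sub, hxx, zero_sub, neg_eq_zero]; exact hu'))
  obtain ⟨α, δ, rfl⟩ := Submodule.mem_span_pair.mp hp'
  refine ⟨u', y', _, hu'0, e, ?_, ?_⟩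
  · rw [map_add, map_smul, map_smul, Orth.polar_self_of_sing QB hβ, hw, smul_zero, smul_zero, add_zero]
  · rw [map_add, map_smul, map_smul, quad_polar_comm QB w β, hw, Orth.polar_self_of_sing QB hQw, smul_zero,
      smul_zero, add_zero]

/-- A plane of the image of a row meets every plane at a pure image. -/
theorem cover (X : Ctx QA QB Q M) (hab : a + 2 ≤ b) (hb6 : 6 ≤ b) {g : GL (Fin a × Fin b) F} (hg : g ∈ M)
    {x y : Fin a → F} {w γ : Fin b → F} (e : g ▷ pure x w = pure y γ) (hγ : QB γ = 0) (hγ0 : γ ≠ 0)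
    {z : Fin a → F} (hzx : polarBilin QA z x ≠ 0) (hw0 : w ≠ 0) {p : Fin b → F} (hp : QB p = 0)
    (hγp : polarBilin QB γ p = 0) (hpγ : p ∉ F ∙ γ) :
    ∃ u y' p', u ≠ 0 ∧ p' ∈ Submodule.span F ({γ, p} : Set (Fin b → F)) ∧ g ▷ pure z u = pure y' p' := by
  have hab' : a < b := by omega
  have hS := X.hS
  have hz0 : z ≠ 0 := fun e0 => hzx (by rw [e0, map_zero, LinearMap.zero_apply])
  set δ := dd (a := a) QB γ p with hδ
  let Lz : (Fin b → F) →ₗ[F] (Fin a × Fin b → F) :=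
    δ.comp ((Matrix.mulVecLin (g : Matrix (Fin a × Fin b) (Fin a × Fin b) F)).comp (right z))
  let K : Submodule F (Fin a × Fin b → F) := LinearMap.range δ ⊓ LinearMap.ker ((cA QA z).comp
    (Matrix.mulVecLin ((g⁻¹ : GL (Fin a × Fin b) F) : Matrix (Fin a × Fin b) (Fin a × Fin b) F)))
  have hJ : (LinearMap.BilinForm.orthogonal (polarBilin Q) (LinearMap.range Lz)).map δ ≤ K := by
    rintro _ ⟨q, hq, rfl⟩
    refine ⟨⟨q, rfl⟩, cA_eq_zero hS fun u => ?_⟩
    show polarBilin Q (pure z u) (g⁻¹ ▷ δ q) = 0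
    rw [← Orth.iso_polar (X.hM.pres hg), mulVec_mulVec_inv, ← neg_eq_zero, hδ, ← dd_skew hS]
    exact hq _ ⟨u, rfl⟩
  have hγrange : pure y γ ∈ LinearMap.range δ := by
    obtain ⟨q, hqγ, hqp⟩ := Orth.exists_dual hS.ndB _ hpγ
    refine ⟨-pure y q, ?_⟩
    rw [map_neg, hδ, dd_apply, cB_pure, cB_pure, quad_polar_comm QB γ q, hqγ γ (Submodule.mem_span_singleton_self γ),
      quad_polar_comm QB p q, hqp, zero_smul, one_smul, pure_zero_left, zero_sub, neg_neg]
  have hnK : pure y γ ∉ K := fun h => by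
    have h1 : cA QA z (g⁻¹ ▷ pure y γ) = 0 := h.2
    rw [← e, mulVec_inv_mulVec, cA_pure, smul_eq_zero] at h1
    exact hw0 (h1.resolve_left hzx)
  obtain ⟨d, ⟨⟨u, hu⟩, hdK⟩, hd0⟩ := Submodule.exists_mem_ne_zero_of_ne_bot
    (p := LinearMap.range Lz ⊓ (K ⊔ F ∙ pure y γ)) fun hbot => by
      have h1 := Submodule.finrank_sup_add_finrank_inf_eq (LinearMap.range Lz) (K ⊔ F ∙ pure y γ)
      rw [hbot, finrank_bot, add_zero] at h1
      have h2 : finrank F ↥(LinearMap.range Lz ⊔ (K ⊔ F ∙ pure y γ)) ≤ finrank F (LinearMap.range δ) :=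
        Submodule.finrank_mono (sup_le (LinearMap.range_comp_le_range _ _)
          (sup_le inf_le_left ((Submodule.span_singleton_le_iff_mem _ _).mpr hγrange)))
      have h3 : finrank F K + 1 ≤ finrank F ↥(K ⊔ F ∙ pure y γ) :=
        Submodule.finrank_lt_finrank_of_lt (lt_of_le_of_ne le_sup_left fun he =>
          hnK (he ▸ Submodule.mem_sup_right (Submodule.mem_span_singleton_self _)))
      set J := LinearMap.BilinForm.orthogonal (polarBilin Q) (LinearMap.range Lz) with hJdef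
      have h4 := (δ.domRestrict J).finrank_range_add_finrank_ker
      have h5 : finrank F (LinearMap.ker (δ.domRestrict J)) ≤ finrank F (LinearMap.ker δ) := by
        rw [← Submodule.finrank_map_subtype_eq]
        refine Submodule.finrank_mono ?_
        rintro _ ⟨q, hq, rfl⟩
        exact hq
      have h6 : finrank F (LinearMap.range (δ.domRestrict J)) ≤ finrank F K := by
        refine Submodule.finrank_mono ?_
        rintro _ ⟨⟨q, hq⟩, rfl⟩
        exact hJ ⟨q, hq, rfl⟩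
      have h7 := δ.finrank_range_add_finrank_ker
      have h8 : finrank F J = finrank F (Fin a × Fin b → F) - finrank F (LinearMap.range Lz) :=
        LinearMap.BilinForm.finrank_orthogonal hS.nd _
      have h9 := Submodule.finrank_le (LinearMap.range Lz)
      omega
  obtain ⟨v, hv, r, hr, hvr⟩ := Submodule.mem_sup.mp hdK
  obtain ⟨t, rfl⟩ := Submodule.mem_span_singleton.mp hr
  obtain ⟨⟨q, hq⟩, hvk⟩ := hv
  have hu0 : u ≠ 0 := fun e0 => hd0 (by rw [← hu, e0, map_zero])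
  have hsp2 := finrank_span_pair_le γ p (F := F)
  have hd1 : finrank F (LinearMap.range (rows QA (g⁻¹ ▷ v))) ≤ 2 := by
    refine rows_le_two X hab' hg (β := γ) (w := p) (good_of_kill hS hab hz0 hvk) ?_ ?_ <;> rw [mulVec_mulVec_inv, ← hq]
    · exact good_dd X γ p q
    · exact rows_dd_le γ p q
  set D := g⁻¹ ▷ d with hD
  have hdu : d = dd QB γ p (g ▷ pure z u) := hu.symm
  have hDeq : D = g⁻¹ ▷ v + t • pure x w := by
    rw [hD, ← hvr, Matrix.mulVec_add, Matrix.mulVec_smul, ← e, mulVec_inv_mulVec]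
  have hD3 : finrank F (LinearMap.range (rows QA D)) ≤ 3 := by
    rw [hDeq, ← pure_smul_left]
    have h1 := Submodule.finrank_mono (rows_add_le (QA := QA) (g⁻¹ ▷ v) (pure (t • x) w))
    have h2 := Submodule.finrank_add_le_finrank_add_finrank (LinearMap.range (rows QA (g⁻¹ ▷ v)))
      (LinearMap.range (rows QA (pure (t • x) w)))
    have h3 := (Submodule.finrank_mono (rows_pure_le (QA := QA) (t • x) w)).trans (finrank_line_le w)
    omega
  have hD2 : finrank F (LinearMap.range (rows QA D)) ≤ 2 := by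
    refine rows_le_two X hab' hg (β := γ) (w := p) (good_of_rows hS (by omega)) ?_ ?_ <;>
      rw [hD, mulVec_mulVec_inv, hdu]
    · exact good_dd X γ p _
    · exact rows_dd_le γ p _
  have hgood : ∀ s : Fin a × Fin b → F, LinearMap.range (rows QA s) ≤ LinearMap.range (rows QA D) →
      Good QB (pure z u + s) := fun s hs => by
    refine good_of_rows hS ?_
    have h1 := Submodule.finrank_mono ((rows_add_le (QA := QA) (pure z u) s).trans
      (sup_le_sup (rows_pure_le z u) hs))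
    have h2 := Submodule.finrank_add_le_finrank_add_finrank (F ∙ u) (LinearMap.range (rows QA D))
    have h3 := finrank_line_le u (F := F)
    omega
  refine plane_image X hab hg hγ hγp hp hpγ hγ0 hz0 hu0 (hdu ▸ hd0) ?_ ?_
  · rw [← hdu, ← hD]; exact hgood D le_rfl
  · rw [← hdu, ← hD, sub_eq_add_neg]
    refine hgood (-D) ?_
    rintro _ ⟨s, rfl⟩
    exact ⟨-s, by
      rw [rows_apply, rows_apply, map_neg, show -s = (-1 : F) • s by simp, cA_smul, neg_one_smul]⟩

end Cfsg.Agent.Lib.ThreeTransp.TensorOrth
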