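import Cfsg.Agent.Lib.ThreeTransp.TensorOrthKey

/-!
Pure tensors with pure images.
-/

set_option autoImplicit false
set_option linter.unusedSectionVars false
set_option linter.unusedSimpArgs false

namespace Cfsg.Agent.Lib.ThreeTransp.TensorOrth

open Matrix Module QuadraticMap
open Cfsg.Agent.Lib.MaxSub
open Cfsg.Agent.Lib.MaxSub.OrthSplit (exists_outside)
open Cfsg.Agent.Lib.Geometry (quad_add quad_sub quad_smul quad_polar_self quad_polar_comm)
open Cfsg.Agent.Lib.ThreeTransp.Tensor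
open scoped MatrixGroups Matrix Kronecker

attribute [-simp] QuadraticMap.polarBilin_apply_apply

local notation:74 g:74 " ▷ " p:73 => Matrix.mulVec (Units.val g) p

variable {a b : ℕ} {F : Type*} [Field F]
variable {QA : QuadraticForm F (Fin a → F)} {QB : QuadraticForm F (Fin b → F)}
  {Q : QuadraticForm F (Fin a × Fin b → F)} {M : Subgroup (GL (Fin a × Fin b) F)}

/-- A pure tensor. -/
def IsPure (p : Fin a × Fin b → F) : Prop := ∃ x u, p = pure x u

theorem pure_parallel {x y : Fin a → F} {u v : Fin b → F} (e : pure x u = pure y v) (hx : x ≠ 0) (hu : u ≠ 0) :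
    (∃ c : F, c • y = x) ∧ ∃ c : F, c • v = u := by
  obtain ⟨ξ, hξ⟩ := exists_dot_one hu
  obtain ⟨η, hη⟩ := exists_dot_one hx
  have e1 := congrArg (ctr ξ) e
  have e2 := congrArg (ctl η) e
  rw [ctr_pure, ctr_pure, hξ, one_smul] at e1
  rw [ctl_pure, ctl_pure, hη, one_smul] at e2
  exact ⟨⟨_, e1.symm⟩, ⟨_, e2.symm⟩⟩

theorem ne_zero_of_pure {x : Fin a → F} {u : Fin b → F} (h : pure x u ≠ 0) : x ≠ 0 ∧ u ≠ 0 :=
  ⟨fun e => h (by rw [e, pure_zero_left]), fun e => h (by rw [e, pure_zero_right])⟩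

theorem image_ne_zero {g : GL (Fin a × Fin b) F} {p : Fin a × Fin b → F} (hp : p ≠ 0) : g ▷ p ≠ 0 := fun e =>
  hp (Matrix.mulVec_injective_of_isUnit g.isUnit (e.trans (Matrix.mulVec_zero _).symm))

/-- The rows of `p`. -/
noncomputable def rows (QA : QuadraticForm F (Fin a → F)) (p : Fin a × Fin b → F) :
    (Fin a → F) →ₗ[F] (Fin b → F) where
  toFun x := cA QA x p
  map_add' x y := cA_add QA x y p
  map_smul' c x := cA_smul QA c x p

theorem rows_apply (p : Fin a × Fin b → F) (x : Fin a → F) : rows QA p x = cA QA x p := rfl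

theorem rows_pure_le (x : Fin a → F) (u : Fin b → F) : LinearMap.range (rows QA (pure x u)) ≤ F ∙ u := by
  rintro _ ⟨y, rfl⟩
  rw [rows_apply, cA_pure]
  exact Submodule.smul_mem _ _ (Submodule.mem_span_singleton_self u)

theorem rows_add_le (p q : Fin a × Fin b → F) :
    LinearMap.range (rows QA (p + q)) ≤ LinearMap.range (rows QA p) ⊔ LinearMap.range (rows QA q) := by
  rintro _ ⟨y, rfl⟩
  rw [rows_apply, map_add]
  exact Submodule.add_mem _ (Submodule.mem_sup_left ⟨y, rfl⟩) (Submodule.mem_sup_right ⟨y, rfl⟩)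

theorem finrank_line_le (u : Fin b → F) : finrank F (F ∙ u) ≤ 1 := by
  rcases eq_or_ne u 0 with rfl | h
  · rw [show F ∙ (0 : Fin b → F) = ⊥ from Submodule.span_singleton_eq_bot.mpr rfl, finrank_bot]; exact Nat.zero_le 1
  · exact (finrank_span_singleton h).le

theorem rows_sum_two (x x' : Fin a → F) (u u' : Fin b → F) :
    finrank F (LinearMap.range (rows QA (pure x u + pure x' u'))) ≤ 2 :=
  (Submodule.finrank_mono ((rows_add_le _ _).trans (sup_le_sup (rows_pure_le _ _) (rows_pure_le _ _)))).trans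
    ((Submodule.finrank_add_le_finrank_add_finrank _ _).trans
      (Nat.add_le_add (finrank_line_le u) (finrank_line_le u')))

variable [Finite F]

theorem good_of_rows (hS : Setting QA QB Q) {p : Fin a × Fin b → F}
    (h : finrank F (LinearMap.range (rows QA p)) + 3 ≤ b) : Good QB p :=
  good_of_rank hS (rows QA p) (fun _ => rfl) h

theorem good_pure (X : Ctx QA QB Q M) (x : Fin a → F) (u : Fin b → F) : Good QB (pure x u) := by
  refine good_of_rows X.hS ?_
  have h1 := Submodule.finrank_mono (rows_pure_le (QA := QA) x u)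
  have h2 := finrank_line_le (F := F) u
  have := X.hb
  omega

theorem good_sum_two (X : Ctx QA QB Q M) (x x' : Fin a → F) (u u' : Fin b → F) :
    Good QB (pure x u + pure x' u') := by
  refine good_of_rows X.hS ?_
  have h1 := rows_sum_two (QA := QA) x x' u u'
  have := X.hb
  omega

theorem good_of_mem {β w : Fin b → F} (hβ : QB β = 0) (hβ0 : β ≠ 0) (hw : polarBilin QB β w = 0)
    (hwβ : w ∉ F ∙ β) {p : Fin a × Fin b → F} (h1 : cB QB β p = 0) (h2 : cB QB w p = 0) : Good QB p :=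
  ⟨β, w, hβ0, hβ, hw, hwβ, h1, h2⟩

/-- Good vectors with good images are moved by the Kronecker group. -/
theorem exists_kr (X : Ctx QA QB Q M) (hab : a < b) {g : GL (Fin a × Fin b) F} (hg : g ∈ M)
    {p : Fin a × Fin b → F} (hp : Good QB p) (hgp : Good QB (g ▷ p)) :
    ∃ (α : GL (Fin a) F) (h : GL (Fin b) F), g ▷ p = kr (α, h) ▷ p := by
  obtain ⟨β₀, w₀, h01, h02, h03, h04, h05, h06⟩ := hp
  obtain ⟨β, w, h1, h2, h3, h4, h5, h6⟩ := hgp
  obtain ⟨n, -, hn, hnv⟩ := transfer X hab hg {p} h02 h01 h03 h04 (fun v hv => by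
    rw [Set.mem_singleton_iff.mp hv]; exact ⟨h05, h06⟩) h2 h1 h3 h4 (fun v hv => by
    rw [Set.mem_singleton_iff.mp hv]; exact ⟨h5, h6⟩)
  obtain ⟨⟨α, h⟩, rfl⟩ := mem_kronecker.mp hn
  exact ⟨α, h, hnv p rfl⟩

theorem pure_of_good (X : Ctx QA QB Q M) (hab : a < b) {g : GL (Fin a × Fin b) F} (hg : g ∈ M)
    {p : Fin a × Fin b → F} (hp : IsPure p) (hgp : Good QB (g ▷ p)) : IsPure (g ▷ p) := by
  obtain ⟨x, u, rfl⟩ := hp
  obtain ⟨α, h, e⟩ := exists_kr X hab hg (good_pure X x u) hgp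
  exact ⟨α ▷ x, h ▷ u, by rw [e, kr_pure]⟩

theorem pure_of_good_inv (X : Ctx QA QB Q M) (hab : a < b) {g : GL (Fin a × Fin b) F} (hg : g ∈ M)
    {p : Fin a × Fin b → F} (hp : Good QB p) (hgp : IsPure (g ▷ p)) : IsPure p := by
  have h := pure_of_good X hab (M.inv_mem hg) hgp (by rwa [mulVec_inv_mulVec])
  rwa [mulVec_inv_mulVec] at h

/-- Two pure tensors with pure images are moved by one element. -/
theorem exists_kr_pair (X : Ctx QA QB Q M) (hab : a < b) {g : GL (Fin a × Fin b) F} (hg : g ∈ M)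
    {x x' y y' : Fin a → F} {u u' v v' : Fin b → F} (e : g ▷ pure x u = pure y v)
    (e' : g ▷ pure x' u' = pure y' v') :
    ∃ (α : GL (Fin a) F) (h : GL (Fin b) F), kr (α, h) ∈ M ∧
      pure y v = pure (α ▷ x) (h ▷ u) ∧ pure y' v' = pure (α ▷ x') (h ▷ u') := by
  classical
  have hc : ∀ p q : Fin b → F, ({p, q} : Finset (Fin b → F)).card + 3 ≤ b := fun p q => by
    have h1 : ({p, q} : Finset (Fin b → F)).card ≤ 2 := Finset.card_le_two
    have := X.hb
    omega
  obtain ⟨β₀, w₀, h01, h02, h03, h04, h05⟩ := good_span X.hS {u, u'} (hc u u') (a := a)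
  obtain ⟨β, w, h1, h2, h3, h4, h5⟩ := good_span X.hS {v, v'} (hc v v') (a := a)
  obtain ⟨n, hnM, hn, hnv⟩ := transfer X hab hg {pure x u, pure x' u'} h02 h01 h03 h04 (fun p hp => by
    rcases hp with rfl | rfl
    · exact h05 x u (by simp)
    · exact h05 x' u' (by simp)) h2 h1 h3 h4 (fun p hp => by
    rcases hp with rfl | rfl
    · rw [e]; exact h5 y v (by simp)
    · rw [e']; exact h5 y' v' (by simp))
  obtain ⟨⟨α, h⟩, rfl⟩ := mem_kronecker.mp hn
  exact ⟨α, h, hnM, by rw [← e, hnv _ (by simp), kr_pure], by rw [← e', hnv _ (by simp), kr_pure]⟩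

/-- Equal second factors go to parallel second factors. -/
theorem same_snd (X : Ctx QA QB Q M) (hab : a < b) {g : GL (Fin a × Fin b) F} (hg : g ∈ M)
    {x x' y y' : Fin a → F} {u v v' : Fin b → F} (e : g ▷ pure x u = pure y v) (e' : g ▷ pure x' u = pure y' v')
    (hx : x ≠ 0) (hx' : x' ≠ 0) (hu : u ≠ 0) : ∃ c : F, c • v = v' := by
  obtain ⟨hy, hv⟩ := ne_zero_of_pure (e ▸ image_ne_zero (g := g) (pure_ne_zero hx hu))
  obtain ⟨hy', hv'⟩ := ne_zero_of_pure (e' ▸ image_ne_zero (g := g) (pure_ne_zero hx' hu))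
  obtain ⟨α, h, -, h1, h2⟩ := exists_kr_pair X hab hg e e'
  obtain ⟨c, hc⟩ := (pure_parallel h1 hy hv).2
  obtain ⟨c', hc'⟩ := (pure_parallel h2 hy' hv').2
  have hc0 : c ≠ 0 := fun e0 => hv (by rw [← hc, e0, zero_smul])
  exact ⟨c' * c⁻¹, by rw [mul_smul, ← hc, inv_smul_smul₀ hc0, hc']⟩

/-- Equal first factors go to parallel first factors. -/
theorem same_fst (X : Ctx QA QB Q M) (hab : a < b) {g : GL (Fin a × Fin b) F} (hg : g ∈ M)
    {x y y' : Fin a → F} {u u' v v' : Fin b → F} (e : g ▷ pure x u = pure y v) (e' : g ▷ pure x u' = pure y' v')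
    (hx : x ≠ 0) (hu : u ≠ 0) (hu' : u' ≠ 0) : ∃ c : F, c • y = y' := by
  obtain ⟨hy, hv⟩ := ne_zero_of_pure (e ▸ image_ne_zero (g := g) (pure_ne_zero hx hu))
  obtain ⟨hy', hv'⟩ := ne_zero_of_pure (e' ▸ image_ne_zero (g := g) (pure_ne_zero hx hu'))
  obtain ⟨α, h, -, h1, h2⟩ := exists_kr_pair X hab hg e e'
  obtain ⟨c, hc⟩ := (pure_parallel h1 hy hv).1
  obtain ⟨c', hc'⟩ := (pure_parallel h2 hy' hv').1
  have hc0 : c ≠ 0 := fun e0 => hy (by rw [← hc, e0, zero_smul])
  exact ⟨c' * c⁻¹, by rw [mul_smul, ← hc, inv_smul_smul₀ hc0, hc']⟩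

/-- Equal second factors of images come from parallel second factors. -/
theorem same_snd_inv (X : Ctx QA QB Q M) (hab : a < b) {g : GL (Fin a × Fin b) F} (hg : g ∈ M)
    {x x' y y' : Fin a → F} {u u' v : Fin b → F} (e : g ▷ pure x u = pure y v) (e' : g ▷ pure x' u' = pure y' v)
    (hx : x ≠ 0) (hu : u ≠ 0) (hx' : x' ≠ 0) (hu' : u' ≠ 0) : ∃ c : F, c • u = u' := by
  obtain ⟨hy, hv⟩ := ne_zero_of_pure (e ▸ image_ne_zero (g := g) (pure_ne_zero hx hu))
  obtain ⟨hy', -⟩ := ne_zero_of_pure (e' ▸ image_ne_zero (g := g) (pure_ne_zero hx' hu'))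
  exact same_snd X hab (M.inv_mem hg) (by rw [← e, mulVec_inv_mulVec]) (by rw [← e', mulVec_inv_mulVec]) hy hy' hv

/-- In a row, all pure images share the first factor. -/
theorem row_fst (X : Ctx QA QB Q M) (hab : a < b) {g : GL (Fin a × Fin b) F} (hg : g ∈ M)
    {x y : Fin a → F} {u v : Fin b → F} (e : g ▷ pure x u = pure y v) (hx : x ≠ 0) (hu : u ≠ 0) {u' : Fin b → F}
    (h : IsPure (g ▷ pure x u')) : ∃ v', g ▷ pure x u' = pure y v' := by
  rcases eq_or_ne u' 0 with rfl | hu'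
  · exact ⟨0, by rw [pure_zero_right, Matrix.mulVec_zero, pure_zero_right]⟩
  obtain ⟨y', v', e'⟩ := h
  obtain ⟨c, rfl⟩ := same_fst X hab hg e e' hx hu hu'
  exact ⟨c • v', by rw [e', pure_smul_left, pure_smul_right]⟩

/-- In a column, all pure images share the second factor. -/
theorem col_snd (X : Ctx QA QB Q M) (hab : a < b) {g : GL (Fin a × Fin b) F} (hg : g ∈ M)
    {x y : Fin a → F} {u v : Fin b → F} (e : g ▷ pure x u = pure y v) (hx : x ≠ 0) (hu : u ≠ 0) {x' : Fin a → F}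
    (h : IsPure (g ▷ pure x' u)) : ∃ y', g ▷ pure x' u = pure y' v := by
  rcases eq_or_ne x' 0 with rfl | hx'
  · exact ⟨0, by rw [pure_zero_left, Matrix.mulVec_zero, pure_zero_left]⟩
  obtain ⟨y', v', e'⟩ := h
  obtain ⟨c, rfl⟩ := same_snd X hab hg e e' hx hx' hu
  exact ⟨c • y', by rw [e', pure_smul_left, pure_smul_right]⟩

theorem pure_sub_of_row (X : Ctx QA QB Q M) (hab : a < b) {g : GL (Fin a × Fin b) F} (hg : g ∈ M) {x : Fin a → F}
    (hx : x ≠ 0) {u u' : Fin b → F} (hu' : u' ≠ 0) (h : IsPure (g ▷ pure x (u + u')))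
    (h' : IsPure (g ▷ pure x u')) : IsPure (g ▷ pure x u) := by
  obtain ⟨y, v, e⟩ := h'
  obtain ⟨v', e'⟩ := row_fst X hab hg e hx hu' h
  exact ⟨y, v' - v, by
    rw [pure_sub_right, ← e', ← e, pure_add_right, Matrix.mulVec_add, add_sub_cancel_right]⟩

/-- If a vector is moved along a good one, rows stay in the pair. -/
theorem rows_le_two (X : Ctx QA QB Q M) (hab : a < b) {g : GL (Fin a × Fin b) F} (hg : g ∈ M) {β w : Fin b → F}
    {p : Fin a × Fin b → F} (hp : Good QB p) (hgp : Good QB (g ▷ p))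
    (h : LinearMap.range (rows QA (g ▷ p)) ≤ Submodule.span F ({β, w} : Set (Fin b → F))) :
    finrank F (LinearMap.range (rows QA p)) ≤ 2 := by
  classical
  obtain ⟨α, k, e⟩ := exists_kr X hab hg hp hgp
  have h1 : LinearMap.range (rows QA p) ≤ (Submodule.span F ({β, w} : Set (Fin b → F))).map
      (Matrix.mulVecLin ((k⁻¹ : GL (Fin b) F) : Matrix (Fin b) (Fin b) F)) := by
    rintro _ ⟨x, rfl⟩
    obtain ⟨z, hz⟩ : ∃ z, ∀ q, cA QA x ((kr (α, k))⁻¹ ▷ q) = (k⁻¹ : GL (Fin b) F) ▷ cA QA z q := by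
      let φ : (Fin a → F) →ₗ[F] F := (polarBilin QA x).comp
        (Matrix.mulVecLin ((α⁻¹ : GL (Fin a) F) : Matrix (Fin a) (Fin a) F))
      obtain ⟨z, hz⟩ := (LinearMap.BilinForm.toDual (polarBilin QA) X.hS.ndA).surjective φ
      refine ⟨z, fun q => lext (g := (cA QA x).comp (Matrix.mulVecLin
          (((kr (α, k))⁻¹ : GL (Fin a × Fin b) F) : Matrix (Fin a × Fin b) (Fin a × Fin b) F)))
        (g' := (Matrix.mulVecLin ((k⁻¹ : GL (Fin b) F) : Matrix (Fin b) (Fin b) F)).comp (cA QA z))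
        (fun y u => ?_) q⟩
      simp only [LinearMap.comp_apply, Matrix.mulVecLin_apply, ← map_inv, kr_pure, Prod.fst_inv, Prod.snd_inv,
        cA_pure, Matrix.mulVec_smul]
      have hy : polarBilin QA z y = φ y := LinearMap.congr_fun hz y
      rw [hy]
      rfl
    refine ⟨cA QA z (g ▷ p), h ⟨z, rfl⟩, ?_⟩
    show (k⁻¹ : GL (Fin b) F) ▷ cA QA z (g ▷ p) = cA QA x p
    rw [← hz, e, mulVec_inv_mulVec]
  refine (Submodule.finrank_mono h1).trans ((Submodule.finrank_map_le _ _).trans ?_)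
  rw [show ({β, w} : Set (Fin b → F)) = (({β, w} : Finset (Fin b → F)) : Set (Fin b → F)) by simp]
  exact (finrank_span_finset_le_card _).trans Finset.card_le_two

/-- A vector of a row orthogonal to a point of a pure image is pure. -/
theorem pure_of_perp (X : Ctx QA QB Q M) (hab : a + 2 ≤ b) {g : GL (Fin a × Fin b) F} (hg : g ∈ M)
    {x₁ y₁ : Fin a → F} {w₁ γ : Fin b → F} (e : g ▷ pure x₁ w₁ = pure y₁ γ) (hx₁ : x₁ ≠ 0) (hw₁ : w₁ ≠ 0)
    (hγ : QB γ = 0) {x : Fin a → F} (hx : ¬ ∃ c : F, c • x₁ = x) {u : Fin b → F}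
    (hv : cB QB γ (g ▷ pure x u) = 0) : IsPure (g ▷ pure x u) := by
  have hab' : a < b := by omega
  have hS := X.hS
  obtain ⟨hy₁, hγ0⟩ := ne_zero_of_pure (e ▸ image_ne_zero (g := g) (pure_ne_zero hx₁ hw₁))
  have hx0 : x ≠ 0 := fun e0 => hx ⟨0, by rw [e0, zero_smul]⟩
  have main : ∀ u, cB QB γ (g ▷ pure x u) = 0 → (¬ ∃ t : F, t • w₁ = u) → IsPure (g ▷ pure x u) := by
    intro u hv hu
    have hu0 : u ≠ 0 := fun e0 => hu ⟨0, by rw [e0, zero_smul]⟩
    set v := g ▷ pure x u with hv'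
    by_cases hk : ∃ z, z ≠ 0 ∧ cA QA z v = 0
    · obtain ⟨z, hz0, hz⟩ := hk
      exact pure_of_good X hab' hg ⟨x, u, rfl⟩ (good_of_kill hS hab hz0 hz)
    push Not at hk
    by_cases hU : ∃ z, z ≠ 0 ∧ cA QA z v ∈ F ∙ γ
    · obtain ⟨z, hz0, hz⟩ := hU
      obtain ⟨c, hc⟩ := Submodule.mem_span_singleton.mp hz
      have hc0 : c ≠ 0 := fun e0 => hk z hz0 (by rw [← hc, e0, zero_smul])
      set O := LinearMap.BilinForm.orthogonal (polarBilin QB) (LinearMap.range (rows QA v)) with hO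
      obtain ⟨w, hw, hwγ⟩ := exists_outside (F ∙ γ) (X := O) (by
        have h1 := (rows QA v).finrank_range_le
        rw [Module.finrank_fin_fun] at h1
        rw [hO, LinearMap.BilinForm.finrank_orthogonal hS.ndB, Module.finrank_fin_fun, finrank_span_singleton hγ0]
        omega)
      have hγw : polarBilin QB γ w = 0 := by
        have h1 : polarBilin QB (cA QA z v) w = 0 := hw _ ⟨z, rfl⟩
        rw [← hc, map_smul, LinearMap.smul_apply, smul_eq_mul] at h1
        exact (mul_eq_zero.mp h1).resolve_left hc0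
      refine pure_of_good X hab' hg ⟨x, u, rfl⟩ (good_of_mem hγ hγ0 hγw hwγ hv (hS.ndA.2 _ fun y => ?_))
      rw [← cA_comm hS, quad_polar_comm]
      exact hw _ ⟨y, rfl⟩
    push Not at hU
    let L : (Fin b → F) →ₗ[F] (Fin a → F) :=
      { toFun := fun w => cB QB w v
        map_add' := fun w w' => cB_add QB w w' v
        map_smul' := fun c w => cB_smul QB c w v }
    have hsur : y₁ ∈ (LinearMap.ker (polarBilin QB γ)).map L := by
      by_contra hn
      obtain ⟨y, hy, hy1⟩ := Orth.exists_dual hS.ndA _ hn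
      have hy0 : y ≠ 0 := fun e0 => by
        rw [e0, map_zero, LinearMap.zero_apply] at hy1; exact zero_ne_one hy1
      refine hU y hy0 ?_
      by_contra hnot
      obtain ⟨w, hw, hw1⟩ := Orth.exists_dual hS.ndB _ hnot
      rw [cA_comm hS, hy (cB QB w v) ⟨w, by
        show polarBilin QB γ w = 0
        rw [quad_polar_comm]; exact hw γ (Submodule.mem_span_singleton_self γ), rfl⟩] at hw1
      exact zero_ne_one hw1
    obtain ⟨w, hw, hwy⟩ := hsur
    have hw0 : polarBilin QB γ w = 0 := hw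
    have hwy' : cB QB w v = y₁ := hwy
    set T := tT (a := a) QB γ w hγ hw0 with hT
    have hXv : (g⁻¹ * T * g) ▷ pure x u = pure x u + pure x₁ (-w₁) := by
      rw [mulVec_mul, mulVec_mul, ← hv', hT, tT_apply, dd_apply, hv, hwy', pure_zero_left, pure_zero_left, smul_zero, sub_zero,
        zero_sub, Matrix.mulVec_add, Matrix.mulVec_neg, hv', mulVec_inv_mulVec, ← e, mulVec_inv_mulVec,
        ← neg_one_smul F (pure x₁ w₁), ← pure_smul_right, neg_one_smul]
    obtain ⟨x', u', e'⟩ := pure_of_good X hab'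
      (M.mul_mem (M.mul_mem (M.inv_mem hg) (one_eich_mem X hγ hw0)) hg) ⟨x, u, rfl⟩
      (hXv ▸ good_sum_two X x x₁ u (-w₁))
    rw [hXv] at e'
    obtain ⟨t, ht⟩ := pure_add_pure e' (fun ⟨c, hc⟩ => hx (by
      have hc0 : c ≠ 0 := fun e0 => hx₁ (by rw [← hc, e0, zero_smul])
      exact ⟨c⁻¹, by rw [← hc, inv_smul_smul₀ hc0]⟩)) hx0 hu0
    have ht0 : t ≠ 0 := fun e0 => hw₁ (by rw [e0, zero_smul, eq_comm, neg_eq_zero] at ht; exact ht)
    exact absurd ⟨-t⁻¹, by rw [← neg_neg w₁, ← ht, smul_neg, neg_smul, neg_neg, inv_smul_smul₀ ht0]⟩ hu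
  by_cases hu : ∃ t : F, t • w₁ = u
  swap; · exact main u hv hu
  obtain ⟨t, ht⟩ := hu
  let Lx := (cB QB γ).comp
    ((Matrix.mulVecLin (g : Matrix (Fin a × Fin b) (Fin a × Fin b) F)).comp (right x))
  obtain ⟨u', hu', hu'w⟩ := exists_outside (F ∙ w₁) (X := LinearMap.ker Lx) (by
    have h1 := Lx.finrank_range_add_finrank_ker
    have h2 := Submodule.finrank_le (LinearMap.range Lx)
    rw [Module.finrank_fin_fun] at h1 h2
    rw [finrank_span_singleton hw₁]
    omega)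
  have h1 := main u' hu' fun ⟨s, hs⟩ => hu'w (Submodule.mem_span_singleton.mpr ⟨s, hs⟩)
  have h2 := main (u + u') (by rw [pure_add_right, Matrix.mulVec_add, map_add, hv, zero_add]; exact hu')
    fun ⟨s, hs⟩ => hu'w (Submodule.mem_span_singleton.mpr ⟨s - t, by rw [sub_smul, hs, ht, add_sub_cancel_left]⟩)
  exact pure_sub_of_row X hab' hg hx0 (fun e0 => hu'w (by rw [e0]; exact Submodule.zero_mem _)) h2 h1

end Cfsg.Agent.Lib.ThreeTransp.TensorOrth
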