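import Cfsg.Agent.Lib.ThreeTransp.TensorOrthScalar

/-!
The radical of the stabiliser of a totally singular `A ⊗ β`: linear parts are scalar.
-/

set_option autoImplicit false
set_option linter.unusedSectionVars false
set_option linter.unusedSimpArgs false

namespace Cfsg.Agent.Lib.ThreeTransp.TensorOrth

open Matrix Module QuadraticMap
open Cfsg.Agent.Lib.MaxSub
open Cfsg.Agent.Lib.MaxSub.OrthSplit (InE)
open Cfsg.Agent.Lib.ThreeTransp.DecompOrth (Nd perp eq_top_of_sq)
open Cfsg.Agent.Lib.Geometry (quad_add quad_sub quad_smul quad_polar_self quad_polar_comm refl refl_apply)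
open Cfsg.Agent.Lib.ThreeTransp.Tensor
open scoped MatrixGroups Matrix Kronecker commutatorElement

attribute [-simp] QuadraticMap.polarBilin_apply_apply

variable {a b : ℕ} {F : Type*} [Field F]

/-- The hypotheses. -/
structure Ctx (QA : QuadraticForm F (Fin a → F)) (QB : QuadraticForm F (Fin b → F))
    (Q : QuadraticForm F (Fin a × Fin b → F)) (M : Subgroup (GL (Fin a × Fin b) F)) : Prop where
  hS : Setting QA QB Q
  hM : Grp QA QB Q M
  ha : 3 ≤ a
  hb : 5 ≤ b
  hA : a = 4 → ∀ e c : Fin a → F, QA e = 0 → QA c = 0 → polarBilin QA e c = 0 → c ∈ F ∙ e ∨ e = 0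
  hq : 5 ≤ a ∨ ∃ s : F, s ≠ 0 ∧ s * s ≠ 1
  hno : ¬ Cfsg.Geo.omegaGL ⇑Q ≤ M

variable {QA : QuadraticForm F (Fin a → F)} {QB : QuadraticForm F (Fin b → F)}
  {Q : QuadraticForm F (Fin a × Fin b → F)} {M : Subgroup (GL (Fin a × Fin b) F)}

theorem Ctx.hac (X : Ctx QA QB Q M) : 3 ≤ Fintype.card (Fin a) := by rw [Fintype.card_fin]; exact X.ha

theorem Ctx.hbc (X : Ctx QA QB Q M) : 3 ≤ Fintype.card (Fin b) := by
  rw [Fintype.card_fin]; have := X.hb; omega

/-- `x ⊗ y ↦ x ⊗ y + (β, y) (L x ⊗ u + C x ⊗ β) - (u, y) L x ⊗ β`. -/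
def Ell (QB : QuadraticForm F (Fin b → F)) (β u : Fin b → F) (g : GL (Fin a × Fin b) F)
    (L C : (Fin a → F) →ₗ[F] (Fin a → F)) : Prop :=
  ∀ x y, (g : Matrix (Fin a × Fin b) (Fin a × Fin b) F) *ᵥ pure x y =
    pure x y + polarBilin QB β y • pure (L x) u - polarBilin QB u y • pure (L x) β + polarBilin QB β y • pure (C x) β

/-- Some element of this shape lies in `M`. -/
def IncU (QB : QuadraticForm F (Fin b → F)) (M : Subgroup (GL (Fin a × Fin b) F)) (β u : Fin b → F)
    (L : (Fin a → F) →ₗ[F] (Fin a → F)) : Prop :=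
  ∃ C, ∃ g ∈ M, Ell QB β u g L C

theorem Ell.mul {β u : Fin b → F} (hβ : QB β = 0) (hu : QB u = 0) (hβu : polarBilin QB β u = 0)
    {g g' : GL (Fin a × Fin b) F} {L L' C C' : (Fin a → F) →ₗ[F] (Fin a → F)} (h : Ell QB β u g L C)
    (h' : Ell QB β u g' L' C') : Ell QB β u (g * g') (L + L') (C + C') := fun x y => by
  rw [mulVec_mul, h', Matrix.mulVec_add, Matrix.mulVec_sub, Matrix.mulVec_add, Matrix.mulVec_smul, Matrix.mulVec_smul,
    Matrix.mulVec_smul, h, h, h, h, LinearMap.add_apply, LinearMap.add_apply, hβu, quad_polar_comm QB u β, hβu,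
    Orth.polar_self_of_sing QB hβ, Orth.polar_self_of_sing QB hu]
  funext q
  simp [Tensor.pure]
  ring

theorem Ell.inv {β u : Fin b → F} (hβ : QB β = 0) (hu : QB u = 0) (hβu : polarBilin QB β u = 0)
    {g : GL (Fin a × Fin b) F} {L C : (Fin a → F) →ₗ[F] (Fin a → F)} (h : Ell QB β u g L C) :
    Ell QB β u g⁻¹ (-L) (-C) := fun x y => by
  have h1 : (g : Matrix (Fin a × Fin b) (Fin a × Fin b) F) *ᵥ (pure x y + polarBilin QB β y • pure ((-L) x) u -
      polarBilin QB u y • pure ((-L) x) β + polarBilin QB β y • pure ((-C) x) β) = pure x y := by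
    rw [Matrix.mulVec_add, Matrix.mulVec_sub, Matrix.mulVec_add, Matrix.mulVec_smul, Matrix.mulVec_smul,
      Matrix.mulVec_smul, h, h, h, h, hβu, quad_polar_comm QB u β, hβu, Orth.polar_self_of_sing QB hβ,
      Orth.polar_self_of_sing QB hu]
    funext q
    simp [Tensor.pure]
    ring
  conv_lhs => rw [← h1, mulVec_inv_mulVec]

theorem IncU.add {β u : Fin b → F} (hβ : QB β = 0) (hu : QB u = 0) (hβu : polarBilin QB β u = 0)
    {L L' : (Fin a → F) →ₗ[F] (Fin a → F)} (h : IncU QB M β u L) (h' : IncU QB M β u L') :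
    IncU QB M β u (L + L') := by
  obtain ⟨C, g, hg, e⟩ := h
  obtain ⟨C', g', hg', e'⟩ := h'
  exact ⟨_, _, M.mul_mem hg hg', e.mul hβ hu hβu e'⟩

theorem IncU.neg {β u : Fin b → F} (hβ : QB β = 0) (hu : QB u = 0) (hβu : polarBilin QB β u = 0)
    {L : (Fin a → F) →ₗ[F] (Fin a → F)} (h : IncU QB M β u L) : IncU QB M β u (-L) := by
  obtain ⟨C, g, hg, e⟩ := h
  exact ⟨_, _, M.inv_mem hg, e.inv hβ hu hβu⟩

theorem IncU.conj (hM : Grp QA QB Q M) {β u v : Fin b → F} {L : (Fin a → F) →ₗ[F] (Fin a → F)}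
    (h : IncU QB M β u L) {g : GL (Fin a) F} {k : GL (Fin b) F} (hg : g ∈ Cfsg.Geo.omegaGL ⇑QA)
    (hk : k ∈ Cfsg.Geo.omegaGL ⇑QB) {s r : F} (hkβ : (k : Matrix (Fin b) (Fin b) F) *ᵥ β = s • β)
    (hku : (k : Matrix (Fin b) (Fin b) F) *ᵥ u = r • v) : IncU QB M β v ((s * r) • conjm g L) := by
  obtain ⟨C, G, hG, e⟩ := h
  have hgk := hM.prod (g, k) hg hk
  refine ⟨(s * s) • conjm g C, kr (g, k) * G * (kr (g, k))⁻¹, M.mul_mem (M.mul_mem hgk hG) (M.inv_mem hgk),
    fun x y => ?_⟩
  have hB : ∀ z, polarBilin QB z (((k⁻¹ : GL (Fin b) F) : Matrix (Fin b) (Fin b) F) *ᵥ y) =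
      polarBilin QB ((k : Matrix (Fin b) (Fin b) F) *ᵥ z) y := fun z => by
    rw [← Orth.iso_polar (Orth.omegaGL_le_isometry hk), mulVec_mulVec_inv]
  rw [← map_inv, mulVec_mul, mulVec_mul, kr_pure, e, Matrix.mulVec_add, Matrix.mulVec_sub, Matrix.mulVec_add,
    Matrix.mulVec_smul, Matrix.mulVec_smul, Matrix.mulVec_smul, kr_pure, kr_pure, kr_pure, kr_pure]
  simp only [Prod.fst_inv, Prod.snd_inv, mulVec_mulVec_inv, hB, hkβ, hku, LinearMap.smul_apply, conjm_apply,
    map_smul, smul_eq_mul]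
  funext q
  simp [Tensor.pure]
  ring

variable [Finite F]

theorem inc_eq_zero (X : Ctx QA QB Q M) {β : Fin b → F} (hβ : QB β = 0) (hβ0 : β ≠ 0)
    {C : (Fin a → F) →ₗ[F] (Fin a → F)} (h : Inc QB M β C) : C = 0 :=
  by_contra fun hC => X.hno (omega_of_inc X.hS X.hM X.ha X.hb X.hA hβ hβ0 h hC)

/-- Two linear parts at non-orthogonal points commute. -/
theorem IncU.commute (X : Ctx QA QB Q M) {β u v : Fin b → F} (hβ : QB β = 0) (hβ0 : β ≠ 0) (hu : QB u = 0)
    (hv : QB v = 0) (hβu : polarBilin QB β u = 0) (hβv : polarBilin QB β v = 0) (huv : polarBilin QB u v ≠ 0)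
    {L L' : (Fin a → F) →ₗ[F] (Fin a → F)} (h : IncU QB M β u L) (h' : IncU QB M β v L') (x : Fin a → F) :
    L (L' x) = L' (L x) := by
  obtain ⟨C, g, hg, e⟩ := h
  obtain ⟨C', g', hg', e'⟩ := h'
  have ei := e.inv hβ hu hβu
  have ei' := e'.inv hβ hv hβv
  have hK : Inc QB M β (polarBilin QB u v • (L'.comp L - L.comp L')) := by
    refine ⟨g * g' * g⁻¹ * g'⁻¹, M.mul_mem (M.mul_mem (M.mul_mem hg hg') (M.inv_mem hg)) (M.inv_mem hg'),
      fun x y => ?_⟩
    simp only [mulVec_mul, ei' _ _, ei _ _, e' _ _, e _ _, Matrix.mulVec_add, Matrix.mulVec_sub, Matrix.mulVec_smul,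
      Matrix.mulVec_neg, hβu, hβv, quad_polar_comm QB u β, quad_polar_comm QB v β, Orth.polar_self_of_sing QB hβ,
      Orth.polar_self_of_sing QB hu, Orth.polar_self_of_sing QB hv, quad_polar_comm QB v u, zero_smul,
      LinearMap.neg_apply, map_neg, add_zero, sub_zero, zero_add, LinearMap.smul_apply, LinearMap.sub_apply,
      LinearMap.comp_apply]
    funext q
    simp [Tensor.pure]
    ring
  have h0 := LinearMap.congr_fun (inc_eq_zero X hβ hβ0 hK) x
  rw [LinearMap.smul_apply, LinearMap.zero_apply, smul_eq_zero, LinearMap.sub_apply, LinearMap.comp_apply,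
    LinearMap.comp_apply, sub_eq_zero] at h0
  exact (h0.resolve_left huv).symm

/-- The component in `W = ⟨β, β'⟩⊥`. -/
def wproj (QB : QuadraticForm F (Fin b → F)) (β β' u : Fin b → F) : Fin b → F :=
  u - polarBilin QB β' u • β - polarBilin QB β u • β'

theorem wproj_perp {β β' : Fin b → F} (hβ : QB β = 0) (hβ' : QB β' = 0) (h1 : polarBilin QB β β' = 1)
    (u : Fin b → F) : polarBilin QB β (wproj QB β β' u) = 0 ∧ polarBilin QB β' (wproj QB β β' u) = 0 := by
  constructor <;> simp [wproj, Orth.polar_self_of_sing QB hβ, Orth.polar_self_of_sing QB hβ',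
    quad_polar_comm QB β' β, h1]

/-- Only a component along `β`. -/
theorem only_beta (hS : Setting QA QB Q) {β β' : Fin b → F} (hβ : QB β = 0) (hβ' : QB β' = 0)
    (h1 : polarBilin QB β β' = 1) {p : Fin a × Fin b → F} (hp : cB QB β p = 0)
    (hz : ∀ z, polarBilin QB β z = 0 → polarBilin QB β' z = 0 → cB QB z p = 0) : p = pure (cB QB β' p) β := by
  refine sub_eq_zero.mp (hS.nd.2 _ fun q => ?_)
  refine lext (g := (polarBilin Q).flip (p - pure (cB QB β' p) β)) (g' := 0) (fun x u => ?_) q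
  rw [LinearMap.flip_apply, LinearMap.zero_apply, B_left hS, map_sub, cB_pure]
  have h4 : cB QB u p = polarBilin QB β u • cB QB β' p := by
    conv_lhs => rw [show u = wproj QB β β' u + polarBilin QB β' u • β + polarBilin QB β u • β' by rw [wproj]; abel]
    rw [cB_add, cB_add, cB_smul, cB_smul, hp, hz _ (wproj_perp hβ hβ' h1 u).1 (wproj_perp hβ hβ' h1 u).2]
    simp
  rw [h4, quad_polar_comm QB u β, sub_self, map_zero]

theorem kr_eich_mulVec {β w : Fin b → F} (hβ : QB β = 0) (hw : polarBilin QB β w = 0) (p : Fin a × Fin b → F) :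
    (kr ((1 : GL (Fin a) F), Orth.eichGL QB β w hβ hw) : Matrix (Fin a × Fin b) (Fin a × Fin b) F) *ᵥ p =
      p + pure (cB QB β p) w - pure (cB QB w p + QB w • cB QB β p) β := by
  have key := lext (g := Matrix.mulVecLin
      (kr ((1 : GL (Fin a) F), Orth.eichGL QB β w hβ hw) : Matrix (Fin a × Fin b) (Fin a × Fin b) F))
    (g' := LinearMap.id + (left w).comp (cB QB β) - (left β).comp (cB QB w + QB w • cB QB β)) (fun x u => by
    simp only [Matrix.mulVecLin_apply, kr_pure, Units.val_one, Matrix.one_mulVec, Orth.eichGL_mulVec, pure_sub_right,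
      pure_add_right, pure_smul_right, LinearMap.sub_apply, LinearMap.add_apply, LinearMap.id_apply,
      LinearMap.comp_apply, LinearMap.smul_apply, cB_pure, map_smul, map_add, quad_polar_comm QB u β,
      quad_polar_comm QB u w]
    simp only [left, LinearMap.coe_mk, AddHom.coe_mk]
    module) p
  exact key

theorem one_eich_mem (X : Ctx QA QB Q M) {β w : Fin b → F} (hβ : QB β = 0) (hw : polarBilin QB β w = 0) :
    kr ((1 : GL (Fin a) F), Orth.eichGL QB β w hβ hw) ∈ M :=
  X.hM.prod _ (one_mem _) (eich_omega X.hS.two X.hS.ndB X.hbc hβ hw)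

/-- An element of the radical. -/
structure Rad (QB : QuadraticForm F (Fin b → F)) (Q : QuadraticForm F (Fin a × Fin b → F)) (β β' : Fin b → F)
    (E : GL (Fin a × Fin b) F) : Prop where
  iso : E ∈ Cfsg.isometryGroup F ⇑Q
  fix : ∀ x, (E : Matrix (Fin a × Fin b) (Fin a × Fin b) F) *ᵥ pure x β = pure x β
  perp : ∀ p, cB QB β p = 0 → ∃ y, (E : Matrix (Fin a × Fin b) (Fin a × Fin b) F) *ᵥ p = p + pure y β
  top : ∀ x, cB QB β ((E : Matrix (Fin a × Fin b) (Fin a × Fin b) F) *ᵥ pure x β') = x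

/-- The linear part. -/
noncomputable def lpart (QB : QuadraticForm F (Fin b → F)) (β' : Fin b → F) (E : GL (Fin a × Fin b) F)
    (z : Fin b → F) : (Fin a → F) →ₗ[F] (Fin a → F) :=
  (cB QB z).comp ((Matrix.mulVecLin (E : Matrix (Fin a × Fin b) (Fin a × Fin b) F)).comp (left β'))

theorem lpart_apply (β' : Fin b → F) (E : GL (Fin a × Fin b) F) (z : Fin b → F) (x : Fin a → F) :
    lpart QB β' E z x = cB QB z ((E : Matrix (Fin a × Fin b) (Fin a × Fin b) F) *ᵥ pure x β') := rfl

theorem lpart_add (β' : Fin b → F) (E : GL (Fin a × Fin b) F) (z z' : Fin b → F) (x : Fin a → F) :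
    lpart QB β' E (z + z') x = lpart QB β' E z x + lpart QB β' E z' x := cB_add _ _ _ _

theorem lpart_smul (β' : Fin b → F) (E : GL (Fin a × Fin b) F) (c : F) (z : Fin b → F) (x : Fin a → F) :
    lpart QB β' E (c • z) x = c • lpart QB β' E z x := cB_smul _ _ _ _

/-- The linear part is self-adjoint and determines the action on the middle. -/
theorem Rad.sym (X : Ctx QA QB Q M) {β β' : Fin b → F} (hβ : QB β = 0) (hβ' : QB β' = 0)
    (h1 : polarBilin QB β β' = 1) {E : GL (Fin a × Fin b) F} (hE : Rad QB Q β β' E)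
    (hconj : ∀ gh : GL (Fin a) F × GL (Fin b) F, gh.1 ∈ Cfsg.Geo.omegaGL ⇑QA → gh.2 ∈ Cfsg.Geo.omegaGL ⇑QB →
      E * kr gh * E⁻¹ ∈ M) {z : Fin b → F} (hz : polarBilin QB β z = 0) (hz' : polarBilin QB β' z = 0) :
    (∀ x, (E : Matrix (Fin a × Fin b) (Fin a × Fin b) F) *ᵥ pure x z = pure x z - pure (lpart QB β' E z x) β) ∧
      ∀ x y, polarBilin QA (lpart QB β' E z x) y = polarBilin QA x (lpart QB β' E z y) := by
  classical
  have hβ0 : β ≠ 0 := fun e => by simp [e] at h1
  have h2 : polarBilin QB β' β = 1 := by rw [quad_polar_comm]; exact h1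
  set R := kr ((1 : GL (Fin a) F), Orth.eichGL QB β z hβ hz) with hR
  set K := E * R * E⁻¹ * R⁻¹ with hK
  have hKM : K ∈ M := M.mul_mem (hconj (1, _) (one_mem _) (eich_omega X.hS.two X.hS.ndB X.hbc hβ hz))
    (M.inv_mem (one_eich_mem X hβ hz))
  have hKq : ∀ p, (K : Matrix (Fin a × Fin b) (Fin a × Fin b) F) *ᵥ ((R : Matrix (Fin a × Fin b) (Fin a × Fin b) F) *ᵥ
      ((E : Matrix (Fin a × Fin b) (Fin a × Fin b) F) *ᵥ p)) =
      (E : Matrix (Fin a × Fin b) (Fin a × Fin b) F) *ᵥ ((R : Matrix (Fin a × Fin b) (Fin a × Fin b) F) *ᵥ p) :=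
    fun p => by rw [hK, mulVec_mul, mulVec_mul, mulVec_mul, mulVec_inv_mulVec, mulVec_inv_mulVec]
  have ββ := Orth.polar_self_of_sing QB hβ
  have hzβ : polarBilin QB z β = 0 := by rw [quad_polar_comm]; exact hz
  have hzβ' : polarBilin QB z β' = 0 := by rw [quad_polar_comm]; exact hz'
  have hfix : ∀ r, cB QB β r = 0 → (K : Matrix (Fin a × Fin b) (Fin a × Fin b) F) *ᵥ r = r := by
    intro r hr
    obtain ⟨y, hy⟩ := hE.perp r hr
    set p := r - pure (y - cB QB z r) β with hp
    have e1 : (E : Matrix (Fin a × Fin b) (Fin a × Fin b) F) *ᵥ p = r + pure (cB QB z r) β := by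
      rw [hp, Matrix.mulVec_sub, hy, hE.fix]
      funext q
      simp [Tensor.pure]
      ring
    have e2 : (R : Matrix (Fin a × Fin b) (Fin a × Fin b) F) *ᵥ (r + pure (cB QB z r) β) = r := by
      rw [hR, kr_eich_mulVec, map_add, map_add, cB_pure, cB_pure, hr, ββ, hzβ]
      simp [pure_zero_left]
    have e3 : (R : Matrix (Fin a × Fin b) (Fin a × Fin b) F) *ᵥ p = r - pure y β := by
      rw [hR, kr_eich_mulVec, hp, map_sub, map_sub, cB_pure, cB_pure, hr, ββ, hzβ]
      funext q
      simp [Tensor.pure]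
      ring
    have := hKq p
    rw [e1, e2, e3, Matrix.mulVec_sub, hy, hE.fix, add_sub_cancel_right] at this
    exact this
  let t : (Fin a → F) →ₗ[F] (Fin a → F) := (cB QB β').comp
    ((Matrix.mulVecLin (E : Matrix (Fin a × Fin b) (Fin a × Fin b) F) - LinearMap.id).comp (left z))
  have hxz : ∀ x, (E : Matrix (Fin a × Fin b) (Fin a × Fin b) F) *ᵥ pure x z = pure x z + pure (t x) β := by
    intro x
    obtain ⟨y, hy⟩ := hE.perp (pure x z) (by rw [cB_pure, hz, zero_smul])
    show _ = _ + pure (cB QB β' ((E : Matrix (Fin a × Fin b) (Fin a × Fin b) F) *ᵥ pure x z - pure x z)) β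
    rw [hy, add_sub_cancel_left, cB_pure, h2, one_smul]
  have hKβ' : ∀ x, (K : Matrix (Fin a × Fin b) (Fin a × Fin b) F) *ᵥ pure x β' =
      pure x β' + pure ((t + lpart QB β' E z) x) β := by
    intro x
    set m₀ := (E : Matrix (Fin a × Fin b) (Fin a × Fin b) F) *ᵥ pure x β' with hm₀
    have e1 := hKq (pure x β')
    rw [← hm₀, hR, kr_eich_mulVec, kr_eich_mulVec, hE.top x, cB_pure, cB_pure, h1, hzβ', one_smul, zero_smul,
      zero_add] at e1
    conv_rhs at e1 => rw [Matrix.mulVec_sub, Matrix.mulVec_add, ← hm₀, hxz, hE.fix]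
    set r := m₀ + pure x z - pure (cB QB z m₀ + QB z • x) β - pure x β' with hr
    have hrb : cB QB β r = 0 := by
      rw [hr, map_sub, map_sub, map_add, hE.top x, cB_pure, cB_pure, cB_pure, hz, ββ, h1, zero_smul, zero_smul,
        one_smul]
      simp
    rw [show m₀ + pure x z - pure (cB QB z m₀ + QB z • x) β = pure x β' + r by rw [hr]; abel, Matrix.mulVec_add,
      hfix r hrb, ← eq_sub_iff_add_eq] at e1
    rw [e1, hr, LinearMap.add_apply, lpart_apply, ← hm₀, pure_add_left, pure_add_left]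
    abel
  have hC : t + lpart QB β' E z = 0 := inc_eq_zero X hβ hβ0 ⟨K, hKM, fun x u => by
    rw [show pure x u = polarBilin QB β u • pure x β' + pure x (u - polarBilin QB β u • β') by
      rw [← pure_smul_right, ← pure_add_right, add_sub_cancel], Matrix.mulVec_add, Matrix.mulVec_smul, hKβ',
      hfix (pure x (u - polarBilin QB β u • β')) (by
        rw [cB_pure, map_sub, map_smul, h1, smul_eq_mul, mul_one, sub_self, zero_smul])]
    module⟩
  have ht : ∀ x, t x = -lpart QB β' E z x := fun x => eq_neg_of_add_eq_zero_left (LinearMap.congr_fun hC x)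
  have hfst : ∀ x, (E : Matrix (Fin a × Fin b) (Fin a × Fin b) F) *ᵥ pure x z =
      pure x z - pure (lpart QB β' E z x) β := fun x => by
    rw [hxz, ht, ← neg_one_smul F (lpart QB β' E z x), pure_smul_left]; module
  refine ⟨hfst, fun x y => ?_⟩
  have h := Orth.iso_polar hE.iso (pure x z) (pure y β')
  rw [hfst, map_sub, LinearMap.sub_apply, B_left X.hS, B_left X.hS, hE.top, X.hS.form, hzβ', mul_zero, sub_eq_zero] at h
  exact h.symm

theorem conj_mem (X : Ctx QA QB Q M) {E : GL (Fin a × Fin b) F} (hE : E ∈ M)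
    (gh : GL (Fin a) F × GL (Fin b) F) (h1 : gh.1 ∈ Cfsg.Geo.omegaGL ⇑QA) (h2 : gh.2 ∈ Cfsg.Geo.omegaGL ⇑QB) :
    E * kr gh * E⁻¹ ∈ M :=
  M.mul_mem (M.mul_mem hE (X.hM.prod gh h1 h2)) (M.inv_mem hE)

/-- The family at a singular point consists of scalars. -/
theorem incU_scalar (X : Ctx QA QB Q M) {β β' u : Fin b → F} (hβ : QB β = 0) (hβ' : QB β' = 0)
    (h1 : polarBilin QB β β' = 1) (hu : QB u = 0) (hu0 : u ≠ 0) (hβu : polarBilin QB β u = 0)
    (hβ'u : polarBilin QB β' u = 0) {L : (Fin a → F) →ₗ[F] (Fin a → F)} (h : IncU QB M β u L)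
    (hsym : ∀ L, IncU QB M β u L → ∀ x y, polarBilin QA (L x) y = polarBilin QA x (L y)) :
    ∃ k : F, ∀ x, L x = k • x := by
  haveI : Fintype F := Fintype.ofFinite F
  have hβ0 : β ≠ 0 := fun e => by simp [e] at h1
  have hbeta : ((1 : GL (Fin b) F) : Matrix (Fin b) (Fin b) F) *ᵥ β = (1 : F) • β := by simp
  have hone : ((1 : GL (Fin b) F) : Matrix (Fin b) (Fin b) F) *ᵥ u = (1 : F) • u := by simp
  refine scalar_of_family X.hS.two X.hS.ndA X.ha X.hq (IncU QB M β u) (fun L L' => IncU.add hβ hu hβu) ?_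
    (fun g hg L hL => by simpa using hL.conj X.hM hg (one_mem _) hbeta hone) hsym ?_ h
  · -- scalars
    intro t L hL
    let S : AddSubgroup F :=
      { carrier := {t | IncU QB M β u (t • L)}
        zero_mem' := ⟨0, 1, M.one_mem, fun x y => by simp [pure_zero_left]⟩
        add_mem' := fun {x y} hx hy => by
          show IncU QB M β u _
          rw [add_smul]; exact IncU.add hβ hu hβu hx hy
        neg_mem' := fun {x} hx => by
          show IncU QB M β u _
          rw [show (-x) • L = -(x • L) from LinearMap.ext fun y => by simp]; exact IncU.neg hβ hu hβu hx }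
    suffices hS' : S = ⊤ by
      have : t ∈ S := by rw [hS']; trivial
      exact this
    refine eq_top_of_sq X.hS.two S fun x => ?_
    show IncU QB M β u _
    rcases eq_or_ne x 0 with rfl | hx
    · rw [mul_zero, zero_smul]; exact ⟨0, 1, M.one_mem, fun x y => by simp [pure_zero_left]⟩
    -- an element scaling `β` by a square and fixing `u`
    set p := β - β' with hp
    set c := β - x • β' with hc
    have hk := toGL_comm_mem (refl QB p) (refl QB c)
    have hpi : (refl QB p)⁻¹ = refl QB p :=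
      inv_eq_of_mul_eq_one_right (Cfsg.Agent.Lib.Geometry.refl_mul_self QB p)
    have hci : (refl QB c)⁻¹ = refl QB c :=
      inv_eq_of_mul_eq_one_right (Cfsg.Agent.Lib.Geometry.refl_mul_self QB c)
    have happ : ∀ y, ((Orth.toGL QB ⁅refl QB p, refl QB c⁆ : GL (Fin b) F) : Matrix (Fin b) (Fin b) F) *ᵥ y =
        (refl QB p : (Fin b → F) ≃ₗ[F] (Fin b → F)) ((refl QB c : (Fin b → F) ≃ₗ[F] (Fin b → F))
          ((refl QB p : (Fin b → F) ≃ₗ[F] (Fin b → F)) ((refl QB c : (Fin b → F) ≃ₗ[F] (Fin b → F)) y))) := by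
      intro y
      rw [Orth.toGL_mulVec, commutatorElement_def, hpi, hci]
      rfl
    have h2 : polarBilin QB β' β = 1 := by rw [quad_polar_comm]; exact h1
    have hQp : QB p = -1 := by rw [hp, quad_sub, hβ, hβ', h1]; ring
    have hQc : QB c = -x := by rw [hc, quad_sub, quad_smul, hβ, hβ', map_smul, h1, smul_eq_mul]; ring
    have h2' := IncU.conj X.hM hL (one_mem _) hk (s := (x * x)⁻¹⁻¹) (r := 1) (v := u) (by
      rw [happ]
      simp only [refl_apply, hQp, hQc]
      simp only [hp, hc, map_sub, map_smul, LinearMap.sub_apply, LinearMap.smul_apply,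
        Orth.polar_self_of_sing QB hβ, Orth.polar_self_of_sing QB hβ', h1, h2, smul_eq_mul]
      match_scalars <;> field_simp <;> ring) (by
      rw [happ]
      simp [refl_apply, hp, hc, hβu, hβ'u])
    have e : ((x * x)⁻¹⁻¹ * 1) • conjm (1 : GL (Fin a) F) L = (x * x) • L := LinearMap.ext fun y => by
      simp [conjm_apply]
    rwa [e] at h2'
  · -- no rank one member
    intro k e hk he0 he hP
    obtain ⟨u', hu', huu'⟩ := exists_partner' X.hS.ndB hu hu0
    set v := wproj QB β β' u' with hv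
    have hvv := wproj_perp hβ hβ' h1 u'
    obtain ⟨v', hv', hv'u, hv'β, hv'β'⟩ : ∃ v', QB v' = 0 ∧ polarBilin QB u v' = 1 ∧ polarBilin QB β v' = 0 ∧
        polarBilin QB β' v' = 0 := by
      have huv : polarBilin QB u v = 1 := by
        rw [hv, wproj, map_sub, map_sub, map_smul, map_smul, huu', quad_polar_comm QB u β, hβu,
          quad_polar_comm QB u β', hβ'u]
        simp
      refine ⟨v - QB v • u, ?_, ?_, ?_, ?_⟩
      · rw [quad_sub, quad_smul, hu, map_smul, quad_polar_comm QB v u, huv, smul_eq_mul]; ring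
      · rw [map_sub, map_smul, huv, Orth.polar_self_of_sing QB hu, smul_zero, sub_zero]
      · rw [map_sub, map_smul, hvv.1, hβu, smul_zero, sub_zero]
      · rw [map_sub, map_smul, hvv.2, hβ'u, smul_zero, sub_zero]
    have hv'0 : v' ≠ 0 := fun e0 => by rw [e0, map_zero] at hv'u; exact zero_ne_one hv'u
    -- move `u` to a partner, fixing `β`
    obtain ⟨w, hw, hwβ, hwβ', hwu, hwv⟩ : ∃ w, QB w = 0 ∧ polarBilin QB β w = 0 ∧ polarBilin QB β' w = 0 ∧
        polarBilin QB w u ≠ 0 ∧ polarBilin QB w v' ≠ 0 := by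
      have hnd := (nd_top X.hS.ndB).perp_pair (e := β) (f := β') trivial trivial hβ hβ' h1
      obtain ⟨y, hy, hQy⟩ := (hnd.perp_pair (e := u) (f := v') ⟨⟨trivial, hβu⟩, hβ'u⟩ ⟨⟨trivial, hv'β⟩, hv'β'⟩
        hu hv' hv'u).exists_aniso fun hbot => by
        have h1 := finrank_perp_two (Q := QB) β β'
        have h2 := OrthSplit.finrank_inf_ker (perp QB (perp QB ⊤ β) β') (polarBilin QB u)
        have h3 := OrthSplit.finrank_inf_ker (perp QB (perp QB (perp QB ⊤ β) β') u) (polarBilin QB v')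
        unfold perp at hbot h3 h2 h1
        rw [hbot, finrank_bot] at h3
        rw [Fintype.card_fin] at h1
        have := X.hb
        omega
      have hyu : polarBilin QB u y = 0 := hy.1.2
      have hyv : polarBilin QB v' y = 0 := hy.2
      refine ⟨u - QB y • v' + y, ?_, ?_, ?_, ?_, ?_⟩
      · simp only [quad_add, quad_sub, quad_smul, hu, hv', map_smul, map_sub, LinearMap.sub_apply,
          LinearMap.smul_apply, hv'u, hyu, hyv, smul_eq_mul]
        ring
      · simp [map_add, map_sub, map_smul, hβu, hv'β, show polarBilin QB β y = 0 from hy.1.1.1.2]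
      · simp [map_add, map_sub, map_smul, hβ'u, hv'β', show polarBilin QB β' y = 0 from hy.1.1.2]
      · simp only [map_add, map_sub, map_smul, LinearMap.add_apply, LinearMap.sub_apply, LinearMap.smul_apply,
          Orth.polar_self_of_sing QB hu, quad_polar_comm QB v' u, hv'u, quad_polar_comm QB y u, hyu, smul_eq_mul]
        simpa using hQy
      · simp only [map_add, map_sub, map_smul, LinearMap.add_apply, LinearMap.sub_apply, LinearMap.smul_apply,
          Orth.polar_self_of_sing QB hv', hv'u, quad_polar_comm QB y v', hyv, smul_eq_mul]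
        simp
    set v'' := (polarBilin QB w v')⁻¹ • v' with hv''
    set u'' := (polarBilin QB w u)⁻¹ • u with hu''
    have hx : polarBilin QB w (v'' - u'') = 0 := by
      rw [map_sub, hv'', hu'', map_smul, map_smul, smul_eq_mul, smul_eq_mul, inv_mul_cancel₀ hwv, inv_mul_cancel₀ hwu,
        sub_self]
    have hβfix : (Orth.eichGL QB w (v'' - u'') hw hx : Matrix (Fin b) (Fin b) F) *ᵥ β = (1 : F) • β := by
      rw [Orth.eichGL_mulVec, hwβ, map_sub, hv'', hu'', map_smul, map_smul, hv'β, hβu]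
      simp
    have hufix : (Orth.eichGL QB w (v'' - u'') hw hx : Matrix (Fin b) (Fin b) F) *ᵥ u =
        (polarBilin QB w u * (polarBilin QB w v')⁻¹) • v' := by
      have hs : u = polarBilin QB w u • u'' := by rw [hu'', smul_inv_smul₀ hwu]
      have him : (Orth.eichGL QB w (v'' - u'') hw hx : Matrix (Fin b) (Fin b) F) *ᵥ u'' = v'' := by
        have q1 : QB v'' = 0 := by rw [hv'', quad_smul, hv', mul_zero]
        have q2 : QB u'' = 0 := by rw [hu'', quad_smul, hu, mul_zero]
        have q3 : polarBilin QB w u'' = 1 := by rw [hu'', map_smul, smul_eq_mul, inv_mul_cancel₀ hwu]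
        rw [Orth.eichGL_mulVec, quad_polar_comm QB u'' w, q3, one_smul, mul_one, map_sub,
          Orth.polar_self_of_sing QB q2, sub_zero, quad_sub, q1, q2, zero_add, zero_sub, quad_polar_comm QB v'' u'',
          add_neg_cancel, zero_smul, sub_zero, add_sub_cancel]
      conv_lhs => rw [hs, Matrix.mulVec_smul, him, hv'', smul_smul]
    obtain ⟨f, hf, hef⟩ := exists_partner' X.hS.ndA he he0
    have hf0 : f ≠ 0 := fun e0 => by rw [e0, map_zero] at hef; exact zero_ne_one hef
    obtain ⟨g, c, hg, hc, hge⟩ := move X.hS.two X.hS.ndA X.hac he hf he0 hf0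
    have hP' := IncU.conj X.hM hP hg (eich_omega X.hS.two X.hS.ndB X.hbc hw hx) hβfix hufix
    have hcom := IncU.commute X hβ hβ0 hu hv' hβu hv'β (by rw [hv'u]; exact one_ne_zero) hP hP' f
    have hge' : ∀ y, polarBilin QA e (((g⁻¹ : GL (Fin a) F) : Matrix (Fin a) (Fin a) F) *ᵥ y) =
        c * polarBilin QA f y := fun y => by
      rw [← Orth.iso_polar (Orth.omegaGL_le_isometry hg), mulVec_mulVec_inv, hge, map_smul, LinearMap.smul_apply,
        smul_eq_mul]
    simp only [LinearMap.smul_apply, rk_apply, conjm_apply, hge', Orth.polar_self_of_sing QA hf, hef, map_smul,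
      Matrix.mulVec_smul, hge, mul_zero, zero_smul, smul_zero, map_zero, mul_one, one_mul, smul_smul, map_zero] at hcom
    have hne : ∀ t : F, t • f = 0 → t = 0 := fun t ht => (smul_eq_zero.mp ht).resolve_right hf0
    have hfe : polarBilin QA f e = 1 := by rw [quad_polar_comm]; exact hef
    simp [hfe, hk, hc, hwu, hwv, he0, hf0, smul_eq_zero, hef, Orth.polar_self_of_sing QA hf] at hcom
    exact mul_ne_zero hk (mul_ne_zero (mul_ne_zero hwu (inv_ne_zero hwv))
      (mul_ne_zero (mul_ne_zero hk hc) hc)) (hne _ hcom.symm)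


/-- The linear part of a member is scalar. -/
theorem member_scalar (X : Ctx QA QB Q M) {β β' : Fin b → F} (hβ : QB β = 0) (hβ' : QB β' = 0)
    (h1 : polarBilin QB β β' = 1) {E : GL (Fin a × Fin b) F} (hE : Rad QB Q β β' E) (hEM : E ∈ M)
    {z : Fin b → F} (hz : polarBilin QB β z = 0) (hz' : polarBilin QB β' z = 0) :
    ∃ k : F, ∀ x, lpart QB β' E z x = k • x := by
  classical
  set W := perp QB (perp QB ⊤ β) β' with hW
  have hnd : Nd QB W := (nd_top X.hS.ndB).perp_pair (e := β) (f := β') trivial trivial hβ hβ' h1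
  have hd : 3 ≤ finrank F W := by
    have := finrank_perp_two (Q := QB) β β'
    rw [Fintype.card_fin] at this
    have := X.hb
    show 3 ≤ finrank F (perp QB (perp QB ⊤ β) β')
    omega
  have h2 : polarBilin QB β' β = 1 := by rw [quad_polar_comm]; exact h1
  have hsing : ∀ u, u ∈ W → QB u = 0 → ∃ k : F, ∀ x, lpart QB β' E u x = k • x := by
    intro u hu hQu
    rcases eq_or_ne u 0 with rfl | hu0
    · exact ⟨0, fun x => by rw [← zero_smul F (0 : Fin b → F), lpart_smul, zero_smul, zero_smul]⟩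
    have hβu : polarBilin QB β u = 0 := hu.1.2
    have hβ'u : polarBilin QB β' u = 0 := hu.2
    obtain ⟨y, hy, huy⟩ := hnd u hu hu0
    obtain ⟨u', hu'W, hQu', huu'⟩ := Orth.exists_partner X.hS.ndB hQu hu hy huy
    obtain ⟨w, hw, hQw⟩ := (hnd.perp_pair hu hu'W hQu hQu' huu').exists_aniso fun hbot => by
      have h2 := OrthSplit.finrank_inf_ker W (polarBilin QB u)
      have h3 := OrthSplit.finrank_inf_ker (perp QB W u) (polarBilin QB u')
      unfold perp at hbot h3
      rw [hbot, finrank_bot] at h3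
      omega
    have huw : polarBilin QB u w = 0 := hw.1.2
    have hwW : w ∈ W := hw.1.1
    have hβw : polarBilin QB β w = 0 := hwW.1.2
    have hβ'w : polarBilin QB β' w = 0 := hwW.2
    have huw' : polarBilin QB u (-w) = 0 := by rw [map_neg, huw, neg_zero]
    -- conjugates
    let cj : (v : Fin b → F) → polarBilin QB u v = 0 → GL (Fin a × Fin b) F := fun v hv =>
      kr ((1 : GL (Fin a) F), Orth.eichGL QB u v hQu hv) * E * (kr ((1 : GL (Fin a) F), Orth.eichGL QB u v hQu hv))⁻¹
    have hinv : ∀ (v : Fin b → F) (hv : polarBilin QB u v = 0) (hv' : polarBilin QB u (-v) = 0),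
        (kr ((1 : GL (Fin a) F), Orth.eichGL QB u v hQu hv))⁻¹ =
          kr ((1 : GL (Fin a) F), Orth.eichGL QB u (-v) hQu hv') := fun v hv hv' => by
      rw [← map_inv, Prod.inv_mk, inv_one]
      congr 2
      rw [Orth.eichGL, Orth.eichGL, ← map_inv, Cfsg.Agent.Lib.Classical.eich_inv]
    have hfb : ∀ (v : Fin b → F) (hv : polarBilin QB u v = 0), polarBilin QB β v = 0 → polarBilin QB β' v = 0 →
        (Orth.eichGL QB u v hQu hv : Matrix (Fin b) (Fin b) F) *ᵥ β = β ∧
        (Orth.eichGL QB u v hQu hv : Matrix (Fin b) (Fin b) F) *ᵥ β' = β' := fun v hv h3 h4 => by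
      constructor <;> simp [Orth.eichGL_mulVec, hβu, hβ'u, h3, h4]
    have hcbk : ∀ (g : GL (Fin b) F), g ∈ Cfsg.isometryGroup F ⇑QB → ∀ s p,
        cB QB ((g : Matrix (Fin b) (Fin b) F) *ᵥ s)
          ((kr ((1 : GL (Fin a) F), g) : Matrix (Fin a × Fin b) (Fin a × Fin b) F) *ᵥ p) = cB QB s p :=
      fun g hg s p => lext (g := (cB QB ((g : Matrix (Fin b) (Fin b) F) *ᵥ s)).comp
          (Matrix.mulVecLin (kr ((1 : GL (Fin a) F), g) : Matrix (Fin a × Fin b) (Fin a × Fin b) F)))
        (g' := cB QB s) (fun x r => by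
          simp only [LinearMap.comp_apply, Matrix.mulVecLin_apply, kr_pure, Units.val_one, Matrix.one_mulVec, cB_pure,
            Orth.iso_polar hg]) p
    have hcj : ∀ (v : Fin b → F) (hv : polarBilin QB u v = 0) (hv' : polarBilin QB u (-v) = 0),
        polarBilin QB β v = 0 → polarBilin QB β' v = 0 → Rad QB Q β β' (cj v hv) ∧ cj v hv ∈ M ∧
        ∀ s x, lpart QB β' (cj v hv) s x =
          lpart QB β' E ((Orth.eichGL QB u (-v) hQu hv' : Matrix (Fin b) (Fin b) F) *ᵥ s) x := by
      intro v hv hv' h3 h4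
      have hm := X.hM.prod (1, Orth.eichGL QB u v hQu hv) (one_mem _) (eich_omega X.hS.two X.hS.ndB X.hbc hQu hv)
      obtain ⟨f1, f2⟩ := hfb v hv h3 h4
      obtain ⟨f1', f2'⟩ := hfb (-v) hv' (by rw [map_neg, h3, neg_zero]) (by rw [map_neg, h4, neg_zero])
      have hmem : cj v hv ∈ M := M.mul_mem (M.mul_mem hm hEM) (M.inv_mem hm)
      have hiso : Orth.eichGL QB u v hQu hv ∈ Cfsg.isometryGroup F ⇑QB := Orth.toGL_mem_isometry QB _
      have hg1 : ∀ p, ((cj v hv : GL (Fin a × Fin b) F) : Matrix (Fin a × Fin b) (Fin a × Fin b) F) *ᵥ p =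
          (kr ((1 : GL (Fin a) F), Orth.eichGL QB u v hQu hv) : Matrix (Fin a × Fin b) (Fin a × Fin b) F) *ᵥ
          ((E : Matrix (Fin a × Fin b) (Fin a × Fin b) F) *ᵥ
          ((kr ((1 : GL (Fin a) F), Orth.eichGL QB u (-v) hQu hv') : Matrix (Fin a × Fin b) (Fin a × Fin b) F) *ᵥ p)) :=
        fun p => by simp only [cj, mulVec_mul, hinv v hv hv']
      have hback : ∀ s : Fin b → F, (Orth.eichGL QB u v hQu hv : Matrix (Fin b) (Fin b) F) *ᵥ
          ((Orth.eichGL QB u (-v) hQu hv' : Matrix (Fin b) (Fin b) F) *ᵥ s) = s := fun s => by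
        rw [show Orth.eichGL QB u (-v) hQu hv' = (Orth.eichGL QB u v hQu hv)⁻¹ by
          rw [Orth.eichGL, Orth.eichGL, ← map_inv, Cfsg.Agent.Lib.Classical.eich_inv], mulVec_mulVec_inv]
      have hcb2 : ∀ s p, cB QB s ((kr ((1 : GL (Fin a) F), Orth.eichGL QB u v hQu hv) :
          Matrix (Fin a × Fin b) (Fin a × Fin b) F) *ᵥ p) =
          cB QB ((Orth.eichGL QB u (-v) hQu hv' : Matrix (Fin b) (Fin b) F) *ᵥ s) p := fun s p => by
        conv_lhs => rw [← hback s, hcbk _ hiso]
      refine ⟨⟨X.hM.pres hmem, fun x => ?_, fun p hp => ?_, fun x => ?_⟩, hmem, fun s x => ?_⟩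
      · rw [hg1, kr_pure, f1', Units.val_one, Matrix.one_mulVec, hE.fix, kr_pure, Units.val_one, Matrix.one_mulVec, f1]
      · obtain ⟨q, hq⟩ := hE.perp ((kr ((1 : GL (Fin a) F), Orth.eichGL QB u (-v) hQu hv') :
            Matrix (Fin a × Fin b) (Fin a × Fin b) F) *ᵥ p) (by
          have h5 := hcbk (Orth.eichGL QB u (-v) hQu hv') (Orth.toGL_mem_isometry QB _) β p
          rw [f1', hp] at h5
          exact h5)
        refine ⟨q, ?_⟩
        rw [hg1, hq, Matrix.mulVec_add, kr_pure, Units.val_one, Matrix.one_mulVec, f1, ← hinv v hv hv',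
          mulVec_mulVec_inv]
      · rw [hg1, kr_pure, f2', Units.val_one, Matrix.one_mulVec, hcb2, f1', hE.top]
      · rw [lpart_apply, hg1, kr_pure, f2', Units.val_one, Matrix.one_mulVec, hcb2, lpart_apply]
    obtain ⟨r1, m1, l1⟩ := hcj w huw huw' hβw hβ'w
    obtain ⟨r2, m2, l2⟩ := hcj (-w) huw' (by rw [neg_neg]; exact huw) (by rw [map_neg, hβw, neg_zero])
      (by rw [map_neg, hβ'w, neg_zero])
    -- composition
    have hsub : ∀ {G G' : GL (Fin a × Fin b) F}, Rad QB Q β β' G → Rad QB Q β β' G' →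
        Rad QB Q β β' (G * G') ∧ ∀ s, polarBilin QB β s = 0 → polarBilin QB β' s = 0 → ∀ x,
          lpart QB β' (G * G') s x = lpart QB β' G s x + lpart QB β' G' s x := by
      intro G G' hG hG'
      have key : ∀ x, ∃ q, ((G * G' : GL (Fin a × Fin b) F) : Matrix (Fin a × Fin b) (Fin a × Fin b) F) *ᵥ pure x β' =
          (G : Matrix (Fin a × Fin b) (Fin a × Fin b) F) *ᵥ pure x β' +
          ((G' : Matrix (Fin a × Fin b) (Fin a × Fin b) F) *ᵥ pure x β' - pure x β') + pure q β := fun x => by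
        obtain ⟨q, hq⟩ := hG.perp ((G' : Matrix (Fin a × Fin b) (Fin a × Fin b) F) *ᵥ pure x β' - pure x β') (by
          rw [map_sub, hG'.top, cB_pure, h1, one_smul, sub_self])
        refine ⟨q, ?_⟩
        rw [mulVec_mul, add_assoc, ← hq, ← Matrix.mulVec_add, add_sub_cancel]
      refine ⟨⟨Subgroup.mul_mem _ hG.iso hG'.iso, fun x => by rw [mulVec_mul, hG'.fix, hG.fix], fun p hp => ?_,
        fun x => ?_⟩, fun s hs hs' x => ?_⟩
      · obtain ⟨q', hq'⟩ := hG'.perp p hp
        obtain ⟨q, hq⟩ := hG.perp p hp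
        refine ⟨q + q', ?_⟩
        rw [mulVec_mul, hq', Matrix.mulVec_add, hq, hG.fix, pure_add_left]
        abel
      · obtain ⟨q, hq⟩ := key x
        rw [hq, map_add, map_add, map_sub, hG.top, hG'.top, cB_pure, cB_pure, h1, Orth.polar_self_of_sing QB hβ]
        simp
      · obtain ⟨q, hq⟩ := key x
        rw [lpart_apply, hq, map_add, map_add, map_sub, cB_pure, cB_pure, quad_polar_comm QB s β, hs, lpart_apply,
          lpart_apply, quad_polar_comm QB s β', hs', zero_smul, zero_smul, sub_zero, add_zero]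
    -- the inverse
    have hEcB : ∀ p, cB QB β ((E : Matrix (Fin a × Fin b) (Fin a × Fin b) F) *ᵥ p) = cB QB β p := fun p => by
      refine sub_eq_zero.mp (X.hS.ndA.2 _ fun y => ?_)
      rw [map_sub, ← B_left X.hS, ← B_left X.hS]
      conv_lhs => arg 1; rw [← hE.fix y, Orth.iso_polar hE.iso]
      rw [sub_self]
    have hEi : Rad QB Q β β' E⁻¹ := by
      refine ⟨Subgroup.inv_mem _ hE.iso, fun x => ?_, fun p hp => ?_, fun x => ?_⟩
      · conv_lhs => rw [← hE.fix x, mulVec_inv_mulVec]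
      · obtain ⟨q, hq⟩ := hE.perp p hp
        refine ⟨-q, ?_⟩
        have h3 : (E : Matrix (Fin a × Fin b) (Fin a × Fin b) F) *ᵥ (p + pure (-q) β) = p := by
          rw [Matrix.mulVec_add, hq, hE.fix, ← neg_one_smul F q, pure_smul_left]; module
        conv_lhs => rw [← h3, mulVec_inv_mulVec]
      · rw [← hEcB, mulVec_mulVec_inv, cB_pure, h1, one_smul]
    have hEil : ∀ s, polarBilin QB β s = 0 → polarBilin QB β' s = 0 → ∀ x,
        lpart QB β' E⁻¹ s x = -lpart QB β' E s x := fun s hs hs' x => by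
      have h3 := (hsub hE hEi).2 s hs hs' x
      rw [mul_inv_cancel, lpart_apply, Units.val_one, Matrix.one_mulVec, cB_pure, quad_polar_comm QB s β', hs',
        zero_smul] at h3
      exact eq_neg_of_add_eq_zero_right h3.symm
    obtain ⟨r12, l12⟩ := hsub r1 r2
    obtain ⟨rii, lii⟩ := hsub hEi hEi
    obtain ⟨r3, l3⟩ := hsub r12 rii
    set G := cj w huw * cj (-w) huw' * (E⁻¹ * E⁻¹) with hG
    have hGM : G ∈ M := M.mul_mem (M.mul_mem m1 m2) (M.mul_mem (M.inv_mem hEM) (M.inv_mem hEM))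
    set c := -(2 * QB w) with hc
    have hl : ∀ s, polarBilin QB β s = 0 → polarBilin QB β' s = 0 → ∀ x,
        lpart QB β' G s x = (c * polarBilin QB s u) • lpart QB β' E u x := by
      intro s hs hs' x
      rw [l3 s hs hs', l12 s hs hs', lii s hs hs', hEil s hs hs', l1, l2, Orth.eichGL_mulVec, Orth.eichGL_mulVec]
      have hneg : ∀ v : Fin b → F, lpart QB β' E (-v) x = -lpart QB β' E v x := fun v => by
        rw [← neg_one_smul F v, lpart_smul, neg_one_smul]
      simp only [map_neg, QuadraticMap.map_neg, neg_neg, sub_eq_add_neg, lpart_add, hneg, lpart_smul, hc, smul_neg]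
      module
    have hIU : IncU QB M β u (c • lpart QB β' E u) := by
      let R : (Fin a → F) →ₗ[F] (Fin a × Fin b → F) :=
        (Matrix.mulVecLin (G : Matrix (Fin a × Fin b) (Fin a × Fin b) F)).comp (left β') - left β'
      have hR : ∀ x, R x = (G : Matrix (Fin a × Fin b) (Fin a × Fin b) F) *ᵥ pure x β' - pure x β' := fun x => rfl
      refine ⟨(cB QB β').comp R, G, hGM, fun x y => ?_⟩
      set L := c • lpart QB β' E u with hL
      have htop : (G : Matrix (Fin a × Fin b) (Fin a × Fin b) F) *ᵥ pure x β' =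
          pure x β' + pure (L x) u + pure (cB QB β' (R x)) β := by
        have h3 := only_beta X.hS hβ hβ' h1 (p := R x - pure (L x) u) (by
          rw [map_sub, hR, map_sub, r3.top, cB_pure, cB_pure, h1, hβu, one_smul, zero_smul, sub_self, sub_zero])
          (fun z hz hz' => by
            rw [map_sub, hR, map_sub, ← lpart_apply, hl z hz hz', cB_pure, cB_pure, quad_polar_comm QB z β', hz',
              zero_smul, sub_zero, hL, LinearMap.smul_apply, smul_smul, mul_comm, sub_self])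
        rw [map_sub, cB_pure, hβ'u, zero_smul, sub_zero, sub_eq_iff_eq_add, hR] at h3
        rw [eq_add_of_sub_eq h3, ← hR]
        abel
      have hπ := wproj_perp hβ hβ' h1 y
      have hmid := (r3.sym X hβ hβ' h1 (fun gh => conj_mem X hGM gh) hπ.1 hπ.2).1 x
      rw [hl _ hπ.1 hπ.2] at hmid
      have hπu : polarBilin QB (wproj QB β β' y) u = polarBilin QB u y := by
        rw [quad_polar_comm, wproj, map_sub, map_sub, map_smul, map_smul, quad_polar_comm QB u β, hβu,
          quad_polar_comm QB u β', hβ'u]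
        simp
      conv_lhs => rw [show y = wproj QB β β' y + polarBilin QB β' y • β + polarBilin QB β y • β' by rw [wproj]; abel,
        pure_add_right, pure_add_right, pure_smul_right, pure_smul_right, Matrix.mulVec_add, Matrix.mulVec_add,
        Matrix.mulVec_smul, Matrix.mulVec_smul, hmid, r3.fix, htop, hπu]
      rw [LinearMap.comp_apply, hL, LinearMap.smul_apply]
      simp only [wproj, pure_sub_right, pure_smul_right, pure_smul_left]
      module
    have hsymU : ∀ L, IncU QB M β u L → ∀ x y, polarBilin QA (L x) y = polarBilin QA x (L y) := by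
      rintro L ⟨C, g, hg, hge⟩
      have hgen : ∀ p, (g : Matrix (Fin a × Fin b) (Fin a × Fin b) F) *ᵥ p = p + pure (L (cB QB β p)) u -
          pure (L (cB QB u p)) β + pure (C (cB QB β p)) β := by
        intro p
        have key := lext (g := Matrix.mulVecLin (g : Matrix (Fin a × Fin b) (Fin a × Fin b) F))
          (g' := LinearMap.id + (left u).comp (L.comp (cB QB β)) - (left β).comp (L.comp (cB QB u)) +
            (left β).comp (C.comp (cB QB β))) (fun x r => by
            simp only [Matrix.mulVecLin_apply, LinearMap.add_apply, LinearMap.sub_apply, LinearMap.id_apply,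
              LinearMap.comp_apply, cB_pure, map_smul]
            rw [hge x r]
            rfl) p
        exact key
      have hR : Rad QB Q β β' g := ⟨X.hM.pres hg, fun x => by
          rw [hge x β, Orth.polar_self_of_sing QB hβ, quad_polar_comm QB u β, hβu]
          simp,
        fun p hp => ⟨-L (cB QB u p), by
          rw [hgen, hp, map_zero, map_zero, pure_zero_left, pure_zero_left, add_zero, add_zero,
            ← neg_one_smul F (L (cB QB u p)), pure_smul_left]
          module⟩,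
        fun x => by
          rw [hge x β', h1, quad_polar_comm QB u β', hβ'u, one_smul, zero_smul, sub_zero, map_add, map_add, map_smul,
            cB_pure, cB_pure, cB_pure, h1, hβu, Orth.polar_self_of_sing QB hβ]
          simp⟩
      have h3 := (hR.sym X hβ hβ' h1 (fun gh => conj_mem X hg gh) (show polarBilin QB β u' = 0 from hu'W.1.2)
        (show polarBilin QB β' u' = 0 from hu'W.2)).2
      have h4 : ∀ x, lpart QB β' g u' x = L x := fun x => by
        rw [lpart_apply, hge x β', h1, quad_polar_comm QB u β', hβ'u, one_smul, zero_smul, sub_zero, map_add, map_add,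
          map_smul, cB_pure, cB_pure, cB_pure, quad_polar_comm QB u' β', show polarBilin QB β' u' = 0 from hu'W.2,
          quad_polar_comm QB u' u, huu', quad_polar_comm QB u' β, show polarBilin QB β u' = 0 from hu'W.1.2]
        simp
      intro x y
      rw [← h4, ← h4, h3]
    obtain ⟨k, hk⟩ := incU_scalar X hβ hβ' h1 hQu hu0 hβu hβ'u hIU hsymU
    have hc0 : c ≠ 0 := by rw [hc]; exact neg_ne_zero.mpr (mul_ne_zero X.hS.two hQw)
    refine ⟨k / c, fun x => smul_right_injective _ hc0 ?_⟩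
    show c • _ = c • _
    rw [smul_smul, mul_div_cancel₀ _ hc0]
    exact hk x
  have hzW : z ∈ W := ⟨⟨trivial, hz⟩, hz'⟩
  have hspan := nd_span X.hS.ndB hnd hd hzW
  clear hz hz' hzW
  induction hspan using Submodule.span_induction with
  | mem u hu => exact hsing u hu.1 hu.2
  | zero => exact ⟨0, fun x => by rw [← zero_smul F (0 : Fin b → F), lpart_smul, zero_smul, zero_smul]⟩
  | add p q _ _ hp hq =>
    obtain ⟨k, hk⟩ := hp
    obtain ⟨l, hl⟩ := hq
    exact ⟨k + l, fun x => by rw [lpart_add, hk, hl, add_smul]⟩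
  | smul c p _ hp =>
    obtain ⟨k, hk⟩ := hp
    exact ⟨c * k, fun x => by rw [lpart_smul, hk, smul_smul]⟩

/-- The linear part of any element conjugating the products into `M` is scalar. -/
theorem scalar_L (X : Ctx QA QB Q M) {β β' : Fin b → F} (hβ : QB β = 0) (hβ' : QB β' = 0)
    (h1 : polarBilin QB β β' = 1) {E : GL (Fin a × Fin b) F} (hE : Rad QB Q β β' E)
    (hconj : ∀ gh : GL (Fin a) F × GL (Fin b) F, gh.1 ∈ Cfsg.Geo.omegaGL ⇑QA → gh.2 ∈ Cfsg.Geo.omegaGL ⇑QB →
      E * kr gh * E⁻¹ ∈ M) {z : Fin b → F} (hz : polarBilin QB β z = 0) (hz' : polarBilin QB β' z = 0) :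
    ∃ k : F, ∀ x, lpart QB β' E z x = k • x := by
  obtain ⟨hmid, hsym⟩ := hE.sym X hβ hβ' h1 hconj hz hz'
  have hEcB : ∀ p, cB QB β ((E : Matrix (Fin a × Fin b) (Fin a × Fin b) F) *ᵥ p) = cB QB β p := fun p => by
    refine sub_eq_zero.mp (X.hS.ndA.2 _ fun y => ?_)
    rw [map_sub, ← B_left X.hS, ← B_left X.hS]
    conv_lhs => arg 1; rw [← hE.fix y, Orth.iso_polar hE.iso]
    rw [sub_self]
  have hkb : ∀ (g : GL (Fin a) F) p, cB QB β ((kr (g, (1 : GL (Fin b) F)) :
      Matrix (Fin a × Fin b) (Fin a × Fin b) F) *ᵥ p) = (g : Matrix (Fin a) (Fin a) F) *ᵥ cB QB β p := fun g p =>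
    lext (g := (cB QB β).comp (Matrix.mulVecLin (kr (g, (1 : GL (Fin b) F)) : Matrix (Fin a × Fin b) (Fin a × Fin b) F)))
      (g' := (Matrix.mulVecLin (g : Matrix (Fin a) (Fin a) F)).comp (cB QB β)) (fun x u => by
        simp only [LinearMap.comp_apply, Matrix.mulVecLin_apply, kr_pure, Units.val_one, Matrix.one_mulVec, cB_pure,
          Matrix.mulVec_smul]) p
  have hkz : ∀ (g : GL (Fin a) F) p, cB QB z ((kr (g, (1 : GL (Fin b) F)) :
      Matrix (Fin a × Fin b) (Fin a × Fin b) F) *ᵥ p) = (g : Matrix (Fin a) (Fin a) F) *ᵥ cB QB z p := fun g p =>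
    lext (g := (cB QB z).comp (Matrix.mulVecLin (kr (g, (1 : GL (Fin b) F)) : Matrix (Fin a × Fin b) (Fin a × Fin b) F)))
      (g' := (Matrix.mulVecLin (g : Matrix (Fin a) (Fin a) F)).comp (cB QB z)) (fun x u => by
        simp only [LinearMap.comp_apply, Matrix.mulVecLin_apply, kr_pure, Units.val_one, Matrix.one_mulVec, cB_pure,
          Matrix.mulVec_smul]) p
  let P : ((Fin a → F) →ₗ[F] (Fin a → F)) → Prop := fun L =>
    (∀ x y, polarBilin QA (L x) y = polarBilin QA x (L y)) ∧
      ∀ g ∈ Cfsg.Geo.omegaGL ⇑QA, ∃ k : F, ∀ x, conjm g L x - L x = k • x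
  have hP : P (lpart QB β' E z) := by
    refine ⟨hsym, fun g hg => ?_⟩
    set t := kr (g, (1 : GL (Fin b) F)) with ht
    have hti : t ∈ Cfsg.isometryGroup F ⇑Q := X.hM.pres (X.hM.prod (g, 1) hg (one_mem _))
    set K := E * t * E⁻¹ * t⁻¹ with hK
    have hKM : K ∈ M := M.mul_mem (hconj (g, 1) hg (one_mem _)) (M.inv_mem (X.hM.prod (g, 1) hg (one_mem _)))
    have hKq : ∀ p, (K : Matrix (Fin a × Fin b) (Fin a × Fin b) F) *ᵥ ((t : Matrix (Fin a × Fin b) (Fin a × Fin b) F) *ᵥ
        ((E : Matrix (Fin a × Fin b) (Fin a × Fin b) F) *ᵥ p)) =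
        (E : Matrix (Fin a × Fin b) (Fin a × Fin b) F) *ᵥ ((t : Matrix (Fin a × Fin b) (Fin a × Fin b) F) *ᵥ p) :=
      fun p => by rw [hK, mulVec_mul, mulVec_mul, mulVec_mul, mulVec_inv_mulVec, mulVec_inv_mulVec]
    have htp : ∀ x u, (t : Matrix (Fin a × Fin b) (Fin a × Fin b) F) *ᵥ pure x u =
        pure ((g : Matrix (Fin a) (Fin a) F) *ᵥ x) u := fun x u => by
      rw [ht, kr_pure, Units.val_one, Matrix.one_mulVec]
    have hK1 : ∀ x, (K : Matrix (Fin a × Fin b) (Fin a × Fin b) F) *ᵥ pure x β = pure x β := fun x => by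
      have := hKq (pure (((g⁻¹ : GL (Fin a) F) : Matrix (Fin a) (Fin a) F) *ᵥ x) β)
      rwa [hE.fix, htp, hE.fix, mulVec_mulVec_inv] at this
    have hK2 : ∀ r, cB QB β r = 0 → ∃ q, (K : Matrix (Fin a × Fin b) (Fin a × Fin b) F) *ᵥ r = r + pure q β := by
      intro r hr
      set r₀ := ((t⁻¹ : GL (Fin a × Fin b) F) : Matrix (Fin a × Fin b) (Fin a × Fin b) F) *ᵥ r with hr₀
      have hr₀b : cB QB β r₀ = 0 := by rw [hr₀, ht, ← map_inv, Prod.inv_mk, inv_one, hkb, hr, Matrix.mulVec_zero]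
      obtain ⟨q, hq⟩ := hE.perp r hr
      obtain ⟨q', hq'⟩ := hE.perp r₀ hr₀b
      refine ⟨q - (g : Matrix (Fin a) (Fin a) F) *ᵥ q', ?_⟩
      have := hKq r₀
      rw [hq', Matrix.mulVec_add, htp, hr₀, mulVec_mulVec_inv, Matrix.mulVec_add, hK1, hq, ← eq_sub_iff_add_eq] at this
      rw [this, ← neg_add_eq_sub, neg_add_eq_sub]
      funext c
      simp [Tensor.pure]
      ring
    have hKtop : ∀ x, ∃ q, (K : Matrix (Fin a × Fin b) (Fin a × Fin b) F) *ᵥ pure ((g : Matrix (Fin a) (Fin a) F) *ᵥ x) β' =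
        pure ((g : Matrix (Fin a) (Fin a) F) *ᵥ x) β' +
        (((E : Matrix (Fin a × Fin b) (Fin a × Fin b) F) *ᵥ pure ((g : Matrix (Fin a) (Fin a) F) *ᵥ x) β' -
          pure ((g : Matrix (Fin a) (Fin a) F) *ᵥ x) β') -
        (t : Matrix (Fin a × Fin b) (Fin a × Fin b) F) *ᵥ
          ((E : Matrix (Fin a × Fin b) (Fin a × Fin b) F) *ᵥ pure x β' - pure x β')) + pure q β := by
      intro x
      set R := (E : Matrix (Fin a × Fin b) (Fin a × Fin b) F) *ᵥ pure x β' - pure x β' with hR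
      obtain ⟨q, hq⟩ := hK2 ((t : Matrix (Fin a × Fin b) (Fin a × Fin b) F) *ᵥ R) (by
        rw [ht, hkb, hR, map_sub, hE.top, cB_pure, h1, one_smul, sub_self, Matrix.mulVec_zero])
      refine ⟨-q, ?_⟩
      have := hKq (pure x β')
      rw [show (E : Matrix (Fin a × Fin b) (Fin a × Fin b) F) *ᵥ pure x β' = pure x β' + R by rw [hR]; abel,
        Matrix.mulVec_add, Matrix.mulVec_add, hq, htp, ← eq_sub_iff_add_eq] at this
      rw [this, ← neg_one_smul F q, pure_smul_left]
      module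
    have hKR : Rad QB Q β β' K := by
      refine ⟨X.hM.pres hKM, hK1, hK2, fun y => ?_⟩
      obtain ⟨q, hq⟩ := hKtop (((g⁻¹ : GL (Fin a) F) : Matrix (Fin a) (Fin a) F) *ᵥ y)
      rw [mulVec_mulVec_inv] at hq
      rw [hq]
      simp only [map_add, map_sub, cB_pure, hE.top, ht, hkb, h1, Orth.polar_self_of_sing QB hβ, one_smul, zero_smul,
        sub_self, add_zero, mulVec_mulVec_inv, Matrix.mulVec_zero, Matrix.mulVec_sub]
    obtain ⟨k, hk⟩ := member_scalar X hβ hβ' h1 hKR hKM hz hz'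
    refine ⟨-k, fun y => ?_⟩
    obtain ⟨q, hq⟩ := hKtop (((g⁻¹ : GL (Fin a) F) : Matrix (Fin a) (Fin a) F) *ᵥ y)
    rw [mulVec_mulVec_inv] at hq
    have h3 := hk y
    rw [lpart_apply, hq] at h3
    simp only [map_add, map_sub, cB_pure, ht, hkz, quad_polar_comm QB z β', hz', quad_polar_comm QB z β, hz, zero_smul,
      sub_zero, zero_add, add_zero, Matrix.mulVec_sub, ← lpart_apply, Matrix.mulVec_zero] at h3
    rw [conjm_apply, neg_smul, ← h3, neg_sub]
  refine scalar_of_family X.hS.two X.hS.ndA X.ha X.hq P (fun L L' hL hL' => ⟨fun x y => ?_, fun g hg => ?_⟩)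
    (fun t L hL => ⟨fun x y => ?_, fun g hg => ?_⟩) (fun h hh L hL => ⟨fun x y => ?_, fun g hg => ?_⟩)
    (fun L hL => hL.1) ?_ hP
  · simp only [LinearMap.add_apply, map_add, hL.1, hL'.1]
  · obtain ⟨k, hk⟩ := hL.2 g hg
    obtain ⟨l, hl⟩ := hL'.2 g hg
    refine ⟨k + l, fun x => ?_⟩
    have e : conjm g (L + L') x = conjm g L x + conjm g L' x := by
      simp [conjm_apply, Matrix.mulVec_add]
    rw [e, LinearMap.add_apply, add_smul, ← hk, ← hl]
    abel
  · simp only [LinearMap.smul_apply, map_smul, hL.1]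
  · obtain ⟨k, hk⟩ := hL.2 g hg
    refine ⟨t * k, fun x => ?_⟩
    have e : conjm g (t • L) x = t • conjm g L x := by simp [conjm_apply, Matrix.mulVec_smul]
    rw [e, LinearMap.smul_apply, ← smul_sub, hk, smul_smul]
  · have hi := Orth.omegaGL_le_isometry hh
    simp only [conjm_apply]
    conv_lhs => rw [← mulVec_mulVec_inv h y, Orth.iso_polar hi, hL.1]
    conv_rhs => rw [← mulVec_mulVec_inv h x, Orth.iso_polar hi]
  · obtain ⟨k, hk⟩ := hL.2 (g * h) (mul_mem hg hh)
    obtain ⟨l, hl⟩ := hL.2 h hh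
    refine ⟨k - l, fun x => ?_⟩
    have e : conjm g (conjm h L) x = conjm (g * h) L x := by
      simp [conjm_apply, mulVec_mul, _root_.mul_inv_rev]
    rw [e, sub_smul, ← hk, ← hl]
    abel
  · intro k e hk0 he0 he hPk
    obtain ⟨f, hf, hef⟩ := exists_partner' X.hS.ndA he he0
    have hf0 : f ≠ 0 := fun e0 => by rw [e0, map_zero] at hef; exact zero_ne_one hef
    obtain ⟨g, c, hg, hc, hge⟩ := move X.hS.two X.hS.ndA X.hac he hf he0 hf0
    obtain ⟨l, hl⟩ := hPk.2 g hg
    obtain ⟨w, hew, hfw, hQw⟩ := exists_aniso_pair X.hS.ndA X.hac he hf hef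
    have hge' : ∀ y, polarBilin QA e (((g⁻¹ : GL (Fin a) F) : Matrix (Fin a) (Fin a) F) *ᵥ y) =
        c * polarBilin QA f y := fun y => by
      rw [← Orth.iso_polar (Orth.omegaGL_le_isometry hg), mulVec_mulVec_inv, hge, map_smul, LinearMap.smul_apply,
        smul_eq_mul]
    have h3 := hl w
    simp only [conjm_apply, LinearMap.smul_apply, rk_apply, hge', hfw, hew, mul_zero, zero_smul, smul_zero,
      Matrix.mulVec_zero, sub_zero] at h3
    have hl0 : l = 0 := (smul_eq_zero.mp h3.symm).resolve_right fun e0 => hQw (by rw [e0, map_zero])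
    have h4 := hl f
    simp only [conjm_apply, LinearMap.smul_apply, rk_apply, hge', Orth.polar_self_of_sing QA hf, hef, mul_zero,
      zero_smul, smul_zero, Matrix.mulVec_zero, one_smul, hl0, zero_sub, neg_eq_zero, smul_eq_zero] at h4
    exact h4.elim hk0 he0

end Cfsg.Agent.Lib.ThreeTransp.TensorOrth
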