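import Cfsg.Agent.Lib.ThreeTransp.TensorOrthFull

/-!
Self-adjoint maps in a family invariant under the first factor are scalar.
-/

set_option autoImplicit false
set_option linter.unusedSectionVars false
set_option linter.unusedSimpArgs false

namespace Cfsg.Agent.Lib.ThreeTransp.TensorOrth

open Matrix Module QuadraticMap
open Cfsg.Agent.Lib.MaxSub
open Cfsg.Agent.Lib.MaxSub.OrthSplit (InE)
open Cfsg.Agent.Lib.ThreeTransp.DecompOrth (Nd perp eq_top_of_sq)
open Cfsg.Agent.Lib.ThreeTransp.SubOrth (gen_span_sing gen_partner gen_exists_sing)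
open Cfsg.Agent.Lib.Geometry (quad_add quad_sub quad_smul quad_polar_self quad_polar_comm)
open Cfsg.Agent.Lib.ThreeTransp.Tensor
open scoped MatrixGroups Matrix Kronecker

attribute [-simp] QuadraticMap.polarBilin_apply_apply

variable {a b : ℕ} {F : Type*} [Field F]

/-- Conjugation of a linear map. -/
noncomputable def conjm (g : GL (Fin a) F) (L : (Fin a → F) →ₗ[F] (Fin a → F)) : (Fin a → F) →ₗ[F] (Fin a → F) :=
  (Matrix.mulVecLin (g : Matrix (Fin a) (Fin a) F)).comp
    (L.comp (Matrix.mulVecLin ((g⁻¹ : GL (Fin a) F) : Matrix (Fin a) (Fin a) F)))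

theorem conjm_apply (g : GL (Fin a) F) (L : (Fin a → F) →ₗ[F] (Fin a → F)) (x : Fin a → F) :
    conjm g L x = (g : Matrix (Fin a) (Fin a) F) *ᵥ L (((g⁻¹ : GL (Fin a) F) : Matrix (Fin a) (Fin a) F) *ᵥ x) := rfl

/-- The rank one map at `e`. -/
noncomputable def rk (QA : QuadraticForm F (Fin a → F)) (e : Fin a → F) : (Fin a → F) →ₗ[F] (Fin a → F) :=
  (polarBilin QA e).smulRight e

theorem rk_apply (QA : QuadraticForm F (Fin a → F)) (e x : Fin a → F) : rk QA e x = polarBilin QA e x • e := rfl

/-- Singular vectors of a non-degenerate subspace span it. -/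
theorem nd_span [Finite F] {ι : Type} [Fintype ι] [DecidableEq ι] {Q : QuadraticForm F (ι → F)}
    (hN : (polarBilin Q).Nondegenerate) {W : Submodule F (ι → F)} (hW : Nd Q W) (hd : 3 ≤ finrank F W) :
    W ≤ Submodule.span F {z | z ∈ W ∧ Q z = 0} := by
  obtain ⟨e, he, he0, hQe⟩ := Orth.exists_singular (Q := Q) W hd
  obtain ⟨z, hz, hez⟩ := hW e he he0
  obtain ⟨f, hf, hQf, hef⟩ := Orth.exists_partner hN hQe he hz hez
  intro x hx
  set r := x - polarBilin Q f x • e - polarBilin Q e x • f with hr
  have hre : polarBilin Q e r = 0 := by simp [hr, map_sub, map_smul, Orth.polar_self_of_sing Q hQe, hef]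
  have hrf : polarBilin Q f r = 0 := by
    simp [hr, map_sub, map_smul, Orth.polar_self_of_sing Q hQf, quad_polar_comm Q f e, hef]
  have hrW : r ∈ W := W.sub_mem (W.sub_mem hx (W.smul_mem _ he)) (W.smul_mem _ hf)
  have hs : r + e - Q r • f ∈ Submodule.span F {z | z ∈ W ∧ Q z = 0} := Submodule.subset_span
    ⟨W.sub_mem (W.add_mem hrW he) (W.smul_mem _ hf), by
      simp [quad_sub, quad_add, quad_smul, hQe, hQf, map_add, map_smul, hre, hrf, quad_polar_comm Q r e,
        quad_polar_comm Q r f, hef]⟩
  have he' : e ∈ Submodule.span F {z | z ∈ W ∧ Q z = 0} := Submodule.subset_span ⟨he, hQe⟩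
  have hf' : f ∈ Submodule.span F {z | z ∈ W ∧ Q z = 0} := Submodule.subset_span ⟨hf, hQf⟩
  have := Submodule.add_mem _ (Submodule.add_mem _ hs (Submodule.smul_mem _ (polarBilin Q f x - 1) he'))
    (Submodule.smul_mem _ (polarBilin Q e x + Q r) hf')
  convert this using 1
  rw [hr]
  module

variable [Finite F] {QA : QuadraticForm F (Fin a → F)}

/-- A closed family of self-adjoint maps without rank one members at singular points consists of scalars. -/
theorem scalar_of_family (h2 : (2 : F) ≠ 0) (hN : (polarBilin QA).Nondegenerate) (ha : 3 ≤ a)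
    (hq : 5 ≤ a ∨ ∃ s : F, s ≠ 0 ∧ s * s ≠ 1) (P : ((Fin a → F) →ₗ[F] (Fin a → F)) → Prop)
    (hadd : ∀ L L', P L → P L' → P (L + L')) (hsmul : ∀ (t : F) L, P L → P (t • L))
    (hconj : ∀ g ∈ Cfsg.Geo.omegaGL ⇑QA, ∀ L, P L → P (conjm g L))
    (hsym : ∀ L, P L → ∀ x y, polarBilin QA (L x) y = polarBilin QA x (L y))
    (hnr : ∀ (k : F) (e : Fin a → F), k ≠ 0 → e ≠ 0 → QA e = 0 → ¬ P (k • rk QA e))
    {L : (Fin a → F) →ₗ[F] (Fin a → F)} (hL : P L) : ∃ k : F, ∀ x, L x = k • x := by
  classical
  have hac : 3 ≤ Fintype.card (Fin a) := by rw [Fintype.card_fin]; exact ha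
  have hdiff : ∀ L, P L → ∀ e, QA e = 0 → ∀ (he : QA e = 0) w (hw : polarBilin QA e w = 0)
      (hw' : polarBilin QA e (-w) = 0),
      P (conjm (Orth.eichGL QA e w he hw) L + conjm (Orth.eichGL QA e (-w) he hw') L + (-2 : F) • L) :=
    fun L hL e _ he w hw hw' => hadd _ _ (hadd _ _ (hconj _ (eich_omega h2 hN hac he hw) _ hL)
      (hconj _ (eich_omega h2 hN hac he hw') _ hL)) (hsmul _ _ hL)
  have hinv : ∀ e w (he : QA e = 0) (hw : polarBilin QA e w = 0) (hw' : polarBilin QA e (-w) = 0),
      ((Orth.eichGL QA e w he hw)⁻¹ : GL (Fin a) F) = Orth.eichGL QA e (-w) he hw' := fun e w he hw hw' => by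
    rw [Orth.eichGL, Orth.eichGL, ← map_inv, Cfsg.Agent.Lib.Classical.eich_inv]
  have hinv' : ∀ e w (he : QA e = 0) (hw : polarBilin QA e w = 0) (hw' : polarBilin QA e (-w) = 0),
      ((Orth.eichGL QA e (-w) he hw')⁻¹ : GL (Fin a) F) = Orth.eichGL QA e w he hw := fun e w he hw hw' => by
    rw [← hinv e w he hw hw', inv_inv]
  -- vanishing at singular vectors
  have hvan : ∀ L, P L → ∀ e, QA e = 0 → polarBilin QA e (L e) = 0 := by
    intro L hL e he
    rcases eq_or_ne e 0 with rfl | he0
    · simp
    obtain ⟨e', he', hee'⟩ := exists_partner' hN he he0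
    have hs := hsym L hL
    by_contra hg
    rcases hq with h5 | ⟨s, hs0, hs1⟩
    · obtain ⟨e2, hQe2, he20, he2s⟩ := gen_exists_sing (Q := QA) {e, e'} ∅ (by
        have : ({e, e'} : Finset (Fin a → F)).card ≤ 2 := Finset.card_le_two
        simp only [Finset.card_empty, Fintype.card_fin]
        omega)
      simp only [Finset.coe_empty, Submodule.span_empty, Submodule.mem_bot] at he20
      have h1 : polarBilin QA e e2 = 0 := he2s e (by simp)
      have h1' : polarBilin QA e' e2 = 0 := he2s e' (by simp)
      obtain ⟨x, hQx, h3, hxs⟩ := gen_partner hN {e} hQe2 (fun y hy => by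
        rw [Finset.mem_singleton.mp hy]; exact h1) (by
        rw [Finset.coe_singleton]
        intro hm
        obtain ⟨t, ht⟩ := Submodule.mem_span_singleton.mp hm
        rw [← ht, map_smul, quad_polar_comm QA e' e, hee', smul_eq_mul, mul_one] at h1'
        exact he20 (by rw [← ht, h1', zero_smul]))
      have h4 : polarBilin QA e x = 0 := hxs e (by simp)
      have h1n : polarBilin QA e (-e2) = 0 := by rw [map_neg, h1, neg_zero]
      have h4n : polarBilin QA e (-x) = 0 := by rw [map_neg, h4, neg_zero]
      set D := conjm (Orth.eichGL QA e e2 he h1) L + conjm (Orth.eichGL QA e (-e2) he h1n) L + (-2 : F) • L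
        with hD
      have hDP : P D := hdiff L hL e he he e2 h1 h1n
      have hDx : ∀ y, D y = (-2 * polarBilin QA e (L e2)) • (polarBilin QA e y • e2 + polarBilin QA e2 y • e) +
          (2 * polarBilin QA e (L e)) • (polarBilin QA e2 y • e2) +
          (2 * polarBilin QA e2 (L e2)) • (polarBilin QA e y • e) := by
        intro y
        simp only [hD, LinearMap.add_apply, LinearMap.smul_apply, conjm_apply, hinv e e2 he h1 h1n,
          hinv' e e2 he h1 h1n, Orth.eichGL_mulVec, map_add, map_sub, map_neg, map_smul, QuadraticMap.map_neg,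
          LinearMap.sub_apply, LinearMap.neg_apply, smul_eq_mul, hQe2, quad_polar_comm QA e2 e, h1,
          Orth.polar_self_of_sing QA he, Orth.polar_self_of_sing QA hQe2, quad_polar_comm QA y e,
          quad_polar_comm QA y e2, quad_polar_comm QA (L y) e, quad_polar_comm QA (L y) e2,
          quad_polar_comm QA (L e) e, quad_polar_comm QA (L e2) e, quad_polar_comm QA (L e2) e2,
          show polarBilin QA (L e) e2 = polarBilin QA e (L e2) from hs e e2]
        match_scalars <;> ring
      have hfin := hdiff D hDP e he he x h4 h4n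
      refine hnr (4 * polarBilin QA e (L e)) e (mul_ne_zero (by
        rw [show (4 : F) = 2 * 2 by norm_num]; exact mul_ne_zero h2 h2) hg) he0 he ?_
      convert hfin using 1
      refine LinearMap.ext fun y => ?_
      simp only [LinearMap.add_apply, LinearMap.smul_apply, conjm_apply, hinv e x he h4 h4n, hinv' e x he h4 h4n,
        Orth.eichGL_mulVec, hDx, map_add, map_sub, map_neg, map_smul, QuadraticMap.map_neg, LinearMap.sub_apply,
        LinearMap.neg_apply, smul_eq_mul, rk_apply, hQx, hQe2, quad_polar_comm QA e2 e, h1, h3, h4,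
        quad_polar_comm QA x e, quad_polar_comm QA x e2, Orth.polar_self_of_sing QA he,
        Orth.polar_self_of_sing QA hQe2, Orth.polar_self_of_sing QA hQx, quad_polar_comm QA y e,
        quad_polar_comm QA y e2, quad_polar_comm QA y x]
      match_scalars <;> ring
    · obtain ⟨w, hw, hQw⟩ := exists_aniso_one hN hac he he0
      have hD : ∀ t : F, ∀ (ht : polarBilin QA e (t • w) = 0) (ht' : polarBilin QA e (-(t • w)) = 0),
          P (conjm (Orth.eichGL QA e (t • w) he ht) L + conjm (Orth.eichGL QA e (-(t • w)) he ht') L + (-2 : F) • L) :=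
        fun t ht ht' => hdiff L hL e he he _ ht ht'
      have hw1 : ∀ t : F, polarBilin QA e (t • w) = 0 := fun t => by rw [map_smul, hw, smul_zero]
      have hw2 : ∀ t : F, polarBilin QA e (-(t • w)) = 0 := fun t => by rw [map_neg, hw1, neg_zero]
      have h1 := hadd _ _ (hD s (hw1 s) (hw2 s)) (hsmul (-(s * s)) _ (hD 1 (hw1 1) (hw2 1)))
      refine hnr (2 * (s * s * s * s - s * s) * QA w * QA w * polarBilin QA e (L e)) e ?_ he0 he ?_
      · refine mul_ne_zero (mul_ne_zero (mul_ne_zero (mul_ne_zero h2 fun h0 => ?_) hQw) hQw) hg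
        refine mul_ne_zero (mul_ne_zero hs0 hs0) (sub_ne_zero.mpr hs1) ?_
        linear_combination h0
      convert h1 using 1
      refine LinearMap.ext fun y => ?_
      simp only [LinearMap.add_apply, LinearMap.smul_apply, conjm_apply, hinv e _ he (hw1 _) (hw2 _),
        hinv' e _ he (hw1 _) (hw2 _), Orth.eichGL_mulVec, map_add, map_sub, map_neg, map_smul, QuadraticMap.map_neg,
        LinearMap.sub_apply, LinearMap.neg_apply, smul_eq_mul, rk_apply, quad_smul, quad_polar_comm QA w e, hw,
        Orth.polar_self_of_sing QA he, quad_polar_comm QA y e, quad_polar_comm QA y w,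
        quad_polar_comm QA (L y) e, quad_polar_comm QA (L y) w, quad_polar_comm QA (L e) e,
        quad_polar_comm QA (L w) e, quad_polar_comm QA (L w) w,
        show polarBilin QA (L e) w = polarBilin QA e (L w) from hs e w, quad_polar_self]
      match_scalars <;> ring
  have hs := hsym L hL
  have hB : ∀ e, QA e = 0 → polarBilin QA e (L e) = 0 := hvan L hL
  have heig : ∀ e, QA e = 0 → e ≠ 0 → ∃ k : F, L e = k • e := by
    intro e he he0
    obtain ⟨e', he', hee'⟩ := exists_partner' hN he he0
    suffices hz : ∀ z, polarBilin QA e z = 0 → polarBilin QA z (L e) = 0 by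
      by_contra hne
      push Not at hne
      obtain ⟨z, hze, hzL⟩ := Orth.exists_dual hN (F ∙ e) (x := L e) fun hm => by
        obtain ⟨k, hk⟩ := Submodule.mem_span_singleton.mp hm
        exact hne k hk.symm
      rw [hz z (by rw [quad_polar_comm]; exact hze e (Submodule.mem_span_singleton_self e))] at hzL
      exact zero_ne_one hzL
    intro z hz
    rcases hq with h5 | ⟨s, hs0, hs1⟩
    · have hx := gen_span_sing hN {e} (by simp; omega) (x := z) (by simpa using hz)
      clear hz
      induction hx using Submodule.span_induction with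
      | mem y hy =>
        have h3 : polarBilin QA e y = 0 := hy.2 e (by simp)
        have h4 := hB (e + y) (by rw [quad_add, he, hy.1, h3]; ring)
        simp only [map_add, LinearMap.add_apply, hB e he, hB y hy.1, zero_add, add_zero,
          show polarBilin QA e (L y) = polarBilin QA y (L e) by rw [← hs, quad_polar_comm]] at h4
        exact (mul_eq_zero.mp ((two_mul _).trans h4)).resolve_left h2
      | zero => simp
      | add p q _ _ hp hq => rw [map_add, LinearMap.add_apply, hp, hq, add_zero]
      | smul c p _ hp => rw [map_smul, LinearMap.smul_apply, hp, smul_zero]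
    · set k := polarBilin QA e' z with hk
      set z0 := z - k • e with hz0
      have h1 : polarBilin QA e z0 = 0 := by
        rw [hz0, map_sub, map_smul, Orth.polar_self_of_sing QA he, hz, smul_zero, sub_zero]
      have h3 : polarBilin QA e' z0 = 0 := by
        rw [hz0, map_sub, map_smul, quad_polar_comm QA e' e, hee', ← hk, smul_eq_mul, mul_one, sub_self]
      suffices h0 : polarBilin QA z0 (L e) = 0 by
        rw [show z = z0 + k • e by rw [hz0]; abel, map_add, LinearMap.add_apply, map_smul, LinearMap.smul_apply, h0,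
          hB e he, smul_zero, add_zero]
      have main : ∀ c : F, 2 * c * polarBilin QA z0 (L e) - 2 * (c * c) * QA z0 * polarBilin QA e' (L e) +
          c * c * polarBilin QA z0 (L z0) - 2 * (c * c * c) * QA z0 * polarBilin QA z0 (L e') = 0 := by
        intro c
        have h4 := hB (e + c • z0 - (c * c * QA z0) • e') (by
          simp only [quad_sub, quad_add, quad_smul, he, he', map_add, map_smul, LinearMap.add_apply,
            LinearMap.smul_apply, h1, hee', quad_polar_comm QA z0 e', h3, smul_eq_mul]
          ring)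
        simp only [map_add, map_sub, map_smul, LinearMap.add_apply, LinearMap.sub_apply, LinearMap.smul_apply,
          smul_eq_mul, hB e he, hB e' he',
          show polarBilin QA e (L z0) = polarBilin QA z0 (L e) by rw [← hs, quad_polar_comm],
          show polarBilin QA e (L e') = polarBilin QA e' (L e) by rw [← hs, quad_polar_comm],
          show polarBilin QA e' (L z0) = polarBilin QA z0 (L e') by rw [← hs, quad_polar_comm]] at h4
        linear_combination h4
      have hodd : ∀ c : F, c ≠ 0 → polarBilin QA z0 (L e) = c * c * (QA z0 * polarBilin QA z0 (L e')) := by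
        intro c hc
        refine mul_left_cancel₀ (mul_ne_zero (mul_ne_zero h2 h2) hc) ?_
        linear_combination main c - main (-c)
      have e1 := hodd 1 one_ne_zero
      have e2 := hodd s hs0
      have e3 : QA z0 * polarBilin QA z0 (L e') = 0 := by
        refine (mul_eq_zero.mp (?_ : (s * s - 1) * _ = 0)).resolve_left (sub_ne_zero.mpr hs1)
        linear_combination e1 - e2
      rw [e1, e3, mul_zero]
  obtain ⟨e, e', he, he', hee'⟩ := exists_hyp hN hac
  have he0 : e ≠ 0 := fun e0 => by rw [e0, map_zero, LinearMap.zero_apply] at hee'; exact zero_ne_one hee'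
  have he'0 : e' ≠ 0 := fun e0 => by rw [e0, map_zero] at hee'; exact zero_ne_one hee'
  obtain ⟨k, hk⟩ := heig e he he0
  have hne : ∀ f, QA f = 0 → ∀ (k : F) p, L p = k • p → polarBilin QA p f ≠ 0 → L f = k • f := by
    intro f hf k p hp hpf
    have hf0 : f ≠ 0 := fun e0 => hpf (by rw [e0, map_zero])
    obtain ⟨l, hl⟩ := heig f hf hf0
    have h := hs p f
    rw [hp, hl, map_smul, map_smul, LinearMap.smul_apply, smul_eq_mul, smul_eq_mul] at h
    rw [hl, mul_right_cancel₀ hpf h]
  have hk' : L e' = k • e' := hne e' he' k e hk (by rw [hee']; exact one_ne_zero)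
  refine ⟨k, fun x => ?_⟩
  have hx := span_sing hN hac x
  induction hx using Submodule.span_induction with
  | mem z hz =>
    by_cases h1 : polarBilin QA e z = 0
    swap; · exact hne z hz k e hk h1
    by_cases h3 : polarBilin QA e' z = 0
    swap; · exact hne z hz k e' hk' h3
    have h4 := hne (e + z) (by rw [quad_add, he, show QA z = 0 from hz, h1]; ring) k e' hk' (by
      rw [map_add, h3, add_zero, quad_polar_comm, hee']; exact one_ne_zero)
    rw [map_add, hk, smul_add] at h4
    exact add_left_cancel h4
  | zero => simp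
  | add p q _ _ hp hq => rw [map_add, hp, hq, smul_add]
  | smul c p _ hp => rw [map_smul, hp, smul_comm]

end Cfsg.Agent.Lib.ThreeTransp.TensorOrth
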