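import Cfsg.Agent.Lib.ThreeTransp.TensorOrthRad

/-!
The stabiliser of a totally singular `A ⊗ β` lies in the Kronecker group.
-/

set_option autoImplicit false
set_option linter.unusedSectionVars false
set_option linter.unusedSimpArgs false

namespace Cfsg.Agent.Lib.ThreeTransp.TensorOrth

open Matrix Module QuadraticMap
open Cfsg.Agent.Lib.MaxSub
open Cfsg.Agent.Lib.ThreeTransp.DecompOrth (Nd perp)
open Cfsg.Agent.Lib.Geometry (quad_add quad_sub quad_smul quad_polar_self quad_polar_comm quadIsometries isometryEquiv)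
open Cfsg.Agent.Lib.ThreeTransp.Tensor
open scoped MatrixGroups Matrix Kronecker commutatorElement

attribute [-simp] QuadraticMap.polarBilin_apply_apply

/-- A matrix normalising the isometry group normalises `omegaGL`. -/
theorem omega_conj {ι : Type} [Fintype ι] [DecidableEq ι] {F : Type*} [Field F] {Q : QuadraticForm F (ι → F)}
    {n : GL ι F} (hn : ∀ g ∈ Cfsg.isometryGroup F ⇑Q, n * g * n⁻¹ ∈ Cfsg.isometryGroup F ⇑Q) {g : GL ι F}
    (hg : g ∈ Cfsg.Geo.omegaGL ⇑Q) : n * g * n⁻¹ ∈ Cfsg.Geo.omegaGL ⇑Q := by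
  obtain ⟨x, hx, rfl⟩ := hg
  let φ : Cfsg.isometryGroup F ⇑Q →* Cfsg.isometryGroup F ⇑Q :=
    { toFun := fun x => ⟨n * (x : GL ι F) * n⁻¹, hn _ x.2⟩
      map_one' := Subtype.ext (by simp)
      map_mul' := fun x y => Subtype.ext (by
        show n * ((x : GL ι F) * (y : GL ι F)) * n⁻¹ = n * (x : GL ι F) * n⁻¹ * (n * (y : GL ι F) * n⁻¹)
        group) }
  refine ⟨φ x, ?_, rfl⟩
  have h1 : (commutator (Cfsg.isometryGroup F ⇑Q)).map φ ≤ commutator _ := by
    rw [commutator_def, Subgroup.map_commutator]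
    exact Subgroup.commutator_mono le_top le_top
  exact h1 ⟨x, hx, rfl⟩

theorem iso_conj_similitude {ι : Type} [Fintype ι] [DecidableEq ι] {F : Type*} [Field F] {Q : QuadraticForm F (ι → F)}
    (h2 : (2 : F) ≠ 0) {n g : GL ι F} {κ : F}
    (hsim : ∀ u v, polarBilin Q ((n : Matrix ι ι F) *ᵥ u) ((n : Matrix ι ι F) *ᵥ v) = κ * polarBilin Q u v)
    (hg : g ∈ Cfsg.isometryGroup F ⇑Q) : n * g * n⁻¹ ∈ Cfsg.isometryGroup F ⇑Q := by
  intro x y
  have h1 : ∀ z : ι → F, Q ((n : Matrix ι ι F) *ᵥ z) = κ * Q z := fun z => mul_left_cancel₀ h2 (by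
    have h := hsim z z
    rw [quad_polar_self, quad_polar_self] at h
    linear_combination h)
  obtain ⟨v, rfl⟩ : ∃ v, (n : Matrix ι ι F) *ᵥ v = x :=
    ⟨((n⁻¹ : GL ι F) : Matrix ι ι F) *ᵥ x, by
      rw [Matrix.mulVec_mulVec, ← Units.val_mul, mul_inv_cancel, Units.val_one, Matrix.one_mulVec]⟩
  show Q (((n * g * n⁻¹ : GL ι F) : Matrix ι ι F) *ᵥ ((n : Matrix ι ι F) *ᵥ v)) = Q ((n : Matrix ι ι F) *ᵥ v)
  rw [Matrix.mulVec_mulVec, ← Units.val_mul, inv_mul_cancel_right, Units.val_mul, ← Matrix.mulVec_mulVec, h1,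
    Orth.iso_quad hg, h1]

variable {a b : ℕ} {F : Type*} [Field F]
variable {QA : QuadraticForm F (Fin a → F)} {QB : QuadraticForm F (Fin b → F)}
  {Q : QuadraticForm F (Fin a × Fin b → F)} {M : Subgroup (GL (Fin a × Fin b) F)}

/-- A skew map commuting with `omegaGL` is zero. -/
theorem eq_zero_of_commute [Finite F] (h2 : (2 : F) ≠ 0) (hN : (polarBilin QA).Nondegenerate) (ha : 3 ≤ a)
    {C : (Fin a → F) →ₗ[F] (Fin a → F)} (hskew : ∀ x y, polarBilin QA (C x) y + polarBilin QA x (C y) = 0)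
    (hcom : ∀ g ∈ Cfsg.Geo.omegaGL ⇑QA, ∀ x, C ((g : Matrix (Fin a) (Fin a) F) *ᵥ x) =
      (g : Matrix (Fin a) (Fin a) F) *ᵥ C x) : C = 0 := by
  have hac : 3 ≤ Fintype.card (Fin a) := by rw [Fintype.card_fin]; exact ha
  have heig : ∀ e, QA e = 0 → e ≠ 0 → ∃ k : F, C e = k • e := by
    intro e he he0
    by_contra hne
    push Not at hne
    obtain ⟨z, hze, hzC⟩ := Orth.exists_dual hN (F ∙ e) (x := C e) fun hm => by
      obtain ⟨k, hk⟩ := Submodule.mem_span_singleton.mp hm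
      exact hne k hk.symm
    have hez : polarBilin QA e z = 0 := by
      rw [quad_polar_comm]; exact hze e (Submodule.mem_span_singleton_self e)
    have h := hcom _ (eich_omega h2 hN hac he hez) e
    have hee : polarBilin QA (C e) e = 0 := by
      have h3 := hskew e e
      rw [quad_polar_comm QA e (C e), ← two_mul] at h3
      exact (mul_eq_zero.mp h3).resolve_left h2
    rw [Orth.eichGL_mulVec, Orth.eichGL_mulVec, Orth.polar_self_of_sing QA he, hee, hez, quad_polar_comm QA (C e) z,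
      hzC] at h
    simp at h
    exact he0 (sub_eq_self.mp h.symm)
  obtain ⟨e, e', he, he', hee'⟩ := exists_hyp hN hac
  have he0 : e ≠ 0 := fun e0 => by rw [e0, map_zero, LinearMap.zero_apply] at hee'; exact zero_ne_one hee'
  have he'0 : e' ≠ 0 := fun e0 => by rw [e0, map_zero] at hee'; exact zero_ne_one hee'
  obtain ⟨k, hk⟩ := heig e he he0
  have hall : ∀ f, QA f = 0 → C f = k • f := by
    intro f hf
    rcases eq_or_ne f 0 with rfl | hf0
    · simp
    obtain ⟨g, c, hg, hc, hge⟩ := move h2 hN hac he hf he0 hf0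
    have h := hcom g hg e
    rw [hge, hk, Matrix.mulVec_smul, hge, map_smul, smul_comm k c f] at h
    exact smul_right_injective _ hc h
  have hk0 : k = 0 := by
    have h := hskew e e'
    rw [hall e he, hall e' he', map_smul, map_smul, LinearMap.smul_apply, hee', smul_eq_mul, mul_one, ← two_mul] at h
    exact (mul_eq_zero.mp h).resolve_left h2
  refine LinearMap.ext fun x => ?_
  have hx := span_sing hN hac x
  induction hx using Submodule.span_induction with
  | mem z hz => rw [hall z hz, hk0, zero_smul, LinearMap.zero_apply]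
  | zero => simp
  | add p q _ _ hp hq => simp [map_add, hp, hq]
  | smul c p _ hp => simp [map_smul, hp]

variable [Finite F]

/-- An element stabilising `A ⊗ β` lies in the Kronecker group. -/
theorem mem_of_stab (X : Ctx QA QB Q M) {s : GL (Fin a × Fin b) F} (hs : s ∈ M) {β : Fin b → F} (hβ : QB β = 0)
    (hβ0 : β ≠ 0) (hst : ∀ x, ∃ y, (s : Matrix (Fin a × Fin b) (Fin a × Fin b) F) *ᵥ pure x β = pure y β) :
    s ∈ Cfsg.Geo.kroneckerSubgroup a b F := by
  classical
  have hS := X.hS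
  obtain ⟨β', hβ', h1⟩ := exists_partner' hS.ndB hβ hβ0
  have h2 : polarBilin QB β' β = 1 := by rw [quad_polar_comm]; exact h1
  have ββ := Orth.polar_self_of_sing QB hβ
  have hsp := X.hM.pres hs
  -- the action on `A ⊗ β`
  let Aα : Matrix (Fin a) (Fin a) F :=
    LinearMap.toMatrix' ((cB QB β').comp ((Matrix.mulVecLin (s : Matrix (Fin a × Fin b) (Fin a × Fin b) F)).comp (left β)))
  have hAα : ∀ x, (s : Matrix (Fin a × Fin b) (Fin a × Fin b) F) *ᵥ pure x β = pure (Aα *ᵥ x) β := by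
    intro x
    obtain ⟨y, hy⟩ := hst x
    rw [show Aα *ᵥ x = cB QB β' ((s : Matrix (Fin a × Fin b) (Fin a × Fin b) F) *ᵥ pure x β) by
      rw [← Matrix.toLin'_apply, Matrix.toLin'_toMatrix']; rfl, hy, cB_pure, h2, one_smul]
  have hAu : IsUnit Aα := by
    rw [← Matrix.mulVec_injective_iff_isUnit]
    intro x y e
    refine pure_left_cancel hβ0 (?_ : pure x β = pure y β)
    have h := congrArg (((s⁻¹ : GL (Fin a × Fin b) F) : Matrix (Fin a × Fin b) (Fin a × Fin b) F) *ᵥ ·)
      ((hAα x).trans ((congrArg (fun z => pure z β) e).trans (hAα y).symm))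
    simpa only [mulVec_inv_mulVec] using h
  set α : GL (Fin a) F := hAu.unit with hα
  have hαv : ∀ x, (s : Matrix (Fin a × Fin b) (Fin a × Fin b) F) *ᵥ pure x β =
      pure ((α : Matrix (Fin a) (Fin a) F) *ᵥ x) β := hAα
  have hsi : ∀ x, ((s⁻¹ : GL (Fin a × Fin b) F) : Matrix (Fin a × Fin b) (Fin a × Fin b) F) *ᵥ pure x β =
      pure (((α⁻¹ : GL (Fin a) F) : Matrix (Fin a) (Fin a) F) *ᵥ x) β := fun x => by
    have h : (s : Matrix (Fin a × Fin b) (Fin a × Fin b) F) *ᵥ
        pure (((α⁻¹ : GL (Fin a) F) : Matrix (Fin a) (Fin a) F) *ᵥ x) β = pure x β := by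
      rw [hαv, mulVec_mulVec_inv]
    conv_lhs => rw [← h, mulVec_inv_mulVec]
  have hrel : ∀ y p, polarBilin QA ((α : Matrix (Fin a) (Fin a) F) *ᵥ y)
      (cB QB β ((s : Matrix (Fin a × Fin b) (Fin a × Fin b) F) *ᵥ p)) = polarBilin QA y (cB QB β p) := fun y p => by
    rw [← B_left hS, ← B_left hS, ← hαv, Orth.iso_polar hsp]
  have hperp_s : ∀ p, cB QB β p = 0 → cB QB β ((s : Matrix (Fin a × Fin b) (Fin a × Fin b) F) *ᵥ p) = 0 := by
    intro p hp
    refine hS.ndA.2 _ fun y => ?_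
    have h := hrel (((α⁻¹ : GL (Fin a) F) : Matrix (Fin a) (Fin a) F) *ᵥ y) p
    rwa [mulVec_mulVec_inv, hp, map_zero] at h
  have hperp_si : ∀ p, cB QB β p = 0 →
      cB QB β (((s⁻¹ : GL (Fin a × Fin b) F) : Matrix (Fin a × Fin b) (Fin a × Fin b) F) *ᵥ p) = 0 := by
    intro p hp
    refine hS.ndA.2 _ fun y => ?_
    rw [← hrel, mulVec_mulVec_inv, hp, map_zero]
  let A : (Fin a → F) →ₗ[F] (Fin a → F) := (cB QB β).comp
    ((Matrix.mulVecLin ((s⁻¹ : GL (Fin a × Fin b) F) : Matrix (Fin a × Fin b) (Fin a × Fin b) F)).comp (left β'))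
  have hA : ∀ x, A x = cB QB β (((s⁻¹ : GL (Fin a × Fin b) F) : Matrix (Fin a × Fin b) (Fin a × Fin b) F) *ᵥ pure x β') :=
    fun x => rfl
  have hadj : ∀ y x, polarBilin QA ((α : Matrix (Fin a) (Fin a) F) *ᵥ y) x = polarBilin QA y (A x) := fun y x => by
    rw [hA, ← hrel, mulVec_mulVec_inv, cB_pure, h1, one_smul]
  have hAinj : Function.Injective A := (injective_iff_map_eq_zero A).mpr fun x hx => hS.ndA.2 x fun y => by
    rw [← mulVec_mulVec_inv α y, hadj, hx, map_zero]
  let Ae : (Fin a → F) ≃ₗ[F] (Fin a → F) :=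
    LinearEquiv.ofBijective A ⟨hAinj, LinearMap.injective_iff_surjective.mp hAinj⟩
  have hAe : ∀ y, A (Ae.symm y) = y := fun y => Ae.apply_symm_apply y
  obtain ⟨e, e', he, he', hee'⟩ := exists_hyp hS.ndA X.hac
  have he'0 : Ae.symm e' ≠ 0 := fun h => by
    rw [LinearEquiv.map_eq_zero_iff] at h
    rw [h, map_zero] at hee'
    exact zero_ne_one hee'
  obtain ⟨η₀, hη₀⟩ : ∃ η₀, polarBilin QA η₀ (Ae.symm e') ≠ 0 := by
    by_contra hc
    push Not at hc
    exact he'0 (hS.ndA.2 _ hc)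
  set η := (polarBilin QA η₀ (Ae.symm e'))⁻¹ • η₀ with hη
  have hη1 : polarBilin QA η (Ae.symm e') = 1 := by
    rw [hη, map_smul, LinearMap.smul_apply, smul_eq_mul, inv_mul_cancel₀ hη₀]
  -- the action on the middle
  let π : (Fin b → F) →ₗ[F] (Fin b → F) :=
    LinearMap.id - (polarBilin QB β').smulRight β - (polarBilin QB β).smulRight β'
  have hπ : ∀ u, π u = wproj QB β β' u := fun u => rfl
  have hπ1 : ∀ u, polarBilin QB β (π u) = 0 ∧ polarBilin QB β' (π u) = 0 := fun u => wproj_perp hβ hβ' h1 u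
  let D₀ : (Fin b → F) →ₗ[F] (Fin b → F) := π.comp
    ((cA QA η).comp ((Matrix.mulVecLin (s : Matrix (Fin a × Fin b) (Fin a × Fin b) F)).comp (right e')))
  have hmid0 : ∀ y w, polarBilin QB β w = 0 → polarBilin QB β' w = 0 →
      ∃ t, (s : Matrix (Fin a × Fin b) (Fin a × Fin b) F) *ᵥ pure y w = pure (Ae.symm y) (D₀ w) + pure t β := by
    intro y w hw hw'
    set R := kr ((1 : GL (Fin a) F), Orth.eichGL QB β w hβ hw) with hR
    set Y := s * R * s⁻¹ with hY
    have hYM : Y ∈ M := M.mul_mem (M.mul_mem hs (one_eich_mem X hβ hw)) (M.inv_mem hs)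
    have hQperp : ∀ p, cB QB β p = 0 →
        (R : Matrix (Fin a × Fin b) (Fin a × Fin b) F) *ᵥ p = p - pure (cB QB w p) β := fun p hp => by
      rw [hR, kr_eich_mulVec, hp, pure_zero_left, smul_zero, add_zero, add_zero]
    have hYβ' : ∀ x, (Y : Matrix (Fin a × Fin b) (Fin a × Fin b) F) *ᵥ pure x β' = pure x β' +
        (s : Matrix (Fin a × Fin b) (Fin a × Fin b) F) *ᵥ pure (A x) w -
        pure ((α : Matrix (Fin a) (Fin a) F) *ᵥ (cB QB w (((s⁻¹ : GL (Fin a × Fin b) F) :
          Matrix (Fin a × Fin b) (Fin a × Fin b) F) *ᵥ pure x β') + QB w • A x)) β := fun x => by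
      rw [hY, mulVec_mul, mulVec_mul, hR, kr_eich_mulVec, ← hA, Matrix.mulVec_sub, Matrix.mulVec_add,
        mulVec_mulVec_inv, hαv]
    have hRad : Rad QB Q β β' Y := ⟨X.hM.pres hYM,
      fun x => by
        rw [hY, mulVec_mul, mulVec_mul, hsi, hQperp _ (by rw [cB_pure, ββ, zero_smul]), cB_pure,
          quad_polar_comm QB w β, hw, zero_smul, pure_zero_left, sub_zero, hαv, mulVec_mulVec_inv],
      fun p hp => ⟨-((α : Matrix (Fin a) (Fin a) F) *ᵥ cB QB w (((s⁻¹ : GL (Fin a × Fin b) F) :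
          Matrix (Fin a × Fin b) (Fin a × Fin b) F) *ᵥ p)), by
        rw [hY, mulVec_mul, mulVec_mul, hQperp _ (hperp_si p hp), Matrix.mulVec_sub, mulVec_mulVec_inv, hαv]
        funext q
        simp [Tensor.pure]
        ring⟩,
      fun x => by
        rw [hYβ', map_sub, map_add, cB_pure, cB_pure, h1, ββ, hperp_s _ (by rw [cB_pure, hw, zero_smul]), one_smul,
          zero_smul, add_zero, sub_zero]⟩
    refine ⟨cB QB β' ((s : Matrix (Fin a × Fin b) (Fin a × Fin b) F) *ᵥ pure y w - pure (Ae.symm y) (D₀ w)), ?_⟩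
    rw [← only_beta hS hβ hβ' h1 (p := (s : Matrix (Fin a × Fin b) (Fin a × Fin b) F) *ᵥ pure y w -
      pure (Ae.symm y) (D₀ w))]
    · abel
    · rw [map_sub, hperp_s _ (by rw [cB_pure, hw, zero_smul]), cB_pure, show polarBilin QB β (D₀ w) = 0 from (hπ1 _).1,
        zero_smul, sub_zero]
    intro z hz hz'
    obtain ⟨k, hk⟩ := member_scalar X hβ hβ' h1 hRad hYM hz hz'
    have hk' : ∀ y, cB QB z ((s : Matrix (Fin a × Fin b) (Fin a × Fin b) F) *ᵥ pure y w) = k • Ae.symm y := by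
      intro y
      have h := hk (Ae.symm y)
      rw [lpart_apply, hYβ', map_sub, map_add, cB_pure, cB_pure, quad_polar_comm QB z β', hz',
        quad_polar_comm QB z β, hz, zero_smul, zero_smul, zero_add, sub_zero, hAe] at h
      exact h
    have hDz : polarBilin QB z (D₀ w) = k := by
      show polarBilin QB z (π _) = _
      rw [hπ, wproj, map_sub, map_sub, map_smul, map_smul, quad_polar_comm QB z β, hz, quad_polar_comm QB z β', hz',
        smul_zero, smul_zero, sub_zero, sub_zero]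
      show polarBilin QB z (cA QA η _) = _
      rw [cA_comm hS]
      show polarBilin QA η (cB QB z ((s : Matrix (Fin a × Fin b) (Fin a × Fin b) F) *ᵥ pure e' w)) = _
      rw [hk', map_smul, hη1, smul_eq_mul, mul_one]
    rw [map_sub, hk', cB_pure, hDz, sub_self]
  have hiso0 : ∀ y y' w w', polarBilin QB β w = 0 → polarBilin QB β' w = 0 → polarBilin QB β w' = 0 →
      polarBilin QB β' w' = 0 → polarBilin QA (Ae.symm y) (Ae.symm y') * polarBilin QB (D₀ w) (D₀ w') =
        polarBilin QA y y' * polarBilin QB w w' := by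
    intro y y' w w' hw hw' hv hv'
    obtain ⟨t, et⟩ := hmid0 y w hw hw'
    obtain ⟨t', et'⟩ := hmid0 y' w' hv hv'
    have h := Orth.iso_polar hsp (pure y w) (pure y' w')
    have d1 : ∀ v, polarBilin QB β (D₀ v) = 0 := fun v => (hπ1 _).1
    have d1' : ∀ v, polarBilin QB (D₀ v) β = 0 := fun v => by rw [quad_polar_comm]; exact d1 v
    rw [et, et', hS.form y w y' w'] at h
    simpa only [map_add, LinearMap.add_apply, hS.form, ββ, d1, d1', mul_zero, add_zero] using h
  obtain ⟨z₀, hz₀W, hQz₀⟩ := ((nd_top hS.ndB).perp_pair (e := β) (f := β') trivial trivial hβ hβ' h1).exists_aniso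
    fun hbot => by
      have h3 := finrank_perp_two (Q := QB) β β'
      rw [hbot, finrank_bot, Fintype.card_fin] at h3
      have := X.hb
      omega
  have hz₀ : polarBilin QB β z₀ = 0 := hz₀W.1.2
  have hz₀' : polarBilin QB β' z₀ = 0 := hz₀W.2
  set ν := polarBilin QB z₀ z₀ with hν
  have hν0 : ν ≠ 0 := by rw [hν, quad_polar_self]; exact mul_ne_zero hS.two hQz₀
  set μ := polarBilin QB (D₀ z₀) (D₀ z₀) with hμ
  have hμ0 : μ ≠ 0 := fun h0 => by
    have h := hiso0 e e' z₀ z₀ hz₀ hz₀' hz₀ hz₀'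
    rw [← hμ, h0, mul_zero, hee', one_mul] at h
    exact hν0 h.symm
  set lam := ν / μ with hlam
  have hlam0 : lam ≠ 0 := div_ne_zero hν0 hμ0
  have hA'sim : ∀ y y', polarBilin QA (Ae.symm y) (Ae.symm y') = lam * polarBilin QA y y' := fun y y' => by
    have h := hiso0 y y' z₀ z₀ hz₀ hz₀' hz₀ hz₀'
    rw [← hμ, ← hν] at h
    rw [hlam]
    field_simp
    linear_combination h
  have hαA : ∀ y, (α : Matrix (Fin a) (Fin a) F) *ᵥ y = lam⁻¹ • Ae.symm y := fun y => by
    refine sub_eq_zero.mp (hS.ndA.1 _ fun x => ?_)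
    obtain ⟨z, rfl⟩ := Ae.symm.surjective x
    rw [map_sub, LinearMap.sub_apply, map_smul, LinearMap.smul_apply, hadj, hAe, hA'sim, smul_eq_mul,
      inv_mul_cancel_left₀ hlam0, sub_self]
  set κ := lam⁻¹ with hκ
  have hκ0 : κ ≠ 0 := inv_ne_zero hlam0
  have hsim : ∀ y z, polarBilin QA ((α : Matrix (Fin a) (Fin a) F) *ᵥ y) ((α : Matrix (Fin a) (Fin a) F) *ᵥ z) =
      κ * polarBilin QA y z := fun y z => by
    rw [hαA, hαA, map_smul, map_smul, LinearMap.smul_apply, hA'sim, smul_eq_mul, smul_eq_mul]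
    field_simp
    rw [hκ]
    field_simp
  let D : (Fin b → F) →ₗ[F] (Fin b → F) := lam • D₀
  have hmid : ∀ y w, polarBilin QB β w = 0 → polarBilin QB β' w = 0 →
      ∃ t, (s : Matrix (Fin a × Fin b) (Fin a × Fin b) F) *ᵥ pure y w =
        pure ((α : Matrix (Fin a) (Fin a) F) *ᵥ y) (D w) + pure t β := fun y w hw hw' => by
    obtain ⟨t, ht⟩ := hmid0 y w hw hw'
    refine ⟨t, ?_⟩
    rw [ht, hαA, pure_smul_left, show D w = lam • D₀ w from rfl, pure_smul_right, smul_smul, hκ,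
      inv_mul_cancel₀ hlam0, one_smul]
  have hDiso : ∀ w w', polarBilin QB β w = 0 → polarBilin QB β' w = 0 → polarBilin QB β w' = 0 →
      polarBilin QB β' w' = 0 → κ * polarBilin QB (D w) (D w') = polarBilin QB w w' := fun w w' hw hw' hv hv' => by
    have h := hiso0 e e' w w' hw hw' hv hv'
    rw [hA'sim, hee', one_mul, mul_one] at h
    rw [← h]
    simp only [D, LinearMap.smul_apply, map_smul, smul_eq_mul, hκ]
    field_simp
  -- the product element
  let hL : (Fin b → F) →ₗ[F] (Fin b → F) :=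
    (polarBilin QB β').smulRight β + κ⁻¹ • (polarBilin QB β).smulRight β' + D.comp π
  have hLu : ∀ u, hL u = polarBilin QB β' u • β + (κ⁻¹ * polarBilin QB β u) • β' + D (π u) := fun u => by
    simp only [hL, LinearMap.add_apply, LinearMap.smul_apply, LinearMap.smulRight_apply, LinearMap.comp_apply,
      smul_smul]
  have hLiso : ∀ u u', polarBilin QB (hL u) (hL u') = κ⁻¹ * polarBilin QB u u' := by
    intro u u'
    have hd := hDiso (π u) (π u') (hπ1 u).1 (hπ1 u).2 (hπ1 u').1 (hπ1 u').2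
    have hexp : polarBilin QB (π u) (π u') = polarBilin QB u u' - polarBilin QB β' u * polarBilin QB β u' -
        polarBilin QB β u * polarBilin QB β' u' := by
      rw [hπ u, hπ u', wproj, wproj]
      simp only [map_sub, LinearMap.sub_apply, LinearMap.smul_apply, map_smul, smul_eq_mul,
        ββ, Orth.polar_self_of_sing QB hβ', h1, h2, quad_polar_comm QB u β, quad_polar_comm QB u β']
      ring
    have d1 : ∀ v, polarBilin QB β (D v) = 0 := fun v => by
      show polarBilin QB β (lam • D₀ v) = 0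
      rw [map_smul, show polarBilin QB β (D₀ v) = 0 from (hπ1 _).1, smul_zero]
    have d2 : ∀ v, polarBilin QB β' (D v) = 0 := fun v => by
      show polarBilin QB β' (lam • D₀ v) = 0
      rw [map_smul, show polarBilin QB β' (D₀ v) = 0 from (hπ1 _).2, smul_zero]
    simp only [hLu, map_add, LinearMap.add_apply, LinearMap.smul_apply, map_smul, smul_eq_mul, ββ,
      Orth.polar_self_of_sing QB hβ', h1, h2, d1, d2, quad_polar_comm QB (D (π u)) β,
      quad_polar_comm QB (D (π u)) β']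
    have hi : κ⁻¹ * κ = 1 := inv_mul_cancel₀ hκ0
    linear_combination κ⁻¹ * hd + κ⁻¹ * hexp - polarBilin QB (D (π u)) (D (π u')) * hi
  have hHv : ∀ u, LinearMap.toMatrix' hL *ᵥ u = hL u := fun u => by
    rw [← Matrix.toLin'_apply, Matrix.toLin'_toMatrix']
  have hHu : IsUnit (LinearMap.toMatrix' hL) := by
    rw [← Matrix.mulVec_injective_iff_isUnit]
    intro u u' h
    rw [← sub_eq_zero]
    refine hS.ndB.1 _ fun x => ?_
    have h0 := hLiso (u - u') x
    rw [map_sub, ← hHv, ← hHv, h, sub_self, map_zero, LinearMap.zero_apply] at h0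
    exact (mul_eq_zero.mp h0.symm).resolve_left (inv_ne_zero hκ0)
  set hB : GL (Fin b) F := hHu.unit
  have hBv : ∀ u, (hB : Matrix (Fin b) (Fin b) F) *ᵥ u = hL u := hHv
  have hBβ : (hB : Matrix (Fin b) (Fin b) F) *ᵥ β = β := by
    rw [hBv, hLu, h2, ββ, mul_zero, show π β = 0 by rw [hπ, wproj, h2, ββ]; simp, map_zero]
    simp
  set n := kr (α, hB) with hn
  have hnp : n ∈ Cfsg.isometryGroup F ⇑Q := iso_of_pure hS fun x u y w => by
    rw [hn, kr_pure, kr_pure, hS.form, hsim, hBv, hBv, hLiso, hS.form]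
    field_simp
  have hninv : ∀ x, ((n⁻¹ : GL (Fin a × Fin b) F) : Matrix (Fin a × Fin b) (Fin a × Fin b) F) *ᵥ
      pure ((α : Matrix (Fin a) (Fin a) F) *ᵥ x) β = pure x β := fun x => by
    conv_lhs => rw [← hBβ]
    rw [← kr_pure (α, hB), ← hn, mulVec_inv_mulVec]
  -- the conjugate group
  let M' : Subgroup (GL (Fin a × Fin b) F) := M.comap (MulAut.conj n).toMonoidHom
  have hM'mem : ∀ g, g ∈ M' ↔ n * g * n⁻¹ ∈ M := fun g => Iff.rfl
  have hisoB : ∀ g ∈ Cfsg.isometryGroup F ⇑QB, hB * g * hB⁻¹ ∈ Cfsg.isometryGroup F ⇑QB := fun g hg =>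
    iso_conj_similitude hS.two (κ := κ⁻¹) (fun u v => by rw [hBv, hBv, hLiso]) hg
  have X' : Ctx QA QB Q M' := by
    refine ⟨hS, ⟨fun g hg => ?_, fun gh h3 h4 => ?_⟩, X.ha, X.hb, X.hA, X.hq, fun hle => X.hno fun g hg => ?_⟩
    · have := mul_mem (mul_mem (inv_mem hnp) (X.hM.pres ((hM'mem g).mp hg))) hnp
      rwa [show n⁻¹ * (n * g * n⁻¹) * n = g by group] at this
    · rw [hM'mem, hn, ← map_mul, ← map_inv, ← map_mul]
      exact X.hM.prod _ (omega_conj (fun g hg => iso_conj_similitude hS.two hsim hg) h3) (omega_conj hisoB h4)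
    · have h3 : n⁻¹ * g * n⁻¹⁻¹ ∈ Cfsg.Geo.omegaGL ⇑Q :=
        omega_conj (fun g hg => mul_mem (mul_mem (inv_mem hnp) hg) (inv_mem (inv_mem hnp))) hg
      have h4 := (hM'mem _).mp (hle h3)
      rwa [show n * (n⁻¹ * g * n⁻¹⁻¹) * n⁻¹ = g by group] at h4
  set E := n⁻¹ * s with hE
  have hEp : E ∈ Cfsg.isometryGroup F ⇑Q := mul_mem (inv_mem hnp) hsp
  have hEconj : ∀ gh : GL (Fin a) F × GL (Fin b) F, gh.1 ∈ Cfsg.Geo.omegaGL ⇑QA → gh.2 ∈ Cfsg.Geo.omegaGL ⇑QB →
      E * kr gh * E⁻¹ ∈ M' := fun gh h3 h4 => by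
    rw [hM'mem, show n * (E * kr gh * E⁻¹) * n⁻¹ = s * kr gh * s⁻¹ by rw [hE]; group]
    exact M.mul_mem (M.mul_mem hs (X.hM.prod gh h3 h4)) (M.inv_mem hs)
  have hE1 : ∀ x, (E : Matrix (Fin a × Fin b) (Fin a × Fin b) F) *ᵥ pure x β = pure x β := fun x => by
    rw [hE, mulVec_mul, hαv, hninv]
  have hEcB : ∀ p, cB QB β ((E : Matrix (Fin a × Fin b) (Fin a × Fin b) F) *ᵥ p) = cB QB β p := fun p => by
    refine sub_eq_zero.mp (hS.ndA.2 _ fun y => ?_)
    rw [map_sub, ← B_left hS, ← B_left hS]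
    conv_lhs => arg 1; rw [← hE1 y, Orth.iso_polar hEp]
    rw [sub_self]
  have hEmid : ∀ y w, polarBilin QB β w = 0 → polarBilin QB β' w = 0 →
      ∃ t, (E : Matrix (Fin a × Fin b) (Fin a × Fin b) F) *ᵥ pure y w = pure y w + pure t β := by
    intro y w hw hw'
    obtain ⟨t, ht⟩ := hmid y w hw hw'
    refine ⟨((α⁻¹ : GL (Fin a) F) : Matrix (Fin a) (Fin a) F) *ᵥ t, ?_⟩
    have h : (n : Matrix (Fin a × Fin b) (Fin a × Fin b) F) *ᵥ
        (pure y w + pure (((α⁻¹ : GL (Fin a) F) : Matrix (Fin a) (Fin a) F) *ᵥ t) β) =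
        (s : Matrix (Fin a × Fin b) (Fin a × Fin b) F) *ᵥ pure y w := by
      rw [hn, Matrix.mulVec_add, kr_pure, kr_pure, hBβ, mulVec_mulVec_inv, ht, hBv, hLu, hw, hw',
        show π w = w by rw [hπ, wproj, hw, hw']; simp]
      simp
    rw [hE, mulVec_mul, ← h, mulVec_inv_mulVec]
  let P0 : (Fin a × Fin b → F) →ₗ[F] (Fin a × Fin b → F) := LinearMap.id - (left β').comp (cB QB β)
  have hP0 : ∀ p, P0 p = p - pure (cB QB β p) β' := fun p => rfl
  have hP0w : ∀ x u, P0 (pure x u) = polarBilin QB β' u • pure x β + pure x (π u) := fun x u => by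
    rw [hP0, cB_pure, hπ, wproj, pure_sub_right, pure_sub_right, pure_smul_right, pure_smul_right, pure_smul_left]
    abel
  have hErad : Rad QB Q β β' E := by
    refine ⟨hEp, hE1, fun p hp => ?_, fun x => by rw [hEcB, cB_pure, h1, one_smul]⟩
    refine ⟨cB QB β' ((E : Matrix (Fin a × Fin b) (Fin a × Fin b) F) *ᵥ p - p), ?_⟩
    rw [← only_beta hS hβ hβ' h1 (p := (E : Matrix (Fin a × Fin b) (Fin a × Fin b) F) *ᵥ p - p)]
    · abel
    · rw [map_sub, hEcB, sub_self]
    intro z hz hz'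
    have h := lext (g := (cB QB z).comp ((Matrix.mulVecLin (E : Matrix (Fin a × Fin b) (Fin a × Fin b) F) -
      LinearMap.id).comp P0)) (g' := (0 : (Fin a × Fin b → F) →ₗ[F] (Fin a → F))) (fun x u => by
      obtain ⟨t, ht⟩ := hEmid x (π u) (hπ1 u).1 (hπ1 u).2
      simp only [LinearMap.comp_apply, LinearMap.sub_apply, Matrix.mulVecLin_apply, LinearMap.id_apply, hP0w,
        Matrix.mulVec_add, Matrix.mulVec_smul, hE1, ht, LinearMap.zero_apply]
      rw [show polarBilin QB β' u • pure x β + (pure x (π u) + pure t β) -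
        (polarBilin QB β' u • pure x β + pure x (π u)) = pure t β by abel, cB_pure, quad_polar_comm QB z β, hz,
        zero_smul]) p
    simpa [hP0, hp, pure_zero_left] using h
  -- removing the linear part
  set w₀ := cA QA e ((E : Matrix (Fin a × Fin b) (Fin a × Fin b) F) *ᵥ pure e' β') with hw₀
  have hlin : ∀ z, polarBilin QB β z = 0 → polarBilin QB β' z = 0 → ∀ x,
      cB QB z ((E : Matrix (Fin a × Fin b) (Fin a × Fin b) F) *ᵥ pure x β') = polarBilin QB z (π w₀) • x := by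
    intro z hz hz' x
    obtain ⟨k, hk⟩ := scalar_L X' hβ hβ' h1 hErad hEconj hz hz'
    rw [← lpart_apply, hk x, hπ, wproj, map_sub, map_sub, map_smul, map_smul, quad_polar_comm QB z β, hz,
      quad_polar_comm QB z β', hz', smul_zero, smul_zero, sub_zero, sub_zero, hw₀, cA_comm hS, ← lpart_apply, hk,
      map_smul, hee', smul_eq_mul, mul_one]
  set m := -(π w₀) with hm
  have hm1 : polarBilin QB β m = 0 := by rw [hm, map_neg, (hπ1 _).1, neg_zero]
  have hm2 : polarBilin QB β' m = 0 := by rw [hm, map_neg, (hπ1 _).2, neg_zero]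
  have hmβ : polarBilin QB m β = 0 := by rw [quad_polar_comm]; exact hm1
  have hmβ' : polarBilin QB m β' = 0 := by rw [quad_polar_comm]; exact hm2
  set Qm := kr ((1 : GL (Fin a) F), Orth.eichGL QB β m hβ hm1) with hQm
  set E₂ := E * Qm with hE₂
  have hE₂p : E₂ ∈ Cfsg.isometryGroup F ⇑Q :=
    mul_mem hEp (kr_iso hS (one_mem _) (Orth.toGL_mem_isometry QB _))
  have hEQ : ∀ p, (E₂ : Matrix (Fin a × Fin b) (Fin a × Fin b) F) *ᵥ p =
      (E : Matrix (Fin a × Fin b) (Fin a × Fin b) F) *ᵥ (p + pure (cB QB β p) m) -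
        pure (cB QB m p + QB m • cB QB β p) β := fun p => by
    rw [hE₂, mulVec_mul, hQm, kr_eich_mulVec, Matrix.mulVec_sub, hE1]
  have hE₂β : ∀ x, (E₂ : Matrix (Fin a × Fin b) (Fin a × Fin b) F) *ᵥ pure x β = pure x β := fun x => by
    rw [hEQ, cB_pure, cB_pure, ββ, hmβ]
    simp [pure_zero_left, hE1]
  have hE₂β' : ∀ x, ∃ t, (E₂ : Matrix (Fin a × Fin b) (Fin a × Fin b) F) *ᵥ pure x β' = pure x β' + pure t β := by
    intro x
    refine ⟨cB QB β' ((E₂ : Matrix (Fin a × Fin b) (Fin a × Fin b) F) *ᵥ pure x β' - pure x β'), ?_⟩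
    obtain ⟨t, ht⟩ := hEmid x m hm1 hm2
    have hval : (E₂ : Matrix (Fin a × Fin b) (Fin a × Fin b) F) *ᵥ pure x β' - pure x β' =
        (E : Matrix (Fin a × Fin b) (Fin a × Fin b) F) *ᵥ pure x β' - pure x β' + pure x m + pure (t - QB m • x) β := by
      rw [hEQ, cB_pure, cB_pure, h1, hmβ', one_smul, zero_smul, zero_add, Matrix.mulVec_add, ht]
      funext q
      simp [Tensor.pure]
      ring
    rw [← only_beta hS hβ hβ' h1 (p := (E₂ : Matrix (Fin a × Fin b) (Fin a × Fin b) F) *ᵥ pure x β' - pure x β')]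
    · abel
    · rw [hval, map_add, map_add, map_sub, hErad.top, cB_pure, cB_pure, cB_pure, h1, hm1, ββ, one_smul, zero_smul,
        zero_smul]
      simp
    intro z hz hz'
    rw [hval, map_add, map_add, map_sub, hlin z hz hz', cB_pure, cB_pure, cB_pure, quad_polar_comm QB z β', hz',
      quad_polar_comm QB z β, hz, hm, map_neg]
    module
  have hE₂fix : ∀ p, cB QB β p = 0 → (E₂ : Matrix (Fin a × Fin b) (Fin a × Fin b) F) *ᵥ p = p := by
    intro p hp
    have key : ∀ x w, polarBilin QB β w = 0 → polarBilin QB β' w = 0 →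
        (E₂ : Matrix (Fin a × Fin b) (Fin a × Fin b) F) *ᵥ pure x w = pure x w := by
      intro x w hw hw'
      obtain ⟨t, ht⟩ := hEmid x w hw hw'
      have e1 : (E₂ : Matrix (Fin a × Fin b) (Fin a × Fin b) F) *ᵥ pure x w =
          pure x w + pure (t - polarBilin QB m w • x) β := by
        rw [hEQ, cB_pure, cB_pure, hw, zero_smul, smul_zero, pure_zero_left, add_zero, add_zero, ht]
        funext q
        simp [Tensor.pure]
        ring
      suffices h : t - polarBilin QB m w • x = 0 by rw [e1, h, pure_zero_left, add_zero]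
      refine hS.ndA.1 _ fun y => ?_
      obtain ⟨t', ht'⟩ := hE₂β' y
      have h := Orth.iso_polar hE₂p (pure x w) (pure y β')
      rw [e1, ht'] at h
      simp only [map_add, LinearMap.add_apply, hS.form, quad_polar_comm QB w β, hw, quad_polar_comm QB w β', hw', ββ,
        h1, mul_zero, add_zero, zero_add, mul_one] at h
      exact h
    have h := lext (g := (Matrix.mulVecLin (E₂ : Matrix (Fin a × Fin b) (Fin a × Fin b) F)).comp P0) (g' := P0)
      (fun x u => by
        rw [LinearMap.comp_apply, hP0w, Matrix.mulVecLin_apply, Matrix.mulVec_add, Matrix.mulVec_smul, hE₂β,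
          key _ _ (hπ1 u).1 (hπ1 u).2]) p
    simpa [hP0, hp, pure_zero_left] using h
  let C : (Fin a → F) →ₗ[F] (Fin a → F) := (cB QB β').comp
    ((Matrix.mulVecLin (E₂ : Matrix (Fin a × Fin b) (Fin a × Fin b) F) - LinearMap.id).comp (left β'))
  have hform : ∀ x u, (E₂ : Matrix (Fin a × Fin b) (Fin a × Fin b) F) *ᵥ pure x u =
      pure x u + polarBilin QB β u • pure (C x) β := by
    intro x u
    obtain ⟨t, ht⟩ := hE₂β' x
    have hCx : C x = t := by
      show cB QB β' ((E₂ : Matrix (Fin a × Fin b) (Fin a × Fin b) F) *ᵥ pure x β' - pure x β') = t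
      rw [ht, add_sub_cancel_left, cB_pure, h2, one_smul]
    rw [hCx, show pure x u = polarBilin QB β u • pure x β' + pure x (u - polarBilin QB β u • β') by
      rw [← pure_smul_right, ← pure_add_right, add_sub_cancel], Matrix.mulVec_add, Matrix.mulVec_smul, ht,
      hE₂fix (pure x (u - polarBilin QB β u • β')) (by
        rw [cB_pure, map_sub, map_smul, h1, smul_eq_mul, mul_one, sub_self, zero_smul])]
    module
  have hC0 : C = 0 := by
    refine eq_zero_of_commute hS.two hS.ndA X.ha (skew_of hS hβ h1 hE₂p hform) fun g hg x => ?_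
    set τ := kr (g, (1 : GL (Fin b) F)) with hτ
    have hK : E₂ * τ * E₂⁻¹ * τ⁻¹ ∈ M' := by
      refine M'.mul_mem ?_ (M'.inv_mem (X'.hM.prod (g, 1) hg (one_mem _)))
      rw [hE₂, show E * Qm * τ * (E * Qm)⁻¹ = E * (Qm * τ * Qm⁻¹) * E⁻¹ by group,
        show Qm * τ * Qm⁻¹ = kr (g, (1 : GL (Fin b) F)) by
          rw [hQm, hτ, ← map_inv, ← map_mul, ← map_mul]; simp]
      exact hEconj (g, 1) hg (one_mem _)
    have hinv : ∀ x u, ((E₂⁻¹ : GL (Fin a × Fin b) F) : Matrix (Fin a × Fin b) (Fin a × Fin b) F) *ᵥ pure x u =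
        pure x u - polarBilin QB β u • pure (C x) β := by
      intro x u
      have h : (E₂ : Matrix (Fin a × Fin b) (Fin a × Fin b) F) *ᵥ (pure x u - polarBilin QB β u • pure (C x) β) =
          pure x u := by
        rw [Matrix.mulVec_sub, Matrix.mulVec_smul, hform, hE₂β, add_sub_cancel_right]
      conv_lhs => rw [← h, mulVec_inv_mulVec]
    have hz := inc_eq_zero X' hβ hβ0 (C := C - conjm g C) ⟨_, hK, fun x u => by
      rw [mulVec_mul, mulVec_mul, mulVec_mul, hτ, ← map_inv, kr_pure]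
      simp only [Prod.fst_inv, Prod.snd_inv, inv_one, Units.val_one, Matrix.one_mulVec]
      rw [hinv, Matrix.mulVec_sub, Matrix.mulVec_smul, kr_pure, kr_pure, Units.val_one, Matrix.one_mulVec,
        Matrix.one_mulVec, mulVec_mulVec_inv, Matrix.mulVec_sub, Matrix.mulVec_smul, hform, hE₂β,
        LinearMap.sub_apply, conjm_apply]
      funext q
      simp [Tensor.pure]
      ring⟩
    have h := LinearMap.congr_fun hz ((g : Matrix (Fin a) (Fin a) F) *ᵥ x)
    rwa [LinearMap.sub_apply, LinearMap.zero_apply, sub_eq_zero, conjm_apply, mulVec_inv_mulVec] at h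
  have hE₂1 : E₂ = 1 := Units.ext (eq_of_pure fun x u => by
    rw [hform, hC0, LinearMap.zero_apply, pure_zero_left, smul_zero, add_zero, Units.val_one, Matrix.one_mulVec])
  have hse : s = n * E₂ * Qm⁻¹ := by rw [hE₂, hE]; group
  rw [hse, hE₂1, mul_one]
  exact Subgroup.mul_mem _ (mem_kronecker.mpr ⟨_, rfl⟩) (Subgroup.inv_mem _ (mem_kronecker.mpr ⟨_, rfl⟩))

end Cfsg.Agent.Lib.ThreeTransp.TensorOrth
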