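import Cfsg.Agent.Lib.ThreeTransp.TensorUniBase

/-!
A transvection with pure isotropic centre gives all of them.
-/

set_option autoImplicit false

namespace Cfsg.Agent.Lib.ThreeTransp.TensorUni

open Matrix Module
open Cfsg.Agent.Lib.MaxSub Cfsg.Agent.Lib.ThreeTransp.Tensor
open scoped MatrixGroups Matrix Kronecker

theorem ctr_sum {ι : Type} [Fintype ι] [DecidableEq ι] {F : Type*} [Field F] {f : HermF ι F} {M : Subgroup (GL ι F)}
    {p r : ι → F} {t : F} (hp : f.Ctr M p) (hr : f.Ctr M r) (ht : f.B p r = t) (ht0 : t ≠ 0) (htr : t + f.σ t = 0) :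
    f.Ctr M (p + r) := by
  refine hp.add hr (by rw [ht]; exact ht0) ?_
  show f.B _ _ = 0
  simp only [map_add, LinearMap.add_apply, show f.B p p = 0 from hp.1, show f.B r r = 0 from hr.1,
    ← f.herm p r, ht]
  linear_combination htr

theorem exists_two {ι : Type} [Fintype ι] [DecidableEq ι] {F : Type*} [Field F] [Finite F] (h : HermF ι F) {v z : ι → F}
    (hv : v ∉ F ∙ z) (hz : z ∉ F ∙ v) (p r : F) : ∃ w, h.B v w = p ∧ h.B z w = r := by
  obtain ⟨wv, h1, h2⟩ := h.exists_perp_eq_one _ hv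
  obtain ⟨wz, h3, h4⟩ := h.exists_perp_eq_one _ hz
  have e1 : h.B z wv = 0 := h.eq_zero_comm (h1 z (Submodule.mem_span_singleton_self z))
  have e2 : h.B v wz = 0 := h.eq_zero_comm (h3 v (Submodule.mem_span_singleton_self v))
  refine ⟨p • wv + r • wz, ?_, ?_⟩
  · rw [map_add, map_smul, map_smul, swap_one h2, e2]; simp
  · rw [map_add, map_smul, map_smul, swap_one h4, e1]; simp

variable {a b : ℕ} {F : Type*} [Field F] [Finite F] {fA : HermF (Fin a) F} {fB : HermF (Fin b) F}
  {f : HermF (Fin a × Fin b) F} {M : Subgroup (GL (Fin a × Fin b) F)}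

/-- `e ⊗ u + e' ⊗ w + R`. -/
def mk3 (e e' : Fin a → F) (u w : Fin b → F) (R : Fin a × Fin b → F) : Fin a × Fin b → F :=
  pure e u + pure e' w + R

omit [Finite F] in
theorem mk3_comm (e e' : Fin a → F) (u w : Fin b → F) (R : Fin a × Fin b → F) :
    mk3 e e' u w R = mk3 e' e w u R := by
  rw [mk3, mk3]; abel

/-- The vectors orthogonal to both rows. -/
def Perp (fA : HermF (Fin a) F) (e e' : Fin a → F) (R : Fin a × Fin b → F) : Prop :=
  cA fA e R = 0 ∧ cA fA e' R = 0

variable (hS : Setting fA fB f) (hM : Grp fA fB f M)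
include hS hM

/-- All pure tensors with isotropic components. -/
theorem ctr_iso {α : Fin a → F} {β : Fin b → F} (hαi : fA.Iso α) (hα : α ≠ 0) (hβi : fB.Iso β) (hβ : β ≠ 0)
    (hC : f.Ctr M (pure α β)) {α' : Fin a → F} {β' : Fin b → F} (hα'i : fA.Iso α') (hβ'i : fB.Iso β') :
    f.Ctr M (pure α' β') := by
  rcases eq_or_ne α' 0 with rfl | hα'
  · rw [pure_zero_left]; exact HermF.Ctr.zero (f := f) M
  rcases eq_or_ne β' 0 with rfl | hβ'
  · rw [pure_zero_right]; exact HermF.Ctr.zero (f := f) M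
  obtain ⟨g, c, hc, hgp, hgs, hge⟩ := move_iso (h := fA) hαi hα'i hα hα'
  obtain ⟨k, d, hd, hkp, hks, hke⟩ := move_iso (h := fB) hβi hβ'i hβ hβ'
  have h1 := hC.of_conj (hM.prod (g, k) hgp hkp hgs hks) (kr_preserves hS hgp hkp)
  rw [kr_pure, hge, hke, pure_smul_left, pure_smul_right, smul_smul] at h1
  have h2 := h1.smul (c * d)⁻¹
  rwa [smul_smul, inv_mul_cancel₀ (mul_ne_zero hc hd), one_smul] at h2

omit hM in
/-- Any second component. -/
theorem ctr_left (hb : 3 ≤ b) (hI : ∀ α β, fA.Iso α → fB.Iso β → f.Ctr M (pure α β)) {α : Fin a → F}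
    (hα : fA.Iso α) (u : Fin b → F) : f.Ctr M (pure α u) := by
  rcases eq_or_ne α 0 with rfl | hα0
  · rw [pure_zero_left]; exact HermF.Ctr.zero (f := f) M
  by_cases hu : fB.B u u = 0
  · exact hI α u hα hu
  obtain ⟨α', hα', hαα'⟩ := exists_iso_partner (h := fA) hα hα0
  have hα'α := swap_one hαα'
  have aa : fA.B α α = 0 := hα
  have a'a' : fA.B α' α' = 0 := hα'
  have hu0 : u ≠ 0 := fun e => hu (by rw [e, map_zero])
  have hb2 : 2 ≤ Fintype.card (Fin b) := by rw [Fintype.card_fin]; omega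
  obtain ⟨δ, hδ0, hδ⟩ := fB.exists_trace_zero
  have hσδ : fB.σ δ = -δ := eq_neg_of_add_eq_zero_right hδ
  obtain ⟨w₀, hw₀, hw₀u⟩ : ∃ w₀, fB.Iso w₀ ∧ fB.B w₀ u ≠ 0 := by
    by_contra h
    push Not at h
    exact hu0 (eq_zero_of_iso_perp hb2 h)
  set w := fB.σ (δ / fB.B w₀ u) • w₀ with hw
  have hwi : fB.Iso w := hw₀.smul _
  have ww : fB.B w w = 0 := hwi
  have hwu : fB.B w u = δ := by
    simp only [hw, LinearMap.map_smulₛₗ, LinearMap.smul_apply, fB.invol, smul_eq_mul]
    exact div_mul_cancel₀ _ hw₀u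
  clear_value w
  have huw : fB.B u w = -δ := by rw [← fB.herm w u, hwu, hσδ]
  obtain ⟨dd, hdd⟩ := fB.exists_trace (s := -fB.B u u) (by rw [map_neg, fB.herm])
  set a₁ := -dd / δ with ha₁
  have ha₁' : δ * a₁ = -dd := by rw [ha₁]; field_simp
  have ha₁'' : δ * fB.σ a₁ = fB.σ dd := by
    have h := congrArg fB.σ ha₁'
    rw [map_mul, map_neg, hσδ] at h
    linear_combination -h
  set w' := δ⁻¹ • (u + a₁ • w) with hw'
  have hww' : fB.B w w' = 1 := by
    rw [hw', map_smul, map_add, map_smul, hwu, ww, smul_zero, add_zero, smul_eq_mul, inv_mul_cancel₀ hδ0]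
  have hw'w := swap_one hww'
  have hw'i : fB.Iso w' := by
    refine HermF.Iso.smul ?_ _
    show fB.B _ _ = 0
    simp only [map_add, LinearMap.map_smulₛₗ, LinearMap.add_apply, LinearMap.smul_apply, map_smul, smul_eq_mul, ww,
      hwu, huw]
    linear_combination ha₁'' - ha₁' + hdd
  have w'w' : fB.B w' w' = 0 := hw'i
  have hue : u = δ • w' - a₁ • w := by rw [hw', smul_inv_smul₀ hδ0, add_sub_cancel_right]
  obtain ⟨z, hwz, hw'z, hzz⟩ := exists_aniso_pair (h := fB) (by rw [Fintype.card_fin]; omega) hwi hw'i hww'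
  obtain ⟨l, hl⟩ := Geometry.exists_mul_conj_eq fB.σ_ne fB.invol (s := fB.B u u / fB.B z z) (by
    rw [map_div₀, fB.herm, fB.herm])
  set p := l • z with hp
  have hwp : fB.B w p = 0 := by rw [hp, map_smul, hwz, smul_zero]
  have hw'p : fB.B w' p = 0 := by rw [hp, map_smul, hw'z, smul_zero]
  have hpp : fB.B p p = fB.B u u := by
    simp only [hp, LinearMap.map_smulₛₗ, LinearMap.smul_apply, map_smul, smul_eq_mul, RingHom.id_apply]
    have h0 : fB.B u u / fB.B z z * fB.B z z = fB.B u u := div_mul_cancel₀ _ hzz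
    linear_combination (fB.B z z) * hl + h0
  obtain ⟨c, hc⟩ := fB.exists_trace (map_one fB.σ)
  set β₁ := δ • w' + a₁ • w + p with hβ₁
  set β₂ := δ • w' + (fB.σ c * c * a₁) • w + c • p with hβ₂
  set β₃ := -δ • w' + (-(2 + fB.σ c * c) * a₁) • w - (1 + c) • p with hβ₃
  have hsum : β₁ + β₂ + β₃ = u := by rw [hue, hβ₁, hβ₂, hβ₃]; module
  have i₁ : fB.Iso β₁ := by
    show fB.B _ _ = 0
    simp only [hβ₁, map_add, LinearMap.map_smulₛₗ, LinearMap.add_apply, LinearMap.smul_apply, map_smul, smul_eq_mul,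
      w'w', ww, hww', hw'w, hwp, hw'p, fB.eq_zero_comm hwp, fB.eq_zero_comm hw'p, hpp, hσδ]
    linear_combination ha₁'' - ha₁' + hdd
  have i₂ : fB.Iso β₂ := by
    show fB.B _ _ = 0
    simp only [hβ₂, map_add, map_mul, fB.invol, LinearMap.map_smulₛₗ, LinearMap.add_apply, LinearMap.smul_apply,
      map_smul, smul_eq_mul, w'w', ww, hww', hw'w, hwp, hw'p, fB.eq_zero_comm hwp, fB.eq_zero_comm hw'p, hpp, hσδ]
    linear_combination (fB.σ c * c) * ha₁'' - (fB.σ c * c) * ha₁' + (fB.σ c * c) * hdd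
  have i₃ : fB.Iso β₃ := by
    show fB.B _ _ = 0
    simp only [hβ₃, map_add, map_sub, map_neg, map_mul, map_ofNat, fB.invol, LinearMap.map_smulₛₗ, map_one,
      LinearMap.add_apply, LinearMap.sub_apply, LinearMap.neg_apply, LinearMap.smul_apply,
      map_smul, smul_eq_mul, w'w', ww, hww', hw'w, hwp, hw'p, fB.eq_zero_comm hwp, fB.eq_zero_comm hw'p, hpp, hσδ]
    linear_combination (2 + fB.σ c * c) * ha₁'' - (2 + fB.σ c * c) * ha₁' + (2 + fB.σ c * c) * hdd + fB.B u u * hc
  have e₁ : fB.B w β₁ = δ := by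
    simp only [hβ₁, map_add, map_smul, hww', ww, hwp, smul_eq_mul, mul_one, mul_zero, add_zero]
  have e₂ : fB.B w β₂ = δ := by
    simp only [hβ₂, map_add, map_smul, hww', ww, hwp, smul_eq_mul, mul_one, mul_zero, add_zero]
  have e₃ : fB.B w β₃ = -δ := by
    simp only [hβ₃, map_add, map_sub, map_smul, hww', ww, hwp, smul_eq_mul, mul_one, mul_zero, add_zero, sub_zero]
  have e₁' : fB.B β₁ w = -δ := by rw [← fB.herm w β₁, e₁, hσδ]
  have htr : δ + f.σ δ = 0 := by rw [← hS.sB]; exact hδ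
  have htr' : -δ + f.σ (-δ) = 0 := by rw [map_neg]; linear_combination -htr
  have x₁ := ctr_sum (hI α β₁ hα i₁) (hI α' w hα' hwi) (t := -δ) (by rw [hS.form, hαα', e₁', one_mul])
    (neg_ne_zero.mpr hδ0) htr'
  have x₂ := ctr_sum x₁ (hI α β₂ hα i₂) (t := δ) (by
    simp only [map_add, LinearMap.add_apply, hS.form, aa, hα'α, e₂, zero_mul, one_mul, zero_add]) hδ0 htr
  have x₃ := ctr_sum x₂ (hI α β₃ hα i₃) (t := -δ) (by
    simp only [map_add, LinearMap.add_apply, hS.form, aa, hα'α, e₃, zero_mul, one_mul, zero_add, add_zero])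
    (neg_ne_zero.mpr hδ0) htr'
  have x₄ := ctr_sum x₃ (hI α' (-w) hα' (show fB.B (-w) (-w) = 0 by simp [ww])) (t := δ) (by
    simp only [map_add, map_neg, LinearMap.add_apply, hS.form, a'a', hαα', zero_mul, one_mul, zero_add, add_zero]
    have h : fB.B (β₁ + β₂ + β₃) w = -δ := by rw [hsum, huw]
    simp only [map_add, LinearMap.add_apply] at h
    linear_combination -h) hδ0 htr
  convert x₄ using 1
  rw [← hsum, pure_add_right, pure_add_right,
    show pure α' (-w) = -(pure α' w) by rw [← neg_one_smul F w, pure_smul_right, neg_one_smul]]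
  abel

omit hM in
theorem mk3_norm {e e' : Fin a → F} (he : fA.Iso e) (he' : fA.Iso e') (hee' : fA.B e e' = 1) {R : Fin a × Fin b → F}
    (hR : Perp fA e e' R) (u w : Fin b → F) :
    f.B (mk3 e e' u w R) (mk3 e e' u w R) = fB.B u w + fB.B w u + f.B R R := by
  have h1 : ∀ v, f.B (pure e v) R = 0 := fun v => by rw [B_right hS, hR.1, map_zero]
  have h2 : ∀ v, f.B (pure e' v) R = 0 := fun v => by rw [B_right hS, hR.2, map_zero]
  simp only [mk3, map_add, LinearMap.add_apply, hS.form, show fA.B e e = 0 from he, show fA.B e' e' = 0 from he',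
    hee', swap_one hee', h1, h2, f.eq_zero_comm (h1 _), f.eq_zero_comm (h2 _), zero_mul, one_mul]
  ring

omit hM in
/-- Changing the first component. -/
theorem mk3_step (hb : 1 ≤ b) {e e' : Fin a → F} (he : fA.Iso e) (he' : fA.Iso e') (hee' : fA.B e e' = 1)
    (hU : ∀ α, fA.Iso α → ∀ u, f.Ctr M (pure α u))
    {R : Fin a × Fin b → F} (hR : Perp fA e e' R) {u v w : Fin b → F} (hw : w ≠ 0)
    (h : f.Ctr M (mk3 e e' u w R)) (hv : fB.B w v + fB.B v w = 0) : f.Ctr M (mk3 e e' (u + v) w R) := by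
  have key : ∀ (u v : Fin b → F), f.Ctr M (mk3 e e' u w R) → fB.B w v ≠ 0 → fB.B w v + fB.B v w = 0 →
      f.Ctr M (mk3 e e' (u + v) w R) := by
    intro u v h h0 htr
    have h1 := ctr_sum h (hU e he v) (t := fB.B w v) (by
      simp only [mk3, map_add, LinearMap.add_apply, hS.form, show fA.B e e = 0 from he, swap_one hee',
        f.eq_zero_comm (show f.B (pure e v) R = 0 by rw [B_right hS, hR.1, map_zero]), zero_mul, one_mul, zero_add,
        add_zero]) h0 (by rw [← hS.sB, fB.herm, htr])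
    rwa [show mk3 e e' u w R + pure e v = mk3 e e' (u + v) w R by rw [mk3, mk3, pure_add_right]; abel] at h1
  by_cases h0 : fB.B w v = 0
  swap; · exact key u v h h0 hv
  obtain ⟨δ, hδ0, hδ⟩ := fB.exists_trace_zero
  obtain ⟨z, hz⟩ := exists_one (h := fB) hw
  have hwz : fB.B w (δ • z) = δ := by rw [map_smul, hz, smul_eq_mul, mul_one]
  have hzw : fB.B (δ • z) w = fB.σ δ := by rw [← fB.herm w, hwz]
  have h1 := key u (δ • z) h (by rw [hwz]; exact hδ0) (by rw [hwz, hzw, hδ])
  have h2 := key (u + δ • z) (v - δ • z) h1 (by rw [map_sub, h0, hwz, zero_sub]; exact neg_ne_zero.mpr hδ0) (by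
    rw [map_sub, map_sub, LinearMap.sub_apply, h0, hwz, fB.eq_zero_comm h0, hzw]
    linear_combination -hδ)
  rwa [show u + δ • z + (v - δ • z) = u + v by abel] at h2

omit hM in
/-- One vector with given rest gives all. -/
theorem mk3_all (hb : 2 ≤ b) {e e' : Fin a → F} (he : fA.Iso e) (he' : fA.Iso e') (hee' : fA.B e e' = 1)
    (hU : ∀ α, fA.Iso α → ∀ u, f.Ctr M (pure α u))
    {R : Fin a × Fin b → F} (hR : Perp fA e e' R) {v w' : Fin b → F} (hv : v ≠ 0)
    (h : f.Ctr M (mk3 e e' v w' R)) {u w : Fin b → F} (huw : u ≠ 0 ∨ w ≠ 0) (hi : f.Iso (mk3 e e' u w R)) :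
    f.Ctr M (mk3 e e' u w R) := by
  have hb1 : 1 ≤ b := by omega
  have hR' : Perp fA e' e R := ⟨hR.2, hR.1⟩
  have htr : ∀ {u w}, f.Iso (mk3 e e' u w R) → fB.B u w + fB.B w u + f.B R R = 0 := fun h =>
    (mk3_norm hS he he' hee' hR _ _).symm.trans h
  have M1 : ∀ {v w w'' : Fin b → F}, v ≠ 0 → f.Ctr M (mk3 e e' v w R) →
      fB.B v w'' + fB.B w'' v + f.B R R = 0 → f.Ctr M (mk3 e e' v w'' R) := by
    intro v w w'' hv0 h htr'
    rw [mk3_comm] at h ⊢
    have h1 := mk3_step hS hb1 he' he (swap_one hee') hU hR' hv0 h (v := w'' - w) (by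
      rw [map_sub, map_sub, LinearMap.sub_apply]
      have := htr (u := v) (w := w) (by rw [mk3_comm]; exact h.1)
      linear_combination htr' - this)
    rwa [add_sub_cancel] at h1
  have M2 : ∀ {v u w : Fin b → F}, w ≠ 0 → f.Ctr M (mk3 e e' v w R) →
      fB.B u w + fB.B w u + f.B R R = 0 → f.Ctr M (mk3 e e' u w R) := by
    intro v u w hw0 h htr'
    have h1 := mk3_step hS hb1 he he' hee' hU hR hw0 h (v := u - v) (by
      rw [map_sub, map_sub, LinearMap.sub_apply]
      linear_combination htr' - htr h.1)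
    rwa [add_sub_cancel] at h1
  obtain ⟨d, hd0, hd⟩ : ∃ d : F, d ≠ 0 ∧ d + fB.σ d + f.B R R = 0 := by
    obtain ⟨d, hd⟩ := fB.exists_trace (s := -f.B R R) (by rw [hS.sB, map_neg, f.herm])
    by_cases hd0 : d = 0
    · obtain ⟨δ, hδ0, hδ⟩ := fB.exists_trace_zero
      refine ⟨δ, hδ0, ?_⟩
      have : f.B R R = 0 := by rw [hd0, map_zero, add_zero, eq_comm, neg_eq_zero] at hd; exact hd
      rw [hδ, this, add_zero]
    · exact ⟨d, hd0, by linear_combination hd⟩
  have hA : ∀ {v w' u : Fin b → F}, v ∉ F ∙ u → u ∉ F ∙ v → f.Ctr M (mk3 e e' v w' R) →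
      ∀ w, fB.B u w + fB.B w u + f.B R R = 0 → f.Ctr M (mk3 e e' u w R) := by
    intro v w' u hvu huv h w htr'
    obtain ⟨w'', h1, h2⟩ := exists_two fB hvu huv d d
    have hv0 : v ≠ 0 := fun e' => hvu (e' ▸ Submodule.zero_mem _)
    have hu0 : u ≠ 0 := fun e' => huv (e' ▸ Submodule.zero_mem _)
    have hw'' : w'' ≠ 0 := fun e' => hd0 (by rw [← h1, e', map_zero])
    refine M1 hu0 (M2 hw'' (M1 hv0 h (w'' := w'') ?_) ?_) htr'
    · rw [← fB.herm v w'', h1]; exact hd
    · rw [← fB.herm u w'', h2]; exact hd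
  have hB : ∀ {v w' u : Fin b → F}, v ≠ 0 → u ≠ 0 → f.Ctr M (mk3 e e' v w' R) →
      ∀ w, fB.B u w + fB.B w u + f.B R R = 0 → f.Ctr M (mk3 e e' u w R) := by
    intro v w' u hv0 hu0 h w htr'
    by_cases huv : u ∈ F ∙ v
    swap
    · exact hA (fun hm => huv (by
        obtain ⟨c, rfl⟩ := Submodule.mem_span_singleton.mp hm
        have hc : c ≠ 0 := fun e => hv0 (by rw [e, zero_smul])
        exact Submodule.mem_span_singleton.mpr ⟨c⁻¹, inv_smul_smul₀ hc u⟩)) huv h w htr'
    obtain ⟨v₂, hv₂⟩ : ∃ v₂, v₂ ∉ F ∙ v := by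
      by_contra hc
      push Not at hc
      have h1 := Submodule.finrank_mono (show (⊤ : Submodule F (Fin b → F)) ≤ F ∙ v from fun z _ => hc z)
      rw [finrank_top, Module.finrank_fin_fun, finrank_span_singleton hv0] at h1
      omega
    obtain ⟨cu, hcu⟩ := Submodule.mem_span_singleton.mp huv
    have hcu0 : cu ≠ 0 := fun e => hu0 (by rw [← hcu, e, zero_smul])
    obtain ⟨z, hz⟩ := exists_one (h := fB) (show v₂ ≠ 0 from fun e => hv₂ (e ▸ Submodule.zero_mem _))
    have htr2 : fB.B v₂ (d • z) + fB.B (d • z) v₂ + f.B R R = 0 := by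
      rw [← fB.herm v₂ (d • z), map_smul, hz, smul_eq_mul, mul_one]; exact hd
    have hsym : ∀ {p r : Fin b → F}, p ≠ 0 → r ∉ F ∙ p → p ∉ F ∙ r := fun {p r} hp hr hm => hr (by
      obtain ⟨c, hc⟩ := Submodule.mem_span_singleton.mp hm
      have hc0 : c ≠ 0 := fun e => hp (by rw [← hc, e, zero_smul])
      exact Submodule.mem_span_singleton.mpr ⟨c⁻¹, by rw [← hc, inv_smul_smul₀ hc0]⟩)
    have hu2 : v₂ ∉ F ∙ u := fun hm => hv₂ (by
      obtain ⟨c, hc⟩ := Submodule.mem_span_singleton.mp hm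
      exact Submodule.mem_span_singleton.mpr ⟨c * cu, by rw [mul_smul, hcu, hc]⟩)
    exact hA hu2 (hsym hu0 hu2) (hA (hsym hv0 hv₂) hv₂ h _ htr2) w htr'
  rcases eq_or_ne u 0 with rfl | hu
  · have hw : w ≠ 0 := huw.resolve_left (not_not_intro rfl)
    obtain ⟨z, hz⟩ := exists_one (h := fB) hw
    have hz' : fB.B w (d • z) = d := by rw [map_smul, hz, smul_eq_mul, mul_one]
    have hne : d • z ≠ 0 := fun e => hd0 (by rw [← hz', e, map_zero])
    refine M2 hw (hB hv hne h w ?_) (htr hi)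
    rw [← fB.herm w (d • z), hz']
    linear_combination hd
  · exact hB hv hu h w (htr hi)

/-- A transvection with pure isotropic centre gives every transvection. -/
theorem ctr_all (ha : 2 ≤ a) (hb : 3 ≤ b) {α : Fin a → F} {β : Fin b → F} (hαi : fA.Iso α) (hα : α ≠ 0)
    (hβi : fB.Iso β) (hβ : β ≠ 0) (hC : f.Ctr M (pure α β)) : ∀ x, f.Iso x → f.Ctr M x := by
  classical
  have hU : ∀ α', fA.Iso α' → ∀ u, f.Ctr M (pure α' u) := fun α' h u =>
    ctr_left hS hb (fun α'' β'' h1 h2 => ctr_iso hS hM hαi hα hβi hβ hC h1 h2) h u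
  obtain ⟨e, e', he, he', hee'⟩ := exists_pair (h := fA) (by rw [Fintype.card_fin]; exact ha)
  have he'e := swap_one hee'
  have ee : fA.B e e = 0 := he
  have e'e' : fA.B e' e' = 0 := he'
  let π : (Fin a → F) → (Fin a → F) := fun y => y - fA.B e' y • e - fA.B e y • e'
  let Pr : (Fin a × Fin b → F) →ₗ[F] (Fin a × Fin b → F) :=
    LinearMap.id - (right e).comp (cA fA e') - (right e').comp (cA fA e)
  have hPr : ∀ p, Pr p = p - pure e (cA fA e' p) - pure e' (cA fA e p) := fun p => rfl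
  have hPrpure : ∀ y z, Pr (pure y z) = pure (π y) z := fun y z => by
    rw [hPr, cA_pure, cA_pure]
    funext q
    simp [π, Tensor.pure]
    ring
  have hPrperp : ∀ p, Perp fA e e' (Pr p) := fun p => by
    constructor
    · rw [hPr, map_sub, map_sub, cA_pure, cA_pure, ee, hee', zero_smul, sub_zero, one_smul, sub_self]
    · rw [hPr, map_sub, map_sub, cA_pure, cA_pure, e'e', he'e, zero_smul, sub_zero, one_smul, sub_self]
  obtain ⟨δ, hδ0, hδ⟩ := fB.exists_trace_zero
  have hδf : δ + f.σ δ = 0 := by rw [← hS.sB]; exact hδ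
  -- the isotropic vector over `γ`
  have hlift : ∀ γ, fA.B e γ = 0 → fA.B e' γ = 0 →
      ∃ d, fA.Iso (e + γ + d • e') ∧ fA.B e (e + γ + d • e') = d ∧ fA.B e' (e + γ + d • e') = 1 := by
    intro γ h1 h2
    obtain ⟨d, hd⟩ := fA.exists_trace (s := -fA.B γ γ) (by rw [map_neg, fA.herm])
    refine ⟨d, ?_, by simp [ee, h1, hee'], by simp [e'e', h2, he'e]⟩
    show fA.B _ _ = 0
    simp only [map_add, LinearMap.map_smulₛₗ, LinearMap.add_apply, LinearMap.smul_apply, map_smul, smul_eq_mul, ee,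
      e'e', hee', he'e, h1, h2, fA.eq_zero_comm h1, fA.eq_zero_comm h2]
    linear_combination hd
  let P : (Fin a × Fin b → F) → Prop := fun R => ∀ u w, (u ≠ 0 ∨ w ≠ 0) → f.Iso (mk3 e e' u w R) →
    f.Ctr M (mk3 e e' u w R)
  have hbase : P 0 := by
    intro u w huw hi
    obtain ⟨v, hv⟩ : ∃ v : Fin b → F, v ≠ 0 := ⟨Pi.single ⟨0, by omega⟩ 1, by simp⟩
    refine mk3_all hS (by omega) he he' hee' hU ⟨map_zero _, map_zero _⟩ hv (w' := 0) ?_ huw hi
    rw [mk3, pure_zero_right, add_zero, add_zero]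
    exact hU e he v
  have hstep : ∀ y z R, Perp fA e e' R → P R → P (R + pure (π y) z) := by
    intro y z R hR hP
    rcases eq_or_ne z 0 with rfl | hz
    · rw [pure_zero_right, add_zero]; exact hP
    set γ := π y with hγ
    have h1 : fA.B e γ = 0 := by simp [hγ, π, ee, hee']
    have h2 : fA.B e' γ = 0 := by simp [hγ, π, e'e', he'e]
    obtain ⟨dγ, hai, hea, he'a⟩ := hlift γ h1 h2
    obtain ⟨v, hv⟩ : ∃ v, v ∉ F ∙ z := by
      by_contra hc
      push Not at hc
      have h1 := Submodule.finrank_mono (show (⊤ : Submodule F (Fin b → F)) ≤ F ∙ z from fun z' _ => hc z')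
      rw [finrank_top, Module.finrank_fin_fun, finrank_span_singleton hz] at h1
      omega
    have hv0 : v ≠ 0 := fun e => hv (e ▸ Submodule.zero_mem _)
    have hzv : z ∉ F ∙ v := fun hm => by
      obtain ⟨c, hc⟩ := Submodule.mem_span_singleton.mp hm
      have hc0 : c ≠ 0 := fun e => hz (by rw [← hc, e, zero_smul])
      exact hv (Submodule.mem_span_singleton.mpr ⟨c⁻¹, by rw [← hc, inv_smul_smul₀ hc0]⟩)
    obtain ⟨d, hd⟩ := fB.exists_trace (s := -f.B R R) (by rw [hS.sB, map_neg, f.herm])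
    set k := δ - dγ * fB.B v z - f.B R (pure γ z) with hk
    obtain ⟨w', hvw, hzw⟩ := exists_two fB hv hzv d (fB.σ k)
    have hy : f.Ctr M (mk3 e e' v w' R) := hP v w' (Or.inl hv0) (by
      show f.B _ _ = 0
      rw [mk3_norm hS he he' hee' hR, hvw, ← fB.herm v w', hvw]
      linear_combination hd)
    have hw'z : fB.B w' z = k := by rw [← fB.herm z w', hzw, fB.invol]
    have hRa : f.B R (pure (e + γ + dγ • e') z) = f.B R (pure γ z) := by
      rw [pure_add_left, pure_add_left, pure_smul_left, map_add, map_add, map_smul,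
        f.eq_zero_comm (show f.B (pure e z) R = 0 by rw [B_right hS, hR.1, map_zero]),
        f.eq_zero_comm (show f.B (pure e' z) R = 0 by rw [B_right hS, hR.2, map_zero]), smul_zero, zero_add, add_zero]
    have h3 := ctr_sum hy (hU _ hai z) (t := δ) (by
      rw [mk3, map_add, map_add, LinearMap.add_apply, LinearMap.add_apply, hS.form, hS.form, hea, he'a, hw'z, hRa,
        one_mul, hk]
      ring) hδ0 hδf
    have hR' : Perp fA e e' (R + pure γ z) := by
      constructor <;> rw [map_add, cA_pure]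
      · rw [hR.1, h1, zero_smul, add_zero]
      · rw [hR.2, h2, zero_smul, add_zero]
    rw [show mk3 e e' v w' R + pure (e + γ + dγ • e') z = mk3 e e' (v + z) (w' + dγ • z) (R + pure γ z) by
      rw [mk3, mk3, pure_add_left, pure_add_left, pure_add_right, pure_add_right, pure_smul_left, pure_smul_right]
      abel] at h3
    exact fun u w huw hi => mk3_all hS (by omega) he he' hee' hU hR' (fun hc => hv (by
      rw [eq_neg_of_add_eq_zero_left hc]
      exact Submodule.neg_mem _ (Submodule.mem_span_singleton_self z))) h3 huw hi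
  have hPall : ∀ p, P (Pr p) := by
    intro p
    have hp : p = ∑ i, pure (Pi.single i 1) (fun j => p (i, j)) := by
      funext q
      simp [Tensor.pure, Pi.single_apply, Finset.sum_apply]
    suffices ∀ s : Finset (Fin a), P (Pr (∑ i ∈ s, pure (Pi.single i 1) (fun j => p (i, j)))) by
      have := this Finset.univ
      rwa [← hp] at this
    intro s
    induction s using Finset.induction_on with
    | empty => rw [Finset.sum_empty, map_zero]; exact hbase
    | insert i s his ih =>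
      rw [Finset.sum_insert his, map_add, hPrpure, add_comm]
      exact hstep _ _ _ (hPrperp _) ih
  intro x hx
  have hdec : x = mk3 e e' (cA fA e' x) (cA fA e x) (Pr x) := by rw [mk3, hPr]; abel
  by_cases h0 : cA fA e' x ≠ 0 ∨ cA fA e x ≠ 0
  · rw [hdec]
    exact hPall x _ _ h0 (hdec ▸ hx)
  push Not at h0
  rcases eq_or_ne x 0 with rfl | hx0
  · exact HermF.Ctr.zero (f := f) M
  have hxP : Pr x = x := by rw [hPr, h0.1, h0.2, pure_zero_right, pure_zero_right, sub_zero, sub_zero]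
  obtain ⟨y, z, hyz⟩ : ∃ y z, f.B x (pure y z) ≠ 0 := by
    by_contra hc
    push Not at hc
    exact hx0 (f.nondeg.1 x fun p => lext (g := f.B x) (g' := 0) (fun y z => by simp [hc]) p)
  set γ := π y with hγ
  have h1 : fA.B e γ = 0 := by simp [hγ, π, ee, hee']
  have h2 : fA.B e' γ = 0 := by simp [hγ, π, e'e', he'e]
  obtain ⟨dγ, hai, hea, he'a⟩ := hlift γ h1 h2
  set p := pure (e + γ + dγ • e') z with hp
  have hxe : ∀ v, f.B x (pure e v) = 0 := fun v => f.eq_zero_comm (by rw [B_right hS, h0.2, map_zero])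
  have hxe' : ∀ v, f.B x (pure e' v) = 0 := fun v => f.eq_zero_comm (by rw [B_right hS, h0.1, map_zero])
  have hy : y = γ + fA.B e' y • e + fA.B e y • e' := by simp only [hγ, π]; module
  have hxp : f.B x p = f.B x (pure y z) := by
    conv_rhs => rw [hy]
    simp only [hp, pure_add_left, pure_smul_left, map_add, map_smul, hxe, hxe', smul_zero, add_zero, zero_add]
  obtain ⟨hpi, hpc⟩ := hU _ hai z
  set k := δ * f.B p x with hk
  have hk0 : k ≠ 0 := mul_ne_zero hδ0 fun h => hyz (by rw [← hxp]; exact f.eq_zero_comm h)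
  have hgp := f.trans_preserves p hpi hδf
  have hz0 : z ≠ 0 := fun h => hyz (by rw [h, pure_zero_right, map_zero])
  have himg : ((f.trans p hpi δ : GL (Fin a × Fin b) F) : Matrix (Fin a × Fin b) (Fin a × Fin b) F) *ᵥ x =
      mk3 e e' (k • z) ((k * dγ) • z) (Pr (x + k • pure γ z)) := by
    have hπγ : π γ = γ := by simp [π, h1, h2]
    rw [f.trans_mulVec, map_add, map_smul, hPrpure, hπγ, hxP, ← hk, hp, mk3, pure_add_left, pure_add_left,
      pure_smul_left, pure_smul_right, pure_smul_right]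
    module
  have h3 : f.Ctr M (((f.trans p hpi δ : GL (Fin a × Fin b) F) : Matrix (Fin a × Fin b) (Fin a × Fin b) F) *ᵥ x) := by
    rw [himg]
    refine hPall _ _ _ (Or.inl (smul_ne_zero hk0 hz0)) ?_
    rw [← himg]
    exact (f.iso_mulVec hgp).mpr hx
  have h4 := h3.of_conj (M.inv_mem (hpc δ hδf)) hgp.inv
  rwa [mulVec_inv_mulVec] at h4

end Cfsg.Agent.Lib.ThreeTransp.TensorUni
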