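import Cfsg.Agent.Lib.ThreeTransp.TensorMax
import Cfsg.Agent.Lib.MaxSub.UnitaryStd

/-!
Hermitian forms on tensor products.
-/

set_option autoImplicit false

namespace Cfsg.Agent.Lib.ThreeTransp.TensorUni

open Matrix Module
open Cfsg.Agent.Lib.MaxSub Cfsg.Agent.Lib.ThreeTransp.Tensor
open scoped MatrixGroups Matrix Kronecker

section one

variable {ι : Type} [Fintype ι] [DecidableEq ι] {F : Type*} [Field F] [Finite F] {h : HermF ι F}

theorem swap_one {e e' : ι → F} (he : h.B e e' = 1) : h.B e' e = 1 := by rw [← h.herm e e', he, map_one]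

theorem exists_one {α : ι → F} (hα : α ≠ 0) : ∃ z, h.B α z = 1 := by
  obtain ⟨u, -, hu⟩ := h.exists_perp_eq_one ⊥ (x := α) (by simpa using hα)
  exact ⟨u, swap_one hu⟩

theorem exists_iso_partner {α : ι → F} (hi : h.Iso α) (hα : α ≠ 0) : ∃ α', h.Iso α' ∧ h.B α α' = 1 := by
  obtain ⟨z, hz⟩ := exists_one (h := h) hα
  obtain ⟨α', -, h1, h2⟩ := h.exists_partner (X := ⊤) Submodule.mem_top Submodule.mem_top hi
    (show h.B α z ≠ 0 by rw [hz]; exact one_ne_zero)
  exact ⟨α', h1, h2⟩

theorem exists_pair (hn : 2 ≤ Fintype.card ι) : ∃ e e' : ι → F, h.Iso e ∧ h.Iso e' ∧ h.B e e' = 1 := by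
  obtain ⟨e, -, e', -, h1, h2, h3⟩ := h.exists_hyperbolic ⊥ (by simp; omega)
  exact ⟨e, e', h1, h2, h3⟩

theorem eq_zero_of_iso_perp (hn : 2 ≤ Fintype.card ι) {s : ι → F} (hs : ∀ β, h.Iso β → h.B β s = 0) : s = 0 := by
  obtain ⟨e, e', h1, h2, h3⟩ := exists_pair (h := h) hn
  refine h.nondeg.2 s fun x => ?_
  have hx := h.le_span_iso_of_pair ⊤ Submodule.mem_top Submodule.mem_top h1 h2 h3 (Submodule.mem_top (x := x))
  induction hx using Submodule.span_induction with
  | mem w hw => exact hs w hw.2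
  | zero => rw [map_zero, LinearMap.zero_apply]
  | add p q _ _ hp hq => rw [map_add, LinearMap.add_apply, hp, hq, add_zero]
  | smul c p _ hp => rw [LinearMap.map_smulₛₗ, LinearMap.smul_apply, hp, smul_zero]

theorem exists_iso_mem (X : Submodule F (ι → F)) (hX : 2 ≤ finrank F X) : ∃ β ∈ X, β ≠ 0 ∧ h.Iso β := by
  obtain ⟨x, hx, hx0⟩ := (Submodule.ne_bot_iff X).mp fun e => by rw [e, finrank_bot] at hX; omega
  by_cases hix : h.Iso x
  · exact ⟨x, hx, hx0, hix⟩
  obtain ⟨y, hy, hy0⟩ := (Submodule.ne_bot_iff (X ⊓ h.perp (F ∙ x))).mp fun e => by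
    have h1 := Submodule.finrank_sup_add_finrank_inf_eq X (h.perp (F ∙ x))
    rw [e, finrank_bot] at h1
    have h2 := h.finrank_perp_ge (F ∙ x)
    rw [finrank_span_singleton hx0] at h2
    have h3 := Submodule.finrank_le (X ⊔ h.perp (F ∙ x))
    rw [Module.finrank_fintype_fun_eq_card] at h3
    omega
  by_cases hiy : h.Iso y
  · exact ⟨y, hy.1, hy0, hiy⟩
  have hxy : h.B x y = 0 := h.mem_perp_span.mp hy.2
  obtain ⟨c, -, hc⟩ := h.exists_iso_combination hix hiy hxy
  refine ⟨x + c • y, X.add_mem hx (X.smul_mem c hy.1), fun e => hix ?_, hc⟩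
  have h' := congrArg (h.B x) e
  rw [map_add, map_smul, hxy, smul_zero, add_zero, map_zero] at h'
  exact h'

/-- The orthogonal space of a hyperbolic pair has non-isotropic vectors. -/
theorem exists_aniso_pair (hn : 3 ≤ Fintype.card ι) {e e' : ι → F} (he : h.Iso e) (he' : h.Iso e') (hee' : h.B e e' = 1) :
    ∃ z, h.B e z = 0 ∧ h.B e' z = 0 ∧ h.B z z ≠ 0 := by
  by_contra hc
  push Not at hc
  have ee : h.B e e = 0 := he
  have e'e' : h.B e' e' = 0 := he'
  have e'e := swap_one hee'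
  let π : (ι → F) → (ι → F) := fun z => z - h.B e' z • e - h.B e z • e'
  have hπ : ∀ z, h.B e (π z) = 0 ∧ h.B e' (π z) = 0 := fun z => by
    constructor <;> simp [π, ee, e'e', e'e, hee']
  have hpol : ∀ z z', h.B (π z) (π z') = 0 := by
    intro z z'
    have key : ∀ c : F, c * h.B (π z) (π z') + h.σ (c * h.B (π z) (π z')) = 0 := fun c => by
      have h1 := hc (π z + c • π z') (by simp [(hπ z).1, (hπ z').1]) (by simp [(hπ z).2, (hπ z').2])
      have h2 := hc (π z) (hπ z).1 (hπ z).2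
      have h3 := hc (π z') (hπ z').1 (hπ z').2
      simp only [map_add, LinearMap.map_smulₛₗ, LinearMap.add_apply, LinearMap.smul_apply, map_smul, smul_eq_mul,
        h2, h3] at h1
      rw [map_mul, h.herm]
      linear_combination h1
    obtain ⟨d, hd⟩ := h.exists_trace (map_one h.σ)
    by_contra h0
    have := key (d / h.B (π z) (π z'))
    rw [div_mul_cancel₀ _ h0, hd] at this
    exact one_ne_zero this
  have hcard : finrank F (h.perp (Submodule.span F {e, e'})) = 0 := by
    rw [Submodule.finrank_eq_zero, eq_bot_iff]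
    intro x hx
    have h1 : h.B e x = 0 := hx e (Submodule.subset_span (by simp))
    have h2 : h.B e' x = 0 := hx e' (Submodule.subset_span (by simp))
    rw [Submodule.mem_bot]
    refine h.nondeg.1 x fun y => ?_
    have hy : y = π y + h.B e' y • e + h.B e y • e' := by simp only [π]; module
    have hx' : x = π x := by simp [π, h1, h2]
    rw [hy, map_add, map_add, map_smul, map_smul, h.eq_zero_comm h1, h.eq_zero_comm h2, smul_zero, smul_zero,
      add_zero, add_zero, hx', hpol]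
  have h1 := h.finrank_perp_ge (Submodule.span F {e, e'})
  have h2 : finrank F (Submodule.span F {e, e'}) ≤ 2 := by
    classical
    have := finrank_span_finset_le_card (R := F) ({e, e'} : Finset (ι → F))
    rw [Set.finrank, Finset.coe_insert, Finset.coe_singleton] at this
    exact this.trans Finset.card_le_two
  omega

theorem move_one {α α' : ι → F} (hi : h.Iso α) (hi' : h.Iso α') (hne : h.B α α' ≠ 0) :
    ∃ (g : GL ι F) (c : F), c ≠ 0 ∧ h.Preserves g ∧ g ∈ Cfsg.Geo.specialLinear ι F ∧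
      (g : Matrix ι ι F) *ᵥ α = c • α' := by
  obtain ⟨δ, hδ0, hδ⟩ := h.exists_trace_zero
  set r := δ / h.B α α' with hr
  have hr0 : r ≠ 0 := div_ne_zero hδ0 hne
  have aa : h.B α α = 0 := hi
  have a'a' : h.B α' α' = 0 := hi'
  have hrB : r * h.B α α' = δ := div_mul_cancel₀ _ hne
  have hrB' : h.σ r * h.B α' α = -δ := by
    rw [← h.herm α α', ← map_mul, hrB]; linear_combination hδ
  have hw : h.Iso (α + r • α') := by
    show h.B _ _ = 0
    simp only [map_add, LinearMap.map_smulₛₗ, LinearMap.add_apply, LinearMap.smul_apply, map_smul, smul_eq_mul, aa,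
      a'a']
    linear_combination hrB + hrB'
  have hc : δ⁻¹ + h.σ δ⁻¹ = 0 := by
    rw [map_inv₀, eq_neg_of_add_eq_zero_right hδ, inv_neg, add_neg_cancel]
  refine ⟨h.trans _ hw δ⁻¹, -r, neg_ne_zero.mpr hr0, h.trans_preserves _ hw hc,
    tv_mem_specialLinear _ _ _, ?_⟩
  rw [h.trans_mulVec, map_add, LinearMap.add_apply, aa, zero_add, LinearMap.map_smulₛₗ, LinearMap.smul_apply,
    smul_eq_mul, hrB', mul_neg, inv_mul_cancel₀ hδ0]
  module

/-- Isotropic lines are equivalent. -/
theorem move_iso {α α' : ι → F} (hi : h.Iso α) (hi' : h.Iso α') (hα : α ≠ 0) (hα' : α' ≠ 0) :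
    ∃ (g : GL ι F) (c : F), c ≠ 0 ∧ h.Preserves g ∧ g ∈ Cfsg.Geo.specialLinear ι F ∧
      (g : Matrix ι ι F) *ᵥ α = c • α' := by
  by_cases hne : h.B α α' = 0
  swap; · exact move_one hi hi' hne
  obtain ⟨γ, hγ, h1, h2⟩ : ∃ γ, h.Iso γ ∧ h.B α γ ≠ 0 ∧ h.B γ α' ≠ 0 := by
    obtain ⟨e', he', hae⟩ := exists_iso_partner (h := h) hi hα
    obtain ⟨f', hf', haf⟩ := exists_iso_partner (h := h) hi' hα'
    by_cases h1 : h.B e' α' = 0
    swap; · exact ⟨e', he', by rw [hae]; exact one_ne_zero, h1⟩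
    by_cases h2 : h.B α f' = 0
    swap; · exact ⟨f', hf', h2, by rw [swap_one haf]; exact one_ne_zero⟩
    obtain ⟨u, hu⟩ := h.exists_trace (s := -(h.B e' f' + h.B f' e')) (by
      rw [map_neg, map_add, h.herm, h.herm]; ring)
    have ee : h.B e' e' = 0 := he'
    have ff : h.B f' f' = 0 := hf'
    have aa : h.B α α = 0 := hi
    refine ⟨e' + f' + u • α, ?_, ?_, ?_⟩
    · show h.B _ _ = 0
      simp only [map_add, LinearMap.map_smulₛₗ, LinearMap.add_apply, LinearMap.smul_apply, map_smul, smul_eq_mul, ee,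
        ff, aa, swap_one hae, hae, h2, h.eq_zero_comm h2]
      linear_combination hu
    · rw [map_add, map_add, map_smul, hae, h2, aa, smul_zero, add_zero, add_zero]; exact one_ne_zero
    · simp only [map_add, LinearMap.map_smulₛₗ, LinearMap.add_apply, LinearMap.smul_apply, h1, swap_one haf, hne,
        smul_zero, zero_add, add_zero]
      exact one_ne_zero
  obtain ⟨g₁, c₁, hc₁, hp₁, hs₁, e₁⟩ := move_one hi hγ h1
  obtain ⟨g₂, c₂, hc₂, hp₂, hs₂, e₂⟩ := move_one hγ hi' h2
  exact ⟨g₂ * g₁, c₁ * c₂, mul_ne_zero hc₁ hc₂, hp₂.mul hp₁, Subgroup.mul_mem _ hs₂ hs₁, by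
    rw [Units.val_mul, ← Matrix.mulVec_mulVec, e₁, Matrix.mulVec_smul, e₂, smul_smul]⟩

/-- An isotropic vector can be scaled by any non-zero scalar. -/
theorem exists_scale_one (hn : 4 ≤ Fintype.card ι) {β : ι → F} (hi : h.Iso β) (hβ : β ≠ 0) {s : F} (hs : s ≠ 0) :
    ∃ g : GL ι F, h.Preserves g ∧ g ∈ Cfsg.Geo.specialLinear ι F ∧ (g : Matrix ι ι F) *ᵥ β = s • β := by
  obtain ⟨a, ha, hax⟩ := h.exists_aniso_perp (F ∙ β) (by rw [finrank_span_singleton hβ]; omega)
  obtain ⟨g, hg, hgs, hgx⟩ := h.witt_special (F ∙ β) (s • (F ∙ β).subtype)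
    (fun x y e => Subtype.ext (smul_right_injective _ hs (by simpa using e)))
    (fun x x' => by
      obtain ⟨c, hc⟩ := Submodule.mem_span_singleton.mp x.2
      obtain ⟨c', hc'⟩ := Submodule.mem_span_singleton.mp x'.2
      simp [← hc, ← hc', show h.B β β = 0 from hi])
    a ha (fun x => by simp [hax x x.2])
  exact ⟨g, hg, hgs, by simpa using hgx ⟨β, Submodule.mem_span_singleton_self β⟩⟩

end one

variable {a b : ℕ} {F : Type*} [Field F]

/-- `fA ⊗ fB = f`. -/
structure Setting (fA : HermF (Fin a) F) (fB : HermF (Fin b) F) (f : HermF (Fin a × Fin b) F) : Prop where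
  sA : fA.σ = f.σ
  sB : fB.σ = f.σ
  form : ∀ x u y w, f.B (pure x u) (pure y w) = fA.B x y * fB.B u w

/-- The subgroup consists of isometries and contains the products of special isometries. -/
structure Grp (fA : HermF (Fin a) F) (fB : HermF (Fin b) F) (f : HermF (Fin a × Fin b) F)
    (M : Subgroup (GL (Fin a × Fin b) F)) : Prop where
  pres : ∀ g ∈ M, f.Preserves g
  prod : ∀ gh : GL (Fin a) F × GL (Fin b) F, fA.Preserves gh.1 → fB.Preserves gh.2 →
    gh.1 ∈ Cfsg.Geo.specialLinear (Fin a) F → gh.2 ∈ Cfsg.Geo.specialLinear (Fin b) F → kr gh ∈ M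

theorem lext {W : Type*} [AddCommGroup W] [Module F W] {g g' : (Fin a × Fin b → F) →ₗ[F] W}
    (hg : ∀ x u, g (pure x u) = g' (pure x u)) (p : Fin a × Fin b → F) : g p = g' p := by
  refine LinearMap.congr_fun ((Pi.basisFun F (Fin a × Fin b)).ext fun q => ?_) p
  rw [Pi.basisFun_apply, show q = (q.1, q.2) from rfl, single_pure]
  exact hg _ _

/-- Contraction with `β` in the second factor. -/
noncomputable def cB (fB : HermF (Fin b) F) (β : Fin b → F) : (Fin a × Fin b → F) →ₗ[F] (Fin a → F) :=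
  ctr (fB.psi β)

/-- Contraction with `x` in the first factor. -/
noncomputable def cA (fA : HermF (Fin a) F) (x : Fin a → F) : (Fin a × Fin b → F) →ₗ[F] (Fin b → F) :=
  ctl (fA.psi x)

theorem cB_pure (fB : HermF (Fin b) F) (β : Fin b → F) (x : Fin a → F) (u : Fin b → F) :
    cB fB β (pure x u) = fB.B β u • x := by
  rw [cB, ctr_pure, fB.psi_dot]

theorem cA_pure (fA : HermF (Fin a) F) (x y : Fin a → F) (u : Fin b → F) : cA fA x (pure y u) = fA.B x y • u := by
  rw [cA, ctl_pure, fA.psi_dot]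

variable {fA : HermF (Fin a) F} {fB : HermF (Fin b) F} {f : HermF (Fin a × Fin b) F}
variable (hS : Setting fA fB f)
include hS

theorem B_left (y : Fin a → F) (β : Fin b → F) (p : Fin a × Fin b → F) :
    f.B (pure y β) p = fA.B y (cB fB β p) :=
  lext (g := f.B (pure y β)) (g' := (fA.B y).comp (cB fB β)) (fun x u => by
    rw [LinearMap.comp_apply, cB_pure, map_smul, hS.form, smul_eq_mul, mul_comm]) p

theorem B_right (x : Fin a → F) (u : Fin b → F) (p : Fin a × Fin b → F) :
    f.B (pure x u) p = fB.B u (cA fA x p) :=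
  lext (g := f.B (pure x u)) (g' := (fB.B u).comp (cA fA x)) (fun y w => by
    rw [LinearMap.comp_apply, cA_pure, map_smul, hS.form, smul_eq_mul]) p

theorem pure_iso_left {x : Fin a → F} (hx : fA.Iso x) (u : Fin b → F) : f.Iso (pure x u) := by
  show f.B _ _ = 0
  rw [hS.form, show fA.B x x = 0 from hx, zero_mul]

theorem pure_iso_right (x : Fin a → F) {u : Fin b → F} (hu : fB.Iso u) : f.Iso (pure x u) := by
  show f.B _ _ = 0
  rw [hS.form, show fB.B u u = 0 from hu, mul_zero]

/-- A form condition checked on pure tensors. -/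
theorem preserves_of_pure {g : GL (Fin a × Fin b) F}
    (hg : ∀ x u y w, f.B ((g : Matrix (Fin a × Fin b) (Fin a × Fin b) F) *ᵥ pure x u)
      ((g : Matrix (Fin a × Fin b) (Fin a × Fin b) F) *ᵥ pure y w) = f.B (pure x u) (pure y w)) : f.Preserves g := by
  have h1 : ∀ x u p, f.B ((g : Matrix (Fin a × Fin b) (Fin a × Fin b) F) *ᵥ pure x u)
      ((g : Matrix (Fin a × Fin b) (Fin a × Fin b) F) *ᵥ p) = f.B (pure x u) p := fun x u p =>
    lext (g := (f.B ((g : Matrix (Fin a × Fin b) (Fin a × Fin b) F) *ᵥ pure x u)).comp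
      (Matrix.mulVecLin (g : Matrix (Fin a × Fin b) (Fin a × Fin b) F))) (g' := f.B (pure x u))
      (fun y w => hg x u y w) p
  intro p p'
  refine lext (g := (f.B ((g : Matrix (Fin a × Fin b) (Fin a × Fin b) F) *ᵥ p)).comp
    (Matrix.mulVecLin (g : Matrix (Fin a × Fin b) (Fin a × Fin b) F))) (g' := f.B p) (fun y w => ?_) p'
  show f.B _ _ = _
  rw [Matrix.mulVecLin_apply, ← f.herm, h1, f.herm]

theorem kr_preserves {gh : GL (Fin a) F × GL (Fin b) F} (h1 : fA.Preserves gh.1) (h2 : fB.Preserves gh.2) :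
    f.Preserves (kr gh) :=
  preserves_of_pure hS fun x u y w => by rw [kr_pure, kr_pure, hS.form, h1, h2, ← hS.form]

omit hS in
theorem trans_mulVec_pure (f : HermF (Fin a × Fin b) F) (w : Fin a × Fin b → F) (hw : f.Iso w) (c : F)
    (x : Fin a → F) (u : Fin b → F) :
    (f.trans w hw c : Matrix (Fin a × Fin b) (Fin a × Fin b) F) *ᵥ pure x u = pure x u + (c * f.B w (pure x u)) • w :=
  f.trans_mulVec w hw c _

omit hS in
theorem preserves_one {ι : Type} [Fintype ι] [DecidableEq ι] (h : HermF ι F) : h.Preserves 1 := fun u v => by simp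

theorem T_mem {M : Subgroup (GL (Fin a × Fin b) F)} (hM : Grp fA fB f M) {β : Fin b → F} (hβ : fB.Iso β) {c : F}
    (hc : c + f.σ c = 0) : T (a := a) β (c • fB.psi β) (fB.iso_dot hβ c) ∈ M :=
  hM.prod _ (preserves_one fA) (fB.trans_preserves β hβ (by rw [hS.sB]; exact hc)) (one_mem _)
    (tv_mem_specialLinear _ _ (fB.iso_dot hβ c))

omit hS in
theorem T_apply {β : Fin b → F} (hβ : fB.Iso β) (c : F) (p : Fin a × Fin b → F) :
    (T (a := a) β (c • fB.psi β) (fB.iso_dot hβ c) : Matrix (Fin a × Fin b) (Fin a × Fin b) F) *ᵥ p =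
      p + c • pure (cB fB β p) β := by
  have e : ctr (c • fB.psi β) p = c • (cB fB β p : Fin a → F) :=
    lext (g := ctr (c • fB.psi β)) (g' := c • cB fB β) (fun x u => by
      rw [LinearMap.smul_apply, ctr_pure, cB_pure, smul_dotProduct, fB.psi_dot, smul_smul, smul_eq_mul]) p
  rw [T_mulVec, e, pure_smul_left]

theorem good_of_subspace [Finite F] {p : Fin a × Fin b → F} (U : Submodule F (Fin b → F))
    (hU : finrank F U + 2 ≤ b) (hp : ∀ x, cA fA x p ∈ U) :
    ∃ β : Fin b → F, β ≠ 0 ∧ fB.Iso β ∧ cB fB β p = 0 := by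
  obtain ⟨β, hβU, hβ0, hβi⟩ := exists_iso_mem (h := fB) (fB.perp U) (by
    have := fB.finrank_perp_ge U
    rw [Fintype.card_fin] at this
    omega)
  refine ⟨β, hβ0, hβi, fA.nondeg.2 _ fun y => ?_⟩
  rw [← B_left hS, B_right hS]
  exact fB.eq_zero_comm (hβU _ (hp y))

theorem good_pure [Finite F] (hb : 4 ≤ b) (x y : Fin a → F) (u w : Fin b → F) :
    ∃ β : Fin b → F, β ≠ 0 ∧ fB.Iso β ∧ cB fB β (pure x u + pure y w) = 0 := by
  classical
  refine good_of_subspace hS (Submodule.span F {u, w}) ?_ fun z => ?_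
  · have := finrank_span_finset_le_card (R := F) ({u, w} : Finset (Fin b → F))
    rw [Set.finrank, Finset.coe_insert, Finset.coe_singleton] at this
    have := this.trans Finset.card_le_two
    omega
  · rw [map_add, cA_pure, cA_pure]
    exact add_mem (Submodule.smul_mem _ _ (Submodule.subset_span (by simp)))
      (Submodule.smul_mem _ _ (Submodule.subset_span (by simp)))

end Cfsg.Agent.Lib.ThreeTransp.TensorUni
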