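import Cfsg.Agent.Lib.ThreeTransp.TensorUniStab
import Cfsg.Agent.Lib.ThreeTransp.TensorDich
import Cfsg.Agent.Lib.ThreeTransp.TensorUniAll

/-!
A group containing `SU_a ⊗ SU_b`, `a < b`, preserves the tensor decomposition or contains every transvection.
-/

set_option autoImplicit false

namespace Cfsg.Agent.Lib.ThreeTransp.TensorUni

open Matrix Module
open Cfsg.Agent.Lib.MaxSub Cfsg.Agent.Lib.ThreeTransp.Tensor
open scoped MatrixGroups Matrix Kronecker

variable {a b : ℕ} {F : Type*} [Field F] [Finite F] {fA : HermF (Fin a) F} {fB : HermF (Fin b) F}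
  {f : HermF (Fin a × Fin b) F} {M : Subgroup (GL (Fin a × Fin b) F)}
variable (hS : Setting fA fB f) (ha : 2 ≤ a) (hab : a < b) (h5 : 5 ≤ b)
  (hex : 3 ≤ a ∨ ∃ t : F, f.σ t = t ∧ t ≠ 0 ∧ t ≠ 1)
include hS ha hab h5 hex

/-- An element mapping a totally isotropic `A ⊗ β` to some `A ⊗ β'`. -/
theorem mem_of_map (hM : Grp fA fB f M) (hno : NoP fA fB f M) {k : GL (Fin a × Fin b) F} (hk : k ∈ M)
    {β β' : Fin b → F} (hβ : fB.Iso β) (hβ0 : β ≠ 0) (hβ'0 : β' ≠ 0)
    (hmap : ∀ x, ∃ y, (k : Matrix (Fin a × Fin b) (Fin a × Fin b) F) *ᵥ pure x β = pure y β') :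
    k ∈ Cfsg.Geo.kroneckerSubgroup a b F := by
  obtain ⟨z, hz⟩ := exists_one (h := fB) hβ'0
  have hz' := swap_one hz
  let Y : (Fin a → F) →ₗ[F] (Fin a → F) :=
    (cB fB z).comp ((Matrix.mulVecLin (k : Matrix (Fin a × Fin b) (Fin a × Fin b) F)).comp (left β))
  have hY : ∀ x, (k : Matrix (Fin a × Fin b) (Fin a × Fin b) F) *ᵥ pure x β = pure (Y x) β' := fun x => by
    obtain ⟨y, hy⟩ := hmap x
    show _ = pure (cB fB z ((k : Matrix (Fin a × Fin b) (Fin a × Fin b) F) *ᵥ pure x β)) β'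
    rw [hy, cB_pure, hz', one_smul]
  have hYinj : Function.Injective Y := fun x x' e => by
    refine pure_left_cancel hβ0 (?_ : pure x β = pure x' β)
    have h := congrArg (((k⁻¹ : GL (Fin a × Fin b) F) : Matrix (Fin a × Fin b) (Fin a × Fin b) F) *ᵥ ·)
      ((hY x).trans ((congrArg (fun y => pure y β') e).trans (hY x').symm))
    simpa only [mulVec_inv_mulVec] using h
  have hYs := LinearMap.injective_iff_surjective.mp hYinj
  have hβ' : fB.Iso β' := by
    obtain ⟨e, e', -, -, hee'⟩ := exists_pair (h := fA) (by rw [Fintype.card_fin]; exact ha)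
    obtain ⟨x, hx⟩ := hYs e
    obtain ⟨x', hx'⟩ := hYs e'
    have h := hM.pres k hk (pure x β) (pure x' β)
    rw [hY, hY, hx, hx', hS.form, hS.form, hee', one_mul, show fB.B β β = 0 from hβ, mul_zero] at h
    exact h
  obtain ⟨g, c, hc, hgp, hgs, hgβ⟩ := move_iso (h := fB) hβ' hβ hβ'0 hβ0
  have hg : kr ((1 : GL (Fin a) F), g) ∈ M := hM.prod _ (preserves_one fA) hgp (one_mem _) hgs
  have h := mem_of_stab hS ha (by omega) hex hM hno (M.mul_mem hg hk) hβ hβ0 fun x => ⟨c • Y x, by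
    rw [mulVec_mul, hY, kr_pure, Units.val_one, Matrix.one_mulVec, hgβ, pure_smul_left, pure_smul_right]⟩
  have := Subgroup.mul_mem _ (Subgroup.inv_mem _ (mem_kronecker.mpr ⟨((1 : GL (Fin a) F), g), rfl⟩)) h
  rwa [inv_mul_cancel_left] at this

/-- A conjugate of a transvection of the second factor inside the Kronecker group. -/
theorem key_mem (hM : Grp fA fB f M) (hno : NoP fA fB f M) {k : GL (Fin a × Fin b) F} (hk : k ∈ M) {β : Fin b → F}
    (hβ : fB.Iso β) (hβ0 : β ≠ 0) {c : F} (hc0 : c ≠ 0)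
    (hkN : k * T β (c • fB.psi β) (fB.iso_dot hβ c) * k⁻¹ ∈ Cfsg.Geo.kroneckerSubgroup a b F) :
    k ∈ Cfsg.Geo.kroneckerSubgroup a b F := by
  classical
  obtain ⟨gh, hgh⟩ := mem_kronecker.mp hkN
  have hD : ∀ q, ((kr gh : Matrix (Fin a × Fin b) (Fin a × Fin b) F) - 1) *ᵥ q =
      (k : Matrix (Fin a × Fin b) (Fin a × Fin b) F) *ᵥ (c • pure (cB fB β
        (((k⁻¹ : GL (Fin a × Fin b) F) : Matrix (Fin a × Fin b) (Fin a × Fin b) F) *ᵥ q)) β) := fun q => by
    rw [hgh, Matrix.sub_mulVec, Matrix.one_mulVec, mulVec_mul, mulVec_mul, T_apply hβ, Matrix.mulVec_add,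
      mulVec_mulVec_inv, add_sub_cancel_left]
  obtain ⟨z, hz⟩ := exists_one (h := fB) hβ0
  obtain ⟨β', φ', h', hβ'0, -, he⟩ := eq_T (show 1 ≤ a by omega) hab h5 gh
    (by
      intro e
      have e2 : T (a := a) β (c • fB.psi β) (fB.iso_dot hβ c) = 1 := by rwa [hgh, conj_eq_one_iff] at e
      have e3 := T_apply (a := a) hβ c (pure (Pi.single (⟨0, by omega⟩ : Fin a) (1 : F)) z)
      rw [e2, Units.val_one, Matrix.one_mulVec, cB_pure, hz, one_smul, left_eq_add, smul_eq_zero] at e3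
      exact pure_ne_zero (by simp) hβ0 (e3.resolve_left hc0))
    (fun q => by
      rw [hD q, hD, mulVec_inv_mulVec, map_smul, cB_pure, show fB.B β β = 0 from hβ, zero_smul, smul_zero,
        pure_zero_left, smul_zero, Matrix.mulVec_zero])
    (by
      refine (Submodule.finrank_mono (show _ ≤ LinearMap.range ((Matrix.mulVecLin
          (k : Matrix (Fin a × Fin b) (Fin a × Fin b) F)).comp (left β)) by
        rintro _ ⟨q, rfl⟩
        exact ⟨c • cB fB β (((k⁻¹ : GL (Fin a × Fin b) F) : Matrix (Fin a × Fin b) (Fin a × Fin b) F) *ᵥ q), by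
          show _ *ᵥ pure _ β = _
          rw [pure_smul_left, ← hD]; rfl⟩)).trans ?_
      exact (LinearMap.finrank_range_le _).trans (Module.finrank_fin_fun F).le)
  refine mem_of_map hS ha hab h5 hex hM hno hk hβ hβ0 hβ'0 fun x => ?_
  have e : k * T β (c • fB.psi β) (fB.iso_dot hβ c) = T β' φ' h' * k := by
    rw [← he, hgh]; group
  have e2 := congrArg (fun M : GL (Fin a × Fin b) F => (M : Matrix (Fin a × Fin b) (Fin a × Fin b) F) *ᵥ pure x z) e
  simp only [mulVec_mul, T_apply hβ, cB_pure, hz, one_smul, Matrix.mulVec_add, Matrix.mulVec_smul] at e2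
  rw [T_mulVec] at e2
  refine ⟨c⁻¹ • ctr φ' ((k : Matrix (Fin a × Fin b) (Fin a × Fin b) F) *ᵥ pure x z), ?_⟩
  rw [pure_smul_left, ← add_left_cancel e2, inv_smul_smul₀ hc0]

set_option maxHeartbeats 400000 in
/-- Two vectors with fixing transvections in one orbit are in one orbit of the Kronecker group. -/
theorem transfer (hM : Grp fA fB f M) (hno : NoP fA fB f M) {g : GL (Fin a × Fin b) F} (hg : g ∈ M)
    {v : Fin a × Fin b → F} {β₀ : Fin b → F} (hβ₀ : fB.Iso β₀) (hβ₀0 : β₀ ≠ 0) (hv₀ : cB fB β₀ v = 0)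
    {β : Fin b → F} (hβ : fB.Iso β) (hβ0 : β ≠ 0)
    (hgv : cB fB β ((g : Matrix (Fin a × Fin b) (Fin a × Fin b) F) *ᵥ v) = 0) :
    ∃ n ∈ Cfsg.Geo.kroneckerSubgroup a b F, (g : Matrix (Fin a × Fin b) (Fin a × Fin b) F) *ᵥ v =
      (n : Matrix (Fin a × Fin b) (Fin a × Fin b) F) *ᵥ v := by
  classical
  obtain ⟨p, hchar⟩ := CharP.exists F
  haveI := hchar
  haveI hpf : Fact p.Prime := ⟨CharP.char_is_prime F p⟩
  obtain ⟨δ, hδ0, hδ⟩ := f.exists_trace_zero
  set N := Cfsg.Geo.kroneckerSubgroup a b F with hN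
  have key : ∀ k ∈ M, ∀ (β : Fin b → F) (h : fB.Iso β), β ≠ 0 →
      k * T β (δ • fB.psi β) (fB.iso_dot h δ) * k⁻¹ ∈ N → k ∈ N :=
    fun k hk β h h0 hkN => key_mem hS ha hab h5 hex hM hno hk h h0 hδ0 hkN
  set t := T (a := a) β₀ (δ • fB.psi β₀) (fB.iso_dot hβ₀ δ) with ht
  have htM : t ∈ M := T_mem hS hM hβ₀ hδ
  let Mv : Subgroup (GL (Fin a × Fin b) F) :=
    { carrier := {g | g ∈ M ∧ (g : Matrix (Fin a × Fin b) (Fin a × Fin b) F) *ᵥ v = v}
      one_mem' := ⟨M.one_mem, by simp⟩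
      mul_mem' := fun {g g'} hg hg' => ⟨M.mul_mem hg.1 hg'.1, by rw [mulVec_mul, hg'.2, hg.2]⟩
      inv_mem' := fun {g} hg => ⟨M.inv_mem hg.1, by conv_lhs => rw [← hg.2, mulVec_inv_mulVec]⟩ }
  have hTp : ∀ (β : Fin b → F) (h : fB.Iso β),
      IsPGroup p (Subgroup.zpowers (T (a := a) β (δ • fB.psi β) (fB.iso_dot h δ))) := by
    intro β h
    have hpow : ∀ m : ℕ, ∀ q, ((T (a := a) β (δ • fB.psi β) (fB.iso_dot h δ) ^ m : GL (Fin a × Fin b) F) :
        Matrix (Fin a × Fin b) (Fin a × Fin b) F) *ᵥ q = q + ((m : F) * δ) • pure (cB fB β q) β := fun m => by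
      induction m with
      | zero => intro q; simp
      | succ m ih =>
        intro q
        rw [pow_succ', mulVec_mul, ih, T_apply h, map_add, map_smul, cB_pure, show fB.B β β = 0 from h, zero_smul,
          smul_zero, add_zero, Nat.cast_succ, add_mul, one_mul, add_smul]
        abel
    have hp1 : T (a := a) β (δ • fB.psi β) (fB.iso_dot h δ) ^ p = 1 :=
      Units.ext (eq_of_mulVec_eq fun q => by
        rw [hpow, CharP.cast_eq_zero, zero_mul, zero_smul, add_zero, Units.val_one, Matrix.one_mulVec])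
    exact fun y => ⟨1, by
      obtain ⟨y, i, rfl⟩ := y
      refine Subtype.ext ?_
      rw [SubmonoidClass.coe_pow, pow_one, ← zpow_natCast, ← _root_.zpow_mul, mul_comm, _root_.zpow_mul,
        zpow_natCast, hp1, _root_.one_zpow]
      rfl⟩
  have htv : t ∈ Mv := ⟨htM, by rw [ht, T_apply hβ₀, hv₀, pure_zero_left, smul_zero, add_zero]⟩
  have htN : t ∈ N := mem_kronecker.mpr ⟨_, rfl⟩
  obtain ⟨P₀, hP₀⟩ := ((hTp _ hβ₀).comap_subtype (K := Mv ⊓ N)).exists_le_sylow
  set P : Subgroup (GL (Fin a × Fin b) F) := (P₀ : Subgroup ↥(Mv ⊓ N)).map (Mv ⊓ N).subtype with hP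
  have hPle : P ≤ Mv ⊓ N := Subgroup.map_subtype_le _
  have htP : t ∈ P := ⟨⟨t, htv, htN⟩, hP₀ (Subgroup.mem_zpowers t), rfl⟩
  have hPp : IsPGroup p P := P₀.isPGroup'.map _
  obtain ⟨P₁, hP₁⟩ := (hPp.comap_subtype (K := Mv)).exists_le_sylow
  set P' : Subgroup (GL (Fin a × Fin b) F) := (P₁ : Subgroup Mv).map Mv.subtype with hP'
  have hP'le : P' ≤ Mv := Subgroup.map_subtype_le _
  have hPP' : P ≤ P' := fun y hy => ⟨⟨y, (hPle hy).1⟩, hP₁ hy, rfl⟩
  have hPN : P' ≤ N := by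
    have hP'p : IsPGroup p P' := P₁.isPGroup'.map _
    have hint : P' ⊓ N ≤ P := by
      intro y hy
      have hle : (P₀ : Subgroup ↥(Mv ⊓ N)) ≤ (P' ⊓ N).subgroupOf (Mv ⊓ N) := fun z hz =>
        ⟨hPP' ⟨z, hz, rfl⟩, z.2.2⟩
      have h1 := P₀.3 ((hP'p.to_le inf_le_left).comap_subtype) hle
      have hy' : (⟨y, hP'le hy.1, hy.2⟩ : ↥(Mv ⊓ N)) ∈ (P₀ : Subgroup ↥(Mv ⊓ N)) := h1 ▸ hy
      exact ⟨_, hy', rfl⟩
    by_contra hne
    haveI := hP'p.isNilpotent
    have hlt : P.subgroupOf P' < ⊤ := lt_top_iff_ne_top.mpr fun e => hne fun y hy =>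
      (hPle ((Subgroup.subgroupOf_eq_top.mp e) hy)).2
    obtain ⟨⟨y, hy⟩, hyN, hyP⟩ := SetLike.exists_of_lt (Group.normalizerCondition_of_isNilpotent _ hlt)
    rw [Subgroup.mem_normalizer_iff] at hyN
    have h1 : y * t * y⁻¹ ∈ P := (hyN ⟨t, hPP' htP⟩).mp htP
    exact hyP (hint ⟨hy, key y (hP'le hy).1 _ hβ₀ hβ₀0 (hPle h1).2⟩)
  set t' := T (a := a) β (δ • fB.psi β) (fB.iso_dot hβ δ) with ht'
  set z := (g : Matrix (Fin a × Fin b) (Fin a × Fin b) F) *ᵥ v with hz
  have ht'z : (t' : Matrix (Fin a × Fin b) (Fin a × Fin b) F) *ᵥ z = z := by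
    rw [ht', T_apply hβ, hgv, pure_zero_left, smul_zero, add_zero]
  have hmem : g⁻¹ * t' * g ∈ Mv := ⟨M.mul_mem (M.mul_mem (M.inv_mem hg) (T_mem hS hM hβ hδ)) hg, by
    rw [mulVec_mul, mulVec_mul, ← hz, ht'z, hz, mulVec_inv_mulVec]⟩
  obtain ⟨P₂, hP₂⟩ := (((hTp β hβ).map (MulAut.conj g⁻¹).toMonoidHom).comap_subtype (K := Mv)).exists_le_sylow
  obtain ⟨j, hjP⟩ := MulAction.exists_smul_eq Mv P₂ P₁
  have h1 : (j : GL (Fin a × Fin b) F) * (g⁻¹ * t' * g) * (j : GL (Fin a × Fin b) F)⁻¹ ∈ P' := by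
    let mm : Mv := ⟨g⁻¹ * t' * g, hmem⟩
    refine ⟨j * mm * j⁻¹, ?_, by simp only [map_mul, map_inv, Subgroup.coe_subtype, mm]⟩
    rw [← hjP, Sylow.coe_subgroup_smul]
    exact ⟨mm, hP₂ ⟨t', Subgroup.mem_zpowers t', by
      rw [MulEquiv.coe_toMonoidHom, MulAut.conj_apply, inv_inv]; rfl⟩, by
      rw [MulDistribMulAction.toMonoidEnd_apply]; rfl⟩
  have h2 : (j : GL (Fin a × Fin b) F) * g⁻¹ ∈ N := key _ (M.mul_mem j.2.1 (M.inv_mem hg)) β hβ hβ0 (by
    rw [show (j : GL (Fin a × Fin b) F) * g⁻¹ * t' * ((j : GL (Fin a × Fin b) F) * g⁻¹)⁻¹ =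
      (j : GL (Fin a × Fin b) F) * (g⁻¹ * t' * g) * (j : GL (Fin a × Fin b) F)⁻¹ by group]
    exact hPN h1)
  have hjv : (((j : GL (Fin a × Fin b) F)⁻¹ : GL (Fin a × Fin b) F) : Matrix (Fin a × Fin b) (Fin a × Fin b) F) *ᵥ v =
      v := (congrArg (_ *ᵥ ·) j.2.2).symm.trans (mulVec_inv_mulVec _ _)
  exact ⟨_, N.inv_mem h2, by rw [_root_.mul_inv_rev, inv_inv, mulVec_mul, hjv, hz]⟩

/-- The dichotomy. -/
theorem dichotomy (hM : Grp fA fB f M) :
    M ≤ Cfsg.Geo.kroneckerSubgroup a b F ∨ ∀ x, f.Iso x → f.Ctr M x := by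
  classical
  by_cases hno : NoP fA fB f M
  swap
  · simp only [NoP, not_forall, not_not] at hno
    obtain ⟨α, β, hα, hβ, hαi, hβi, h⟩ := hno
    exact Or.inr (ctr_all hS hM ha (by omega) hαi hα hβi hβ h)
  refine Or.inl fun g hg => ?_
  have hb4 : 4 ≤ b := by omega
  obtain ⟨γ, γ', hγ, -, hγγ'⟩ := exists_pair (h := fB) (by rw [Fintype.card_fin]; omega)
  have hγ0 : γ ≠ 0 := fun e => by simp [e] at hγγ'
  have γγ : fB.B γ γ = 0 := hγ
  obtain ⟨c, hc0, hc⟩ := f.exists_trace_zero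
  let rr : (Fin a → F) →ₗ[F] (Fin a × Fin b → F) :=
    (Matrix.mulVecLin ((g⁻¹ : GL (Fin a × Fin b) F) : Matrix (Fin a × Fin b) (Fin a × Fin b) F)).comp (left γ)
  have hrr : ∀ y, rr y = ((g⁻¹ : GL (Fin a × Fin b) F) : Matrix (Fin a × Fin b) (Fin a × Fin b) F) *ᵥ pure y γ :=
    fun y => rfl
  have hkr : ∀ n ∈ Cfsg.Geo.kroneckerSubgroup a b F, ∀ x u, ∃ y w,
      (n : Matrix (Fin a × Fin b) (Fin a × Fin b) F) *ᵥ pure x u = pure y w := fun n hn x u => by
    obtain ⟨gh, rfl⟩ := mem_kronecker.mp hn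
    exact ⟨_, _, kr_pure gh x u⟩
  have hgood : ∀ y β, β ≠ 0 → fB.Iso β → cB fB β (rr y) = 0 → ∃ x w, rr y = pure x w := by
    intro y β hβ0 hβ h
    obtain ⟨n, hn, e⟩ := transfer hS ha hab h5 hex hM hno (M.inv_mem hg) hγ hγ0
      (v := pure y γ) (by rw [cB_pure, γγ, zero_smul]) hβ hβ0 h
    obtain ⟨x, w, e'⟩ := hkr n hn y γ
    exact ⟨x, w, e.trans e'⟩
  let Pu : Submodule F (Fin a → F) :=
    { carrier := {y | ∃ x w, rr y = pure x w}
      zero_mem' := ⟨0, 0, by rw [map_zero, pure_zero_left]⟩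
      add_mem' := fun {y y'} ⟨x, w, e⟩ ⟨x', w', e'⟩ => by
        obtain ⟨β, h0, h1, h2⟩ := good_pure hS hb4 x x' w w'
        exact hgood _ β h0 h1 (by rw [map_add, e, e']; exact h2)
      smul_mem' := fun s y ⟨x, w, e⟩ => ⟨s • x, w, by rw [map_smul, e, pure_smul_left]⟩ }
  -- the transvection pulled back
  set X := g⁻¹ * T γ (c • fB.psi γ) (fB.iso_dot hγ c) * g with hX
  have hXM : X ∈ M := M.mul_mem (M.mul_mem (M.inv_mem hg) (T_mem hS hM hγ hc)) hg
  let D : (Fin a → F) → (Fin b → F) →ₗ[F] (Fin a → F) := fun x =>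
    (cB fB γ).comp ((Matrix.mulVecLin (g : Matrix (Fin a × Fin b) (Fin a × Fin b) F)).comp (right x))
  have hXp : ∀ x u, (X : Matrix (Fin a × Fin b) (Fin a × Fin b) F) *ᵥ pure x u = pure x u + c • rr (D x u) := by
    intro x u
    rw [hX, mulVec_mul, mulVec_mul, T_apply hγ, Matrix.mulVec_add, mulVec_inv_mulVec, Matrix.mulVec_smul]
    rfl
  have hXpure : ∀ x u β, β ≠ 0 → fB.Iso β →
      cB fB β ((X : Matrix (Fin a × Fin b) (Fin a × Fin b) F) *ᵥ pure x u) = 0 →
      ∃ y w, (X : Matrix (Fin a × Fin b) (Fin a × Fin b) F) *ᵥ pure x u = pure y w := by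
    intro x u β hβ0 hβ h
    obtain ⟨β₀, h0, h1, h2⟩ := good_pure hS hb4 x (0 : Fin a → F) u (0 : Fin b → F)
    rw [pure_zero_left, add_zero] at h2
    obtain ⟨n, hn, e⟩ := transfer hS ha hab h5 hex hM hno hXM h1 h0 h2 hβ hβ0 h
    obtain ⟨y, w, e'⟩ := hkr n hn x u
    exact ⟨y, w, e.trans e'⟩
  have hperp : ∀ x y, y ∈ fA.perp (LinearMap.range (D x)) → cA fA x (rr y) = 0 := by
    intro x y hy
    refine fB.nondeg.2 _ fun u => ?_
    rw [← B_right hS, hrr]
    conv_lhs => rw [← hM.pres g hg, mulVec_mulVec_inv, ← f.herm, B_left hS]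
    rw [show cB fB γ ((g : Matrix (Fin a × Fin b) (Fin a × Fin b) F) *ᵥ pure x u) = D x u from rfl,
      ← hS.sA, fA.herm]; exact hy _ ⟨u, rfl⟩
  -- rows of small rank
  have hsub : ∀ y, finrank F (LinearMap.range (Matrix.of fun i j => rr y (i, j)).vecMulLinear) + 2 ≤ b → y ∈ Pu := by
    intro y hy
    obtain ⟨β, h0, h1, h2⟩ := good_of_subspace hS _ hy (p := rr y) fun x => ⟨fA.psi x, rfl⟩
    exact hgood y β h0 h1 h2
  have hkill : ∀ x y, x ≠ 0 → cA fA x (rr y) = 0 → y ∈ Pu := by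
    intro x y hx h
    refine hsub y ?_
    set L := (Matrix.of fun i j => rr y (i, j)).vecMulLinear
    have h1 := L.finrank_range_add_finrank_ker
    have h2 : 1 ≤ finrank F (LinearMap.ker L) := Submodule.one_le_finrank_iff.mpr fun e => hx (by
      have hm : fA.psi x ∈ LinearMap.ker L := h
      rw [e, Submodule.mem_bot] at hm
      exact fA.psi_injective (hm.trans fA.psi_zero.symm))
    rw [Module.finrank_fin_fun] at h1
    omega
  -- some pure tensor
  obtain ⟨y₀, hy₀, hy₀0⟩ : ∃ y ∈ Pu, y ≠ 0 := by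
    refine Submodule.exists_mem_ne_zero_of_ne_bot fun hbot => ?_
    have hzero : ∀ y, y ∈ Pu → y = 0 := fun y hy => (Submodule.mem_bot F).mp (hbot ▸ hy)
    let e₀ : Fin a → F := Pi.single ⟨0, by omega⟩ 1
    have he₀ : e₀ ≠ 0 := by simp [e₀]
    by_cases hbig : a + 2 ≤ b
    · refine he₀ (hzero _ (hsub _ ?_))
      have := LinearMap.finrank_range_le (Matrix.of fun i j => rr e₀ (i, j)).vecMulLinear
      rw [Module.finrank_fin_fun] at this
      omega
    set x := e₀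
    have hr : fA.perp (LinearMap.range (D x)) = ⊥ :=
      eq_bot_iff.mpr fun y hy => (Submodule.mem_bot F).mpr (hzero _ (hkill x y he₀ (hperp x y hy)))
    have h1 := fA.finrank_perp_ge (LinearMap.range (D x))
    rw [hr, finrank_bot, Fintype.card_fin] at h1
    have h2 := (D x).finrank_range_add_finrank_ker
    rw [Module.finrank_fin_fun] at h2
    have h3 := Submodule.finrank_le (LinearMap.range (D x))
    rw [Module.finrank_fin_fun] at h3
    obtain ⟨s, hs0, hs⟩ := finrank_eq_one_iff'.mp (show finrank F (LinearMap.ker (D x)) = 1 by omega)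
    refine hs0 (Subtype.ext (eq_zero_of_iso_perp (h := fB) (by rw [Fintype.card_fin]; omega) fun β hβ => ?_))
    rcases eq_or_ne β 0 with rfl | hβ0
    · rw [map_zero, LinearMap.zero_apply]
    let L : (Fin b → F) →ₗ[F] (Fin a → F) :=
      (cB fB β).comp ((Matrix.mulVecLin (X : Matrix (Fin a × Fin b) (Fin a × Fin b) F)).comp (right x))
    obtain ⟨u, hu, hu0⟩ := Submodule.exists_mem_ne_zero_of_ne_bot (p := LinearMap.ker L) fun e => by
      have h := L.finrank_range_add_finrank_ker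
      have h' := Submodule.finrank_le (LinearMap.range L)
      rw [e, finrank_bot, Module.finrank_fin_fun] at h
      rw [Module.finrank_fin_fun] at h'
      omega
    obtain ⟨y, w, e⟩ := hXpure x u β hβ0 hβ hu
    have hDu : D x u = 0 := by
      obtain ⟨β₁, h0, h1', h2'⟩ := good_pure hS hb4 y (-x) w u
      have hsum : c • rr (D x u) = pure y w + pure (-x) u := by
        rw [← e, hXp, ← neg_one_smul F x, pure_smul_left, neg_one_smul]; abel
      have := hzero _ (Pu.smul_mem c⁻¹ (show c • D x u ∈ Pu from hgood _ β₁ h0 h1' (by rw [map_smul, hsum]; exact h2')))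
      rwa [inv_smul_smul₀ hc0] at this
    obtain ⟨k, hk⟩ := hs ⟨u, hDu⟩
    have hku : k • (s : Fin b → F) = u := congrArg Subtype.val hk
    have hu' : cB fB β (pure x u) = 0 := by
      have h : cB fB β ((X : Matrix (Fin a × Fin b) (Fin a × Fin b) F) *ᵥ pure x u) = 0 := hu
      rwa [hXp, hDu, map_zero, smul_zero, add_zero] at h
    rw [cB_pure, smul_eq_zero, ← hku, map_smul, smul_eq_mul] at hu'
    exact (mul_eq_zero.mp (hu'.resolve_right he₀)).resolve_left fun e => hu0 (by rw [← hku, e, zero_smul])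
  obtain ⟨x₀, w₀, he₀⟩ := hy₀
  have hrinj : Function.Injective rr := fun y y' e => by
    refine pure_left_cancel hγ0 (?_ : pure y γ = pure y' γ)
    have h := congrArg ((g : Matrix (Fin a × Fin b) (Fin a × Fin b) F) *ᵥ ·) e
    simpa only [hrr, mulVec_mulVec_inv] using h
  have hne : x₀ ≠ 0 ∧ w₀ ≠ 0 := by
    constructor <;> intro e <;> refine hy₀0 (hrinj ?_) <;> rw [he₀, e, map_zero]
    · rw [pure_zero_left]
    · rw [pure_zero_right]
  -- the column
  let S : Submodule F (Fin a → F) :=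
    Submodule.comap (left w₀ : (Fin a → F) →ₗ[F] (Fin a × Fin b → F)) (LinearMap.range rr)
  have hcol : ∀ x, fA.B x x₀ ≠ 0 → x ∈ S := by
    intro x hxx
    have hx0 : x ≠ 0 := fun e => hxx (by rw [e, map_zero, LinearMap.zero_apply])
    let L := Pu ⊓ LinearMap.ker ((cA fA x).comp rr)
    have hLlt : L < Pu := lt_of_le_of_ne inf_le_left fun e => by
      have h : y₀ ∈ L := by rw [e]; exact ⟨x₀, w₀, he₀⟩
      have h' : cA fA x (rr y₀) = 0 := h.2
      rw [he₀, cA_pure, smul_eq_zero] at h'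
      exact hne.2 (h'.resolve_left hxx)
    have hle : fA.perp (LinearMap.range (D x)) ≤ L := fun y hy => ⟨hkill x y hx0 (hperp x y hy), hperp x y hy⟩
    obtain ⟨y, ⟨⟨u, hu⟩, hyPu⟩, hy0⟩ := Submodule.exists_mem_ne_zero_of_ne_bot
      (p := LinearMap.range (D x) ⊓ Pu) fun e => by
      have h1 := fA.finrank_perp_ge (LinearMap.range (D x))
      have h2 := Submodule.finrank_mono hle
      have h3 := Submodule.finrank_lt_finrank_of_lt hLlt
      have h4 := Submodule.finrank_sup_add_finrank_inf_eq (LinearMap.range (D x)) Pu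
      have h5' := Submodule.finrank_le (LinearMap.range (D x) ⊔ Pu)
      rw [e, finrank_bot] at h4
      rw [Fintype.card_fin] at h1
      rw [Module.finrank_fin_fun] at h5'
      omega
    obtain ⟨p, q, hpq⟩ := hyPu
    have hp0 : p ≠ 0 := fun e => hy0 (hrinj (by rw [hpq, e, pure_zero_left, map_zero]))
    have hq0 : q ≠ 0 := fun e => hy0 (hrinj (by rw [hpq, e, pure_zero_right, map_zero]))
    have hrow : ∃ t : F, t • x = p := by
      by_contra hrow
      have hall : ∀ u', D x u' = y → ∃ t : F, t • u' = q := by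
        intro u' hu'
        rcases eq_or_ne u' 0 with rfl | hu'0
        · exact absurd (hu'.symm.trans (map_zero _)) hy0
        have e := hXp x u'
        rw [hu', hpq, ← pure_smul_left] at e
        obtain ⟨β, h0, h1, h2⟩ := good_pure hS hb4 x (c • p) u' q
        rw [← e] at h2
        obtain ⟨z, w, hzw⟩ := hXpure x u' β h0 h1 h2
        rw [e] at hzw
        exact pure_add_pure hzw (fun ⟨t, ht⟩ => hrow ⟨c⁻¹ * t, by rw [mul_smul, ht, inv_smul_smul₀ hc0]⟩) hx0 hu'0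
      obtain ⟨k, hk, hk0⟩ := Submodule.exists_mem_ne_zero_of_ne_bot (p := LinearMap.ker (D x)) fun e => by
        have h := (D x).finrank_range_add_finrank_ker
        have h' := Submodule.finrank_le (LinearMap.range (D x))
        rw [e, finrank_bot, Module.finrank_fin_fun] at h
        rw [Module.finrank_fin_fun] at h'
        omega
      obtain ⟨t, ht⟩ := hall u hu
      obtain ⟨t', ht'⟩ := hall (u + k) (by rw [map_add, hu, show D x k = 0 from hk, add_zero])
      have ht0 : t' ≠ 0 := fun e => hq0 (by rw [← ht', e, zero_smul])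
      have hk' : k = ((t - t') / t') • u := by
        rw [div_eq_inv_mul, mul_smul, eq_inv_smul_iff₀ ht0, sub_smul, ht, ← ht', smul_add, add_sub_cancel_left]
      have h0 : ((t - t') / t') • D x u = 0 := by rw [← map_smul, ← hk']; exact hk
      rw [hu, smul_eq_zero] at h0
      refine hk0 ?_
      rw [hk', h0.resolve_right hy0, zero_smul]
    obtain ⟨t, ht⟩ := hrow
    have ht0 : t ≠ 0 := fun e => hp0 (by rw [← ht, e, zero_smul])
    have hxq : rr (t⁻¹ • y) = pure x q := by rw [map_smul, hpq, ← ht, pure_smul_left, inv_smul_smul₀ ht0]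
    by_cases hdep : ∃ s : F, s • x₀ = x
    · obtain ⟨s, hs⟩ := hdep
      exact ⟨s • y₀, by rw [map_smul, he₀, ← pure_smul_left, hs]; rfl⟩
    obtain ⟨z, w, hzw⟩ : y₀ + t⁻¹ • y ∈ Pu := Pu.add_mem ⟨x₀, w₀, he₀⟩ ⟨x, q, hxq⟩
    rw [map_add, he₀, hxq] at hzw
    obtain ⟨s, hs⟩ := pure_add_pure hzw hdep hne.1 hne.2
    have hs0 : s ≠ 0 := fun e => hq0 (by rw [← hs, e, zero_smul])
    exact ⟨s⁻¹ • (t⁻¹ • y), by rw [map_smul, hxq, ← hs, pure_smul_right, inv_smul_smul₀ hs0]; rfl⟩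
  have hSall : ∀ x, x ∈ S := by
    intro x
    by_cases hx : fA.B x x₀ = 0
    swap; · exact hcol x hx
    obtain ⟨e, he⟩ := exists_one (h := fA) hne.1
    have he' := swap_one he
    have h1 := hcol (x + e) (by rw [map_add, LinearMap.add_apply, hx, he', zero_add]; exact one_ne_zero)
    have h2 := hcol e (by rw [he']; exact one_ne_zero)
    simpa using S.sub_mem h1 h2
  have hmap : ∀ x, ∃ y, (g : Matrix (Fin a × Fin b) (Fin a × Fin b) F) *ᵥ pure x w₀ = pure y γ := fun x => by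
    obtain ⟨y, hy⟩ := hSall x
    refine ⟨y, ?_⟩
    rw [show pure x w₀ = rr y from hy.symm, hrr, mulVec_mulVec_inv]
  refine mem_of_map hS ha hab h5 hex hM hno hg ?_ hne.2 hγ0 hmap
  obtain ⟨e, e', -, -, hee'⟩ := exists_pair (h := fA) (by rw [Fintype.card_fin]; exact ha)
  obtain ⟨y, hy⟩ := hmap e
  obtain ⟨y', hy'⟩ := hmap e'
  have h := hM.pres g hg (pure e w₀) (pure e' w₀)
  rw [hy, hy', hS.form, hS.form, γγ, mul_zero, hee', one_mul] at h
  exact h.symm

end Cfsg.Agent.Lib.ThreeTransp.TensorUni
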