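import Cfsg.Agent.Lib.ThreeTransp.TensorUniBase

/-!
The centre of the radical of the stabiliser of a totally isotropic `A ⊗ β`.
-/

set_option autoImplicit false

namespace Cfsg.Agent.Lib.ThreeTransp.TensorUni

open Matrix Module
open Cfsg.Agent.Lib.MaxSub Cfsg.Agent.Lib.ThreeTransp.Tensor
open scoped MatrixGroups Matrix Kronecker

variable {a b : ℕ} {F : Type*} [Field F]

/-- `x ⊗ u ↦ x ⊗ u + B(β, u) C x ⊗ β` lies in `M`. -/
def Inc (fB : HermF (Fin b) F) (M : Subgroup (GL (Fin a × Fin b) F)) (β : Fin b → F)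
    (C : (Fin a → F) →ₗ[F] (Fin a → F)) : Prop :=
  ∃ g ∈ M, ∀ x u, (g : Matrix (Fin a × Fin b) (Fin a × Fin b) F) *ᵥ pure x u =
    pure x u + fB.B β u • pure (C x) β

/-- No transvection with pure isotropic centre. -/
def NoP (fA : HermF (Fin a) F) (fB : HermF (Fin b) F) (f : HermF (Fin a × Fin b) F)
    (M : Subgroup (GL (Fin a × Fin b) F)) : Prop :=
  ∀ α β, α ≠ 0 → β ≠ 0 → fA.Iso α → fB.Iso β → ¬ f.Ctr M (pure α β)

/-- The rank one map. -/
def rk {ι : Type} [Fintype ι] [DecidableEq ι] (h : HermF ι F) (v w : ι → F) : (ι → F) →ₗ[F] (ι → F) :=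
  (h.B v).smulRight w

theorem rk_apply {ι : Type} [Fintype ι] [DecidableEq ι] (h : HermF ι F) (v w x : ι → F) :
    rk h v w x = h.B v x • w := rfl

variable [Finite F]

/-- A skew map vanishing on isotropic vectors is scalar. -/
theorem scalar_of_quad {ι : Type} [Fintype ι] [DecidableEq ι] (h : HermF ι F) (hn : 2 ≤ Fintype.card ι)
    {C : (ι → F) →ₗ[F] (ι → F)} (hskew : ∀ x y, h.B (C x) y + h.B x (C y) = 0)
    (hq : ∀ v, h.Iso v → h.B v (C v) = 0) : ∃ k : F, ∀ x, C x = k • x := by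
  obtain ⟨e, e', he, he', hee'⟩ := exists_pair (h := h) hn
  obtain ⟨δ, hδ0, hδ⟩ := h.exists_trace_zero
  have hσδ : h.σ δ = -δ := eq_neg_of_add_eq_zero_right hδ
  have hsw : ∀ x y, h.B y (C x) = -h.σ (h.B x (C y)) := fun x y => by
    rw [h.herm]; linear_combination hskew y x
  have hk : ∀ e e', h.Iso e → h.Iso e' → h.B e e' = 1 → h.B e (C e') = h.B e' (C e) := by
    intro e e' he he' hee'
    have hi : h.Iso (e + δ • e') := by
      show h.B _ _ = 0
      simp only [map_add, LinearMap.map_smulₛₗ, LinearMap.add_apply, LinearMap.smul_apply, map_smul, smul_eq_mul,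
        show h.B e e = 0 from he, show h.B e' e' = 0 from he', hee', swap_one hee']
      linear_combination hδ
    have h1 := hq _ hi
    simp only [map_add, LinearMap.map_smulₛₗ, LinearMap.add_apply, LinearMap.smul_apply, map_smul, smul_eq_mul,
      hq e he, hq e' he', hσδ, RingHom.id_apply] at h1
    refine mul_left_cancel₀ hδ0 ?_
    linear_combination h1
  have hz : ∀ e e', h.Iso e → h.Iso e' → h.B e e' = 1 → ∀ z, h.B e z = 0 → h.B e' z = 0 →
      h.B z (C e') = 0 ∧ ∃ d, d + h.σ d = -h.B z z ∧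
        h.B e (C z) + h.B z (C e) + h.B z (C z) + d * h.B z (C e') + h.σ d * h.B e' (C z) +
          (d + h.σ d) * h.B e' (C e) = 0 := by
    intro e e' he he' hee' z h1 h2
    have main : ∀ z, h.B e z = 0 → h.B e' z = 0 → ∀ d, d + h.σ d = -h.B z z →
        h.B e (C z) + h.B z (C e) + h.B z (C z) + d * h.B z (C e') + h.σ d * h.B e' (C z) +
          (d + h.σ d) * h.B e' (C e) = 0 := by
      intro z h1 h2 d hd
      have hi : h.Iso (e + z + d • e') := by
        show h.B _ _ = 0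
        simp only [map_add, LinearMap.map_smulₛₗ, LinearMap.add_apply, LinearMap.smul_apply, map_smul, smul_eq_mul,
          show h.B e e = 0 from he, show h.B e' e' = 0 from he', hee', swap_one hee', h1, h2, h.eq_zero_comm h1,
          h.eq_zero_comm h2]
        linear_combination hd
      have h3 := hq _ hi
      simp only [map_add, LinearMap.map_smulₛₗ, LinearMap.add_apply, LinearMap.smul_apply, map_smul, smul_eq_mul,
        hq e he, hq e' he', RingHom.id_apply, hk e e' he he' hee'] at h3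
      linear_combination h3
    have hr : ∀ z, h.B e z = 0 → h.B e' z = 0 → h.B z (C e') + h.σ (h.B z (C e')) = 0 := by
      intro z h1 h2
      obtain ⟨d, hd⟩ := h.exists_trace (s := -h.B z z) (by rw [map_neg, h.herm])
      have e1 := main z h1 h2 d hd
      have e2 := main z h1 h2 (d + δ) (by rw [map_add, hσδ]; linear_combination hd)
      rw [map_add, hσδ, hsw z e'] at e2
      rw [hsw z e'] at e1
      refine mul_left_cancel₀ hδ0 ?_
      linear_combination e2 - e1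
    obtain ⟨d, hd⟩ := h.exists_trace (s := -h.B z z) (by rw [map_neg, h.herm])
    refine ⟨?_, d, hd, main z h1 h2 d hd⟩
    by_contra h0
    obtain ⟨d₁, hd₁⟩ := h.exists_trace (map_one h.σ)
    have h3 := hr (h.σ (d₁ / h.B z (C e')) • z) (by rw [map_smul, h1, smul_zero]) (by rw [map_smul, h2, smul_zero])
    rw [LinearMap.map_smulₛₗ, LinearMap.smul_apply, h.invol, smul_eq_mul, div_mul_cancel₀ _ h0, hd₁] at h3
    exact one_ne_zero h3
  set k := h.B e' (C e) with hkdef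
  refine ⟨k, fun y => ?_⟩
  let π : (ι → F) → (ι → F) := fun z => z - h.B e' z • e - h.B e z • e'
  have ee : h.B e e = 0 := he
  have e'e' : h.B e' e' = 0 := he'
  have he'e := swap_one hee'
  have hπ : ∀ z, h.B e (π z) = 0 ∧ h.B e' (π z) = 0 := fun z => by
    constructor <;> simp [π, ee, e'e', he'e, hee']
  have hz0 : ∀ z, h.B e z = 0 → h.B e' z = 0 → h.B z (C e') = 0 ∧ h.B z (C e) = 0 ∧ h.B e (C z) = 0 ∧
      h.B e' (C z) = 0 ∧ h.B z (C z) = k * h.B z z := by
    intro z h1 h2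
    obtain ⟨p1, d, hd, hm⟩ := hz e e' he he' hee' z h1 h2
    obtain ⟨p2, -⟩ := hz e' e he' he he'e z h2 h1
    have p3 : h.B e (C z) = 0 := by rw [hsw z e, p2, map_zero, neg_zero]
    have p4 : h.B e' (C z) = 0 := by rw [hsw z e', p1, map_zero, neg_zero]
    refine ⟨p1, p2, p3, p4, ?_⟩
    rw [p1, p2, p3, p4, ← hkdef, hd] at hm
    linear_combination hm
  have hpol : ∀ z z', h.B (π z) (C (π z')) = k * h.B (π z) (π z') := by
    intro z z'
    set D := h.B (π z) (C (π z')) - k * h.B (π z) (π z') with hD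
    by_contra hne
    have hD0 : D ≠ 0 := sub_ne_zero.mpr hne
    have hkσ : h.σ k = -k := by
      have h0 := hsw e' e
      rw [hk e e' he he' hee', ← hkdef] at h0
      linear_combination h0
    obtain ⟨m, hm⟩ := h.exists_moved
    have key := (hz0 (π z + (m / D) • π z') (by simp [(hπ z).1, (hπ z').1]) (by simp [(hπ z).2, (hπ z').2])).2.2.2.2
    simp only [map_add, LinearMap.map_smulₛₗ, LinearMap.add_apply, LinearMap.smul_apply, map_smul, smul_eq_mul,
      RingHom.id_apply, (hz0 _ (hπ z).1 (hπ z).2).2.2.2.2, (hz0 _ (hπ z').1 (hπ z').2).2.2.2.2, hsw (π z) (π z'),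
      ← h.herm (π z) (π z')] at key
    have hmD : m / D * D = m := div_mul_cancel₀ _ hD0
    have hmD' := congrArg h.σ hmD
    rw [map_mul] at hmD'
    have hσD : h.σ D = h.σ (h.B (π z) (C (π z'))) + k * h.σ (h.B (π z) (π z')) := by
      rw [hD, map_sub, map_mul, hkσ]; ring
    refine hm ?_
    rw [hσD] at hmD'
    rw [hD] at hmD
    linear_combination -hmD' + hmD - key
  have hall : ∀ x, h.B x (C y) = k * h.B x y := by
    intro x
    have hx : x = π x + h.B e' x • e + h.B e x • e' := by simp only [π]; module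
    have hy : y = π y + h.B e' y • e + h.B e y • e' := by simp only [π]; module
    obtain ⟨a1, a2, -, -, -⟩ := hz0 _ (hπ x).1 (hπ x).2
    obtain ⟨-, -, b3, b4, -⟩ := hz0 _ (hπ y).1 (hπ y).2
    conv_lhs => rw [hx, hy]
    conv_rhs => rw [hx, hy]
    simp only [map_add, LinearMap.map_smulₛₗ, LinearMap.add_apply, LinearMap.smul_apply, map_smul, smul_eq_mul,
      RingHom.id_apply, hpol, a1, a2, b3, b4, hq e he, hq e' he', hk e e' he he' hee', ← hkdef, ee, e'e', hee', he'e,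
      (hπ y).1, (hπ y).2, h.eq_zero_comm (hπ x).1, h.eq_zero_comm (hπ x).2]
    ring
  exact sub_eq_zero.mp (h.nondeg.2 _ fun x => by rw [map_sub, map_smul, hall, smul_eq_mul, sub_self])

variable {fA : HermF (Fin a) F} {fB : HermF (Fin b) F} {f : HermF (Fin a × Fin b) F}
  {M : Subgroup (GL (Fin a × Fin b) F)}

omit [Finite F] in
theorem skew_of (hS : Setting fA fB f) {β β' : Fin b → F} (hβ : fB.Iso β) (hββ' : fB.B β β' = 1)
    (hb' : fB.B β' β = 1) {C : (Fin a → F) →ₗ[F] (Fin a → F)} {g : GL (Fin a × Fin b) F} (hg : f.Preserves g)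
    (he : ∀ x u, (g : Matrix (Fin a × Fin b) (Fin a × Fin b) F) *ᵥ pure x u = pure x u + fB.B β u • pure (C x) β)
    (x y : Fin a → F) : fA.B (C x) y + fA.B x (C y) = 0 := by
  have h1 := hg (pure x β') (pure y β')
  simp only [he, hββ', one_smul, map_add, LinearMap.add_apply, hS.form, hb', show fB.B β β = 0 from hβ, mul_zero,
    mul_one, add_zero] at h1
  linear_combination h1

theorem Inc.add {β : Fin b → F} (hβ : fB.Iso β) {C C' : (Fin a → F) →ₗ[F] (Fin a → F)} (h : Inc fB M β C)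
    (h' : Inc fB M β C') : Inc fB M β (C + C') := by
  obtain ⟨g, hg, e⟩ := h
  obtain ⟨g', hg', e'⟩ := h'
  refine ⟨g * g', M.mul_mem hg hg', fun x u => ?_⟩
  rw [mulVec_mul, e', Matrix.mulVec_add, Matrix.mulVec_smul, e, e, show fB.B β β = 0 from hβ, zero_smul, add_zero,
    LinearMap.add_apply, pure_add_left, smul_add]
  abel

theorem Inc.neg {β : Fin b → F} (hβ : fB.Iso β) {C : (Fin a → F) →ₗ[F] (Fin a → F)} (h : Inc fB M β C) :
    Inc fB M β (-C) := by
  obtain ⟨g, hg, e⟩ := h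
  refine ⟨g⁻¹, M.inv_mem hg, fun x u => ?_⟩
  have h1 : (g : Matrix (Fin a × Fin b) (Fin a × Fin b) F) *ᵥ (pure x u + fB.B β u • pure ((-C) x) β) = pure x u := by
    rw [Matrix.mulVec_add, Matrix.mulVec_smul, e, e, show fB.B β β = 0 from hβ, zero_smul, add_zero,
      LinearMap.neg_apply, ← neg_one_smul F (C x), pure_smul_left]
    module
  conv_lhs => rw [← h1, mulVec_inv_mulVec]

theorem Inc.sub {β : Fin b → F} (hβ : fB.Iso β) {C C' : (Fin a → F) →ₗ[F] (Fin a → F)} (h : Inc fB M β C)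
    (h' : Inc fB M β C') : Inc fB M β (C - C') := sub_eq_add_neg C C' ▸ h.add hβ (h'.neg hβ)

variable (hM : Grp fA fB f M)
include hM

theorem Inc.conj {β : Fin b → F} {C : (Fin a → F) →ₗ[F] (Fin a → F)} (h : Inc fB M β C) {g : GL (Fin a) F}
    {k : GL (Fin b) F} (hg : fA.Preserves g) (hk : fB.Preserves k) (hgs : g ∈ Cfsg.Geo.specialLinear (Fin a) F)
    (hks : k ∈ Cfsg.Geo.specialLinear (Fin b) F) {s : F} (hkβ : (k : Matrix (Fin b) (Fin b) F) *ᵥ β = s • β)
    (C' : (Fin a → F) →ₗ[F] (Fin a → F)) (hC' : ∀ x, C' x = (fB.σ s * s) •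
      ((g : Matrix (Fin a) (Fin a) F) *ᵥ C (((g⁻¹ : GL (Fin a) F) : Matrix (Fin a) (Fin a) F) *ᵥ x))) :
    Inc fB M β C' := by
  obtain ⟨G, hG, e⟩ := h
  have hgk := hM.prod (g, k) hg hk hgs hks
  refine ⟨kr (g, k) * G * (kr (g, k))⁻¹, M.mul_mem (M.mul_mem hgk hG) (M.inv_mem hgk), fun x u => ?_⟩
  have hB : fB.B β (((k⁻¹ : GL (Fin b) F) : Matrix (Fin b) (Fin b) F) *ᵥ u) = fB.σ s * fB.B β u := by
    rw [← hk, mulVec_mulVec_inv, hkβ, LinearMap.map_smulₛₗ, LinearMap.smul_apply, smul_eq_mul]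
  rw [← map_inv, mulVec_mul, mulVec_mul, kr_pure, e, Matrix.mulVec_add, Matrix.mulVec_smul, kr_pure, kr_pure]
  simp only [Prod.fst_inv, Prod.snd_inv, mulVec_mulVec_inv, hB, hkβ, hC', pure_smul_left, pure_smul_right, smul_smul]
  congr 2
  ring

theorem Inc.smul (hb : 4 ≤ b) {β : Fin b → F} (hβ : fB.Iso β) (hβ0 : β ≠ 0) {C : (Fin a → F) →ₗ[F] (Fin a → F)}
    (h : Inc fB M β C) {t : F} (ht : fB.σ t = t) : Inc fB M β (t • C) := by
  rcases eq_or_ne t 0 with rfl | ht0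
  · rw [zero_smul]; exact ⟨1, M.one_mem, fun x u => by simp [pure_zero_left]⟩
  obtain ⟨s, hs⟩ := Geometry.exists_mul_conj_eq fB.σ_ne fB.invol ht
  obtain ⟨k, hk, hks, hkβ⟩ := exists_scale_one (h := fB) (by rw [Fintype.card_fin]; exact hb) hβ hβ0
    (s := s) (fun e => ht0 (by rw [← hs, e, mul_zero]))
  exact h.conj hM (preserves_one fA) hk (one_mem _) hks hkβ _ fun x => by simp [hs]

/-- The difference with a conjugate by a transvection. -/
theorem Inc.delta {β : Fin b → F} (hβ : fB.Iso β) {C : (Fin a → F) →ₗ[F] (Fin a → F)} (h : Inc fB M β C)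
    {v : Fin a → F} (hv : fA.Iso v) {μ : F} (hμ : μ + fA.σ μ = 0) (D : (Fin a → F) →ₗ[F] (Fin a → F))
    (hD : ∀ x, D x = (μ * fA.B v (C x)) • v - (μ * fA.B v x) • C v - (μ * μ * fA.B v (C v) * fA.B v x) • v) :
    Inc fB M β D := by
  have h1 := h.conj hM (g := fA.trans v hv μ) (k := 1) (fA.trans_preserves v hv hμ) (preserves_one fB)
    (tv_mem_specialLinear _ _ (fA.iso_dot hv μ)) (one_mem _) (s := 1) (by simp) (D + C) (fun x => by
      rw [map_one, mul_one, one_smul, LinearMap.add_apply, hD,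
        show ((fA.trans v hv μ)⁻¹ : GL (Fin a) F) = tv v (-(μ • fA.psi v)) (by
          rw [neg_dotProduct, fA.iso_dot hv, neg_zero]) from tv_inv _ _ _,
        tv_mulVec, neg_dotProduct, smul_dotProduct, fA.psi_dot, smul_eq_mul, map_add, map_smul, fA.trans_mulVec,
        map_add, map_smul, smul_eq_mul]
      module)
  simpa using h1.sub hβ h

omit hM in
theorem ctr_of_rk (hS : Setting fA fB f) {α : Fin a → F} {β : Fin b → F} (hβ : fB.Iso β)
    (h : ∀ c, c + f.σ c = 0 → Inc fB M β (c • rk fA α α)) : f.Ctr M (pure α β) := by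
  refine ⟨pure_iso_right hS α hβ, fun c hc => ?_⟩
  obtain ⟨g, hg, e⟩ := h c hc
  convert hg using 1
  refine Units.ext (eq_of_pure fun x u => ?_)
  rw [trans_mulVec_pure, e, hS.form, LinearMap.smul_apply, rk_apply, smul_smul, pure_smul_left, smul_smul]
  congr 2
  ring

theorem Inc.conj_frame {β : Fin b → F} {f₁ f₂ h₁ h₂ h₃ : Fin a → F} (a11 : fA.B f₁ f₁ = 1) (a22 : fA.B f₂ f₂ = 1)
    (a12 : fA.B f₁ f₂ = 0) (b11 : fA.B h₁ h₁ = 1) (b22 : fA.B h₂ h₂ = 1) (b12 : fA.B h₁ h₂ = 0) (b3 : ¬ fA.Iso h₃)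
    (b31 : fA.B h₃ h₁ = 0) (b32 : fA.B h₃ h₂ = 0) {ε : F}
    (hI : Inc fB M β (rk fA f₁ f₁ + rk fA f₂ f₂ + ε • rk fA (f₁ + f₂) (f₁ + f₂))) :
    Inc fB M β (rk fA h₁ h₁ + rk fA h₂ h₂ + ε • rk fA (h₁ + h₂) (h₁ + h₂)) := by
  let φ : (Fin a → F) →ₗ[F] (Fin a → F) := rk fA f₁ h₁ + rk fA f₂ h₂
  set X := Submodule.span F {f₁, f₂}
  have a21 := fA.eq_zero_comm a12
  have hiso : ∀ x x' : X, fA.B (φ x) (φ x') = fA.B (x : Fin a → F) x' := by
    intro x x'
    obtain ⟨c₁, c₂, hx⟩ := Submodule.mem_span_pair.mp x.2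
    obtain ⟨c₁', c₂', hx'⟩ := Submodule.mem_span_pair.mp x'.2
    simp only [← hx, ← hx', φ, LinearMap.add_apply, rk_apply, map_add, LinearMap.map_smulₛₗ, LinearMap.smul_apply,
      map_smul, smul_eq_mul, RingHom.id_apply, a11, a22, a12, a21, b11, b22, b12, fA.eq_zero_comm b12, map_zero,
      map_one]
    ring
  obtain ⟨g, hgp, hgs, hgX⟩ := fA.witt_special X (φ.comp X.subtype) (fun x x' e => Subtype.ext (by
    obtain ⟨c₁, c₂, hx⟩ := Submodule.mem_span_pair.mp x.2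
    obtain ⟨c₁', c₂', hx'⟩ := Submodule.mem_span_pair.mp x'.2
    have e1 := congrArg (fA.B h₁) e
    have e2 := congrArg (fA.B h₂) e
    simp only [LinearMap.comp_apply, Submodule.coe_subtype, ← hx, ← hx', φ, LinearMap.add_apply, rk_apply, map_add,
      map_smul, smul_eq_mul, a11, a22, a12, a21, b11, b22, b12, fA.eq_zero_comm b12, mul_one, mul_zero, add_zero,
      zero_add, smul_smul, RingHom.id_apply] at e1 e2
    rw [← hx, ← hx', e1, e2])) hiso h₃ b3 (fun x => by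
      obtain ⟨c₁, c₂, hx⟩ := Submodule.mem_span_pair.mp x.2
      simp [← hx, φ, rk_apply, b31, b32])
  have g1 : (g : Matrix (Fin a) (Fin a) F) *ᵥ f₁ = h₁ := by
    rw [hgX ⟨f₁, Submodule.subset_span (by simp)⟩]; simp [φ, rk_apply, a11, a21]
  have g2 : (g : Matrix (Fin a) (Fin a) F) *ᵥ f₂ = h₂ := by
    rw [hgX ⟨f₂, Submodule.subset_span (by simp)⟩]; simp [φ, rk_apply, a22, a12]
  refine hI.conj hM hgp (preserves_one fB) hgs (one_mem _) (s := 1) (by simp) _ fun x => ?_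
  have t1 : fA.B f₁ (((g⁻¹ : GL (Fin a) F) : Matrix (Fin a) (Fin a) F) *ᵥ x) = fA.B h₁ x := by
    rw [← hgp, mulVec_mulVec_inv, g1]
  have t2 : fA.B f₂ (((g⁻¹ : GL (Fin a) F) : Matrix (Fin a) (Fin a) F) *ᵥ x) = fA.B h₂ x := by
    rw [← hgp, mulVec_mulVec_inv, g2]
  simp only [map_one, mul_one, one_smul, LinearMap.add_apply, LinearMap.smul_apply, rk_apply, map_add, t1, t2,
    Matrix.mulVec_add, Matrix.mulVec_smul, g1, g2]

set_option maxHeartbeats 1600000 in
/-- Sums over three frames. -/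
theorem Inc.frame {β : Fin b → F} (hβ : fB.Iso β) (h2 : (2 : F) = 0) {ω : F} (hωσ : fA.σ ω = 1 + ω)
    (hωN : ω * (1 + ω) = 1) {f₁ f₂ f₃ : Fin a → F} (a11 : fA.B f₁ f₁ = 1) (a22 : fA.B f₂ f₂ = 1)
    (a33 : fA.B f₃ f₃ = 1) (a12 : fA.B f₁ f₂ = 0) (a13 : fA.B f₁ f₃ = 0) (a23 : fA.B f₂ f₃ = 0) :
      (Inc fB M β (rk fA f₁ f₁ + rk fA f₂ f₂) → Inc fB M β (rk fA (f₁ + f₂) (f₁ + f₂))) ∧
      (Inc fB M β (rk fA f₁ f₁ + rk fA f₂ f₂ + rk fA (f₁ + f₂) (f₁ + f₂)) →
        Inc fB M β (rk fA f₂ f₂ + rk fA f₃ f₃)) := by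
  let h₁ : F → Fin a → F := fun ζ => f₁ + ω • f₂ + ((1 + ω) * ζ) • f₃
  let h₂ : F → Fin a → F := fun ζ => f₁ + (1 + ω) • f₂ + (ω * ζ) • f₃
  have hconj : ∀ (ζ ε : F), fA.σ ζ * ζ = 1 →
      Inc fB M β (rk fA f₁ f₁ + rk fA f₂ f₂ + ε • rk fA (f₁ + f₂) (f₁ + f₂)) →
      Inc fB M β (rk fA (h₁ ζ) (h₁ ζ) + rk fA (h₂ ζ) (h₂ ζ) + ε • rk fA (h₁ ζ + h₂ ζ) (h₁ ζ + h₂ ζ)) := by
    intro ζ ε hζ
    refine fun hI => Inc.conj_frame hM (h₁ := h₁ ζ) (h₂ := h₂ ζ) (h₃ := f₁ + f₂ + ζ • f₃) a11 a22 a12 ?_ ?_ ?_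
      (fun (h : fA.B _ _ = 0) => one_ne_zero (α := F) ?_) ?_ ?_ hI <;>
    simp only [h₁, h₂, map_add, map_mul, map_one, LinearMap.map_smulₛₗ, LinearMap.add_apply, LinearMap.smul_apply,
      map_smul, smul_eq_mul, RingHom.id_apply, a11, a22, a33, a12, a13, a23, fA.eq_zero_comm a12,
      fA.eq_zero_comm a13, fA.eq_zero_comm a23, hωσ] at * <;>
    grind
  have hz1 : fA.σ 1 * 1 = (1 : F) := by rw [map_one, one_mul]
  have hz2 : fA.σ ω * ω = 1 := by rw [hωσ]; linear_combination hωN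
  have hz3 : fA.σ (1 + ω) * (1 + ω) = 1 := by rw [map_add, map_one, hωσ]; linear_combination hωN + (1 + ω) * h2
  constructor
  · intro hI
    have hI0 : Inc fB M β (rk fA f₁ f₁ + rk fA f₂ f₂ + (0 : F) • rk fA (f₁ + f₂) (f₁ + f₂)) := by
      rwa [zero_smul, add_zero]
    convert ((hI0.add hβ (hconj 1 0 hz1 hI0)).add hβ (hconj ω 0 hz2 hI0)).add hβ (hconj (1 + ω) 0 hz3 hI0) using 1
    refine LinearMap.ext fun x => ?_
    simp only [h₁, h₂, LinearMap.add_apply, LinearMap.smul_apply, rk_apply, map_add, map_mul, map_one,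
      LinearMap.map_smulₛₗ, smul_eq_mul, hωσ]
    match_scalars <;> grind
  · intro hI
    have hI1 : Inc fB M β (rk fA f₁ f₁ + rk fA f₂ f₂ + (1 : F) • rk fA (f₁ + f₂) (f₁ + f₂)) := by rwa [one_smul]
    convert ((hI1.add hβ (hconj 1 1 hz1 hI1)).add hβ (hconj ω 1 hz2 hI1)).add hβ (hconj (1 + ω) 1 hz3 hI1) using 1
    refine LinearMap.ext fun x => ?_
    simp only [h₁, h₂, LinearMap.add_apply, LinearMap.smul_apply, rk_apply, map_add, map_mul, map_one,
      LinearMap.map_smulₛₗ, smul_eq_mul, hωσ]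
    match_scalars <;> grind


/-- An element of the centre is scalar. -/
theorem scalar_of_inc (hS : Setting fA fB f) (ha : 2 ≤ a) (hb : 4 ≤ b)
    (hex : 3 ≤ a ∨ ∃ t : F, f.σ t = t ∧ t ≠ 0 ∧ t ≠ 1) (hno : NoP fA fB f M) {β : Fin b → F} (hβ : fB.Iso β)
    (hβ0 : β ≠ 0) {C : (Fin a → F) →ₗ[F] (Fin a → F)} (h : Inc fB M β C) : ∃ k : F, ∀ x, C x = k • x := by
  obtain ⟨β', hβ'i, hββ'⟩ := exists_iso_partner (h := fB) hβ hβ0
  have hskew : ∀ x y, fA.B (C x) y + fA.B x (C y) = 0 := by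
    obtain ⟨G, hG, e⟩ := h
    exact skew_of hS hβ hββ' (swap_one hββ') (hM.pres G hG) e
  by_cases hall : ∀ v, fA.Iso v → fA.B v (C v) = 0
  · exact scalar_of_quad fA (by rw [Fintype.card_fin]; exact ha) hskew hall
  exfalso
  push Not at hall
  obtain ⟨v, hv, hg0⟩ := hall
  have hv0 : v ≠ 0 := fun e => hg0 (by rw [e, map_zero, LinearMap.zero_apply])
  have vv : fA.B v v = 0 := hv
  set γ := fA.B v (C v) with hγ
  have hσγ : γ + fA.σ γ = 0 := by
    rw [hγ, fA.herm]; linear_combination hskew v v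
  suffices hP : ∀ c, c + f.σ c = 0 → Inc fB M β (c • rk fA v v) from hno v β hv0 hβ0 hv hβ (ctr_of_rk hS hβ hP)
  obtain ⟨δ, hδ0, hδ⟩ := fA.exists_trace_zero
  have hσδ : fA.σ δ = -δ := eq_neg_of_add_eq_zero_right hδ
  by_cases ht : ∃ t : F, f.σ t = t ∧ t ≠ 0 ∧ t ≠ 1
  · obtain ⟨t, ht, ht0, ht1⟩ := ht
    intro c hc
    have htA : fA.σ t = t := by rw [hS.sA, ht]
    have htB : fB.σ t = t := by rw [hS.sB, ht]
    let D : F → (Fin a → F) →ₗ[F] (Fin a → F) := fun μ =>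
      μ • ((fA.B v).comp C).smulRight v - μ • rk fA v (C v) - (μ * μ * γ) • rk fA v v
    have hD : ∀ μ, μ + fA.σ μ = 0 → Inc fB M β (D μ) := fun μ hμ => h.delta hM hβ hv hμ _ fun x => by
      simp [D, rk_apply, smul_smul, hγ, mul_assoc]
    have h1 := (hD (t * δ) (by rw [map_mul, htA]; linear_combination t * hδ)).sub hβ ((hD δ hδ).smul hM hb hβ hβ0 htB)
    set k₁ := t * (1 - t) * (δ * δ) * γ with hk₁
    have hk₁0 : k₁ ≠ 0 := by
      rw [hk₁]; exact mul_ne_zero (mul_ne_zero (mul_ne_zero ht0 (sub_ne_zero.mpr (Ne.symm ht1))) (mul_ne_zero hδ0 hδ0)) hg0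
    rw [show D (t * δ) - t • D δ = k₁ • rk fA v v by simp only [D, hk₁]; module] at h1
    have h2 := h1.smul hM hb hβ hβ0 (t := c / k₁) (by
      have hcσ : fB.σ c = -c := by rw [hS.sB]; exact eq_neg_of_add_eq_zero_right hc
      have hγσ : fA.σ γ = -γ := eq_neg_of_add_eq_zero_right hσγ
      have hkσ : fA.σ k₁ = -k₁ := by
        rw [hk₁]; simp only [map_mul, map_sub, map_one, htA, hσδ, hγσ]; ring
      rw [map_div₀, hcσ, show fB.σ k₁ = -k₁ by rw [hS.sB, ← hS.sA]; exact hkσ, neg_div_neg_eq])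
    rwa [smul_smul, div_mul_cancel₀ _ hk₁0] at h2
  -- four elements
  have ha3 : 3 ≤ a := hex.resolve_right ht
  push Not at ht
  have h01 : ∀ x : F, fA.σ x = x → x ≠ 0 → x = 1 := fun x h1 h2 => ht x (by rw [← hS.sA]; exact h1) h2
  have h2 : (2 : F) = 0 := by
    by_contra h0
    have h3 := h01 2 (map_ofNat fA.σ 2) h0
    exact one_ne_zero (α := F) (by linear_combination h3)
  have hneg : ∀ x : F, -x = x := fun x => by linear_combination (-x) * h2
  obtain ⟨ω, hω⟩ := fA.exists_trace (map_one fA.σ)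
  have hωσ : fA.σ ω = 1 + ω := by linear_combination hω - ω * h2
  have hω0 : ω ≠ 0 := fun e => by
    rw [e, map_zero, add_zero] at hω
    exact one_ne_zero hω.symm
  have hωN : ω * (1 + ω) = 1 := by
    rw [← hωσ]
    exact h01 _ (by rw [map_mul, fA.invol, mul_comm]) (mul_ne_zero hω0 (by rw [Ne, fA.σ_eq_zero]; exact hω0))
  suffices hP : Inc fB M β (rk fA v v) by
    intro c hc
    have hc' : fA.σ c = c := by rw [hS.sA, eq_neg_of_add_eq_zero_right hc, hneg]
    rcases eq_or_ne c 0 with rfl | hc0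
    · rw [zero_smul]; exact ⟨1, M.one_mem, fun x u => by simp [pure_zero_left]⟩
    · rw [h01 c hc' hc0, one_smul]; exact hP
  have hγ1 : γ = 1 := h01 γ (by rw [eq_neg_of_add_eq_zero_right hσγ, hneg]) hg0
  -- the frame of the transvection
  set u := C v with hu
  have huv : fA.B u v = 1 := by
    rw [← fA.herm v u, ← hγ, hγ1, map_one]
  obtain ⟨d, hd⟩ := fA.exists_trace (s := -fA.B u u) (by rw [map_neg, fA.herm])
  set v' := u + d • v with hv'
  have hv'i : fA.Iso v' := by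
    show fA.B _ _ = 0
    simp only [hv', map_add, LinearMap.map_smulₛₗ, LinearMap.add_apply, LinearMap.smul_apply, map_smul, smul_eq_mul,
      vv, huv, show fA.B v u = 1 from hγ1, RingHom.id_apply]
    linear_combination hd
  have hvv' : fA.B v v' = 1 := by
    simp [hv', vv, show fA.B v u = 1 from hγ1]
  obtain ⟨z, hvz, hv'z, hzz⟩ := exists_aniso_pair (h := fA) (by rw [Fintype.card_fin]; exact ha3) hv hv'i hvv'
  have v'v := swap_one hvv'
  have v'v' : fA.B v' v' = 0 := hv'i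
  have hz1 : fA.B z z = 1 := h01 _ (fA.herm z z) hzz
  set f₁ := ω • v + v' with hf₁
  set f₂ := (1 + ω) • v + v' with hf₂
  have a11 : fA.B f₁ f₁ = 1 := by
    simp only [hf₁, map_add, LinearMap.map_smulₛₗ, LinearMap.add_apply, LinearMap.smul_apply, map_smul, smul_eq_mul,
      vv, v'v', hvv', v'v, hωσ, RingHom.id_apply]
    grind
  have a22 : fA.B f₂ f₂ = 1 := by
    simp only [hf₂, map_add, map_one, LinearMap.map_smulₛₗ, LinearMap.add_apply, LinearMap.smul_apply, map_smul,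
      smul_eq_mul, vv, v'v', hvv', v'v, hωσ, RingHom.id_apply]
    grind
  have a12 : fA.B f₁ f₂ = 0 := by
    simp only [hf₁, hf₂, map_add, LinearMap.map_smulₛₗ, LinearMap.add_apply, LinearMap.smul_apply, map_smul,
      smul_eq_mul, vv, v'v', hvv', v'v, hωσ, RingHom.id_apply]
    grind
  have a13 : fA.B f₁ z = 0 := by simp [hf₁, hvz, hv'z]
  have a23 : fA.B f₂ z = 0 := by simp [hf₂, hvz, hv'z]
  have hsum : f₁ + f₂ = v := by
    rw [hf₁, hf₂]
    match_scalars <;> grind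
  have hD := h.delta hM hβ hv (μ := 1) (by rw [map_one]; linear_combination h2)
    (rk fA f₁ f₁ + rk fA f₂ f₂ + (fA.B u u + 1) • rk fA v v) (fun x => by
      have h3 : fA.B v (C x) = fA.B u x := by
        rw [hu, eq_neg_of_add_eq_zero_left (hskew v x), hneg]
      simp only [LinearMap.add_apply, LinearMap.smul_apply, rk_apply, hf₁, hf₂, hv', map_add, map_one,
        LinearMap.map_smulₛₗ, smul_eq_mul, hωσ, h3, ← hu, show fA.B v (C v) = 1 from hγ1]
      match_scalars <;> grind)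
  have hνσ : fA.σ (fA.B u u + 1) = fA.B u u + 1 := by rw [map_add, map_one, fA.herm]
  by_cases hν : fA.B u u + 1 = 0
  · rw [hν, zero_smul, add_zero] at hD
    have := (Inc.frame hM hβ h2 hωσ hωN a11 a22 hz1 a12 a13 a23).1 hD
    rwa [hsum] at this
  · rw [h01 _ hνσ hν, one_smul, ← hsum] at hD
    have h4 := (Inc.frame hM hβ h2 hωσ hωN a11 a22 hz1 a12 a13 a23).2 hD
    have h5 := (Inc.frame hM hβ h2 hωσ hωN a22 hz1 a11 a23 (fA.eq_zero_comm a12) (fA.eq_zero_comm a13)).1 h4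
    have hw : fA.Iso (f₂ + z) := by
      show fA.B _ _ = 0
      simp only [map_add, LinearMap.add_apply, a22, hz1, a23, fA.eq_zero_comm a23]
      linear_combination h2
    refine (hno (f₂ + z) β (fun e => ?_) hβ0 hw hβ (ctr_of_rk hS hβ fun c hc => ?_)).elim
    · have := congrArg (fA.B z) e
      rw [map_add, fA.eq_zero_comm a23, hz1, map_zero, zero_add] at this
      exact one_ne_zero this
    · have hc' : fA.σ c = c := by rw [hS.sA, eq_neg_of_add_eq_zero_right hc, hneg]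
      rcases eq_or_ne c 0 with rfl | hc0
      · rw [zero_smul]; exact ⟨1, M.one_mem, fun x u => by simp [pure_zero_left]⟩
      · rw [h01 c hc' hc0, one_smul]; exact h5

end Cfsg.Agent.Lib.ThreeTransp.TensorUni
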