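import Cfsg.Agent.Lib.ThreeTransp.TensorUniScalar

/-!
The stabiliser of a totally isotropic `A ⊗ β` lies in the Kronecker group.
-/

set_option autoImplicit false

namespace Cfsg.Agent.Lib.ThreeTransp.TensorUni

open Matrix Module
open Cfsg.Agent.Lib.MaxSub Cfsg.Agent.Lib.ThreeTransp.Tensor
open scoped MatrixGroups Matrix Kronecker

variable {a b : ℕ} {F : Type*} [Field F] {fA : HermF (Fin a) F} {fB : HermF (Fin b) F}
  {f : HermF (Fin a × Fin b) F} {M : Subgroup (GL (Fin a × Fin b) F)}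

theorem cB_sub_smul (z β β' : Fin b → F) (c c' : F) (p : Fin a × Fin b → F) :
    cB fB (z - c • β - c' • β') p = cB fB z p - fB.σ c • cB fB β p - fB.σ c' • cB fB β' p :=
  lext (g := cB fB (z - c • β - c' • β')) (g' := cB fB z - fB.σ c • cB fB β - fB.σ c' • cB fB β') (fun x u => by
    simp only [LinearMap.sub_apply, LinearMap.smul_apply, cB_pure, map_sub, LinearMap.map_smulₛₗ,
      smul_eq_mul, sub_smul, mul_smul]) p

theorem cB_smul (z : Fin b → F) (c : F) (p : Fin a × Fin b → F) : cB fB (c • z) p = fB.σ c • cB fB z p :=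
  lext (g := cB fB (c • z)) (g' := fB.σ c • cB fB z) (fun x u => by
    simp only [LinearMap.smul_apply, cB_pure, LinearMap.map_smulₛₗ, smul_eq_mul, mul_smul]) p

/-- The component in `W = ⟨β, β'⟩⊥`. -/
def wproj (fB : HermF (Fin b) F) (β β' : Fin b → F) (u : Fin b → F) : Fin b → F :=
  u - fB.B β' u • β - fB.B β u • β'

theorem wproj_perp {β β' : Fin b → F} (hβ : fB.Iso β) (hβ' : fB.Iso β') (h1 : fB.B β β' = 1) (h2 : fB.B β' β = 1)
    (u : Fin b → F) : fB.B β (wproj fB β β' u) = 0 ∧ fB.B β' (wproj fB β β' u) = 0 := by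
  constructor <;> simp [wproj, show fB.B β β = 0 from hβ, show fB.B β' β' = 0 from hβ', h1, h2]

/-- Only a component along `β`. -/
theorem only_beta {β β' : Fin b → F} (hβ : fB.Iso β) (hβ' : fB.Iso β') (h1 : fB.B β β' = 1) (h2 : fB.B β' β = 1)
    {p : Fin a × Fin b → F} (hp : cB fB β p = 0)
    (hz : ∀ z, fB.B β z = 0 → fB.B β' z = 0 → cB fB z p = 0) : p = pure (cB fB β' p) β := by
  refine eq_smul_of_ctr (by rw [fB.psi_dot]; exact h2) fun φ hφ => ?_
  obtain ⟨z₀, rfl⟩ := fB.psi_surjective φ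
  rw [fB.psi_dot] at hφ
  have h3 := fB.eq_zero_comm hφ
  have h4 := hz _ (wproj_perp hβ hβ' h1 h2 z₀).1 (wproj_perp hβ hβ' h1 h2 z₀).2
  rw [wproj, cB_sub_smul, hp, smul_zero, sub_zero, h3, map_zero, zero_smul, sub_zero] at h4
  exact h4

/-- The root elements at an isotropic vector. -/
noncomputable def heis {β w : Fin b → F} (hβ : fB.Iso β) (hw : fB.B β w = 0) (d : F) : GL (Fin b) F :=
  tv w (fB.psi β) (by rw [fB.psi_dot]; exact hw) *
    tv β (-fB.psi w - d • fB.psi β) (by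
      rw [sub_dotProduct, neg_dotProduct, smul_dotProduct, fB.psi_dot, fB.psi_dot, fB.eq_zero_comm hw,
        show fB.B β β = 0 from hβ]
      simp)

theorem heis_mulVec {β w : Fin b → F} (hβ : fB.Iso β) (hw : fB.B β w = 0) (d : F) (u : Fin b → F) :
    (heis hβ hw d : Matrix (Fin b) (Fin b) F) *ᵥ u = u + fB.B β u • w - (fB.B w u + d * fB.B β u) • β := by
  rw [heis, mulVec_mul, tv_mulVec, tv_mulVec, sub_dotProduct, neg_dotProduct, smul_dotProduct, dotProduct_add,
    dotProduct_smul, fB.psi_dot, fB.psi_dot, fB.psi_dot, show fB.B β β = 0 from hβ, smul_eq_mul, smul_eq_mul,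
    mul_zero, add_zero]
  module

theorem heis_det {β w : Fin b → F} (hβ : fB.Iso β) (hw : fB.B β w = 0) (d : F) :
    heis hβ hw d ∈ Cfsg.Geo.specialLinear (Fin b) F :=
  Subgroup.mul_mem _ (tv_mem_specialLinear _ _ _) (tv_mem_specialLinear _ _ _)

theorem heis_preserves {β w : Fin b → F} (hβ : fB.Iso β) (hw : fB.B β w = 0) {d : F}
    (hd : d + fB.σ d = fB.B w w) : fB.Preserves (heis hβ hw d) := fun u v => by
  simp only [heis_mulVec, map_add, map_sub, map_mul, LinearMap.map_smulₛₗ, LinearMap.add_apply, LinearMap.sub_apply,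
    LinearMap.smul_apply, map_smul, smul_eq_mul, show fB.B β β = 0 from hβ, hw, fB.eq_zero_comm hw, fB.herm,
    RingHom.id_apply]
  linear_combination -(fB.B u β * fB.B β v) * hd

theorem kr_heis_mulVec {β w : Fin b → F} (hβ : fB.Iso β) (hw : fB.B β w = 0) (d : F) (p : Fin a × Fin b → F) :
    (kr ((1 : GL (Fin a) F), heis hβ hw d) : Matrix (Fin a × Fin b) (Fin a × Fin b) F) *ᵥ p =
      p + pure (cB fB β p) w - pure (cB fB w p + d • cB fB β p) β := by
  have key := lext (g := Matrix.mulVecLin (kr ((1 : GL (Fin a) F), heis hβ hw d) : Matrix (Fin a × Fin b) (Fin a × Fin b) F))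
    (g' := LinearMap.id + (left w).comp (cB fB β) - (left β).comp (cB fB w + d • cB fB β)) (fun x u => by
    simp only [Matrix.mulVecLin_apply, kr_pure, Units.val_one, Matrix.one_mulVec, heis_mulVec, pure_sub_right,
      pure_add_right, pure_smul_right, LinearMap.sub_apply, LinearMap.add_apply, LinearMap.id_apply,
      LinearMap.comp_apply, LinearMap.smul_apply, cB_pure, map_smul, map_add]
    simp only [left, LinearMap.coe_mk, AddHom.coe_mk]
    module) p
  exact key

variable [Finite F] (hS : Setting fA fB f) (ha : 2 ≤ a) (hb : 4 ≤ b)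
  (hex : 3 ≤ a ∨ ∃ t : F, f.σ t = t ∧ t ≠ 0 ∧ t ≠ 1)
include hS ha hb hex

/-- The linear part of an element of the radical is scalar. -/
theorem scalar_L (hM : Grp fA fB f M) (hno : NoP fA fB f M) {β β' : Fin b → F} (hβ : fB.Iso β) (hβ' : fB.Iso β')
    (h1 : fB.B β β' = 1) (E : GL (Fin a × Fin b) F)
    (hE1 : ∀ x, (E : Matrix (Fin a × Fin b) (Fin a × Fin b) F) *ᵥ pure x β = pure x β)
    (hE2 : ∀ p, cB fB β p = 0 → ∃ y, (E : Matrix (Fin a × Fin b) (Fin a × Fin b) F) *ᵥ p = p + pure y β)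
    (hE3 : ∀ x, cB fB β ((E : Matrix (Fin a × Fin b) (Fin a × Fin b) F) *ᵥ pure x β') = x)
    (hconj : ∀ gh : GL (Fin a) F × GL (Fin b) F, fA.Preserves gh.1 → fB.Preserves gh.2 →
      gh.1 ∈ Cfsg.Geo.specialLinear (Fin a) F → gh.2 ∈ Cfsg.Geo.specialLinear (Fin b) F → E * kr gh * E⁻¹ ∈ M)
    (z : Fin b → F) (hz : fB.B β z = 0) (hz' : fB.B β' z = 0) :
    ∃ k : F, ∀ x, cB fB z ((E : Matrix (Fin a × Fin b) (Fin a × Fin b) F) *ᵥ pure x β') = k • x := by
  classical
  have hβ0 : β ≠ 0 := fun e => by simp [e] at h1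
  have h2 := swap_one h1
  let Eop := Matrix.mulVecLin (E : Matrix (Fin a × Fin b) (Fin a × Fin b) F)
  have main : ∀ z, fB.B β z = 0 → fB.B β' z = 0 → ∃ k : F, ∀ x,
      cB fB β' ((E : Matrix (Fin a × Fin b) (Fin a × Fin b) F) *ᵥ pure x z - pure x z) +
        cB fB z ((E : Matrix (Fin a × Fin b) (Fin a × Fin b) F) *ᵥ pure x β') = k • x := by
    intro z hz hz'
    obtain ⟨d, hd⟩ := fB.exists_trace (fB.herm z z)
    set Q := kr ((1 : GL (Fin a) F), heis hβ hz d) with hQ
    have hQM : Q ∈ M := hM.prod _ (preserves_one fA) (heis_preserves hβ hz hd) (one_mem _) (heis_det hβ hz d)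
    set K := E * Q * E⁻¹ * Q⁻¹ with hK
    have hKM : K ∈ M := M.mul_mem (hconj _ (preserves_one fA) (heis_preserves hβ hz hd) (one_mem _) (heis_det hβ hz d))
      (M.inv_mem hQM)
    have hKq : ∀ p, (K : Matrix (Fin a × Fin b) (Fin a × Fin b) F) *ᵥ ((Q : Matrix (Fin a × Fin b) (Fin a × Fin b) F) *ᵥ
        ((E : Matrix (Fin a × Fin b) (Fin a × Fin b) F) *ᵥ p)) =
        (E : Matrix (Fin a × Fin b) (Fin a × Fin b) F) *ᵥ ((Q : Matrix (Fin a × Fin b) (Fin a × Fin b) F) *ᵥ p) :=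
      fun p => by rw [hK, mulVec_mul, mulVec_mul, mulVec_mul, mulVec_inv_mulVec, mulVec_inv_mulVec]
    have ββ : fB.B β β = 0 := hβ
    have hzβ : fB.B z β = 0 := fB.eq_zero_comm hz
    have hzβ' : fB.B z β' = 0 := fB.eq_zero_comm hz'
    have hfix : ∀ r, cB fB β r = 0 → (K : Matrix (Fin a × Fin b) (Fin a × Fin b) F) *ᵥ r = r := by
      intro r hr
      obtain ⟨y, hy⟩ := hE2 r hr
      set t := y - cB fB z r with ht
      set p := r - pure t β with hp
      have e1 : (E : Matrix (Fin a × Fin b) (Fin a × Fin b) F) *ᵥ p = r + pure (cB fB z r) β := by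
        rw [hp, Matrix.mulVec_sub, hy, hE1, ht, ← add_sub_cancel (cB fB z r) y, pure_add_left]
        simp only [add_sub_cancel_left]
        abel
      have e2 : (Q : Matrix (Fin a × Fin b) (Fin a × Fin b) F) *ᵥ (r + pure (cB fB z r) β) = r := by
        rw [hQ, kr_heis_mulVec, map_add, map_add, cB_pure, cB_pure, hr, ββ, hzβ]
        simp [pure_zero_left]
      have e3 : (Q : Matrix (Fin a × Fin b) (Fin a × Fin b) F) *ᵥ p = r - pure y β := by
        rw [hQ, kr_heis_mulVec, hp, map_sub, map_sub, cB_pure, cB_pure, hr, ββ, hzβ, ht]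
        funext q
        simp [Tensor.pure]
        ring
      have := hKq p
      rw [e1, e2, e3, Matrix.mulVec_sub, hy, hE1, add_sub_cancel_right] at this
      exact this
    have hxz : ∀ x, (E : Matrix (Fin a × Fin b) (Fin a × Fin b) F) *ᵥ pure x z =
        pure x z + pure (cB fB β' ((E : Matrix (Fin a × Fin b) (Fin a × Fin b) F) *ᵥ pure x z - pure x z)) β := by
      intro x
      obtain ⟨y, hy⟩ := hE2 (pure x z) (by rw [cB_pure, hz, zero_smul])
      rw [hy, add_sub_cancel_left, cB_pure, h2, one_smul]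
    let C : (Fin a → F) →ₗ[F] (Fin a → F) :=
      (cB fB β').comp ((Eop - LinearMap.id).comp (left z)) + (cB fB z).comp (Eop.comp (left β'))
    have hC : ∀ x, C x = cB fB β' ((E : Matrix (Fin a × Fin b) (Fin a × Fin b) F) *ᵥ pure x z - pure x z) +
        cB fB z ((E : Matrix (Fin a × Fin b) (Fin a × Fin b) F) *ᵥ pure x β') := fun x => rfl
    have hKβ' : ∀ x, (K : Matrix (Fin a × Fin b) (Fin a × Fin b) F) *ᵥ pure x β' = pure x β' + pure (C x) β := by
      intro x
      set m₀ := (E : Matrix (Fin a × Fin b) (Fin a × Fin b) F) *ᵥ pure x β' with hm₀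
      have e1 := hKq (pure x β')
      rw [← hm₀, hQ, kr_heis_mulVec, kr_heis_mulVec, hE3 x, cB_pure, cB_pure, h1, hzβ', one_smul, zero_smul,
        zero_add] at e1
      conv_rhs at e1 => rw [Matrix.mulVec_sub, Matrix.mulVec_add, ← hm₀, hxz, hE1]
      set r := m₀ + pure x z - pure (cB fB z m₀ + d • x) β - pure x β' with hr
      have hrb : cB fB β r = 0 := by
        rw [hr, map_sub, map_sub, map_add, hE3 x, cB_pure, cB_pure, cB_pure, hz, ββ, h1, zero_smul, zero_smul,
          one_smul]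
        simp
      rw [show m₀ + pure x z - pure (cB fB z m₀ + d • x) β = pure x β' + r by rw [hr]; abel, Matrix.mulVec_add,
        hfix r hrb, ← eq_sub_iff_add_eq] at e1
      rw [e1, hr, hC, ← hm₀, pure_add_left, pure_add_left]
      abel
    obtain ⟨k, hk⟩ := scalar_of_inc hM hS ha hb hex hno hβ hβ0 (C := C) ⟨K, hKM, fun x u => by
      rw [show pure x u = fB.B β u • pure x β' + pure x (u - fB.B β u • β') by
        rw [← pure_smul_right, ← pure_add_right, add_sub_cancel], Matrix.mulVec_add, Matrix.mulVec_smul, hKβ',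
        hfix (pure x (u - fB.B β u • β')) (by
          rw [cB_pure, map_sub, map_smul, h1, smul_eq_mul, mul_one, sub_self, zero_smul])]
      module⟩
    exact ⟨k, fun x => (hC x).symm.trans (hk x)⟩
  obtain ⟨c, hc⟩ := fB.exists_moved
  obtain ⟨k, hk⟩ := main z hz hz'
  obtain ⟨k', hk'⟩ := main (c • z) (by rw [map_smul, hz, smul_zero]) (by rw [map_smul, hz', smul_zero])
  refine ⟨(c * k - k') / (c - fB.σ c), fun x => ?_⟩
  have h3 := hk' x
  rw [pure_smul_right, Matrix.mulVec_smul, ← smul_sub, map_smul, cB_smul] at h3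
  have h4 := hk x
  have hne : c - fB.σ c ≠ 0 := sub_ne_zero.mpr (Ne.symm hc)
  refine smul_right_injective _ hne ?_
  show (c - fB.σ c) • _ = (c - fB.σ c) • _
  rw [smul_smul, mul_div_cancel₀ _ hne]
  linear_combination (norm := module) c • h4 - h3

/-- An element stabilising `A ⊗ β` lies in the Kronecker group. -/
theorem mem_of_stab (hM : Grp fA fB f M) (hno : NoP fA fB f M) {s : GL (Fin a × Fin b) F} (hs : s ∈ M)
    {β : Fin b → F} (hβ : fB.Iso β) (hβ0 : β ≠ 0)
    (hst : ∀ x, ∃ y, (s : Matrix (Fin a × Fin b) (Fin a × Fin b) F) *ᵥ pure x β = pure y β) :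
    s ∈ Cfsg.Geo.kroneckerSubgroup a b F := by
  classical
  obtain ⟨β', hβ', h1⟩ := exists_iso_partner (h := fB) hβ hβ0
  have h2 := swap_one h1
  have ββ : fB.B β β = 0 := hβ
  have hsp := hM.pres s hs
  -- the action on `A ⊗ β`
  let Aα : Matrix (Fin a) (Fin a) F :=
    LinearMap.toMatrix' ((cB fB β').comp ((Matrix.mulVecLin (s : Matrix (Fin a × Fin b) (Fin a × Fin b) F)).comp (left β)))
  have hAα : ∀ x, (s : Matrix (Fin a × Fin b) (Fin a × Fin b) F) *ᵥ pure x β = pure (Aα *ᵥ x) β := by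
    intro x
    obtain ⟨y, hy⟩ := hst x
    rw [show Aα *ᵥ x = cB fB β' ((s : Matrix (Fin a × Fin b) (Fin a × Fin b) F) *ᵥ pure x β) by
      rw [← Matrix.toLin'_apply, Matrix.toLin'_toMatrix']; rfl, hy, cB_pure, h2, one_smul]
  have hAu : IsUnit Aα := by
    rw [← Matrix.mulVec_injective_iff_isUnit]
    intro x y e
    refine pure_left_cancel hβ0 (?_ : pure x β = pure y β)
    have h := congrArg (((s⁻¹ : GL (Fin a × Fin b) F) : Matrix (Fin a × Fin b) (Fin a × Fin b) F) *ᵥ ·)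
      ((hAα x).trans ((congrArg (fun z => pure z β) e).trans (hAα y).symm))
    simpa only [mulVec_inv_mulVec] using h
  set α : GL (Fin a) F := hAu.unit with hα
  have hαv : ∀ x, (s : Matrix (Fin a × Fin b) (Fin a × Fin b) F) *ᵥ pure x β =
      pure ((α : Matrix (Fin a) (Fin a) F) *ᵥ x) β := hAα
  have hsi : ∀ x, ((s⁻¹ : GL (Fin a × Fin b) F) : Matrix (Fin a × Fin b) (Fin a × Fin b) F) *ᵥ pure x β =
      pure (((α⁻¹ : GL (Fin a) F) : Matrix (Fin a) (Fin a) F) *ᵥ x) β := fun x => by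
    have h : (s : Matrix (Fin a × Fin b) (Fin a × Fin b) F) *ᵥ
        pure (((α⁻¹ : GL (Fin a) F) : Matrix (Fin a) (Fin a) F) *ᵥ x) β = pure x β := by
      rw [hαv, mulVec_mulVec_inv]
    conv_lhs => rw [← h, mulVec_inv_mulVec]
  have hrel : ∀ y p, fA.B ((α : Matrix (Fin a) (Fin a) F) *ᵥ y)
      (cB fB β ((s : Matrix (Fin a × Fin b) (Fin a × Fin b) F) *ᵥ p)) = fA.B y (cB fB β p) := fun y p => by
    rw [← B_left hS, ← B_left hS, ← hαv, hsp]
  have hperp_s : ∀ p, cB fB β p = 0 → cB fB β ((s : Matrix (Fin a × Fin b) (Fin a × Fin b) F) *ᵥ p) = 0 := by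
    intro p hp
    refine fA.nondeg.2 _ fun y => ?_
    have h := hrel (((α⁻¹ : GL (Fin a) F) : Matrix (Fin a) (Fin a) F) *ᵥ y) p
    rwa [mulVec_mulVec_inv, hp, map_zero] at h
  have hperp_si : ∀ p, cB fB β p = 0 →
      cB fB β (((s⁻¹ : GL (Fin a × Fin b) F) : Matrix (Fin a × Fin b) (Fin a × Fin b) F) *ᵥ p) = 0 := by
    intro p hp
    refine fA.nondeg.2 _ fun y => ?_
    rw [← hrel, mulVec_mulVec_inv, hp, map_zero]
  let A : (Fin a → F) →ₗ[F] (Fin a → F) := (cB fB β).comp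
    ((Matrix.mulVecLin ((s⁻¹ : GL (Fin a × Fin b) F) : Matrix (Fin a × Fin b) (Fin a × Fin b) F)).comp (left β'))
  have hA : ∀ x, A x = cB fB β (((s⁻¹ : GL (Fin a × Fin b) F) : Matrix (Fin a × Fin b) (Fin a × Fin b) F) *ᵥ pure x β') :=
    fun x => rfl
  obtain ⟨δ, hδ0, hδ⟩ := f.exists_trace_zero
  -- the similitude
  obtain ⟨κ, hκA⟩ : ∃ κ : F, ∀ x, (α : Matrix (Fin a) (Fin a) F) *ᵥ A x = κ • x := by
    set t := T (a := a) β (δ • fB.psi β) (fB.iso_dot hβ δ) with ht
    have hX : s * t * s⁻¹ ∈ M := M.mul_mem (M.mul_mem hs (T_mem hS hM hβ hδ)) (M.inv_mem hs)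
    obtain ⟨k, hk⟩ := scalar_of_inc hM hS ha hb hex hno hβ hβ0
      (C := δ • (Matrix.mulVecLin (α : Matrix (Fin a) (Fin a) F)).comp A) ⟨_, hX, fun x u => by
        have h0 := hperp_si (pure x (u - fB.B β u • β')) (by
          rw [cB_pure, map_sub, map_smul, h1, smul_eq_mul, mul_one, sub_self, zero_smul])
        have hu : pure x u = fB.B β u • pure x β' + pure x (u - fB.B β u • β') := by
          rw [← pure_smul_right, ← pure_add_right, add_sub_cancel]
        rw [mulVec_mul, mulVec_mul, ht, T_apply hβ, Matrix.mulVec_add, Matrix.mulVec_smul, hαv, mulVec_mulVec_inv,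
          LinearMap.smul_apply, LinearMap.comp_apply, Matrix.mulVecLin_apply, hA]
        conv_lhs => rw [hu, Matrix.mulVec_add, map_add, Matrix.mulVec_smul, map_smul, h0, add_zero, Matrix.mulVec_smul,
          ← hu, pure_smul_left]
        rw [pure_smul_left, smul_comm]⟩
    refine ⟨k / δ, fun x => smul_right_injective _ hδ0 ?_⟩
    show δ • _ = δ • _
    rw [smul_smul, mul_div_cancel₀ _ hδ0]
    exact hk x
  have hsim : ∀ y z, fA.B ((α : Matrix (Fin a) (Fin a) F) *ᵥ y) ((α : Matrix (Fin a) (Fin a) F) *ᵥ z) =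
      κ * fA.B y z := by
    intro y z
    have h := hrel y (((s⁻¹ : GL (Fin a × Fin b) F) : Matrix (Fin a × Fin b) (Fin a × Fin b) F) *ᵥ
      pure ((α : Matrix (Fin a) (Fin a) F) *ᵥ z) β')
    rw [mulVec_mulVec_inv, cB_pure, h1, one_smul, ← hA] at h
    have h' := hκA ((α : Matrix (Fin a) (Fin a) F) *ᵥ z)
    rw [← Matrix.mulVec_smul] at h'
    rw [h, Matrix.mulVec_injective_of_isUnit α.isUnit h', map_smul, smul_eq_mul]
  obtain ⟨e, e', he, he', hee'⟩ := exists_pair (h := fA) (by rw [Fintype.card_fin]; exact ha)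
  have he'e := swap_one hee'
  have hκ0 : κ ≠ 0 := by
    intro h0
    have hz : (α : Matrix (Fin a) (Fin a) F) *ᵥ e = 0 := fA.nondeg.1 _ fun x => by
      rw [← mulVec_mulVec_inv α x, hsim, h0, zero_mul]
    have h' := congrArg (((α⁻¹ : GL (Fin a) F) : Matrix (Fin a) (Fin a) F) *ᵥ ·) hz
    simp only [mulVec_inv_mulVec, Matrix.mulVec_zero] at h'
    simp [h'] at hee'
  have hκσ : fA.σ κ = κ := by
    have h := fA.herm ((α : Matrix (Fin a) (Fin a) F) *ᵥ e) ((α : Matrix (Fin a) (Fin a) F) *ᵥ e')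
    rwa [hsim, hsim, hee', he'e, mul_one] at h
  have hκB : fB.σ κ = κ := by rw [hS.sB, ← hS.sA, hκσ]
  set η := fA.σ κ⁻¹ • ((α : Matrix (Fin a) (Fin a) F) *ᵥ e) with hη
  have hη1 : fA.B η ((α : Matrix (Fin a) (Fin a) F) *ᵥ e') = 1 := by
    simp only [hη, LinearMap.map_smulₛₗ, LinearMap.smul_apply, fA.invol, hsim, hee', smul_eq_mul, mul_one]
    exact inv_mul_cancel₀ hκ0
  -- the action on the middle
  let δ' : (Fin b → F) →ₗ[F] (Fin b → F) :=
    (cA fA η).comp ((Matrix.mulVecLin (s : Matrix (Fin a × Fin b) (Fin a × Fin b) F)).comp (right e'))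
  let π : (Fin b → F) →ₗ[F] (Fin b → F) := LinearMap.id - rk fB β' β - rk fB β β'
  have hπ : ∀ u, π u = wproj fB β β' u := fun u => rfl
  have hπ1 : ∀ u, fB.B β (π u) = 0 ∧ fB.B β' (π u) = 0 := fun u => wproj_perp hβ hβ' h1 h2 u
  let D : (Fin b → F) →ₗ[F] (Fin b → F) := π.comp δ'
  have hmid : ∀ y w, fB.B β w = 0 → fB.B β' w = 0 → ∃ t, (s : Matrix (Fin a × Fin b) (Fin a × Fin b) F) *ᵥ pure y w =
      pure ((α : Matrix (Fin a) (Fin a) F) *ᵥ y) (D w) + pure t β := by
    intro y w hw hw'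
    obtain ⟨d, hd⟩ := fB.exists_trace (fB.herm w w)
    set Q := kr ((1 : GL (Fin a) F), heis hβ hw d) with hQ
    have hQM : Q ∈ M := hM.prod _ (preserves_one fA) (heis_preserves hβ hw hd) (one_mem _) (heis_det hβ hw d)
    set Y := s * Q * s⁻¹ with hY
    have hYM : Y ∈ M := M.mul_mem (M.mul_mem hs hQM) (M.inv_mem hs)
    have hQperp : ∀ p, cB fB β p = 0 →
        (Q : Matrix (Fin a × Fin b) (Fin a × Fin b) F) *ᵥ p = p - pure (cB fB w p) β := fun p hp => by
      rw [hQ, kr_heis_mulVec, hp, pure_zero_left, smul_zero, add_zero, add_zero]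
    have hYβ' : ∀ x, (Y : Matrix (Fin a × Fin b) (Fin a × Fin b) F) *ᵥ pure x β' = pure x β' +
        (s : Matrix (Fin a × Fin b) (Fin a × Fin b) F) *ᵥ pure (A x) w -
        pure ((α : Matrix (Fin a) (Fin a) F) *ᵥ (cB fB w (((s⁻¹ : GL (Fin a × Fin b) F) :
          Matrix (Fin a × Fin b) (Fin a × Fin b) F) *ᵥ pure x β') + d • A x)) β := fun x => by
      rw [hY, mulVec_mul, mulVec_mul, hQ, kr_heis_mulVec, ← hA, Matrix.mulVec_sub, Matrix.mulVec_add,
        mulVec_mulVec_inv, hαv]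
    have hL : ∀ z, fB.B β z = 0 → fB.B β' z = 0 → ∃ k : F, ∀ x,
        cB fB z ((s : Matrix (Fin a × Fin b) (Fin a × Fin b) F) *ᵥ pure (A x) w) = k • x := by
      intro z hz hz'
      obtain ⟨k, hk⟩ := scalar_L hS ha hb hex hM hno hβ hβ' h1 Y
        (fun x => by
          rw [hY, mulVec_mul, mulVec_mul, hsi, hQperp _ (by rw [cB_pure, ββ, zero_smul]), cB_pure,
            fB.eq_zero_comm hw, zero_smul, pure_zero_left, sub_zero, hαv, mulVec_mulVec_inv])
        (fun p hp => ⟨-((α : Matrix (Fin a) (Fin a) F) *ᵥ cB fB w (((s⁻¹ : GL (Fin a × Fin b) F) :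
            Matrix (Fin a × Fin b) (Fin a × Fin b) F) *ᵥ p)), by
          rw [hY, mulVec_mul, mulVec_mul, hQperp _ (hperp_si p hp), Matrix.mulVec_sub, mulVec_mulVec_inv, hαv]
          funext q
          simp [Tensor.pure]
          ring⟩)
        (fun x => by
          rw [hYβ', map_sub, map_add, cB_pure, cB_pure, h1, ββ, hperp_s _ (by rw [cB_pure, hw, zero_smul]), one_smul,
            zero_smul, add_zero, sub_zero])
        (fun gh h3 h4 h5 h6 => M.mul_mem (M.mul_mem hYM (hM.prod gh h3 h4 h5 h6)) (M.inv_mem hYM)) z hz hz'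
      refine ⟨k, fun x => ?_⟩
      have := hk x
      rwa [hYβ', map_sub, map_add, cB_pure, cB_pure, fB.eq_zero_comm hz', fB.eq_zero_comm hz, zero_smul, zero_smul,
        zero_add, sub_zero] at this
    refine ⟨cB fB β' ((s : Matrix (Fin a × Fin b) (Fin a × Fin b) F) *ᵥ pure y w -
      pure ((α : Matrix (Fin a) (Fin a) F) *ᵥ y) (D w)), ?_⟩
    rw [← only_beta hβ hβ' h1 h2 (p := (s : Matrix (Fin a × Fin b) (Fin a × Fin b) F) *ᵥ pure y w -
      pure ((α : Matrix (Fin a) (Fin a) F) *ᵥ y) (D w))]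
    · abel
    · rw [map_sub, hperp_s _ (by rw [cB_pure, hw, zero_smul]), cB_pure, show fB.B β (D w) = 0 from (hπ1 _).1,
        zero_smul, sub_zero]
    intro z hz hz'
    obtain ⟨k, hk⟩ := hL z hz hz'
    have hk' : ∀ y, cB fB z ((s : Matrix (Fin a × Fin b) (Fin a × Fin b) F) *ᵥ pure y w) =
        (k / κ) • ((α : Matrix (Fin a) (Fin a) F) *ᵥ y) := by
      intro y
      have h := hk ((α : Matrix (Fin a) (Fin a) F) *ᵥ y)
      have h' := hκA ((α : Matrix (Fin a) (Fin a) F) *ᵥ y)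
      rw [← Matrix.mulVec_smul] at h'
      rw [Matrix.mulVec_injective_of_isUnit α.isUnit h', pure_smul_left, Matrix.mulVec_smul, map_smul] at h
      rw [div_eq_inv_mul, mul_smul, ← h, inv_smul_smul₀ hκ0]
    have hDz : fB.B z (D w) = k / κ := by
      show fB.B z (π (δ' w)) = _
      rw [hπ, wproj, map_sub, map_sub, map_smul, map_smul, fB.eq_zero_comm hz, fB.eq_zero_comm hz', smul_zero,
        smul_zero, sub_zero, sub_zero]
      show fB.B z (cA fA η _) = _
      rw [← B_right hS, B_left hS]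
      show fA.B η (cB fB z ((s : Matrix (Fin a × Fin b) (Fin a × Fin b) F) *ᵥ pure e' w)) = _
      rw [hk', map_smul, hη1, smul_eq_mul, mul_one]
    rw [map_sub, hk', cB_pure, hDz, sub_self]
  have hDiso : ∀ w w', fB.B β w = 0 → fB.B β' w = 0 → fB.B β w' = 0 → fB.B β' w' = 0 →
      κ * fB.B (D w) (D w') = fB.B w w' := by
    intro w w' hw hw' hv hv'
    obtain ⟨t, et⟩ := hmid e w hw hw'
    obtain ⟨t', et'⟩ := hmid e' w' hv hv'
    have h := hsp (pure e w) (pure e' w')
    rw [et, et', hS.form e w e' w', hee', one_mul] at h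
    simp only [map_add, LinearMap.add_apply, hS.form, hsim, hee', mul_one, ββ,
      show fB.B β (D w') = 0 from (hπ1 _).1, fB.eq_zero_comm (show fB.B β (D w) = 0 from (hπ1 _).1), mul_zero,
      add_zero] at h
    exact h
  -- the product element
  let hL : (Fin b → F) →ₗ[F] (Fin b → F) := rk fB β' β + κ⁻¹ • rk fB β β' + D.comp π
  have hLu : ∀ u, hL u = fB.B β' u • β + (κ⁻¹ * fB.B β u) • β' + D (π u) := fun u => by
    simp only [hL, LinearMap.add_apply, LinearMap.smul_apply, rk_apply, LinearMap.comp_apply, smul_smul]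
  have hLiso : ∀ u u', fB.B (hL u) (hL u') = κ⁻¹ * fB.B u u' := by
    intro u u'
    have hd := hDiso (π u) (π u') (hπ1 u).1 (hπ1 u).2 (hπ1 u').1 (hπ1 u').2
    have hexp : fB.B (π u) (π u') =
        fB.B u u' - fB.σ (fB.B β' u) * fB.B β u' - fB.σ (fB.B β u) * fB.B β' u' := by
      rw [hπ u, hπ u', wproj, wproj]
      simp only [map_sub, LinearMap.map_smulₛₗ, LinearMap.sub_apply, LinearMap.smul_apply, map_smul, smul_eq_mul,
        ββ, show fB.B β' β' = 0 from hβ', h1, h2, ← fB.herm β u, ← fB.herm β' u, RingHom.id_apply]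
      ring
    have d1 : ∀ v, fB.B β (D v) = 0 := fun v => (hπ1 _).1
    have d2 : ∀ v, fB.B β' (D v) = 0 := fun v => (hπ1 _).2
    simp only [hLu, map_add, map_mul, map_inv₀, hκB, LinearMap.map_smulₛₗ, LinearMap.add_apply, LinearMap.smul_apply,
      map_smul, smul_eq_mul, ββ, show fB.B β' β' = 0 from hβ', h1, h2, d1, d2, fB.eq_zero_comm (d1 _),
      fB.eq_zero_comm (d2 _), RingHom.id_apply]
    have hi : κ⁻¹ * κ = 1 := inv_mul_cancel₀ hκ0
    linear_combination κ⁻¹ * hd + κ⁻¹ * hexp - fB.B (D (π u)) (D (π u')) * hi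
  have hHv : ∀ u, LinearMap.toMatrix' hL *ᵥ u = hL u := fun u => by
    rw [← Matrix.toLin'_apply, Matrix.toLin'_toMatrix']
  have hHu : IsUnit (LinearMap.toMatrix' hL) := by
    rw [← Matrix.mulVec_injective_iff_isUnit]
    intro u u' h
    rw [← sub_eq_zero]
    refine fB.nondeg.1 _ fun x => ?_
    have h0 := hLiso (u - u') x
    rw [map_sub, ← hHv, ← hHv, h, sub_self, map_zero, LinearMap.zero_apply] at h0
    exact (mul_eq_zero.mp h0.symm).resolve_left (inv_ne_zero hκ0)
  set hB : GL (Fin b) F := hHu.unit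
  have hBv : ∀ u, (hB : Matrix (Fin b) (Fin b) F) *ᵥ u = hL u := hHv
  have hBβ : (hB : Matrix (Fin b) (Fin b) F) *ᵥ β = β := by
    rw [hBv, hLu, h2, ββ, mul_zero, show π β = 0 by rw [hπ, wproj, h2, ββ]; simp, map_zero]
    simp
  set n := kr (α, hB) with hn
  have hnp : f.Preserves n := preserves_of_pure hS fun x u y w => by
    rw [hn, kr_pure, kr_pure, hS.form, hsim, hBv, hBv, hLiso, hS.form]
    field_simp
  have hninv : ∀ x, ((n⁻¹ : GL (Fin a × Fin b) F) : Matrix (Fin a × Fin b) (Fin a × Fin b) F) *ᵥ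
      pure ((α : Matrix (Fin a) (Fin a) F) *ᵥ x) β = pure x β := fun x => by
    conv_lhs => rw [← hBβ]
    rw [← kr_pure (α, hB), ← hn, mulVec_inv_mulVec]
  -- the conjugate group
  let M' : Subgroup (GL (Fin a × Fin b) F) := M.comap (MulAut.conj n).toMonoidHom
  have hM'mem : ∀ g, g ∈ M' ↔ n * g * n⁻¹ ∈ M := fun g => Iff.rfl
  have hM' : Grp fA fB f M' := by
    refine ⟨fun g hg => ?_, fun gh h3 h4 h5 h6 => ?_⟩
    · have := (hnp.inv.mul (hM.pres _ ((hM'mem g).mp hg))).mul hnp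
      rwa [show n⁻¹ * (n * g * n⁻¹) * n = g by group] at this
    · rw [hM'mem, hn, ← map_mul, ← map_inv, ← map_mul]
      refine hM.prod _ (fun u v => ?_) (fun u v => ?_) ?_ ?_
      · show fA.B (((α * gh.1 * α⁻¹ : GL (Fin a) F) : Matrix (Fin a) (Fin a) F) *ᵥ u)
          (((α * gh.1 * α⁻¹ : GL (Fin a) F) : Matrix (Fin a) (Fin a) F) *ᵥ v) = _
        rw [mulVec_mul, mulVec_mul, mulVec_mul, mulVec_mul, hsim, h3]
        conv_rhs => rw [← mulVec_mulVec_inv α u, ← mulVec_mulVec_inv α v, hsim]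
      · show fB.B (((hB * gh.2 * hB⁻¹ : GL (Fin b) F) : Matrix (Fin b) (Fin b) F) *ᵥ u)
          (((hB * gh.2 * hB⁻¹ : GL (Fin b) F) : Matrix (Fin b) (Fin b) F) *ᵥ v) = _
        rw [mulVec_mul, mulVec_mul, mulVec_mul, mulVec_mul, hBv, hBv, hLiso, h4]
        conv_rhs => rw [← mulVec_mulVec_inv hB u, ← mulVec_mulVec_inv hB v, hBv, hBv, hLiso]
      · exact (MonoidHom.normal_ker _).conj_mem _ h5 α
      · exact (MonoidHom.normal_ker _).conj_mem _ h6 hB
  have hno' : NoP fA fB f M' := by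
    intro α₁ β₁ hα₁ hβ₁ hi1 hi2 h
    refine hno ((α : Matrix (Fin a) (Fin a) F) *ᵥ α₁) ((hB : Matrix (Fin b) (Fin b) F) *ᵥ β₁) (fun e0 => hα₁ ?_)
      (fun e0 => hβ₁ ?_) (show fA.B _ _ = 0 by rw [hsim, show fA.B α₁ α₁ = 0 from hi1, mul_zero])
      (show fB.B _ _ = 0 by rw [hBv, hLiso, show fB.B β₁ β₁ = 0 from hi2, mul_zero]) ?_
    · simpa [mulVec_inv_mulVec] using congrArg (((α⁻¹ : GL (Fin a) F) : Matrix (Fin a) (Fin a) F) *ᵥ ·) e0
    · simpa [mulVec_inv_mulVec] using congrArg (((hB⁻¹ : GL (Fin b) F) : Matrix (Fin b) (Fin b) F) *ᵥ ·) e0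
    · obtain ⟨hi, hc⟩ := h
      rw [← kr_pure (α, hB), ← hn]
      refine ⟨(f.iso_mulVec hnp).mpr hi, fun c hct => ?_⟩
      rw [← f.conj_trans hnp _ hi]
      exact (hM'mem _).mp (hc c hct)
  set E := n⁻¹ * s with hE
  have hEp : f.Preserves E := hnp.inv.mul hsp
  have hEconj : ∀ gh : GL (Fin a) F × GL (Fin b) F, fA.Preserves gh.1 → fB.Preserves gh.2 →
      gh.1 ∈ Cfsg.Geo.specialLinear (Fin a) F → gh.2 ∈ Cfsg.Geo.specialLinear (Fin b) F → E * kr gh * E⁻¹ ∈ M' :=
    fun gh h3 h4 h5 h6 => by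
      rw [hM'mem, show n * (E * kr gh * E⁻¹) * n⁻¹ = s * kr gh * s⁻¹ by rw [hE]; group]
      exact M.mul_mem (M.mul_mem hs (hM.prod gh h3 h4 h5 h6)) (M.inv_mem hs)
  have hE1 : ∀ x, (E : Matrix (Fin a × Fin b) (Fin a × Fin b) F) *ᵥ pure x β = pure x β := fun x => by
    rw [hE, mulVec_mul, hαv, hninv]
  have hEcB : ∀ p, cB fB β ((E : Matrix (Fin a × Fin b) (Fin a × Fin b) F) *ᵥ p) = cB fB β p := fun p => by
    refine sub_eq_zero.mp (fA.nondeg.2 _ fun y => ?_)
    rw [map_sub, ← B_left hS, ← B_left hS]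
    conv_lhs => arg 1; rw [← hE1 y, hEp]
    rw [sub_self]
  have hEmid : ∀ y w, fB.B β w = 0 → fB.B β' w = 0 →
      ∃ t, (E : Matrix (Fin a × Fin b) (Fin a × Fin b) F) *ᵥ pure y w = pure y w + pure t β := by
    intro y w hw hw'
    obtain ⟨t, ht⟩ := hmid y w hw hw'
    refine ⟨((α⁻¹ : GL (Fin a) F) : Matrix (Fin a) (Fin a) F) *ᵥ t, ?_⟩
    have h : (n : Matrix (Fin a × Fin b) (Fin a × Fin b) F) *ᵥ
        (pure y w + pure (((α⁻¹ : GL (Fin a) F) : Matrix (Fin a) (Fin a) F) *ᵥ t) β) =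
        (s : Matrix (Fin a × Fin b) (Fin a × Fin b) F) *ᵥ pure y w := by
      rw [hn, Matrix.mulVec_add, kr_pure, kr_pure, hBβ, mulVec_mulVec_inv, ht, hBv, hLu, hw, hw',
        show π w = w by rw [hπ, wproj, hw, hw']; simp]
      simp
    rw [hE, mulVec_mul, ← h, mulVec_inv_mulVec]
  let P0 : (Fin a × Fin b → F) →ₗ[F] (Fin a × Fin b → F) := LinearMap.id - (left β').comp (cB fB β)
  have hP0 : ∀ p, P0 p = p - pure (cB fB β p) β' := fun p => rfl
  have hP0w : ∀ x u, P0 (pure x u) = fB.B β' u • pure x β + pure x (π u) := fun x u => by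
    rw [hP0, cB_pure, hπ, wproj, pure_sub_right, pure_sub_right, pure_smul_right, pure_smul_right, pure_smul_left]
    abel
  have hE2 : ∀ p, cB fB β p = 0 →
      ∃ y, (E : Matrix (Fin a × Fin b) (Fin a × Fin b) F) *ᵥ p = p + pure y β := by
    intro p hp
    refine ⟨cB fB β' ((E : Matrix (Fin a × Fin b) (Fin a × Fin b) F) *ᵥ p - p), ?_⟩
    rw [← only_beta hβ hβ' h1 h2 (p := (E : Matrix (Fin a × Fin b) (Fin a × Fin b) F) *ᵥ p - p)]
    · abel
    · rw [map_sub, hEcB, sub_self]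
    intro z hz hz'
    have h := lext (g := (cB fB z).comp ((Matrix.mulVecLin (E : Matrix (Fin a × Fin b) (Fin a × Fin b) F) -
      LinearMap.id).comp P0)) (g' := (0 : (Fin a × Fin b → F) →ₗ[F] (Fin a → F))) (fun x u => by
      obtain ⟨t, ht⟩ := hEmid x (π u) (hπ1 u).1 (hπ1 u).2
      simp only [LinearMap.comp_apply, LinearMap.sub_apply, Matrix.mulVecLin_apply, LinearMap.id_apply, hP0w,
        Matrix.mulVec_add, Matrix.mulVec_smul, hE1, ht, LinearMap.zero_apply]
      rw [show fB.B β' u • pure x β + (pure x (π u) + pure t β) - (fB.B β' u • pure x β + pure x (π u)) = pure t β by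
        abel, cB_pure, fB.eq_zero_comm hz, zero_smul]) p
    simpa [hP0, hp, pure_zero_left] using h
  have hE3 : ∀ x, cB fB β ((E : Matrix (Fin a × Fin b) (Fin a × Fin b) F) *ᵥ pure x β') = x := fun x => by
    rw [hEcB, cB_pure, h1, one_smul]
  -- removing the linear part
  set w₀ := cA fA e ((E : Matrix (Fin a × Fin b) (Fin a × Fin b) F) *ᵥ pure e' β') with hw₀
  have hlin : ∀ z, fB.B β z = 0 → fB.B β' z = 0 → ∀ x,
      cB fB z ((E : Matrix (Fin a × Fin b) (Fin a × Fin b) F) *ᵥ pure x β') = fB.B z (π w₀) • x := by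
    intro z hz hz' x
    obtain ⟨k, hk⟩ := scalar_L hS ha hb hex hM' hno' hβ hβ' h1 E hE1 hE2 hE3 hEconj z hz hz'
    rw [hk x, hπ, wproj, map_sub, map_sub, map_smul, map_smul, fB.eq_zero_comm hz, fB.eq_zero_comm hz', smul_zero,
      smul_zero, sub_zero, sub_zero, hw₀, ← B_right hS, B_left hS, hk, map_smul, hee', smul_eq_mul, mul_one]
  set m := -(π w₀) with hm
  have hm1 : fB.B β m = 0 := by rw [hm, map_neg, (hπ1 _).1, neg_zero]
  have hm2 : fB.B β' m = 0 := by rw [hm, map_neg, (hπ1 _).2, neg_zero]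
  obtain ⟨d, hd⟩ := fB.exists_trace (fB.herm m m)
  set Qm := kr ((1 : GL (Fin a) F), heis hβ hm1 d) with hQm
  set E₂ := E * Qm with hE₂
  have hE₂p : f.Preserves E₂ := hEp.mul (kr_preserves hS (preserves_one fA) (heis_preserves hβ hm1 hd))
  have hEQ : ∀ p, (E₂ : Matrix (Fin a × Fin b) (Fin a × Fin b) F) *ᵥ p =
      (E : Matrix (Fin a × Fin b) (Fin a × Fin b) F) *ᵥ (p + pure (cB fB β p) m) -
        pure (cB fB m p + d • cB fB β p) β := fun p => by
    rw [hE₂, mulVec_mul, hQm, kr_heis_mulVec, Matrix.mulVec_sub, hE1]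
  have hE₂β : ∀ x, (E₂ : Matrix (Fin a × Fin b) (Fin a × Fin b) F) *ᵥ pure x β = pure x β := fun x => by
    rw [hEQ, cB_pure, cB_pure, ββ, fB.eq_zero_comm hm1]
    simp [pure_zero_left, hE1]
  have hE₂β' : ∀ x, ∃ t, (E₂ : Matrix (Fin a × Fin b) (Fin a × Fin b) F) *ᵥ pure x β' = pure x β' + pure t β := by
    intro x
    refine ⟨cB fB β' ((E₂ : Matrix (Fin a × Fin b) (Fin a × Fin b) F) *ᵥ pure x β' - pure x β'), ?_⟩
    obtain ⟨t, ht⟩ := hEmid x m hm1 hm2
    have hval : (E₂ : Matrix (Fin a × Fin b) (Fin a × Fin b) F) *ᵥ pure x β' - pure x β' =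
        (E : Matrix (Fin a × Fin b) (Fin a × Fin b) F) *ᵥ pure x β' - pure x β' + pure x m + pure (t - d • x) β := by
      rw [hEQ, cB_pure, cB_pure, h1, fB.eq_zero_comm hm2, one_smul, zero_smul, zero_add, Matrix.mulVec_add, ht]
      funext q
      simp [Tensor.pure]
      ring
    rw [← only_beta hβ hβ' h1 h2 (p := (E₂ : Matrix (Fin a × Fin b) (Fin a × Fin b) F) *ᵥ pure x β' - pure x β')]
    · abel
    · rw [hval, map_add, map_add, map_sub, hE3, cB_pure, cB_pure, cB_pure, h1, hm1, ββ, one_smul, zero_smul, zero_smul]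
      simp
    intro z hz hz'
    rw [hval, map_add, map_add, map_sub, hlin z hz hz', cB_pure, cB_pure, cB_pure, fB.eq_zero_comm hz',
      fB.eq_zero_comm hz, hm, map_neg]
    module
  have hE₂fix : ∀ p, cB fB β p = 0 → (E₂ : Matrix (Fin a × Fin b) (Fin a × Fin b) F) *ᵥ p = p := by
    intro p hp
    have key : ∀ x w, fB.B β w = 0 → fB.B β' w = 0 →
        (E₂ : Matrix (Fin a × Fin b) (Fin a × Fin b) F) *ᵥ pure x w = pure x w := by
      intro x w hw hw'
      obtain ⟨t, ht⟩ := hEmid x w hw hw'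
      have e1 : (E₂ : Matrix (Fin a × Fin b) (Fin a × Fin b) F) *ᵥ pure x w =
          pure x w + pure (t - fB.B m w • x) β := by
        rw [hEQ, cB_pure, cB_pure, hw, zero_smul, smul_zero, pure_zero_left, add_zero, add_zero, ht]
        funext q
        simp [Tensor.pure]
        ring
      suffices h : t - fB.B m w • x = 0 by rw [e1, h, pure_zero_left, add_zero]
      refine fA.nondeg.1 _ fun y => ?_
      obtain ⟨t', ht'⟩ := hE₂β' y
      have h := hE₂p (pure x w) (pure y β')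
      rw [e1, ht'] at h
      simp only [map_add, LinearMap.add_apply, hS.form, fB.eq_zero_comm hw, fB.eq_zero_comm hw', ββ, h1, mul_zero,
        add_zero, zero_add, mul_one] at h
      exact h
    have h := lext (g := (Matrix.mulVecLin (E₂ : Matrix (Fin a × Fin b) (Fin a × Fin b) F)).comp P0) (g' := P0)
      (fun x u => by
        rw [LinearMap.comp_apply, hP0w, Matrix.mulVecLin_apply, Matrix.mulVec_add, Matrix.mulVec_smul, hE₂β,
          key _ _ (hπ1 u).1 (hπ1 u).2]) p
    simpa [hP0, hp, pure_zero_left] using h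
  let C : (Fin a → F) →ₗ[F] (Fin a → F) := (cB fB β').comp
    ((Matrix.mulVecLin (E₂ : Matrix (Fin a × Fin b) (Fin a × Fin b) F) - LinearMap.id).comp (left β'))
  have hform : ∀ x u, (E₂ : Matrix (Fin a × Fin b) (Fin a × Fin b) F) *ᵥ pure x u =
      pure x u + fB.B β u • pure (C x) β := by
    intro x u
    obtain ⟨t, ht⟩ := hE₂β' x
    have hCx : C x = t := by
      show cB fB β' ((E₂ : Matrix (Fin a × Fin b) (Fin a × Fin b) F) *ᵥ pure x β' - pure x β') = t
      rw [ht, add_sub_cancel_left, cB_pure, h2, one_smul]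
    rw [hCx, show pure x u = fB.B β u • pure x β' + pure x (u - fB.B β u • β') by
      rw [← pure_smul_right, ← pure_add_right, add_sub_cancel], Matrix.mulVec_add, Matrix.mulVec_smul, ht,
      hE₂fix (pure x (u - fB.B β u • β')) (by
        rw [cB_pure, map_sub, map_smul, h1, smul_eq_mul, mul_one, sub_self, zero_smul])]
    module
  have hskew := skew_of hS hβ h1 h2 hE₂p hform
  have hq : ∀ v, fA.Iso v → fA.B v (C v) = 0 := by
    intro v hv
    have vv : fA.B v v = 0 := hv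
    rcases eq_or_ne v 0 with rfl | hv0
    · rw [map_zero, LinearMap.zero_apply]
    let Dl : F → (Fin a → F) →ₗ[F] (Fin a → F) := fun μ =>
      μ • ((fA.B v).comp C).smulRight v - μ • rk fA v (C v) - (μ * μ * fA.B v (C v)) • rk fA v v
    have hDl : ∀ μ x, Dl μ x =
        (μ * fA.B v (C x)) • v - (μ * fA.B v x) • C v - (μ * μ * fA.B v (C v) * fA.B v x) • v := fun μ x => by
      simp [Dl, rk_apply, smul_smul, mul_assoc]
    have hsc : ∀ μ, μ + fA.σ μ = 0 → ∀ x, Dl μ x = (μ * fA.B v (C v)) • x := by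
      intro μ hμ
      set τ := fA.trans v hv μ with hτ
      have hτs : τ ∈ Cfsg.Geo.specialLinear (Fin a) F := tv_mem_specialLinear _ _ (fA.iso_dot hv μ)
      have hτp : fA.Preserves τ := fA.trans_preserves v hv hμ
      set τk := kr (τ, (1 : GL (Fin b) F)) with hτk
      have hK : E₂ * τk * E₂⁻¹ * τk⁻¹ ∈ M' := by
        refine M'.mul_mem ?_ (M'.inv_mem (hM'.prod (τ, 1) hτp (preserves_one fB) hτs (one_mem _)))
        rw [hE₂, show E * Qm * τk * (E * Qm)⁻¹ = E * (Qm * τk * Qm⁻¹) * E⁻¹ by group,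
          show Qm * τk * Qm⁻¹ = kr (τ, (1 : GL (Fin b) F)) by
            rw [hQm, hτk, ← map_inv, ← map_mul, ← map_mul]; simp]
        exact hEconj (τ, 1) hτp (preserves_one fB) hτs (one_mem _)
      have hinv : ∀ x u, ((E₂⁻¹ : GL (Fin a × Fin b) F) : Matrix (Fin a × Fin b) (Fin a × Fin b) F) *ᵥ pure x u =
          pure x u - fB.B β u • pure (C x) β := by
        intro x u
        have h : (E₂ : Matrix (Fin a × Fin b) (Fin a × Fin b) F) *ᵥ (pure x u - fB.B β u • pure (C x) β) = pure x u := by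
          rw [Matrix.mulVec_sub, Matrix.mulVec_smul, hform, hE₂β, add_sub_cancel_right]
        conv_lhs => rw [← h, mulVec_inv_mulVec]
      obtain ⟨k, hk⟩ := scalar_of_inc hM' hS ha hb hex hno' hβ hβ0 (C := -(Dl μ)) ⟨_, hK, fun x u => by
        have hτi : (τ⁻¹ : GL (Fin a) F) = tv v (-(μ • fA.psi v)) (by
          rw [neg_dotProduct, fA.iso_dot hv, neg_zero]) := tv_inv _ _ _
        rw [mulVec_mul, mulVec_mul, mulVec_mul, hτk, ← map_inv, kr_pure]
        simp only [Prod.fst_inv, Prod.snd_inv, inv_one, Units.val_one, Matrix.one_mulVec]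
        rw [hinv, Matrix.mulVec_sub, Matrix.mulVec_smul, kr_pure, kr_pure, Units.val_one, Matrix.one_mulVec,
          Matrix.one_mulVec, mulVec_mulVec_inv, Matrix.mulVec_sub, Matrix.mulVec_smul, hform, hE₂β, hτi, tv_mulVec,
          neg_dotProduct, smul_dotProduct, fA.psi_dot, smul_eq_mul, hτ, fA.trans_mulVec, LinearMap.neg_apply, hDl]
        simp only [map_add, map_smul, pure_add_left, pure_smul_left, smul_eq_mul]
        rw [show ∀ w : Fin a → F, pure (-w) β = -(pure w β) from fun w => by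
          rw [← neg_one_smul F w, pure_smul_left, neg_one_smul], ]
        funext q
        simp [Tensor.pure]
        ring⟩
      have hkk : k = -(μ * fA.B v (C v)) := by
        have h := hk v
        rw [LinearMap.neg_apply, hDl, vv, mul_zero, mul_zero, zero_smul, zero_smul, sub_zero, sub_zero] at h
        refine smul_left_injective F hv0 ?_
        show k • v = _ • v
        rw [← h, neg_smul]
      intro x
      have h := hk x
      rw [LinearMap.neg_apply, hkk, neg_smul] at h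
      exact neg_injective h
    obtain ⟨μ, hμ0, hμ⟩ := fA.exists_trace_zero
    by_cases ht : ∃ t : F, f.σ t = t ∧ t ≠ 0 ∧ t ≠ 1
    · obtain ⟨t, ht, ht0, ht1⟩ := ht
      obtain ⟨v', -, hvv'⟩ := exists_iso_partner (h := fA) hv hv0
      have ha1 := hsc μ hμ v'
      have ha2 := hsc (t * μ) (by rw [map_mul, show fA.σ t = t by rw [hS.sA, ht]]; linear_combination t * hμ) v'
      rw [hDl, hvv'] at ha1 ha2
      have h3 : (t * (1 - t) * (μ * μ) * fA.B v (C v)) • v = 0 := by
        linear_combination (norm := module) ha2 - t • ha1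
      exact (mul_eq_zero.mp ((smul_eq_zero.mp h3).resolve_right hv0)).resolve_left
        (mul_ne_zero (mul_ne_zero ht0 (sub_ne_zero.mpr (Ne.symm ht1))) (mul_ne_zero hμ0 hμ0))
    · have ha3 : 3 ≤ a := hex.resolve_right ht
      by_contra hg
      have hspan : ∀ x, x ∈ Submodule.span F {v, C v} := fun x => by
        have h := hsc μ hμ x
        rw [hDl] at h
        have hmem : (μ * fA.B v (C v)) • x ∈ Submodule.span F {v, C v} := by
          rw [← h]
          exact Submodule.sub_mem _ (Submodule.sub_mem _ (Submodule.smul_mem _ _ (Submodule.subset_span (by simp)))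
            (Submodule.smul_mem _ _ (Submodule.subset_span (by simp))))
            (Submodule.smul_mem _ _ (Submodule.subset_span (by simp)))
        have h' := Submodule.smul_mem _ (μ * fA.B v (C v))⁻¹ hmem
        rwa [inv_smul_smul₀ (mul_ne_zero hμ0 hg)] at h'
      have h3 := Submodule.finrank_mono (show (⊤ : Submodule F (Fin a → F)) ≤ Submodule.span F {v, C v} from
        fun x _ => hspan x)
      rw [finrank_top, Module.finrank_fin_fun] at h3
      have h7 := finrank_span_finset_le_card (R := F) ({v, C v} : Finset (Fin a → F))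
      rw [Set.finrank, Finset.coe_insert, Finset.coe_singleton] at h7
      have := h7.trans Finset.card_le_two
      omega
  obtain ⟨k, hk⟩ := scalar_of_quad fA (by rw [Fintype.card_fin]; exact ha) hskew hq
  have hE₂N : E₂ ∈ Cfsg.Geo.kroneckerSubgroup a b F := mem_kronecker.mpr
    ⟨((1 : GL (Fin a) F), tv β (k • fB.psi β) (fB.iso_dot hβ k)), Units.ext (eq_of_pure fun x u => by
      rw [hform, hk, kr_pure, Units.val_one, Matrix.one_mulVec, tv_mulVec, smul_dotProduct, fB.psi_dot, smul_eq_mul,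
        pure_add_right, pure_smul_right, pure_smul_left, smul_smul, mul_comm])⟩
  have hse : s = n * E₂ * Qm⁻¹ := by rw [hE₂, hE]; group
  rw [hse]
  exact Subgroup.mul_mem _ (Subgroup.mul_mem _ (mem_kronecker.mpr ⟨_, rfl⟩) hE₂N)
    (Subgroup.inv_mem _ (mem_kronecker.mpr ⟨_, rfl⟩))

end Cfsg.Agent.Lib.ThreeTransp.TensorUni
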