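import Cfsg.Prelude.Def_Amalgam
import Cfsg.Prelude.Def_EvenType
import Cfsg.Agent.Lib.Components.GenFitting
import Cfsg.Agent.Lib.Components.Local
import Cfsg.Agent.Lib.Coprime.PxQ
import Cfsg.Agent.Lib.Cores.PCore
import Cfsg.Agent.Lib.Cores.Residual

/-!
# The Thompson–Wielandt theorem

Two maximal subgroups `H ≠ K` with trivial cores; the iterated cores `a1`, `a2`.
-/

set_option autoImplicit false

namespace Cfsg.Agent.Lib.ThreeTransp.ThompsonWielandt

open Subgroup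
open scoped commutatorElement
open Cfsg.Agent.Lib

variable {G : Type*} [Group G]

/-! ## Normalisers and commutators -/

theorem le_normalizer_of_conj_mem {X Z : Subgroup G}
    (h : ∀ x ∈ X, ∀ z ∈ Z, x * z * x⁻¹ ∈ Z) : X ≤ normalizer (Z : Set G) := by
  intro x hx
  rw [Subgroup.mem_normalizer_iff]
  intro z
  refine ⟨h x hx z, fun hz => ?_⟩
  have := h x⁻¹ (inv_mem hx) _ hz
  simpa [mul_assoc] using this

theorem conj_mem {X Z : Subgroup G} (h : X ≤ normalizer (Z : Set G)) {x z : G} (hx : x ∈ X)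
    (hz : z ∈ Z) : x * z * x⁻¹ ∈ Z :=
  (Subgroup.mem_normalizer_iff.mp (h hx) z).mp hz

theorem le_normalizer_inf {X Y Z : Subgroup G} (h1 : X ≤ normalizer (Y : Set G))
    (h2 : X ≤ normalizer (Z : Set G)) : X ≤ normalizer ((Y ⊓ Z : Subgroup G) : Set G) :=
  le_normalizer_of_conj_mem fun _ hx _ hz => ⟨conj_mem h1 hx hz.1, conj_mem h2 hx hz.2⟩

theorem comm_le_right {A B : Subgroup G} (h : A ≤ normalizer (B : Set G)) : ⁅A, B⁆ ≤ B := by
  rw [Subgroup.commutator_le]
  intro a ha b hb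
  rw [commutatorElement_def]
  exact mul_mem (conj_mem h ha hb) (inv_mem hb)

theorem comm_le_left {A B : Subgroup G} (h : B ≤ normalizer (A : Set G)) : ⁅A, B⁆ ≤ A := by
  rw [Subgroup.commutator_comm]; exact comm_le_right h

theorem sSup_le_normalizer {X : Subgroup G} {s : Set (Subgroup G)}
    (h : ∀ x ∈ X, ∀ L ∈ s, L.map (MulAut.conj x).toMonoidHom ∈ s) :
    X ≤ normalizer ((sSup s : Subgroup G) : Set G) := by
  refine le_normalizer_of_conj_mem fun x hx z hz => ?_
  have : (sSup s).map (MulAut.conj x).toMonoidHom ≤ sSup s := by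
    rw [Subgroup.map_le_iff_le_comap]
    refine sSup_le fun L hL => ?_
    rw [← Subgroup.map_le_iff_le_comap]
    exact le_sSup (h x hx L hL)
  exact this ⟨z, hz, by simp⟩

theorem isPGroup_inf_eq_bot [Finite G] {p q : ℕ} [Fact p.Prime] [Fact q.Prime] (hne : p ≠ q)
    {A B : Subgroup G} (hA : IsPGroup p A) (hB : IsPGroup q B) : A ⊓ B = ⊥ :=
  (IsPGroup.disjoint_of_ne p q hne A B hA hB).eq_bot

theorem eq_bot_of_comm_perfect {L : Subgroup G} (hL : ⁅L, L⁆ = L)
    (hab : ∀ a ∈ L, ∀ b ∈ L, a * b = b * a) : L = ⊥ := by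
  rw [← hL, Subgroup.commutator_eq_bot_iff_le_centralizer]
  intro a ha
  rw [Subgroup.mem_centralizer_iff]
  exact fun b hb => hab b hb a ha

/-! ## Subnormality relative to a subgroup -/

/-- `A` is a subnormal subgroup of `H`. -/
def Sn (A H : Subgroup G) : Prop := A ≤ H ∧ (A.subgroupOf H).IsSubnormal

theorem Sn.of_le_normalizer {A H : Subgroup G} (h : A ≤ H) (hn : H ≤ normalizer (A : Set G)) :
    Sn A H :=
  ⟨h, (Subgroup.normal_subgroupOf_of_le_normalizer hn).isSubnormal⟩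

theorem Sn.trans {A B H : Subgroup G} (h1 : Sn A B) (h2 : Sn B H) : Sn A H := by
  refine ⟨h1.1.trans h2.1, ?_⟩
  refine Subgroup.IsSubnormal.trans (K := B.subgroupOf H) (Subgroup.comap_mono h1.1) ?_ h2.2
  exact Subgroup.IsSubnormal.comap (subgroupOfEquivOfLe h2.1).toMonoidHom h1.2

theorem Sn.restrict {A B H : Subgroup G} (h : Sn A H) (hAB : A ≤ B) (hBH : B ≤ H) : Sn A B :=
  ⟨hAB, Subgroup.IsSubnormal.comap (Subgroup.inclusion hBH) h.2⟩

/-- `O_p(H)` for a subgroup `H`. -/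
local notation "Op" => Cfsg.pCoreOf

theorem Op_le (p : ℕ) (H : Subgroup G) : Op p H ≤ H := Subgroup.map_subtype_le _

theorem Op_isPGroup [Finite G] (p : ℕ) (H : Subgroup G) : IsPGroup p (Op p H : Subgroup G) :=
  (Cores.pCore_isPGroup p ↥H).map _

theorem le_normalizer_Op [Finite G] (p : ℕ) (H : Subgroup G) :
    H ≤ normalizer ((Op p H : Subgroup G) : Set G) := by
  refine le_normalizer_of_conj_mem fun x hx z hz => ?_
  obtain ⟨z', hz', rfl⟩ := hz
  exact ⟨⟨x, hx⟩ * z' * ⟨x, hx⟩⁻¹,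
    (inferInstance : (Cfsg.pCore p ↥H).Normal).conj_mem z' hz' _, rfl⟩

theorem Op_sn [Finite G] (p : ℕ) (H : Subgroup G) : Sn (Op p H) H :=
  Sn.of_le_normalizer (Op_le p H) (le_normalizer_Op p H)

theorem le_Op_of_sn [Finite G] {p : ℕ} {A H : Subgroup G} (h : Sn A H) (hp : IsPGroup p A) :
    A ≤ Op p H := by
  intro x hx
  exact ⟨⟨x, h.1 hx⟩, Cores.le_pCore_of_isSubnormal h.2
    (hp.of_equiv (subgroupOfEquivOfLe h.1).symm) hx, rfl⟩

theorem Op_eq_bot_iff {p : ℕ} {H : Subgroup G} : Op p H = ⊥ ↔ Cfsg.pCore p ↥H = ⊥ :=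
  Subgroup.map_eq_bot_iff_of_injective _ H.subtype_injective

theorem comm_Op_Op [Finite G] {p q : ℕ} [Fact p.Prime] [Fact q.Prime] (hne : p ≠ q)
    (H : Subgroup G) : ⁅(Op p H : Subgroup G), (Op q H : Subgroup G)⁆ = ⊥ := by
  rw [eq_bot_iff, ← isPGroup_inf_eq_bot hne (Op_isPGroup p H) (Op_isPGroup q H)]
  exact le_inf (comm_le_left ((Op_le q H).trans (le_normalizer_Op p H)))
    (comm_le_right ((Op_le p H).trans (le_normalizer_Op q H)))

/-! ## Components relative to a subgroup -/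

theorem comp_of_restrict [Finite G] {L A H : Subgroup G} (hL : Cfsg.IsComponentOf L H)
    (hLA : L ≤ A) (hAH : A ≤ H) : Cfsg.IsComponentOf L A := by
  refine ⟨hLA, ?_⟩
  have h2 : IsComponent ((L.subgroupOf H).subgroupOf (A.subgroupOf H)) :=
    Components.IsComponent.subgroupOf hL.2 (Subgroup.comap_mono hLA)
  have h3 := Components.IsComponent.map_mulEquiv (subgroupOfEquivOfLe hAH) h2
  convert h3 using 1
  ext x
  constructor
  · intro hx
    exact ⟨(subgroupOfEquivOfLe hAH).symm x, hx, MulEquiv.apply_symm_apply _ x⟩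
  · rintro ⟨y, hy, rfl⟩
    exact hy

theorem comp_trans [Finite G] {L A H : Subgroup G} (hL : Cfsg.IsComponentOf L A) (hA : Sn A H) :
    Cfsg.IsComponentOf L H := by
  refine ⟨hL.1.trans hA.1, ?_⟩
  have h1 := Components.IsComponent.map_mulEquiv (subgroupOfEquivOfLe hA.1).symm hL.2
  have h2 := Components.IsComponent.map_subtype hA.2 h1
  convert h2 using 1
  ext x
  constructor
  · intro hx
    exact ⟨⟨x, hL.1 hx⟩, ⟨⟨(x : G), hL.1 hx⟩, hx, rfl⟩, rfl⟩
  · rintro ⟨y, ⟨z, hz, rfl⟩, rfl⟩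
    exact hz

theorem comm_eq_bot_of_subgroupOf {A B H : Subgroup G} (hA : A ≤ H) (hB : B ≤ H)
    (h : ⁅A.subgroupOf H, B.subgroupOf H⁆ = ⊥) : ⁅A, B⁆ = ⊥ := by
  have := congrArg (Subgroup.map H.subtype) h
  rwa [map_commutator, map_subgroupOf_eq_of_le hA, map_subgroupOf_eq_of_le hB,
    Subgroup.map_bot] at this

theorem comp_le_or_comm [Finite G] {L A H : Subgroup G} (hL : Cfsg.IsComponentOf L H)
    (hA : Sn A H) : L ≤ A ∨ ⁅L, A⁆ = ⊥ := by
  rcases Components.IsComponent.le_or_commutator_eq_bot hL.2 hA.2 with h | h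
  · exact Or.inl fun x hx => h (x := (⟨x, hL.1 hx⟩ : ↥H)) hx
  · exact Or.inr (comm_eq_bot_of_subgroupOf hL.1 hA.1 h)

theorem comp_comm_of_ne [Finite G] {L M H : Subgroup G} (hL : Cfsg.IsComponentOf L H)
    (hM : Cfsg.IsComponentOf M H) (hne : L ≠ M) : ⁅L, M⁆ = ⊥ := by
  refine comm_eq_bot_of_subgroupOf hL.1 hM.1
    (Components.IsComponent.commutator_eq_bot_of_ne hL.2 hM.2 fun h => hne ?_)
  rw [← map_subgroupOf_eq_of_le hL.1, ← map_subgroupOf_eq_of_le hM.1, h]

theorem comp_comm_of_pGroup [Finite G] {p : ℕ} [Fact p.Prime] {L R H : Subgroup G}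
    (hL : Cfsg.IsComponentOf L H) (hR : R ≤ H) (hn : L ≤ normalizer (R : Set G))
    (hp : IsPGroup p R) : ⁅L, R⁆ = ⊥ := by
  refine comm_eq_bot_of_subgroupOf hL.1 hR ?_
  refine Components.IsComponent.commutator_eq_bot_of_solvable hL.2 ?_ ?_
  · have := (hp.of_equiv (subgroupOfEquivOfLe hR).symm).isNilpotent
    exact IsNilpotent.to_isSolvable
  · exact le_normalizer_of_conj_mem fun x hx z hz => conj_mem hn hx hz

theorem comp_comm_Op [Finite G] (p : ℕ) [Fact p.Prime] {L H : Subgroup G}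
    (hL : Cfsg.IsComponentOf L H) : ⁅L, (Op p H : Subgroup G)⁆ = ⊥ :=
  comp_comm_of_pGroup hL (Op_le p H) (hL.1.trans (le_normalizer_Op p H)) (Op_isPGroup p H)

theorem comp_perfect [Finite G] {L H : Subgroup G} (hL : Cfsg.IsComponentOf L H) :
    ⁅L, L⁆ = L := by
  have := congrArg (Subgroup.map H.subtype) (Components.IsComponent.commutator_self hL.2)
  rwa [map_commutator, map_subgroupOf_eq_of_le hL.1] at this

theorem comp_ne_bot [Finite G] {L H : Subgroup G} (hL : Cfsg.IsComponentOf L H) : L ≠ ⊥ := by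
  intro h
  apply Components.IsComponent.ne_bot hL.2
  rw [h, bot_subgroupOf]

theorem comp_map_conj [Finite G] {L H : Subgroup G} (hL : Cfsg.IsComponentOf L H) {g : G}
    (hg : g ∈ H) : Cfsg.IsComponentOf (L.map (MulAut.conj g).toMonoidHom) H := by
  have hle : L.map (MulAut.conj g).toMonoidHom ≤ H := by
    rintro _ ⟨x, hx, rfl⟩
    exact mul_mem (mul_mem hg (hL.1 hx)) (inv_mem hg)
  refine ⟨hle, ?_⟩
  convert Components.IsComponent.map_conj hL.2 (⟨g, hg⟩ : ↥H) using 1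
  ext x
  constructor
  · rintro ⟨y, hy, hxy⟩
    exact ⟨⟨y, hL.1 hy⟩, hy, Subtype.ext hxy⟩
  · rintro ⟨y, hy, rfl⟩
    exact ⟨y, hy, rfl⟩

/-- A subgroup of `H` centralising all components and all `O_q(H)` is abelian. -/
theorem comm_of_centralize [Finite G] {A H : Subgroup G} (hA : A ≤ H)
    (hc : ∀ L, Cfsg.IsComponentOf L H → ⁅L, A⁆ = ⊥)
    (hf : ∀ q : ℕ, q.Prime → ⁅(Op q H : Subgroup G), A⁆ = ⊥) :
    ∀ a ∈ A, ∀ b ∈ A, a * b = b * a := by
  have hC : A.subgroupOf H ≤ centralizer (generalizedFittingSubgroup ↥H : Set ↥H) := by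
    rw [Subgroup.le_centralizer_iff]
    refine sup_le (sSup_le fun L hL => ?_) (Components.fittingSubgroup_le_iSup_pCore.trans
      (iSup_le fun q => ?_))
    · rw [← Subgroup.commutator_eq_bot_iff_le_centralizer]
      apply Subgroup.map_injective H.subtype_injective
      rw [map_commutator, map_subgroupOf_eq_of_le hA, Subgroup.map_bot]
      refine hc _ ⟨map_subtype_le L, ?_⟩
      rwa [show (L.map H.subtype).subgroupOf H = L from
        Subgroup.comap_map_eq_self_of_injective H.subtype_injective L]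
    · rw [← Subgroup.commutator_eq_bot_iff_le_centralizer]
      apply Subgroup.map_injective H.subtype_injective
      rw [map_commutator, map_subgroupOf_eq_of_le hA, Subgroup.map_bot]
      exact hf q q.2
  intro a ha b hb
  have h1 : (⟨a, hA ha⟩ : ↥H) ∈ generalizedFittingSubgroup ↥H :=
    Components.fitting_le_genFitting
      (Components.centralizer_genFitting_le_fittingSubgroup (hC ha))
  exact congrArg Subtype.val (Subgroup.mem_centralizer_iff.mp (hC (x := ⟨b, hA hb⟩) hb) _ h1)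

theorem genFitting_eq_pCore [Finite G] {p : ℕ} [Fact p.Prime] {A : Subgroup G}
    (hc : ∀ L, ¬ Cfsg.IsComponentOf L A)
    (hq : ∀ q : ℕ, q.Prime → q ≠ p → Op q A = ⊥) :
    generalizedFittingSubgroup ↥A = Cfsg.pCore p ↥A := by
  refine le_antisymm (sup_le (sSup_le fun L hL => ?_)
    (Components.fittingSubgroup_le_iSup_pCore.trans (iSup_le fun q => ?_))) ?_
  · refine absurd ⟨map_subtype_le L, ?_⟩ (hc (L.map A.subtype))
    rwa [show (L.map A.subtype).subgroupOf A = L from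
      Subgroup.comap_map_eq_self_of_injective A.subtype_injective L]
  · rcases eq_or_ne (q : ℕ) p with h | h
    · rw [h]
    · rw [Op_eq_bot_iff.mp (hq q q.2 h)]; exact bot_le
  · exact (Components.pCore_le_fittingSubgroup p).trans Components.fitting_le_genFitting

/-! ## The iterated cores -/

/-- The core in `H` of `Y`. -/
def hcore (H Y : Subgroup G) : Subgroup G := (Y.subgroupOf H).normalCore.map H.subtype

theorem mem_hcore {H Y : Subgroup G} {x : G} :
    x ∈ hcore H Y ↔ x ∈ H ∧ ∀ h ∈ H, h * x * h⁻¹ ∈ Y := by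
  constructor
  · rintro ⟨y, hy, rfl⟩
    exact ⟨y.2, fun h hh => hy ⟨h, hh⟩⟩
  · rintro ⟨hx, hY⟩
    exact ⟨⟨x, hx⟩, fun h => hY h h.2, rfl⟩

theorem hcore_le_left (H Y : Subgroup G) : hcore H Y ≤ H := fun _ hx => (mem_hcore.mp hx).1

theorem hcore_le_right (H Y : Subgroup G) : hcore H Y ≤ Y := fun x hx => by
  simpa using (mem_hcore.mp hx).2 1 (one_mem H)

theorem le_normalizer_hcore (H Y : Subgroup G) : H ≤ normalizer (hcore H Y : Set G) := by
  refine le_normalizer_of_conj_mem fun x hx z hz => ?_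
  rw [mem_hcore] at hz ⊢
  refine ⟨mul_mem (mul_mem hx hz.1) (inv_mem hx), fun h hh => ?_⟩
  simpa [mul_assoc] using hz.2 (h * x) (mul_mem hh hx)

theorem le_hcore {H Y Z : Subgroup G} (h1 : Z ≤ H) (h2 : Z ≤ Y)
    (h3 : H ≤ normalizer (Z : Set G)) : Z ≤ hcore H Y :=
  fun _ hz => mem_hcore.mpr ⟨h1 hz, fun _ hh => h2 (conj_mem h3 hh hz)⟩

/-- The first core. -/
def a1 (H K : Subgroup G) : Subgroup G := hcore H (H ⊓ K)

/-- The second core. -/
def a2 (H K : Subgroup G) : Subgroup G := hcore H (a1 H K ⊓ a1 K H)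

theorem a1_le_left (H K : Subgroup G) : a1 H K ≤ H := hcore_le_left _ _

theorem a1_le_right (H K : Subgroup G) : a1 H K ≤ K := (hcore_le_right _ _).trans inf_le_right

theorem a1_sn (H K : Subgroup G) : Sn (a1 H K) H :=
  Sn.of_le_normalizer (a1_le_left H K) (le_normalizer_hcore _ _)

theorem le_a1 {H K Z : Subgroup G} (h1 : Z ≤ H) (h2 : Z ≤ K)
    (h3 : H ≤ normalizer (Z : Set G)) : Z ≤ a1 H K :=
  le_hcore h1 (le_inf h1 h2) h3

theorem a1_le_normalizer (H K : Subgroup G) : a1 H K ≤ normalizer (a1 K H : Set G) :=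
  (a1_le_right H K).trans (le_normalizer_hcore _ _)

theorem D_sn (H K : Subgroup G) : Sn (a1 H K ⊓ a1 K H) H :=
  (Sn.of_le_normalizer inf_le_left
    (le_normalizer_inf le_normalizer (a1_le_normalizer H K))).trans (a1_sn H K)

theorem D_sn' (H K : Subgroup G) : Sn (a1 H K ⊓ a1 K H) K := by
  rw [inf_comm]; exact D_sn K H

theorem a2_le_left (H K : Subgroup G) : a2 H K ≤ H := hcore_le_left _ _

theorem a2_le_D (H K : Subgroup G) : a2 H K ≤ a1 H K ⊓ a1 K H := hcore_le_right _ _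

theorem a2_le_a1' (H K : Subgroup G) : a2 H K ≤ a1 K H := (a2_le_D H K).trans inf_le_right

theorem le_normalizer_a2 (H K : Subgroup G) : H ≤ normalizer (a2 H K : Set G) :=
  le_normalizer_hcore _ _

theorem a2_sn (H K : Subgroup G) : Sn (a2 H K) H :=
  Sn.of_le_normalizer (a2_le_left H K) (le_normalizer_a2 H K)

theorem a2_sn' (H K : Subgroup G) : Sn (a2 H K) K :=
  (Sn.of_le_normalizer (a2_le_a1' H K)
    ((a1_le_right K H).trans (le_normalizer_a2 H K))).trans (a1_sn K H)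

/-- `a2(H,K) ∩ O_r(H)`. -/
def U (r : ℕ) (H K : Subgroup G) : Subgroup G := a2 H K ⊓ Op r H

theorem U_le_left (r : ℕ) (H K : Subgroup G) : U r H K ≤ H :=
  inf_le_left.trans (a2_le_left H K)

theorem le_normalizer_U [Finite G] (r : ℕ) (H K : Subgroup G) :
    H ≤ normalizer (U r H K : Set G) :=
  le_normalizer_inf (le_normalizer_a2 H K) (le_normalizer_Op r H)

theorem U_le_Op' [Finite G] (r : ℕ) (H K : Subgroup G) : U r H K ≤ Op r K := by
  refine le_Op_of_sn ((Sn.of_le_normalizer inf_le_left ?_).trans (a2_sn' H K))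
    ((Op_isPGroup r H).to_le inf_le_right)
  exact (a2_le_left H K).trans (le_normalizer_U r H K)

theorem U_le_Op [Finite G] (r : ℕ) (H K : Subgroup G) : U r H K ≤ Op r H := inf_le_right

/-- The standing hypotheses. -/
structure Ctx (H K : Subgroup G) : Prop where
  maxH : IsCoatom H
  maxK : IsCoatom K
  ne : H ≠ K
  coreH : H.normalCore = ⊥
  coreK : K.normalCore = ⊥

variable {H K : Subgroup G}

theorem Ctx.symm (c : Ctx H K) : Ctx K H := ⟨c.maxK, c.maxH, c.ne.symm, c.coreK, c.coreH⟩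

theorem Ctx.normalizer_le (c : Ctx H K) {Z : Subgroup G} (hne : Z ≠ ⊥) (hle : Z ≤ H)
    (hn : H ≤ normalizer (Z : Set G)) : normalizer (Z : Set G) ≤ H := by
  by_contra hnot
  have hlt : H < normalizer (Z : Set G) := lt_of_le_not_ge hn hnot
  have hnorm : Z.Normal := Subgroup.normalizer_eq_top_iff.mp (c.maxH.2 _ hlt)
  exact hne (le_bot_iff.mp (c.coreH ▸ (Subgroup.normal_le_normalCore (H := H)).mpr hle))

theorem Ctx.le_of_centralize (c : Ctx H K) {Z A : Subgroup G} (hne : Z ≠ ⊥) (hle : Z ≤ H)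
    (hn : H ≤ normalizer (Z : Set G)) (h : ⁅A, Z⁆ = ⊥) : A ≤ H :=
  ((Subgroup.commutator_eq_bot_iff_le_centralizer.mp h).trans
    (Subgroup.centralizer_le_normalizer _)).trans (c.normalizer_le hne hle hn)

theorem Ctx.eq_bot_of_normalized (c : Ctx H K) {Z : Subgroup G} (hle : Z ≤ H)
    (hH : H ≤ normalizer (Z : Set G)) (hK : K ≤ normalizer (Z : Set G)) : Z = ⊥ := by
  by_contra hne
  have hKH : K ≤ H := hK.trans (c.normalizer_le hne hle hH)
  exact c.maxH.1 (c.maxK.2 H (lt_of_le_of_ne hKH c.ne.symm))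

/-! ## First consequences of `a2 ≠ ⊥` -/

theorem exists_U_ne_bot [Finite G] (ha : a2 H K ≠ ⊥)
    (hc : ∀ L, Cfsg.IsComponentOf L H → ¬ L ≤ a2 H K) : ∃ r : ℕ, r.Prime ∧ U r H K ≠ ⊥ := by
  by_contra hno
  simp only [not_exists, not_and, not_not] at hno
  have hab := comm_of_centralize (a2_le_left H K)
    (fun L hL => (comp_le_or_comm hL (a2_sn H K)).resolve_left (hc L hL))
    (fun q hq => by
      rw [eq_bot_iff, ← hno q hq]
      exact le_inf (comm_le_right ((Op_le q H).trans (le_normalizer_a2 H K)))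
        (comm_le_left ((a2_le_left H K).trans (le_normalizer_Op q H))))
  obtain ⟨r, hr, hdvd⟩ := Nat.exists_prime_and_dvd
    (fun h : Nat.card ↥(a2 H K) = 1 => ha (Subgroup.card_eq_one.mp h))
  have : Fact r.Prime := ⟨hr⟩
  obtain ⟨x, hx⟩ := exists_prime_orderOf_dvd_card' r hdvd
  have hxo : orderOf (x : G) = r := by rwa [Subgroup.orderOf_coe]
  have hle : zpowers (x : G) ≤ a2 H K := Subgroup.zpowers_le.mpr x.2
  have hsn : Sn (zpowers (x : G)) H := by
    refine (Sn.of_le_normalizer hle ?_).trans (a2_sn H K)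
    refine le_normalizer_of_conj_mem fun a ha z hz => ?_
    rwa [hab a ha z (hle hz), mul_inv_cancel_right]
  have hp : IsPGroup r (zpowers (x : G)) :=
    IsPGroup.of_card (n := 1) (by rw [Nat.card_zpowers, hxo, pow_one])
  have : (x : G) ∈ U r H K := ⟨x.2, le_Op_of_sn hsn hp (mem_zpowers _)⟩
  rw [hno r hr, Subgroup.mem_bot] at this
  rw [this, orderOf_one] at hxo
  exact hr.one_lt.ne hxo

theorem Ctx.le_of_comp_in_a2 [Finite G] (c : Ctx H K)
    (h : ∃ L, Cfsg.IsComponentOf L H ∧ L ≤ a2 H K) :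
    (∀ L, Cfsg.IsComponentOf L K → L ≤ H) ∧ ∀ q : ℕ, q.Prime → Op q K ≤ H := by
  set s := {L : Subgroup G | Cfsg.IsComponentOf L H ∧ L ≤ a2 H K}
  obtain ⟨L₀, hL₀⟩ := h
  have hWne : sSup s ≠ ⊥ := fun h0 =>
    comp_ne_bot hL₀.1 (le_bot_iff.mp (h0 ▸ le_sSup (show L₀ ∈ s from hL₀)))
  have hWle : sSup s ≤ H := sSup_le fun L hL => hL.1.1
  have hWn : H ≤ normalizer ((sSup s : Subgroup G) : Set G) := by
    refine sSup_le_normalizer fun g hg L hL => ⟨comp_map_conj hL.1 hg, ?_⟩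
    rintro _ ⟨y, hy, rfl⟩
    exact conj_mem (le_normalizer_a2 H K) hg (hL.2 hy)
  have hcK : ∀ L ∈ s, Cfsg.IsComponentOf L K := fun L hL =>
    comp_trans (comp_of_restrict hL.1 hL.2 (a2_le_left H K)) (a2_sn' H K)
  have key : ∀ X : Subgroup G, (∀ L ∈ s, X ≤ normalizer (L : Set G)) → X ≤ H := by
    intro X hX
    refine le_trans (sSup_le_normalizer fun x hx L hL => ?_) (c.normalizer_le hWne hWle hWn)
    rwa [Components.mem_normalizer_iff_map_conj.mp (hX L hL hx)]
  refine ⟨fun M hM => key M fun L hL => ?_, fun q hq => key _ fun L hL => ?_⟩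
  · rcases eq_or_ne M L with rfl | hne
    · exact le_normalizer
    · exact (Subgroup.commutator_eq_bot_iff_le_centralizer.mp
        (comp_comm_of_ne hM (hcK L hL) hne)).trans (centralizer_le_normalizer _)
  · have : Fact q.Prime := ⟨hq⟩
    exact (Subgroup.commutator_eq_bot_iff_le_centralizer.mp
      (by rw [Subgroup.commutator_comm]; exact comp_comm_Op q (hcK L hL))).trans
        (centralizer_le_normalizer _)

theorem Ctx.of_U [Finite G] (c : Ctx H K) {r : ℕ} [Fact r.Prime] (hU : U r H K ≠ ⊥) :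
    (∀ L, Cfsg.IsComponentOf L K → L ≤ H) ∧ ∀ q : ℕ, q.Prime → q ≠ r → Op q K ≤ H := by
  have key : ∀ X : Subgroup G, ⁅X, (Op r K : Subgroup G)⁆ = ⊥ → X ≤ H := fun X hX =>
    c.le_of_centralize hU (U_le_left r H K) (le_normalizer_U r H K)
      (le_bot_iff.mp (hX ▸ Subgroup.commutator_mono le_rfl (U_le_Op' r H K)))
  refine ⟨fun L hL => key L (comp_comm_Op r hL), fun q hq hne => key _ ?_⟩
  have : Fact q.Prime := ⟨hq⟩
  exact comm_Op_Op hne K

theorem Ctx.comp_le [Finite G] (c : Ctx H K) (ha : a2 H K ≠ ⊥) :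
    ∀ L, Cfsg.IsComponentOf L K → L ≤ H := by
  by_cases h : ∃ L, Cfsg.IsComponentOf L H ∧ L ≤ a2 H K
  · exact (c.le_of_comp_in_a2 h).1
  · obtain ⟨r, hr, hU⟩ := exists_U_ne_bot ha fun L hL hle => h ⟨L, hL, hle⟩
    have : Fact r.Prime := ⟨hr⟩
    exact (c.of_U hU).1

theorem comp_le_a1 [Finite G] (h : ∀ L, Cfsg.IsComponentOf L K → L ≤ H) {L : Subgroup G}
    (hL : Cfsg.IsComponentOf L K) : L ≤ a1 K H := by
  refine (le_sSup (show L ∈ {M | Cfsg.IsComponentOf M K} from hL)).trans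
    (le_a1 (sSup_le fun M hM => hM.1) (sSup_le fun M hM => h M hM) ?_)
  exact sSup_le_normalizer fun g hg M hM => comp_map_conj hM hg

theorem Op_le_a1 [Finite G] {q : ℕ} (h : Op q K ≤ H) : Op q K ≤ a1 K H :=
  le_a1 (Op_le q K) h (le_normalizer_Op q K)

/-! ## The `P × Q` step -/

theorem coprime_elt_mem_centralizer [Finite G] {p : ℕ} [Fact p.Prime] {U Q : Subgroup G}
    (hU : U ≤ Op p H) (hCU : Subgroup.centralizer (U : Set G) ≤ K) (hQH : Q ≤ H)
    (hUQ : ⁅U, Q⁆ = ⊥) (hR : ⁅(Op p H ⊓ K : Subgroup G), Q⁆ = ⊥) {x : G} (hx : x ∈ Q)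
    (ho : (orderOf x).Coprime p) : x ∈ Subgroup.centralizer ((Op p H : Subgroup G) : Set G) := by
  refine Coprime.le_centralizer_of_PxQ (P := U) (Q := zpowers x) ((Op_isPGroup p H).to_le hU)
    (by rwa [Nat.card_zpowers]) (Op_isPGroup p H) ?_
    (hU.trans le_normalizer) ?_ ?_ (mem_zpowers x)
  · rw [Subgroup.le_centralizer_iff, zpowers_le]
    exact Subgroup.le_centralizer_iff.mp (Subgroup.commutator_eq_bot_iff_le_centralizer.mp hUQ) hx
  · rw [zpowers_le]; exact le_normalizer_Op p H (hQH hx)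
  · rw [Subgroup.le_centralizer_iff, zpowers_le]
    refine Subgroup.centralizer_le ?_
      (Subgroup.le_centralizer_iff.mp (Subgroup.commutator_eq_bot_iff_le_centralizer.mp hR) hx)
    exact fun y hy => ⟨hy.1, hCU hy.2⟩

theorem le_a1_of_centralize [Finite G] {p : ℕ} {U Q : Subgroup G} (hU : U ≤ Op p H)
    (hCU : Subgroup.centralizer (U : Set G) ≤ K) (hQH : Q ≤ H)
    (hQ : Q ≤ Subgroup.centralizer ((Op p H : Subgroup G) : Set G)) : Q ≤ a1 H K := by
  refine le_trans (le_inf hQH hQ) (le_a1 inf_le_left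
    (inf_le_right.trans ((Subgroup.centralizer_le hU).trans hCU)) (le_normalizer_inf le_normalizer ?_))
  refine le_normalizer_of_conj_mem fun h hh z hz => ?_
  rw [Subgroup.mem_centralizer_iff] at hz ⊢
  intro y hy
  have h1 := conj_mem (le_normalizer_Op p H) (inv_mem hh) hy
  have h2 := hz _ h1
  rw [inv_inv] at h2
  calc y * (h * z * h⁻¹) = h * (h⁻¹ * y * h * z) * h⁻¹ := by group
    _ = h * (z * (h⁻¹ * y * h)) * h⁻¹ := by rw [h2]
    _ = h * z * h⁻¹ * y := by group

theorem pq_comp [Finite G] {p : ℕ} [Fact p.Prime] {U L : Subgroup G} (hU : U ≤ Op p H)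
    (hCU : Subgroup.centralizer (U : Set G) ≤ K) (hL : Cfsg.IsComponentOf L K) (hLH : L ≤ H)
    (hUL : ⁅U, L⁆ = ⊥) : L ≤ a1 H K := by
  have hR : ⁅(Op p H ⊓ K : Subgroup G), L⁆ = ⊥ := by
    rw [Subgroup.commutator_comm]
    exact comp_comm_of_pGroup hL inf_le_right
      (le_normalizer_inf (hLH.trans (le_normalizer_Op p H)) (hL.1.trans le_normalizer))
      ((Op_isPGroup p H).to_le inf_le_left)
  exact le_a1_of_centralize hU hCU hLH (Components.le_of_forall_coprime_mem (p := p)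
    (comp_perfect hL) fun x hx ho => coprime_elt_mem_centralizer hU hCU hLH hUL hR hx ho)

theorem pq_group [Finite G] {p q : ℕ} [Fact p.Prime] [Fact q.Prime] (hne : q ≠ p)
    {U Q : Subgroup G} (hU : U ≤ Op p H) (hCU : Subgroup.centralizer (U : Set G) ≤ K)
    (hQH : Q ≤ H) (hQn : K ≤ normalizer (Q : Set G)) (hQq : IsPGroup q Q) (hUQ : ⁅U, Q⁆ = ⊥) :
    Q ≤ a1 H K ∧ Q ≤ Subgroup.centralizer ((Op p H : Subgroup G) : Set G) := by
  have hR : ⁅(Op p H ⊓ K : Subgroup G), Q⁆ = ⊥ := by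
    rw [eq_bot_iff, ← isPGroup_inf_eq_bot hne.symm (Op_isPGroup p H) hQq]
    refine le_inf ?_ (comm_le_right (inf_le_right.trans hQn))
    exact (Subgroup.commutator_mono inf_le_left le_rfl).trans
      (comm_le_left (hQH.trans (le_normalizer_Op p H)))
  have hc : Q ≤ Subgroup.centralizer ((Op p H : Subgroup G) : Set G) := by
    intro x hx
    refine coprime_elt_mem_centralizer hU hCU hQH hUQ hR hx ?_
    obtain ⟨n, hn⟩ := IsPGroup.iff_orderOf.mp hQq ⟨x, hx⟩
    rw [Subgroup.orderOf_mk] at hn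
    rw [hn]
    exact ((Nat.coprime_primes Fact.out Fact.out).mpr hne).pow_left n
  exact ⟨le_a1_of_centralize hU hCU hQH hc, hc⟩

theorem Ctx.centralizer_U_le [Finite G] (c : Ctx H K) {p : ℕ} (hU : U p K H ≠ ⊥) :
    Subgroup.centralizer (U p K H : Set G) ≤ K :=
  (Subgroup.centralizer_le_normalizer _).trans
    (c.symm.normalizer_le hU (U_le_left p K H) (le_normalizer_U p K H))

/-! ## No components -/

theorem Ctx.comp_subset [Finite G] (c : Ctx H K) (ha : a2 H K ≠ ⊥) (hb : a2 K H ≠ ⊥)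
    {L : Subgroup G} (hL : Cfsg.IsComponentOf L K) : Cfsg.IsComponentOf L H := by
  have hLH : L ≤ H := c.comp_le ha L hL
  have hLa : L ≤ a1 K H := comp_le_a1 (c.comp_le ha) hL
  suffices h : L ≤ a1 H K by
    exact comp_trans (comp_of_restrict hL (le_inf h hLa) (inf_le_right.trans (a1_le_left K H)))
      (D_sn H K)
  by_cases hcase : ∃ M, Cfsg.IsComponentOf M K ∧ M ≤ a2 K H
  · obtain ⟨h1, h2⟩ := c.symm.le_of_comp_in_a2 hcase
    by_contra hnot
    have hLD : ⁅L, a1 H K ⊓ a1 K H⁆ = ⊥ :=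
      (comp_le_or_comm hL (D_sn' H K)).resolve_left fun h => hnot (h.trans inf_le_left)
    have hL1 : ⁅L, a1 H K⁆ = ⊥ := by
      refine Components.commutator_eq_bot_of_perfect (comp_perfect hL) ?_
      rw [Subgroup.commutator_comm, eq_bot_iff, ← hLD]
      refine Subgroup.commutator_mono le_rfl (le_inf ?_ ?_)
      · exact comm_le_right (hLH.trans (le_normalizer_hcore _ _))
      · exact (comm_le_left ((a1_le_normalizer H K).trans le_rfl)).trans' 
          (Subgroup.commutator_mono hLa le_rfl)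
    refine comp_ne_bot hL (eq_bot_of_comm_perfect (comp_perfect hL) (comm_of_centralize hLH ?_ ?_))
    · intro M hM
      rw [eq_bot_iff, ← hL1, Subgroup.commutator_comm M L]
      exact Subgroup.commutator_mono le_rfl (comp_le_a1 h1 hM)
    · intro q hq
      rw [eq_bot_iff, ← hL1, Subgroup.commutator_comm _ L]
      exact Subgroup.commutator_mono le_rfl (Op_le_a1 (h2 q hq))
  · obtain ⟨p, hp, hU⟩ := exists_U_ne_bot hb fun M hM hle => hcase ⟨M, hM, hle⟩
    have : Fact p.Prime := ⟨hp⟩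
    refine pq_comp (U_le_Op' p K H) (c.centralizer_U_le hU) hL hLH ?_
    rw [eq_bot_iff, ← comp_comm_Op p hL, Subgroup.commutator_comm L]
    exact Subgroup.commutator_mono (U_le_Op p K H) le_rfl

theorem Ctx.no_comp [Finite G] (c : Ctx H K) (ha : a2 H K ≠ ⊥) (hb : a2 K H ≠ ⊥) :
    ∀ L, ¬ Cfsg.IsComponentOf L H := by
  intro L hL
  have heq : {M | Cfsg.IsComponentOf M H} = {M | Cfsg.IsComponentOf M K} :=
    Set.ext fun M => ⟨fun h => c.symm.comp_subset hb ha h, fun h => c.comp_subset ha hb h⟩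
  have h0 : sSup {M | Cfsg.IsComponentOf M H} = ⊥ :=
    c.eq_bot_of_normalized (sSup_le fun M hM => hM.1)
      (sSup_le_normalizer fun g hg M hM => comp_map_conj hM hg)
      (by rw [heq]; exact sSup_le_normalizer fun g hg M hM => comp_map_conj hM hg)
  exact comp_ne_bot hL (le_bot_iff.mp (h0 ▸ le_sSup (show L ∈ {M | Cfsg.IsComponentOf M H} from hL)))

/-! ## A single prime -/

theorem Ctx.Op_le_Op [Finite G] {p q : ℕ} [Fact p.Prime] [Fact q.Prime] (hne : q ≠ p)
    {U : Subgroup G} (hU : U ≤ Op p H) (hCU : Subgroup.centralizer (U : Set G) ≤ K)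
    (hUK : U ≤ Op p K) (hq : Op q K ≤ H) : Op q K ≤ Op q H := by
  have h := (pq_group hne hU hCU hq (le_normalizer_Op q K) (Op_isPGroup q K)
    (le_bot_iff.mp (comm_Op_Op hne.symm K ▸ Subgroup.commutator_mono hUK le_rfl))).1
  refine le_Op_of_sn ?_ (Op_isPGroup q K)
  exact ((Op_sn q K).restrict (le_inf h (Op_le_a1 hq))
    (inf_le_right.trans (a1_le_left K H))).trans (D_sn H K)

theorem Ctx.cross [Finite G] (c : Ctx H K) {r s : ℕ} [Fact r.Prime] [Fact s.Prime] (hrs : r ≠ s)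
    (hr : U r H K ≠ ⊥) (hs : U s K H ≠ ⊥) : Op s H ≤ K := by
  have hRne : Op r K ≠ ⊥ := fun h => hr (le_bot_iff.mp (h ▸ U_le_Op' r H K))
  set Q := Op r K ⊓ Subgroup.centralizer ((Op r K : Subgroup G) : Set G) with hQdef
  have hQne : Q ≠ ⊥ := by
    have : Nontrivial ↥(Op r K : Subgroup G) := (Subgroup.nontrivial_iff_ne_bot _).mpr hRne
    have := (Op_isPGroup r K).center_nontrivial
    obtain ⟨⟨z, hz⟩, hz1⟩ := exists_ne (1 : ↥(Subgroup.center ↥(Op r K : Subgroup G)))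
    intro h0
    apply hz1
    refine Subtype.ext ?_
    have hmem : (z : G) ∈ Q := ⟨z.2, Subgroup.mem_centralizer_iff.mpr fun y hy =>
      congrArg Subtype.val (Subgroup.mem_center_iff.mp hz ⟨y, hy⟩)⟩
    rw [h0, Subgroup.mem_bot] at hmem
    exact Subtype.ext hmem
  have hQn : K ≤ normalizer (Q : Set G) := by
    refine le_normalizer_inf (le_normalizer_Op r K) (le_normalizer_of_conj_mem fun h hh z hz => ?_)
    rw [Subgroup.mem_centralizer_iff] at hz ⊢
    intro y hy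
    have h2 := hz _ (conj_mem (le_normalizer_Op r K) (inv_mem hh) hy)
    rw [inv_inv] at h2
    calc y * (h * z * h⁻¹) = h * (h⁻¹ * y * h * z) * h⁻¹ := by group
      _ = h * (z * (h⁻¹ * y * h)) * h⁻¹ := by rw [h2]
      _ = h * z * h⁻¹ * y := by group
  have hQH : Q ≤ H := by
    refine c.le_of_centralize hr (U_le_left r H K) (le_normalizer_U r H K) (le_bot_iff.mp ?_)
    rw [← (Subgroup.commutator_eq_bot_iff_le_centralizer.mpr (inf_le_right : Q ≤ _))]
    exact Subgroup.commutator_mono le_rfl (U_le_Op' r H K)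
  have h := (pq_group hrs (U_le_Op' s K H) (c.centralizer_U_le hs) hQH hQn
    ((Op_isPGroup r K).to_le inf_le_left)
    (le_bot_iff.mp (comm_Op_Op hrs.symm K ▸
      Subgroup.commutator_mono (U_le_Op s K H) inf_le_left))).2
  refine c.symm.le_of_centralize hQne (inf_le_left.trans (Op_le r K)) hQn ?_
  rw [Subgroup.commutator_comm]
  exact Subgroup.commutator_eq_bot_iff_le_centralizer.mpr h

theorem Ctx.prime_eq [Finite G] (c : Ctx H K) {r s : ℕ} [hfr : Fact r.Prime] [hfs : Fact s.Prime]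
    (hr : U r H K ≠ ⊥) (hs : U s K H ≠ ⊥) : r = s := by
  by_contra hrs
  have hsH : Op s H ≤ K := c.cross hrs hr hs
  have hrK : Op r K ≤ H := c.symm.cross (fun h => hrs h.symm) hs hr
  have hallK : ∀ q : ℕ, q.Prime → Op q K ≤ H := fun q hq => by
    rcases eq_or_ne q r with rfl | h
    · exact hrK
    · exact (c.of_U hr).2 q hq h
  have hallH : ∀ q : ℕ, q.Prime → Op q H ≤ K := fun q hq => by
    rcases eq_or_ne q s with rfl | h
    · exact hsH
    · exact (c.symm.of_U hs).2 q hq h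
  have hrKH : Op r K ≤ Op r H :=
    Ctx.Op_le_Op hrs (U_le_Op' s K H) (c.centralizer_U_le hs) (U_le_Op s K H) hrK
  have hsHK : Op s H ≤ Op s K :=
    Ctx.Op_le_Op (fun h => hrs h.symm) (U_le_Op' r H K) (c.symm.centralizer_U_le hr)
      (U_le_Op r H K) hsH
  have hCr : Subgroup.centralizer ((Op r K : Subgroup G) : Set G) ≤ K :=
    (Subgroup.centralizer_le_normalizer _).trans (c.symm.normalizer_le
      (fun h => hr (le_bot_iff.mp (h ▸ U_le_Op' r H K))) (Op_le r K) (le_normalizer_Op r K))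
  have hCs : Subgroup.centralizer ((Op s H : Subgroup G) : Set G) ≤ H :=
    (Subgroup.centralizer_le_normalizer _).trans (c.normalizer_le
      (fun h => hs (le_bot_iff.mp (h ▸ U_le_Op' s K H))) (Op_le s H) (le_normalizer_Op s H))
  have hle1 : Op r H ≤ Op r K :=
    Ctx.Op_le_Op hrs hsHK hCs le_rfl (hallH r hfr.out)
  have h0 : Op r H = ⊥ := c.eq_bot_of_normalized (Op_le r H) (le_normalizer_Op r H)
    (by rw [le_antisymm hle1 hrKH]; exact le_normalizer_Op r K)
  exact hr (le_bot_iff.mp (h0 ▸ U_le_Op r H K))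

theorem Ctx.exists_prime [Finite G] (c : Ctx H K) (ha : a2 H K ≠ ⊥) (hb : a2 K H ≠ ⊥) :
    ∃ p : ℕ, p.Prime ∧ U p H K ≠ ⊥ ∧ U p K H ≠ ⊥ ∧
      ∀ q : ℕ, q.Prime → q ≠ p → Op q H = ⊥ ∧ Op q K = ⊥ := by
  obtain ⟨r, hr, hUr⟩ := exists_U_ne_bot ha fun L hL _ => c.no_comp ha hb L hL
  obtain ⟨s, hs, hUs⟩ := exists_U_ne_bot hb fun L hL _ => c.symm.no_comp hb ha L hL
  have : Fact r.Prime := ⟨hr⟩
  have : Fact s.Prime := ⟨hs⟩
  obtain rfl : r = s := c.prime_eq hUr hUs
  refine ⟨r, hr, hUr, hUs, fun q hq hne => ?_⟩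
  have : Fact q.Prime := ⟨hq⟩
  have h1 : Op q K ≤ Op q H := Ctx.Op_le_Op hne (U_le_Op' r K H) (c.centralizer_U_le hUs)
    (U_le_Op r K H) ((c.of_U hUr).2 q hq hne)
  have h2 : Op q H ≤ Op q K := Ctx.Op_le_Op hne (U_le_Op' r H K) (c.symm.centralizer_U_le hUr)
    (U_le_Op r H K) ((c.symm.of_U hUs).2 q hq hne)
  have h0 : Op q H = ⊥ := c.eq_bot_of_normalized (Op_le q H) (le_normalizer_Op q H)
    (by rw [le_antisymm h2 h1]; exact le_normalizer_Op q K)
  exact ⟨h0, le_bot_iff.mp (h0 ▸ h1)⟩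

/-! ## `a2` is a `p`-group -/

theorem mem_of_mem_sup_pgroup {X : Type*} [Group X] {p : ℕ}
    {S : Subgroup X} (hS : S.IsSubnormal) {R : Subgroup X} [R.Normal] (hR : IsPGroup p R)
    {x : X} (hx : x ∈ S ⊔ R) (ho : (orderOf x).Coprime p) : x ∈ S := by
  induction hS with
  | top => exact Subgroup.mem_top x
  | step A B hle _ hN ih =>
    have hxB : x ∈ B := ih (sup_le_sup_right hle R hx)
    obtain ⟨a, ha, r, hr, rfl⟩ := Subgroup.mem_sup_of_normal_right.mp hx
    have hrB : r ∈ B := (mul_mem_cancel_left (hle ha)).mp hxB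
    have := hN
    obtain ⟨k, hk⟩ := hR ⟨r, hr⟩
    have hk' : r ^ p ^ k = 1 := congrArg Subtype.val hk
    set π := QuotientGroup.mk' (A.subgroupOf B)
    have h1 : π ⟨a * r, hxB⟩ = π ⟨r, hrB⟩ := by
      have : (⟨a * r, hxB⟩ : ↥B) = ⟨a, hle ha⟩ * ⟨r, hrB⟩ := rfl
      have ha1 : π ⟨a, hle ha⟩ = 1 :=
        (QuotientGroup.eq_one_iff (N := A.subgroupOf B) _).mpr ha
      rw [this, map_mul, ha1, one_mul]
    have h2 : π ⟨a * r, hxB⟩ ^ p ^ k = 1 := by
      rw [h1, ← map_pow]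
      rw [show (⟨r, hrB⟩ : ↥B) ^ p ^ k = 1 from Subtype.ext hk', map_one]
    have hd1 : orderOf (π ⟨a * r, hxB⟩) ∣ p ^ k := orderOf_dvd_of_pow_eq_one h2
    have hd2 : orderOf (π ⟨a * r, hxB⟩) ∣ orderOf (a * r) :=
      (orderOf_map_dvd π _).trans (by rw [Subgroup.orderOf_mk])
    have h3 : orderOf (π ⟨a * r, hxB⟩) = 1 :=
      Nat.eq_one_of_dvd_coprimes (ho.pow_right k) hd2 hd1
    exact (QuotientGroup.eq_one_iff (N := A.subgroupOf B) (⟨a * r, hxB⟩ : ↥B)).mp
      (orderOf_eq_one_iff.mp h3)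

theorem mem_of_mem_sup_Op [Finite G] {p : ℕ} [Fact p.Prime] {S : Subgroup G} (hS : Sn S K)
    {x : G} (hx : x ∈ S ⊔ Op p K) (ho : (orderOf x).Coprime p) : x ∈ S := by
  have hxK : x ∈ K := sup_le hS.1 (Op_le p K) hx
  have h := mem_of_mem_sup_pgroup (x := (⟨x, hxK⟩ : ↥K)) hS.2 (R := Cfsg.pCore p ↥K)
    (Cores.pCore_isPGroup p ↥K) ?_ (by rwa [Subgroup.orderOf_mk])
  · exact h
  · have heq : ((S.subgroupOf K ⊔ Cfsg.pCore p ↥K).map K.subtype) = S ⊔ Op p K := by
      rw [Subgroup.map_sup, map_subgroupOf_eq_of_le hS.1]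
      rfl
    rw [← heq] at hx
    obtain ⟨y, hy, hyx⟩ := hx
    obtain rfl : y = ⟨x, hxK⟩ := Subtype.ext hyx
    exact hy

theorem Ctx.Op_le_Op_of_not_pGroup [Finite G] (c : Ctx H K) {p : ℕ} [Fact p.Prime]
    (hnp : ¬ IsPGroup p ↥(a2 H K)) (hX : Op p K ≠ ⊥) : Op p H ≤ Op p K := by
  set S := {g : G | g ∈ a2 H K ∧ (orderOf g).Coprime p} with hSdef
  set W := Subgroup.closure S with hWdef
  have hW : W ≠ ⊥ := by
    intro h0
    apply hnp
    rw [← Cores.pResidual_eq_bot_iff]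
    refine (Subgroup.map_eq_bot_iff_of_injective _ (a2 H K).subtype_injective).mp ?_
    rw [Cores.map_subtype_pResidual]
    exact h0
  have hWle : W ≤ H := (Subgroup.closure_le _).mpr fun g hg => a2_le_left H K hg.1
  have hconj : ∀ y : G, (∀ g ∈ S, y * g * y⁻¹ ∈ a2 H K) → ∀ z ∈ W, y * z * y⁻¹ ∈ W := by
    intro y hy z hz
    have : W.map (MulAut.conj y).toMonoidHom ≤ W := by
      rw [hWdef, MonoidHom.map_closure, Subgroup.closure_le]
      rintro _ ⟨g, hg, rfl⟩
      refine Subgroup.subset_closure ⟨hy g hg, ?_⟩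
      change (orderOf ((MulAut.conj y) g)).Coprime p
      rw [MulEquiv.orderOf_eq]
      exact hg.2
    exact this ⟨z, hz, by simp⟩
  have hWn : H ≤ normalizer (W : Set G) :=
    le_normalizer_of_conj_mem fun h hh => hconj h fun g hg => conj_mem (le_normalizer_a2 H K) hh hg.1
  have hN : ∀ y : G, (∀ g ∈ S, y * g * y⁻¹ ∈ a2 H K ⊔ Op p K) → y ∈ H := by
    intro y hy
    have hall : ∀ z ∈ W, y * z * y⁻¹ ∈ W := hconj y fun g hg => by
      refine mem_of_mem_sup_Op (a2_sn' H K) (hy g hg) ?_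
      change (orderOf ((MulAut.conj y) g)).Coprime p
      rw [MulEquiv.orderOf_eq]
      exact hg.2
    refine c.normalizer_le hW hWle hWn ?_
    rw [Components.mem_normalizer_iff_map_conj]
    refine Subgroup.eq_of_le_of_card_ge (fun _ ⟨z, hz, e⟩ => e ▸ hall z hz) ?_
    rw [Subgroup.card_map_of_injective (MulAut.conj y).injective]
  have hXH : Op p K ≤ H := fun x hx => hN x fun g hg =>
    mul_mem (mul_mem (Subgroup.mem_sup_right hx) (Subgroup.mem_sup_left hg.1))
      (inv_mem (Subgroup.mem_sup_right hx))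
  -- `O_p(H) ∩ K` lies in the first core of `K`
  have hPK : Op p H ⊓ K ≤ a1 K H := by
    intro x hx
    have hxK : x ∈ K := hx.2
    have hxP : x ∈ Op p H := hx.1
    refine mem_hcore.mpr ⟨hxK, fun k hk =>
      Subgroup.mem_inf.mpr ⟨mul_mem (mul_mem hk hxK) (inv_mem hk), hN _ ?_⟩⟩
    intro g hg
    have hw : k⁻¹ * g * k ∈ a1 K H := by
      simpa [a1] using conj_mem (le_normalizer_hcore K (K ⊓ H)) (inv_mem hk) (a2_le_a1' H K hg.1)
    set w := k⁻¹ * g * k with hwdef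
    have hc : x * w * x⁻¹ * w⁻¹ ∈ Op p H ⊓ a1 K H := by
      refine Subgroup.mem_inf.mpr ⟨?_, mul_mem (conj_mem (le_normalizer_hcore K (K ⊓ H)) hxK hw) (inv_mem hw)⟩
      rw [show x * w * x⁻¹ * w⁻¹ = x * (w * x⁻¹ * w⁻¹) by group]
      exact mul_mem hxP
        (conj_mem (le_normalizer_Op p H) (a1_le_right K H hw) (inv_mem hxP))
    have hcX : x * w * x⁻¹ * w⁻¹ ∈ Op p K :=
      le_Op_of_sn ((Sn.of_le_normalizer inf_le_right (le_normalizer_inf
        ((a1_le_right K H).trans (le_normalizer_Op p H)) le_normalizer)).trans (a1_sn K H))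
        ((Op_isPGroup p H).to_le inf_le_left) hc
    rw [show k * x * k⁻¹ * g * (k * x * k⁻¹)⁻¹ = k * (x * w * x⁻¹ * w⁻¹) * k⁻¹ * g by
      rw [hwdef]; group]
    exact mul_mem (Subgroup.mem_sup_right (conj_mem (le_normalizer_Op p K) hk hcX))
      (Subgroup.mem_sup_left hg.1)
  have hPKX : Op p H ⊓ K ≤ Op p K := by
    have h2 : Op p H ⊓ a1 K H ≤ Op p K :=
      le_Op_of_sn ((Sn.of_le_normalizer inf_le_right (le_normalizer_inf
        ((a1_le_right K H).trans (le_normalizer_Op p H)) le_normalizer)).trans (a1_sn K H))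
        ((Op_isPGroup p H).to_le inf_le_left)
    exact le_trans (le_inf inf_le_left hPK) h2
  -- normaliser condition in the `p`-group `O_p(H) O_p(K)`
  by_contra hnot
  set X := Op p K
  set T := X ⊔ Op p H with hT
  have hTp : IsPGroup p ↥T := IsPGroup.to_sup_of_normal_right' (Op_isPGroup p K) (Op_isPGroup p H)
    (hXH.trans (le_normalizer_Op p H))
  have : Group.IsNilpotent ↥T := hTp.isNilpotent
  have hne : X.subgroupOf T ≠ ⊤ := fun h =>
    hnot (le_sup_right.trans (Subgroup.subgroupOf_eq_top.mp h))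
  obtain ⟨y, hy, hyX⟩ := SetLike.exists_of_lt
    (Group.normalizerCondition_of_isNilpotent (G := ↥T) _ (lt_top_iff_ne_top.mpr hne))
  have hyK : (y : G) ∈ K := by
    refine c.symm.normalizer_le hX (Op_le p K) (le_normalizer_Op p K) ?_
    rw [Subgroup.mem_normalizer_iff] at hy ⊢
    intro n
    have hmem : ∀ {m : G}, m ∈ X → m ∈ T := fun hm => Subgroup.mem_sup_left hm
    refine ⟨fun hn => (hy ⟨n, hmem hn⟩).mp hn, fun hn => ?_⟩
    have hnT : n ∈ T := by
      have := mul_mem (mul_mem (inv_mem y.2) (hmem hn)) y.2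
      simpa [mul_assoc] using this
    exact (hy ⟨n, hnT⟩).mpr hn
  have hy2 : (y : G) ∈ X ⊔ Op p H := y.2
  rw [← SetLike.mem_coe, Subgroup.coe_mul_of_left_le_normalizer_right _ _
    (hXH.trans (le_normalizer_Op p H))] at hy2
  obtain ⟨a, ha, b, hb, hab⟩ := hy2
  refine hyX ?_
  rw [Subgroup.mem_subgroupOf, ← hab]
  refine mul_mem ha (hPKX ⟨hb, ?_⟩)
  have hab' : a * b = (y : G) := hab
  exact (mul_mem_cancel_left (Op_le p K ha)).mp (hab'.symm ▸ hyK)

/-- The Thompson–Wielandt theorem. -/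
theorem Ctx.main [Finite G] (c : Ctx H K) (ha : a2 H K ≠ ⊥) (hb : a2 K H ≠ ⊥)
    (hiso : ∀ q : ℕ, Nat.card (Cfsg.pCore q ↥H) = Nat.card (Cfsg.pCore q ↥K)) :
    ∃ p : ℕ, p.Prime ∧ IsPGroup p ↥(a2 H K ⊔ a2 K H) ∧
      generalizedFittingSubgroup ↥H = Cfsg.pCore p ↥H ∧
      generalizedFittingSubgroup ↥(a1 H K) = Cfsg.pCore p ↥(a1 H K) ∧
      generalizedFittingSubgroup ↥K = Cfsg.pCore p ↥K ∧
      generalizedFittingSubgroup ↥(a1 K H) = Cfsg.pCore p ↥(a1 K H) := by
  obtain ⟨p, hp, hUH, hUK, hq⟩ := c.exists_prime ha hb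
  have : Fact p.Prime := ⟨hp⟩
  have hcard : Nat.card (Op p H : Subgroup G) = Nat.card (Op p K : Subgroup G) := by
    rw [Cfsg.pCoreOf, Cfsg.pCoreOf, Subgroup.card_map_of_injective H.subtype_injective,
      Subgroup.card_map_of_injective K.subtype_injective]
    exact hiso p
  have hne : Op p H ≠ Op p K := fun h => hUH (le_bot_iff.mp
    ((c.eq_bot_of_normalized (Op_le p H) (le_normalizer_Op p H)
      (by rw [h]; exact le_normalizer_Op p K)) ▸ U_le_Op p H K))
  have hpA : IsPGroup p ↥(a2 H K) := by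
    by_contra hnp
    refine hne (Subgroup.eq_of_le_of_card_ge (c.Op_le_Op_of_not_pGroup hnp ?_) hcard.ge)
    exact fun h => hUK (le_bot_iff.mp (h ▸ U_le_Op p K H))
  have hpB : IsPGroup p ↥(a2 K H) := by
    by_contra hnp
    refine hne (Subgroup.eq_of_le_of_card_ge (c.symm.Op_le_Op_of_not_pGroup hnp ?_) hcard.le).symm
    exact fun h => hUH (le_bot_iff.mp (h ▸ U_le_Op p H K))
  have hcH := c.no_comp ha hb
  have hcK := c.symm.no_comp hb ha
  refine ⟨p, hp, (Op_isPGroup p H).to_le (sup_le (le_Op_of_sn (a2_sn H K) hpA)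
    (le_Op_of_sn (a2_sn' K H) hpB)), genFitting_eq_pCore hcH fun q hq' h => (hq q hq' h).1,
    genFitting_eq_pCore (fun L hL => hcH L (comp_trans hL (a1_sn H K))) fun q hq' h => ?_,
    genFitting_eq_pCore hcK fun q hq' h => (hq q hq' h).2,
    genFitting_eq_pCore (fun L hL => hcK L (comp_trans hL (a1_sn K H))) fun q hq' h => ?_⟩
  · exact le_bot_iff.mp ((hq q hq' h).1 ▸
      le_Op_of_sn ((Op_sn q (a1 H K)).trans (a1_sn H K)) (Op_isPGroup q _))
  · exact le_bot_iff.mp ((hq q hq' h).2 ▸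
      le_Op_of_sn ((Op_sn q (a1 K H)).trans (a1_sn K H)) (Op_isPGroup q _))

/-! ## The index of the second core -/

theorem normalCore_index_dvd {X : Type*} [Group X] [Finite X] (N : Subgroup X) :
    N.normalCore.index ∣ (N.index).factorial := by
  classical
  rw [Subgroup.normalCore_eq_ker, Subgroup.index_ker]
  have := Subgroup.card_subgroup_dvd_card (MulAction.toPermHom X (X ⧸ N)).range
  rwa [Nat.card_perm] at this

theorem normalCore_relIndex_dvd {X : Type*} [Group X] [Finite X] (N : Subgroup X) :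
    N.normalCore.relIndex N ∣ (N.index - 1).factorial := by
  have h := normalCore_index_dvd N
  have hN : N.index ≠ 0 := Subgroup.index_ne_zero_of_finite
  rw [← Subgroup.relIndex_mul_index N.normalCore_le, ← Nat.mul_factorial_pred hN,
    mul_comm (N.normalCore.relIndex N)] at h
  exact Nat.dvd_of_mul_dvd_mul_left (Nat.pos_of_ne_zero hN) h

theorem index_finsetInf_dvd {X ι : Type*} [Group X] (N : ι → Subgroup X)
    (hn : ∀ i, (N i).Normal) {m : ℕ} (hm : ∀ i, (N i).index ∣ m) (s : Finset ι) :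
    (s.inf N).index ∣ m ^ s.card := by
  classical
  induction s using Finset.induction_on with
  | empty => simp
  | insert i s his ih =>
    rw [Finset.inf_insert, Finset.card_insert_of_notMem his,
      ← Subgroup.relIndex_mul_index (inf_le_right : N i ⊓ s.inf N ≤ s.inf N),
      Subgroup.inf_relIndex_right, pow_succ, mul_comm (m ^ s.card)]
    have := hn i
    exact Nat.mul_dvd_mul ((Subgroup.relIndex_dvd_index_of_normal _ _).trans (hm i)) ih

theorem hcore_subgroupOf {H Y : Subgroup G} :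
    (hcore H Y).subgroupOf H = (Y.subgroupOf H).normalCore :=
  Subgroup.comap_map_eq_self_of_injective H.subtype_injective _

theorem relIndex_a1_dvd [Finite G] {d : ℕ} (hd : (H ⊓ K).relIndex H = d) :
    (a1 H K).relIndex H ∣ d.factorial := by
  rw [Subgroup.relIndex, a1, hcore_subgroupOf]
  exact hd ▸ normalCore_index_dvd ((H ⊓ K).subgroupOf H)

theorem relIndex_D_dvd [Finite G] {d : ℕ} (hd : (H ⊓ K).relIndex K = d) :
    (a1 H K ⊓ a1 K H).relIndex (a1 H K) ∣ (d - 1).factorial := by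
  have hle : a1 H K ≤ H ⊓ K := le_inf (a1_le_left H K) (a1_le_right H K)
  have hle' : a1 K H ≤ H ⊓ K := le_inf (a1_le_right K H) (a1_le_left K H)
  have hn : ((a1 K H).subgroupOf (H ⊓ K)).Normal :=
    Subgroup.normal_subgroupOf_of_le_normalizer (inf_le_right.trans (le_normalizer_hcore _ _))
  have h1 : (a1 K H).relIndex (a1 H K) ∣ (a1 K H).relIndex (H ⊓ K) := by
    rw [← Subgroup.relIndex_subgroupOf hle]
    exact Subgroup.relIndex_dvd_index_of_normal _ _
  have h2 := normalCore_relIndex_dvd ((K ⊓ H).subgroupOf K)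
  rw [← hcore_subgroupOf, Subgroup.relIndex_subgroupOf inf_le_left] at h2
  rw [Subgroup.inf_relIndex_left]
  refine h1.trans ?_
  have h3 : ((K ⊓ H).subgroupOf K).index = d := by rw [← hd, inf_comm K H]; rfl
  rw [h3, inf_comm K H] at h2
  rwa [a1, inf_comm K H]

theorem relIndex_a2_dvd [Finite G] {d : ℕ} (hdH : (H ⊓ K).relIndex H = d)
    (hdK : (H ⊓ K).relIndex K = d) :
    (a2 H K).relIndex H ∣ d.factorial * (d - 1).factorial ^ d := by
  classical
  set D := a1 H K ⊓ a1 K H with hDdef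
  rw [← Subgroup.relIndex_mul_relIndex _ _ _ ((a2_le_D H K).trans inf_le_left) (a1_le_left H K),
    mul_comm]
  refine Nat.mul_dvd_mul (relIndex_a1_dvd hdH) ?_
  set N0 := (H ⊓ K).subgroupOf H
  let N : ↥H ⧸ N0 → Subgroup ↥(a1 H K) := fun c =>
    (D.map (MulAut.conj ((c.out : ↥H) : G)).toMonoidHom).subgroupOf (a1 H K)
  have hfix : ∀ h ∈ H, (a1 H K).map (MulAut.conj h).toMonoidHom = a1 H K := fun h hh =>
    Components.mem_normalizer_iff_map_conj.mp (le_normalizer_hcore H (H ⊓ K) hh)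
  have hnD : H ⊓ K ≤ normalizer (D : Set G) :=
    le_normalizer_inf (inf_le_left.trans (le_normalizer_hcore _ _))
      (inf_le_right.trans (le_normalizer_hcore _ _))
  have hn : ∀ c, (N c).Normal := fun c => by
    refine Subgroup.normal_subgroupOf_of_le_normalizer (le_normalizer_of_conj_mem ?_)
    rintro x hx _ ⟨z, hz, rfl⟩
    set h : G := ((c.out : ↥H) : G)
    have hh : h ∈ H := c.out.2
    have hx' : h⁻¹ * x * h ∈ a1 H K := by
      simpa [a1] using conj_mem (le_normalizer_hcore H (H ⊓ K)) (inv_mem hh) hx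
    refine ⟨_, conj_mem ((le_inf (a1_le_left H K) (a1_le_right H K)).trans hnD) hx' hz, ?_⟩
    simp only [MulEquiv.coe_toMonoidHom, MulAut.conj_apply]
    group
  have hm : ∀ c, (N c).index ∣ (d - 1).factorial := fun c => by
    have h := Subgroup.relIndex_map_map_of_injective D (a1 H K)
      (MulAut.conj ((c.out : ↥H) : G)).injective (f := (MulAut.conj ((c.out : ↥H) : G)).toMonoidHom)
    rw [hfix _ c.out.2] at h
    rw [show (N c).index = D.relIndex (a1 H K) from h]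
    exact relIndex_D_dvd hdK
  have := Fintype.ofFinite (↥H ⧸ N0)
  have hI : (a2 H K).subgroupOf (a1 H K) = Finset.univ.inf N := by
    ext ⟨x, hx⟩
    rw [Finset.inf_eq_iInf, Subgroup.mem_iInf]
    simp only [Finset.mem_univ, iInf_pos]
    constructor
    · intro h c
      set g : G := ((c.out : ↥H) : G)
      have hg : g ∈ H := c.out.2
      refine ⟨g⁻¹ * x * g, ?_, ?_⟩
      · have := (mem_hcore.mp h).2 g⁻¹ (inv_mem hg)
        rwa [inv_inv] at this
      · show g * (g⁻¹ * x * g) * g⁻¹ = x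
        group
    · intro h
      refine mem_hcore.mpr ⟨a1_le_left H K hx, fun g hg => ?_⟩
      obtain ⟨n, hn'⟩ := QuotientGroup.mk_out_eq_mul N0 (⟨g⁻¹, inv_mem hg⟩ : ↥H)
      obtain ⟨z, hz, hzx⟩ := h (QuotientGroup.mk (⟨g⁻¹, inv_mem hg⟩ : ↥H))
      simp only [MulEquiv.coe_toMonoidHom, MulAut.conj_apply, hn', Subgroup.coe_mul,
        Subgroup.coe_subtype] at hzx
      have hnI : (((n : ↥H) : G)) ∈ H ⊓ K := n.2
      have := conj_mem hnD hnI hz
      convert this using 1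
      change g * x * g⁻¹ = _
      calc g * x * g⁻¹ = g * (g⁻¹ * ↑↑n * z * (g⁻¹ * ↑↑n)⁻¹) * g⁻¹ := by rw [hzx]
        _ = _ := by group
  have hmain := index_finsetInf_dvd N hn hm Finset.univ
  rw [← hI, Finset.card_univ, ← Nat.card_eq_fintype_card] at hmain
  rwa [show Nat.card (↥H ⧸ N0) = d from hdH] at hmain

theorem card_pCore_eq {H K : Subgroup G} (e : ↥H ≃* ↥K) (q : ℕ) :
    Nat.card (Cfsg.pCore q ↥H) = Nat.card (Cfsg.pCore q ↥K) := by
  rw [← Cores.map_pCore_equiv (p := q) e, Subgroup.card_map_of_injective e.injective]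

theorem relIndex_right_eq [Finite G] {H K : Subgroup G} (e : ↥H ≃* ↥K) {d : ℕ}
    (hd : (H ⊓ K).relIndex H = d) : (H ⊓ K).relIndex K = d := by
  have h1 := Subgroup.relIndex_mul_relIndex ⊥ (H ⊓ K) H bot_le inf_le_left
  have h2 := Subgroup.relIndex_mul_relIndex ⊥ (H ⊓ K) K bot_le inf_le_right
  simp only [Subgroup.relIndex_bot_left, hd] at h1 h2
  rw [← Nat.card_congr e.toEquiv, ← h1] at h2
  exact Nat.eq_of_mul_eq_mul_left Nat.card_pos h2

/-- Wielandt's bound. -/
theorem Ctx.exists_pGroup_index_dvd [Finite G] {H K : Subgroup G} (c : Ctx H K) (e : ↥H ≃* ↥K)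
    {d : ℕ} (hd : (H ⊓ K).relIndex H = d) :
    ∃ p : ℕ, p.Prime ∧ ∃ P : Subgroup G, P ≤ H ⊓ K ∧ H ≤ normalizer (P : Set G) ∧ IsPGroup p P ∧
      P.relIndex H ∣ d.factorial * (d - 1).factorial ^ d := by
  have hd' := relIndex_right_eq e hd
  have hA := relIndex_a2_dvd hd hd'
  have hB := relIndex_a2_dvd (H := K) (K := H) (d := d) (inf_comm H K ▸ hd') (inf_comm H K ▸ hd)
  by_cases h : a2 H K ≠ ⊥ ∧ a2 K H ≠ ⊥
  · obtain ⟨p, hp, hpg, -⟩ := c.main h.1 h.2 (card_pCore_eq e)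
    exact ⟨p, hp, a2 H K, le_inf (a2_le_left H K) ((a2_le_a1' H K).trans (a1_le_left K H)),
      le_normalizer_a2 H K, hpg.to_le le_sup_left, hA⟩
  · refine ⟨2, Nat.prime_two, ⊥, bot_le, ?_, IsPGroup.of_bot, ?_⟩
    · exact le_normalizer_of_conj_mem fun x _ z hz => by
        rw [Subgroup.mem_bot] at hz ⊢; simp [hz]
    · rcases not_and_or.mp h with h | h
      · rwa [not_not.mp h] at hA
      · rw [not_not.mp h, Subgroup.relIndex_bot_left] at hB
        rwa [Subgroup.relIndex_bot_left, Nat.card_congr e.toEquiv]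

end Cfsg.Agent.Lib.ThreeTransp.ThompsonWielandt
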