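import Cfsg.Agent.Lib.ThreeTransp.UnitarySixClass

/-!
Products of three commuting members in groups of type M(22).
-/

set_option autoImplicit false

namespace Cfsg.Agent.Lib.ThreeTransp.Products

open Cfsg Cfsg.Agent.Lib.ThreeTransp

variable {G : Type*} [Group G] [Finite G] {D : Set G}

/-- The three further members attached to three commuting members. -/
def tri (D : Set G) (a b c : G) : Set G :=
  {x | x ∈ D ∧ x ≠ a ∧ x ≠ b ∧ x ≠ c ∧ Commute a x ∧ Commute b x ∧ Commute c x ∧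
    ∀ y ∈ D, Commute a y → Commute b y → Commute c y → Commute x y}

omit [Finite G] in
theorem tri_swap (D : Set G) (a b c : G) : tri D b a c = tri D a b c := by
  ext x
  simp only [tri, Set.mem_setOf_eq]
  constructor <;>
    exact fun ⟨h1, h2, h3, h4, h5, h6, h7, h8⟩ =>
      ⟨h1, h3, h2, h4, h6, h5, h7, fun y hy p q r => h8 y hy q p r⟩

/-- The chart at `a`. -/
theorem tri_chart (hD : IsThreeTranspositionGroup D) (ht : IsOfTypeM22 G D) {a b c : G} (ha : a ∈ D)
    (hb : b ∈ nbr D a) (hc : c ∈ nbr D a) (hbc : b ≠ c) (hcomm : Commute b c) :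
    ∃ d e f : G, (d ≠ e ∧ d ≠ f ∧ e ≠ f) ∧
      (∀ x, x ∈ tri D a b c ↔ x = d ∨ x = e ∨ x = f) ∧
      ∀ y ∈ nbr D a, Commute y (b * c * d * e * f) := by
  have hlev := level22 hD ht
  obtain ⟨-, a₀, ha₀, -, -, -, ⟨F, iF, iF', hF, ⟨φ⟩⟩, -⟩ := ht
  -- move to the special member
  suffices key : ∀ b ∈ nbr D a₀, ∀ c ∈ nbr D a₀, b ≠ c → Commute b c →
      ∃ d e f : G, (d ≠ e ∧ d ≠ f ∧ e ≠ f) ∧
      (∀ x, x ∈ tri D a₀ b c ↔ x = d ∨ x = e ∨ x = f) ∧
      ∀ y ∈ nbr D a₀, Commute y (b * c * d * e * f) by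
    obtain ⟨g, rfl⟩ := hlev.conj a₀ ha₀ a ha
    have hcj := hD.2.1
    rw [nbr_conj hcj] at hb hc
    set ψ := MulAut.conj g with hψ
    have hψa : ∀ x, ψ x = g * x * g⁻¹ := fun x => rfl
    obtain ⟨d, e, f, hne, hiff, hcom⟩ := key _ hb _ hc (fun h => hbc (by simpa using h)) (by
      have := (commute_conj (a := g⁻¹)).2 hcomm
      convert this using 1 <;> group)
    have hmem : ∀ u, ψ u ∈ D ↔ u ∈ D := fun u => ⟨fun h => by simpa [hψa, mul_assoc] using hcj g⁻¹ _ h,
      fun h => hcj g u h⟩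
    have hC : ∀ u v, Commute (ψ u) (ψ v) ↔ Commute u v := fun u v => commute_conj
    have hb' : ψ (g⁻¹ * b * g) = b := by rw [hψa]; group
    have hc' : ψ (g⁻¹ * c * g) = c := by rw [hψa]; group
    refine ⟨ψ d, ψ e, ψ f, ⟨fun h => hne.1 (ψ.injective h), fun h => hne.2.1 (ψ.injective h),
      fun h => hne.2.2 (ψ.injective h)⟩, fun x => ?_, fun y hy => ?_⟩
    · obtain ⟨u, rfl⟩ := ψ.surjective x
      have e1 : ψ u ∈ tri D (ψ a₀) (ψ (g⁻¹ * b * g)) (ψ (g⁻¹ * c * g)) ↔
          u ∈ tri D a₀ (g⁻¹ * b * g) (g⁻¹ * c * g) := by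
        simp only [tri, Set.mem_setOf_eq, hmem, hC, ψ.injective.ne_iff]
        constructor
        · rintro ⟨h1, h2, h3, h4, h5, h6, h7, h8⟩
          exact ⟨h1, h2, h3, h4, h5, h6, h7, fun y hy p q r =>
            (hC u y).1 (h8 _ ((hmem y).2 hy) ((hC _ _).2 p) ((hC _ _).2 q) ((hC _ _).2 r))⟩
        · rintro ⟨h1, h2, h3, h4, h5, h6, h7, h8⟩
          refine ⟨h1, h2, h3, h4, h5, h6, h7, fun y hy p q r => ?_⟩
          obtain ⟨v, rfl⟩ := ψ.surjective y
          exact (hC u v).2 (h8 v ((hmem v).1 hy) ((hC _ _).1 p) ((hC _ _).1 q) ((hC _ _).1 r))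
      rw [hb', hc'] at e1
      rw [show g * a₀ * g⁻¹ = ψ a₀ from rfl, e1, hiff]
      simp only [ψ.injective.eq_iff]
    · rw [nbr_conj hcj] at hy
      have h := (hC _ _).2 (hcom _ hy)
      have e2 : ψ (g⁻¹ * y * g) = y := by rw [hψa]; group
      have e3 : ψ (g⁻¹ * b * g * (g⁻¹ * c * g) * d * e * f) = b * c * ψ d * ψ e * ψ f := by
        rw [map_mul ψ, map_mul ψ, map_mul ψ, map_mul ψ, hb', hc']
      rwa [e2, e3] at h
  clear hb hc hbc hcomm ha
  intro b hb c hc hbc hcomm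
  let H := Subgroup.closure (nbr D a₀)
  let q : ↥H →* _ := φ.toMonoidHom.comp (QuotientGroup.mk' (Subgroup.center ↥H))
  set K : Set ↥H := {x | (x : G) ∈ nbr D a₀}
  have hK : IsThreeTranspositionGroup K := sub_group hD a₀
  have hker : q.ker ≤ Subgroup.center ↥H := fun x hx =>
    (QuotientGroup.eq_one_iff x).1 (φ.injective (hx.trans φ.map_one.symm))
  have hsur : Function.Surjective q := φ.surjective.comp (QuotientGroup.mk'_surjective _)
  have hKH : ∀ x ∈ nbr D a₀, x ∈ H := fun x hx => Subgroup.subset_closure hx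
  have hcen : ∀ x ∈ K, ¬ Cen K x := fun x hx h =>
    nbr_not_cen hlev.sep ha₀ hx ((cen_sub hKH).1 h)
  set E := (q '' K) \ {1}
  have hE : IsThreeTranspositionGroup E := image_group q hsur hK
  have hmem : ∀ {x}, x ∈ K → q x ∈ E := fun {x} hx => map_mem q hker hK hx (hcen x hx)
  have hinj : ∀ {x y}, x ∈ K → y ∈ K → q x = q y → x = y := fun {x y} hx hy =>
    inj_noncentral q hker hK hx hy (hcen x hx)
  have hcomm' : ∀ {x y}, x ∈ K → y ∈ K → (Commute (q x) (q y) ↔ Commute (x : G) (y : G)) := fun {x y} hx hy =>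
    ⟨fun h => (commute_of_map q hker hK.1 hx hy h).map H.subtype, fun h => (show Commute x y from Subtype.ext h.eq).map q⟩
  set b' : ↥H := ⟨b, hKH b hb⟩
  set c' : ↥H := ⟨c, hKH c hc⟩
  obtain ⟨d', e', f', hne, hfwd, hbwd, hprod⟩ := UnitaryFour.line_data (show Fintype.card F = 2 ^ 2 from hF) hE
    (hmem (x := b') hb) (hmem (x := c') hc) (fun h => hbc (congrArg Subtype.val (hinj (x := b') (y := c') hb hc h)))
    ((hcomm' (x := b') (y := c') hb hc).2 hcomm)
  obtain ⟨⟨d, hd, rfl⟩, -⟩ := (hfwd _ (Or.inl rfl)).1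
  obtain ⟨⟨e, he, rfl⟩, -⟩ := (hfwd _ (Or.inr (Or.inl rfl))).1
  obtain ⟨⟨f, hf, rfl⟩, -⟩ := (hfwd _ (Or.inr (Or.inr rfl))).1
  refine ⟨d, e, f, ⟨fun h => hne.1 (congrArg q (Subtype.ext h)), fun h => hne.2.1 (congrArg q (Subtype.ext h)),
    fun h => hne.2.2 (congrArg q (Subtype.ext h))⟩, fun x => ⟨?_, ?_⟩, ?_⟩
  · rintro ⟨h1, h2, h3, h4, h5, h6, h7, h8⟩
    have hx : x ∈ nbr D a₀ := ⟨h1, h2, h5⟩
    set x' : ↥H := ⟨x, hKH x hx⟩
    rcases hbwd (q x') (hmem (x := x') hx) (fun h => h3 (congrArg Subtype.val (hinj (x := x') (y := b') hx hb h)))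
      (fun h => h4 (congrArg Subtype.val (hinj (x := x') (y := c') hx hc h)))
      ((hcomm' (x := b') hb hx).2 h6) ((hcomm' (x := c') hc hx).2 h7) (by
        rintro _ ⟨⟨y, hy, rfl⟩, -⟩ hby hcy
        exact (hcomm' (x := x') hx hy).2 (h8 y hy.1 hy.2.2 ((hcomm' (x := b') hb hy).1 hby)
          ((hcomm' (x := c') hc hy).1 hcy))) with h | h | h
    · exact Or.inl (congrArg Subtype.val (hinj (x := x') hx hd h))
    · exact Or.inr (Or.inl (congrArg Subtype.val (hinj (x := x') hx he h)))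
    · exact Or.inr (Or.inr (congrArg Subtype.val (hinj (x := x') hx hf h)))
  · have main : ∀ u : ↥H, u ∈ K → (q u = q d ∨ q u = q e ∨ q u = q f) → (u : G) ∈ tri D a₀ b c := by
      intro u hu hor
      obtain ⟨-, hnb, hnc, hbu, hcu, hall⟩ := hfwd _ hor
      refine ⟨hu.1, hu.2.1, fun h => hnb (congrArg q (show u = b' from Subtype.ext h)),
        fun h => hnc (congrArg q (show u = c' from Subtype.ext h)), hu.2.2,
        (hcomm' (x := b') hb hu).1 hbu, (hcomm' (x := c') hc hu).1 hcu, fun y hy hay hby hcy => ?_⟩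
      by_cases hya : y = a₀
      · rw [hya]; exact hu.2.2.symm
      · have hy' : y ∈ nbr D a₀ := ⟨hy, hya, hay⟩
        exact (hcomm' (y := ⟨y, hKH y hy'⟩) hu hy').1 (hall _ (hmem (x := ⟨y, hKH y hy'⟩) hy')
          ((hcomm' (x := b') hb hy').2 hby) ((hcomm' (x := c') hc hy').2 hcy))
    rintro (rfl | rfl | rfl)
    exacts [main d hd (Or.inl rfl), main e he (Or.inr (Or.inl rfl)), main f hf (Or.inr (Or.inr rfl))]
  · intro y hy
    have hz : b' * c' * d * e * f ∈ Subgroup.center ↥H := hker (by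
      rw [MonoidHom.mem_ker, map_mul, map_mul, map_mul, map_mul]; exact hprod)
    exact congrArg Subtype.val (Subgroup.mem_center_iff.1 hz ⟨y, hKH y hy⟩)

/-- The product of the six members is trivial. -/
theorem tri_data (hD : IsThreeTranspositionGroup D) (hprim : IsPrimitiveUnderConj D) (ht : IsOfTypeM22 G D)
    {a b c : G} (ha : a ∈ D) (hb : b ∈ D) (hc : c ∈ D) (nab : a ≠ b) (nac : a ≠ c) (nbc : b ≠ c)
    (hab : Commute a b) (hac : Commute a c) (hbc : Commute b c) :
    ∃ d e f : G, (d ≠ e ∧ d ≠ f ∧ e ≠ f) ∧ (Commute d e ∧ Commute d f ∧ Commute e f) ∧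
      (∀ x, x ∈ tri D a b c ↔ x = d ∨ x = e ∨ x = f) ∧ a * b * c = d * e * f := by
  have hlev := level22 hD ht
  have hS := hD.1
  have hZ := ht.1
  obtain ⟨d, e, f, hne, hiff, hA⟩ := tri_chart hD ht ha (b := b) (c := c) ⟨hb, nab.symm, hab⟩
    ⟨hc, nac.symm, hac⟩ nbc hbc
  obtain ⟨d₂, e₂, f₂, hne₂, hiff₂, hB⟩ := tri_chart hD ht hb (b := a) (c := c) ⟨ha, nab, hab.symm⟩
    ⟨hc, nbc.symm, hbc⟩ nac hac
  obtain ⟨hdD, hda, -, -, had, hbd, hcd, hdall⟩ := (hiff d).2 (Or.inl rfl)
  obtain ⟨heD, -, -, -, hae, hbe, hce, heall⟩ := (hiff e).2 (Or.inr (Or.inl rfl))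
  obtain ⟨hfD, -, -, -, haf, hbf, hcf, -⟩ := (hiff f).2 (Or.inr (Or.inr rfl))
  have hde : Commute d e := hdall e heD hae hbe hce
  have hdf : Commute d f := hdall f hfD haf hbf hcf
  have hef : Commute e f := heall f hfD haf hbf hcf
  refine ⟨d, e, f, hne, ⟨hde, hdf, hef⟩, hiff, ?_⟩
  have hB' : ∀ y ∈ nbr D b, Commute y (a * c * d * e * f) := by
    have hset : ∀ x, (x = d₂ ∨ x = e₂ ∨ x = f₂) ↔ (x = d ∨ x = e ∨ x = f) := fun x => by
      rw [← hiff₂, tri_swap, hiff]
    have hprodeq : d₂ * e₂ * f₂ = d * e * f := by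
      have hd₂ := (hset d₂).1 (Or.inl rfl)
      have he₂ := (hset e₂).1 (Or.inr (Or.inl rfl))
      have hf₂ := (hset f₂).1 (Or.inr (Or.inr rfl))
      have p1 : d * f * e = d * e * f := by rw [mul_assoc, hef.symm.eq, ← mul_assoc]
      have p2 : e * d * f = d * e * f := by rw [hde.symm.eq]
      have p3 : e * f * d = d * e * f := by
        rw [mul_assoc, hdf.symm.eq, ← mul_assoc, hde.symm.eq]
      have p4 : f * d * e = d * e * f := by rw [hdf.symm.eq, p1]
      have p5 : f * e * d = d * e * f := by rw [hef.symm.eq, p3]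
      rcases hd₂ with rfl | rfl | rfl <;> rcases he₂ with rfl | rfl | rfl <;> rcases hf₂ with rfl | rfl | rfl <;>
        first
          | exact absurd rfl hne₂.1
          | exact absurd rfl hne₂.2.1
          | exact absurd rfl hne₂.2.2
          | rfl
          | exact p1
          | exact p2
          | exact p3
          | exact p4
          | exact p5
    intro y hy
    have h := hB y hy
    have : a * c * d₂ * e₂ * f₂ = a * c * d * e * f := by
      simp only [mul_assoc] at hprodeq ⊢; rw [hprodeq]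
    rwa [this] at h
  -- the product commutes with two maximal subgroups
  set w := a * b * c * d * e * f with hw
  have hbi := inv_sq (hS.1 b hb)
  have hai := inv_sq (hS.1 a ha)
  have hwA : ∀ y ∈ D, Commute a y → Commute y w := by
    intro y hy hay
    have hw' : w = a * (b * c * d * e * f) := by rw [hw]; simp only [mul_assoc]
    rw [hw']
    by_cases hya : y = a
    · rw [hya]
      exact (Commute.refl a).mul_right ((((hab.mul_right hac).mul_right had).mul_right hae).mul_right haf)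
    · exact hay.symm.mul_right (hA y ⟨hy, hya, hay⟩)
  have hwB : ∀ y ∈ D, Commute b y → Commute y w := by
    intro y hy hby
    have hw' : w = b * (a * c * d * e * f) := by
      rw [hw, show b * (a * c * d * e * f) = b * a * c * d * e * f by simp only [mul_assoc], hab.eq]
    rw [hw']
    by_cases hyb : y = b
    · rw [hyb]
      exact (Commute.refl b).mul_right ((((hab.symm.mul_right hbc).mul_right hbd).mul_right hbe).mul_right hbf)
    · exact hby.symm.mul_right (hB' y ⟨hy, hyb, hby⟩)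
  have hwid : w = 1 := by
    have hw2 : ∃ a ∈ D, ∃ b ∈ D, a ≠ b ∧ Commute a b := ⟨a, ha, b, hb, nab, hab⟩
    obtain ⟨-, hmax⟩ := maximal_D_subgroup hD hprim hw2 ha
    set Y : Set G := {y | y ∈ D ∧ (Commute a y ∨ Commute b y)}
    have hDsub : IsDSubgroup D (Subgroup.closure Y) := by
      show Subgroup.closure {y : G | y ∈ D ∧ y ∈ Subgroup.closure Y} = Subgroup.closure Y
      exact le_antisymm ((Subgroup.closure_le _).2 fun y hy => hy.2)
        (Subgroup.closure_mono fun y hy => ⟨hy.1, Subgroup.subset_closure hy⟩)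
    have htop : Subgroup.closure Y = ⊤ := by
      refine (hmax _ hDsub (Subgroup.closure_mono fun y hy => ⟨hy.1, Or.inl hy.2⟩)).resolve_left fun heq => ?_
      refine nab (hlev.sep b hb a ha fun y hy hby => ?_).symm
      have hy' : y ∈ Subgroup.closure {y : G | y ∈ D ∧ Commute a y} := heq ▸ Subgroup.subset_closure ⟨hy, Or.inr hby⟩
      have hle : Subgroup.closure {y : G | y ∈ D ∧ Commute a y} ≤ Subgroup.centralizer ({a} : Set G) :=
        (Subgroup.closure_le _).2 fun z hz => Subgroup.mem_centralizer_singleton_iff.2 hz.2.symm.eq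
      exact (Subgroup.mem_centralizer_singleton_iff.1 (hle hy') : y * a = a * y).symm
    have hwc : w ∈ Subgroup.center G := by
      rw [Subgroup.mem_center_iff]
      intro g
      have hle : Subgroup.closure Y ≤ Subgroup.centralizer ({w} : Set G) :=
        (Subgroup.closure_le _).2 fun z hz => Subgroup.mem_centralizer_singleton_iff.2
          (hz.2.elim (fun h => (hwA z hz.1 h).eq) (fun h => (hwB z hz.1 h).eq))
      exact Subgroup.mem_centralizer_singleton_iff.1 (hle (htop ▸ Subgroup.mem_top g))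
    rwa [hZ, Subgroup.mem_bot] at hwc
  have hdd : d * d = 1 := inv_sq (hS.1 d hdD)
  have hee : e * e = 1 := inv_sq (hS.1 e heD)
  have hff : f * f = 1 := inv_sq (hS.1 f hfD)
  have hsq : (d * e * f) * (d * e * f) = 1 := by
    rw [← pow_two, (hdf.mul_left hef).mul_pow, hde.mul_pow, pow_two, pow_two, pow_two, hdd, hee, hff,
      one_mul, one_mul]
  have h1 : (a * b * c) * (d * e * f) = 1 := by rw [← hwid, hw]; simp only [mul_assoc]
  rw [eq_inv_of_mul_eq_one_left h1, inv_eq_of_mul_eq_one_right hsq]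

end Cfsg.Agent.Lib.ThreeTransp.Products
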