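import Cfsg.Agent.Lib.ThreeTransp.QuadSub
import Cfsg.Agent.Lib.ThreeTransp.SubOrthBase

/-!
The normaliser in `omegaGL` of a quadratic extension field moved by the adjoint is maximal, in dimension at least
thirteen.
-/

set_option autoImplicit false

namespace Cfsg.Agent.Lib.ThreeTransp.UniInOrth

open Matrix QuadraticMap
open Cfsg.Agent.Lib.MaxSub
open Cfsg.Agent.Lib.MaxSub.OrthSplit (InE)
open Cfsg.Agent.Lib.ThreeTransp.DecompOrth (inE_zero inE_neg inE_add inE_flip)
open Cfsg.Agent.Lib.ThreeTransp.SubOrth (gen_exists_sing gen_partner gen_span_sing inE_line inE_comm)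
open Cfsg.Agent.Lib.Geometry (quad_add quad_sub quad_smul quad_polar_comm quad_polar_self)
open scoped MatrixGroups Matrix

attribute [-simp] QuadraticMap.polarBilin_apply_apply

variable {ι : Type} [Fintype ι] [DecidableEq ι] {F : Type*} [Field F]

/-- A quadratic extension field acting by similarities and moved by the adjoint. -/
structure Sys (Q : QuadraticForm F (ι → F)) (K : Subalgebra F (Matrix ι ι F)) (ω : Matrix ι ι F) (s t : F) : Prop where
  hN : (polarBilin Q).Nondegenerate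
  hn : 13 ≤ Fintype.card ι
  gen : QuadSub.Gen K ω s t
  adj : ∀ x y, polarBilin Q (ω *ᵥ x) y = polarBilin Q x (s • y - ω *ᵥ y)
  sing : ∀ v, Q v = 0 → Q (ω *ᵥ v) = 0 ∧ polarBilin Q v (ω *ᵥ v) = 0

variable {Q : QuadraticForm F (ι → F)} {K : Subalgebra F (Matrix ι ι F)} {ω : Matrix ι ι F} {s t : F}
  {M : Subgroup (GL ι F)}

theorem Sys.adj' (S : Sys Q K ω s t) (x y : ι → F) :
    polarBilin Q x (ω *ᵥ y) = s * polarBilin Q x y - polarBilin Q (ω *ᵥ x) y := by
  rw [S.adj, map_sub, map_smul, smul_eq_mul]; ring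

theorem Sys.adj'' (S : Sys Q K ω s t) (x y : ι → F) :
    polarBilin Q (ω *ᵥ x) (ω *ᵥ y) = -(t * polarBilin Q x y) := by
  rw [S.adj, S.gen.apply_sq, sub_add_cancel_left, map_neg, map_smul, smul_eq_mul]

/-- Orthogonality to a vector and its image passes to the image. -/
theorem Sys.perp (S : Sys Q K ω s t) {x y : ι → F} (h1 : polarBilin Q x y = 0)
    (h2 : polarBilin Q (ω *ᵥ x) y = 0) :
    polarBilin Q x (ω *ᵥ y) = 0 ∧ polarBilin Q (ω *ᵥ x) (ω *ᵥ y) = 0 :=
  ⟨by rw [S.adj', h1, h2]; ring, by rw [S.adj'', h1]; ring⟩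

/-- The group contains the root elements of the extension lines. -/
def Base (Q : QuadraticForm F (ι → F)) (ω : Matrix ι ι F) (M : Subgroup (GL ι F)) : Prop :=
  ∀ v, Q v = 0 → ∀ c : F, InE Q M v (c • ω *ᵥ v)

variable [Finite F]

/-- The root elements of the extension lines centralise the field. -/
theorem Sys.base (S : Sys Q K ω s t) (h : Cfsg.Geo.subalgebraNormalizer K ⊓ Cfsg.Geo.omegaGL ⇑Q ≤ M) :
    Base Q ω M := fun v hv c => by
  have hx : polarBilin Q v (c • ω *ᵥ v) = 0 := by rw [map_smul, (S.sing v hv).2, smul_zero]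
  refine ⟨hv, hx, h ⟨S.gen.mem_normalizer_iff.mpr (Or.inl ?_),
    Orth.eichGL_mem_omega S.hN (by have := S.hn; omega) hv hx⟩⟩
  refine Matrix.ext_of_mulVec_single fun i => ?_
  rw [← Matrix.mulVec_mulVec, ← Matrix.mulVec_mulVec, Orth.eichGL_mulVec, Orth.eichGL_mulVec, quad_smul,
    (S.sing v hv).1, map_smul, map_smul, Matrix.mulVec_sub, Matrix.mulVec_add, Matrix.mulVec_smul, Matrix.mulVec_smul,
    Matrix.mulVec_smul, S.gen.apply_sq, S.adj'', S.adj, map_sub, map_smul]
  simp only [smul_eq_mul]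
  module

/-- An element outside the normaliser moves some singular extension line. -/
theorem Sys.exists_moved (S : Sys Q K ω s t) {g : GL ι F} (hg : g ∉ Cfsg.Geo.subalgebraNormalizer K) :
    ∃ v, Q v = 0 ∧ v ≠ 0 ∧
      (g : Matrix ι ι F) *ᵥ (ω *ᵥ v) ∉ Submodule.span F {(g : Matrix ι ι F) *ᵥ v, ω *ᵥ ((g : Matrix ι ι F) *ᵥ v)} := by
  classical
  have G := S.gen
  have hn := S.hn
  haveI : Nonempty ι := Fintype.card_pos_iff.mp (by omega)
  by_contra hall
  push Not at hall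
  have ginj : Function.Injective (g : Matrix ι ι F).mulVec := Matrix.mulVec_injective_iff_isUnit.mpr g.isUnit
  have hex : ∀ v, Q v = 0 → v ≠ 0 → ∃ a b : F,
      (g : Matrix ι ι F) *ᵥ (ω *ᵥ v) = a • (g : Matrix ι ι F) *ᵥ v + b • ω *ᵥ ((g : Matrix ι ι F) *ᵥ v) := fun v hv h0 => by
    obtain ⟨a, b, h⟩ := Submodule.mem_span_pair.mp (hall v hv h0)
    exact ⟨a, b, h.symm⟩
  have step : ∀ v w, Q v = 0 → Q w = 0 → v ≠ 0 → w ∉ Submodule.span F {v, ω *ᵥ v} → polarBilin Q v w = 0 →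
      ∀ a b : F, (g : Matrix ι ι F) *ᵥ (ω *ᵥ v) = a • (g : Matrix ι ι F) *ᵥ v + b • ω *ᵥ ((g : Matrix ι ι F) *ᵥ v) →
      (g : Matrix ι ι F) *ᵥ (ω *ᵥ w) = a • (g : Matrix ι ι F) *ᵥ w + b • ω *ᵥ ((g : Matrix ι ι F) *ᵥ w) := by
    intro v w hv hw hv0 hwv hvw a b hab
    have hw0 : w ≠ 0 := fun e => hwv (e ▸ Submodule.zero_mem _)
    obtain ⟨a', b', hab'⟩ := hex w hw hw0
    have hvw0 : v + w ≠ 0 := fun e => hwv (Submodule.mem_span_pair.mpr ⟨-1, 0, by
      rw [eq_neg_of_add_eq_zero_right e]; module⟩)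
    obtain ⟨c, d, hcd⟩ := hex (v + w) (by rw [quad_add, hv, hw, hvw, add_zero, add_zero]) hvw0
    set x := (g : Matrix ι ι F) *ᵥ v with hx
    set y := (g : Matrix ι ι F) *ᵥ w with hy
    rw [Matrix.mulVec_add, Matrix.mulVec_add, hab, hab', Matrix.mulVec_add, ← hx, ← hy, Matrix.mulVec_add] at hcd
    have hx0 : x ≠ 0 := fun e => hv0 (ginj (e.trans (Matrix.mulVec_zero _).symm))
    have hyx : y ∉ Submodule.span F {x, ω *ᵥ x} := by
      intro hm
      obtain ⟨p, q, hpq⟩ := Submodule.mem_span_pair.mp hm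
      have hb : b ≠ 0 := by
        intro hb
        rw [hb, zero_smul, add_zero, ← Matrix.mulVec_smul] at hab
        exact G.ne_smul hv0 a (ginj hab)
      refine hwv (Submodule.mem_span_pair.mpr ⟨p - q / b * a, q / b, ginj ?_⟩)
      show (g : Matrix ι ι F) *ᵥ _ = (g : Matrix ι ι F) *ᵥ w
      rw [Matrix.mulVec_add, Matrix.mulVec_smul, Matrix.mulVec_smul, hab, ← hy, ← hpq, ← hx]
      match_scalars <;> field_simp
      ring
    obtain ⟨h1, h2, h3, h4⟩ := G.indep_two hx0 hyx (a := a - c) (b := b - d) (c := a' - c) (d := b' - d)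
      (by linear_combination (norm := module) hcd)
    rw [hab', sub_eq_zero.mp h1, sub_eq_zero.mp h2, sub_eq_zero.mp h3, sub_eq_zero.mp h4]
  obtain ⟨v₀, hQv₀, hv₀, -⟩ := gen_exists_sing (Q := Q) ∅ ∅ (by simp; omega)
  have hv₀0 : v₀ ≠ 0 := fun e => hv₀ (by rw [e]; exact Submodule.zero_mem _)
  obtain ⟨a, b, hab⟩ := hex v₀ hQv₀ hv₀0
  refine hg (G.mem_of_comb (a := a) (b := b) fun x => ?_)
  have hmem := gen_span_sing S.hN ∅ (by simp; omega) (x := x) (by simp)
  induction hmem using Submodule.span_induction with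
  | mem z hz =>
    rcases eq_or_ne z 0 with rfl | hz0
    · simp
    obtain ⟨w, hQw, hw, hwp⟩ := gen_exists_sing (Q := Q) {v₀, z} {v₀, ω *ᵥ v₀, z, ω *ᵥ z} (by
      have := Finset.card_le_two (a := v₀) (b := z)
      have := Finset.card_le_four (a := v₀) (b := ω *ᵥ v₀) (c := z) (d := ω *ᵥ z)
      omega)
    have hw0 : w ≠ 0 := fun e => hw (e ▸ Submodule.zero_mem _)
    have h1 := step v₀ w hQv₀ hQw hv₀0 (fun h => hw (Submodule.span_mono (by simp [Set.insert_subset_iff]) h))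
      (hwp v₀ (by simp)) a b hab
    refine step w z hQw hz.1 hw0 (fun h => hw ?_) (by rw [quad_polar_comm]; exact hwp z (by simp)) a b h1
    exact Submodule.span_mono (by simp [Set.insert_subset_iff]) (G.mem_symm hz0 h)
  | zero => simp
  | add p q _ _ hp hq => simp only [Matrix.mulVec_add, hp, hq]; module
  | smul c p _ hp => simp only [Matrix.mulVec_smul, hp]; module

/-- The vectors orthogonal to `a` and `ω a` are the vectors of `a`. -/
theorem Sys.line_of_plane (S : Sys Q K ω s t) (hB : Base Q ω M) {a b : ι → F} (hQa : Q a = 0) (hQb : Q b = 0)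
    (ha0 : a ≠ 0) (hab : polarBilin Q a b = 0) (hb : b ∉ Submodule.span F {a, ω *ᵥ a})
    (hP : ∀ c : F, InE Q M a (c • b)) {x : ι → F} (hx : polarBilin Q a x = 0) (hx' : polarBilin Q (ω *ᵥ a) x = 0) :
    InE Q M a x := by
  classical
  have G := S.gen
  have hn := S.hn
  set Full : (ι → F) → Prop := fun y => ∀ c : F, InE Q M a (c • y) with hFull
  have rule : ∀ y w, Q y = 0 → Q w = 0 → Full y → polarBilin Q a w = 0 → polarBilin Q (ω *ᵥ a) w = 0 →
      polarBilin Q y w = 0 → polarBilin Q y (ω *ᵥ w) ≠ 0 → Full w := by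
    intro y w hQy hQw hy haw haw' hyw hyw' c
    set κ := (polarBilin Q y (ω *ᵥ w))⁻¹ with hκ
    have h1 : InE Q M y (c • a) := by
      rcases eq_or_ne c 0 with hc | hc
      · rw [hc, zero_smul]; simpa using inE_line (K := M) hQy 0
      have := (inE_flip (hy (-c)) (by rw [quad_smul, hQy, mul_zero])).scale (neg_ne_zero.mpr hc)
      rwa [smul_neg, neg_smul, neg_neg] at this
    have h2 : InE Q M (κ • ω *ᵥ w) ((1 : F) • w) := by
      have := inE_neg (inE_flip (hB w hQw κ) (by rw [quad_smul, (S.sing w hQw).1, mul_zero]))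
      rw [neg_neg] at this
      rwa [one_smul]
    have := inE_comm (by rw [map_smul, smul_eq_mul, hκ, inv_mul_cancel₀ hyw'])
      hQy hQa hQw hyw haw
      (by rw [map_smul, LinearMap.smul_apply, quad_polar_comm Q (ω *ᵥ w), (S.perp haw haw').1, smul_zero]) h1 h2
    rwa [mul_one] at this
  -- a first extension line
  obtain ⟨w₀, hQw₀, haw₀, haw₀', hbw₀, hbw₀'⟩ : ∃ w, Q w = 0 ∧ polarBilin Q a w = 0 ∧ polarBilin Q (ω *ᵥ a) w = 0 ∧
      polarBilin Q b w = 0 ∧ polarBilin Q b (ω *ᵥ w) ≠ 0 := by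
    have hbs : ω *ᵥ b ∉ Submodule.span F (({a, ω *ᵥ a, b} : Finset (ι → F)) : Set (ι → F)) := by
      intro h
      simp only [Finset.coe_insert, Finset.coe_singleton] at h
      obtain ⟨p, m, hm, hp⟩ := Submodule.mem_span_insert.mp h
      obtain ⟨q, r, rfl⟩ := Submodule.mem_span_pair.mp hm
      exact one_ne_zero (G.indep_two ha0 hb (a := -p) (b := -q) (c := -r) (d := 1) (by rw [hp]; module)).2.2.2
    obtain ⟨z, hz, hzb⟩ := Orth.exists_dual S.hN _ hbs
    have hsp := gen_span_sing S.hN {a, ω *ᵥ a, b} (by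
      have := Finset.card_le_three (a := a) (b := ω *ᵥ a) (c := b)
      omega) (x := z) fun y hy => by rw [quad_polar_comm]; exact hz y (Submodule.subset_span hy)
    obtain ⟨u, hu, hub⟩ : ∃ u, (Q u = 0 ∧ ∀ y ∈ ({a, ω *ᵥ a, b} : Finset (ι → F)), polarBilin Q y u = 0) ∧
        polarBilin Q (ω *ᵥ b) u ≠ 0 := by
      by_contra hc
      push Not at hc
      have h0 : polarBilin Q (ω *ᵥ b) z = 0 := (Submodule.span_le.mpr fun u hu => hc u hu :
        Submodule.span F {u | Q u = 0 ∧ ∀ y ∈ ({a, ω *ᵥ a, b} : Finset (ι → F)), polarBilin Q y u = 0} ≤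
          LinearMap.ker (polarBilin Q (ω *ᵥ b))) hsp
      rw [quad_polar_comm, hzb] at h0
      exact one_ne_zero h0
    refine ⟨u, hu.1, hu.2 a (by simp), hu.2 _ (by simp), hu.2 b (by simp), ?_⟩
    rw [S.adj', hu.2 b (by simp), mul_zero, zero_sub, neg_ne_zero]
    exact hub
  obtain ⟨e, hQe, he, hes⟩ := gen_exists_sing (Q := Q) {a, ω *ᵥ a, b, ω *ᵥ b, w₀, ω *ᵥ w₀} {a, ω *ᵥ a} (by
    have := Finset.card_le_six (a := a) (b := ω *ᵥ a) (c := b) (d := ω *ᵥ b) (e := w₀) (f := ω *ᵥ w₀)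
    have := Finset.card_le_two (a := a) (b := ω *ᵥ a)
    omega)
  rw [Finset.coe_pair] at he
  have he0 : e ≠ 0 := fun h => he (h ▸ Submodule.zero_mem _)
  have hae : polarBilin Q a e = 0 := hes a (by simp)
  have hae' : polarBilin Q (ω *ᵥ a) e = 0 := hes _ (by simp)
  have hfull₀ : Full w₀ := rule b w₀ hQb hQw₀ hP haw₀ haw₀' hbw₀ hbw₀'
  have hline : ∀ y, Q y = 0 → polarBilin Q a y = 0 → polarBilin Q (ω *ᵥ a) y = 0 → polarBilin Q b y = 0 →
      polarBilin Q (ω *ᵥ b) y = 0 → polarBilin Q w₀ y = 0 → Full y := by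
    intro y hQy h1 h2 h3 h4 h5 c
    have hf : Full (w₀ + y) := rule b (w₀ + y) hQb (by rw [quad_add, hQw₀, hQy, h5, add_zero, add_zero]) hP
      (by rw [map_add, haw₀, h1, add_zero]) (by rw [map_add, haw₀', h2, add_zero])
      (by rw [map_add, hbw₀, h3, add_zero])
      (by rw [Matrix.mulVec_add, map_add, (S.perp h3 h4).1, add_zero]; exact hbw₀')
    have := (hf c).sub (hfull₀ c)
    rwa [smul_add, add_sub_cancel_left] at this
  have hfe : Full e := hline e hQe hae hae' (hes b (by simp)) (hes _ (by simp)) (hes w₀ (by simp))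
  have hfe' : Full (ω *ᵥ e) := hline _ (S.sing e hQe).1 (S.perp hae hae').1 (S.perp hae hae').2
    (S.perp (hes b (by simp)) (hes _ (by simp))).1 (S.perp (hes b (by simp)) (hes _ (by simp))).2
    (S.perp (hes w₀ (by simp)) (hes _ (by simp))).1
  -- spreading
  have spread : ∀ u z, Q u = 0 → Q z = 0 → polarBilin Q a z = 0 → polarBilin Q (ω *ᵥ a) z = 0 →
      polarBilin Q u z ≠ 0 ∨ polarBilin Q u (ω *ᵥ z) ≠ 0 → Full u → Full (ω *ᵥ u) →
      Full z ∧ Full (ω *ᵥ z) := by
    intro u z hQu hQz haz haz' hne hu hu'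
    set A := polarBilin Q u z with hA
    set C := polarBilin Q u (ω *ᵥ z) with hC
    have hN : C * C - s * (A * C) - t * (A * A) ≠ 0 := by
      have := G.norm_ne (a := C) (b := -A) (by
        rcases hne with h | h
        · exact Or.inr (neg_ne_zero.mpr h)
        · exact Or.inl h)
      convert this using 1
      ring
    have hA' : polarBilin Q (ω *ᵥ u) z = s * A - C := by rw [hC, S.adj', hA]; ring
    have hC' : polarBilin Q (ω *ᵥ u) (ω *ᵥ z) = -(t * A) := by rw [S.adj'', hA]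
    obtain ⟨haz1, haz1'⟩ := S.perp haz haz'
    have mk : ∀ y p q, Q y = 0 → Full y → p * polarBilin Q y z + q * polarBilin Q y (ω *ᵥ z) = 0 →
        p * polarBilin Q y (ω *ᵥ z) + q * (s * polarBilin Q y (ω *ᵥ z) + t * polarBilin Q y z) ≠ 0 →
        Full (p • z + q • ω *ᵥ z) := by
      intro y p q hQy hy h1 h2
      have hQw : Q (p • z + q • ω *ᵥ z) = 0 := by
        rw [quad_add, quad_smul, quad_smul, hQz, (S.sing z hQz).1, map_smul, map_smul, LinearMap.smul_apply,
          (S.sing z hQz).2]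
        simp
      refine rule y _ hQy hQw hy (by simp [haz, haz1]) (by simp [haz', haz1']) (by simpa using h1) ?_
      rw [Matrix.mulVec_add, Matrix.mulVec_smul, Matrix.mulVec_smul, G.apply_sq]
      simpa [mul_add] using h2
    have h1 := mk u C (-A) hQu hu (by rw [← hA, ← hC]; ring) (by
      rw [← hA, ← hC]; convert hN using 1; ring)
    have h2 := mk (ω *ᵥ u) (-(t * A)) (C - s * A) (S.sing u hQu).1 hu' (by rw [hA', hC']; ring) (by
      rw [hA', hC']
      have := mul_ne_zero G.t_ne hN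
      intro h0
      exact this (by linear_combination -h0))
    have hD : ∀ p q : F, Full (p • z + q • ω *ᵥ z) := by
      intro p q c
      set D := C * C - s * (A * C) - t * (A * A) with hDdef
      have e : c • (p • z + q • ω *ᵥ z) = (c * (p * (C - s * A) + q * (t * A)) / D) • (C • z + (-A) • ω *ᵥ z) +
          (c * (p * A + q * C) / D) • ((-(t * A)) • z + (C - s * A) • ω *ᵥ z) := by
        generalize hD' : D = D' at hN
        match_scalars <;> field_simp <;> rw [← hD', hDdef] <;> ring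
      rw [e]
      exact inE_add (h1 _) (h2 _)
    exact ⟨by simpa using hD 1 0, by simpa using hD 0 1⟩
  have hall : ∀ z, Q z = 0 → polarBilin Q a z = 0 → polarBilin Q (ω *ᵥ a) z = 0 → InE Q M a z := by
    intro z hQz haz haz'
    suffices Full z by simpa using this 1
    by_cases hzl : z ∈ Submodule.span F {a, ω *ᵥ a}
    · obtain ⟨p, q, rfl⟩ := Submodule.mem_span_pair.mp hzl
      intro c
      rw [smul_add, smul_smul, smul_smul]
      exact inE_add (inE_line hQa _) (hB a hQa _)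
    by_cases hze : polarBilin Q e z ≠ 0 ∨ polarBilin Q e (ω *ᵥ z) ≠ 0
    · exact (spread e z hQe hQz haz haz' hze hfe hfe').1
    rw [not_or, not_not, not_not] at hze
    have haa : polarBilin Q a a = 0 := Orth.polar_self_of_sing Q hQa
    have ha'a : polarBilin Q (ω *ᵥ a) a = 0 := by rw [quad_polar_comm, (S.sing a hQa).2]
    obtain ⟨e₁, hQe₁, hee₁, he₁s⟩ := gen_partner S.hN {a, ω *ᵥ a} hQe (by simp [hae, hae']) (by rwa [Finset.coe_pair])
    obtain ⟨w, hQw, haw, haw', hew, hwz⟩ : ∃ w, Q w = 0 ∧ polarBilin Q a w = 0 ∧ polarBilin Q (ω *ᵥ a) w = 0 ∧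
        polarBilin Q e w ≠ 0 ∧ polarBilin Q w z ≠ 0 := by
      have h1 : polarBilin Q a e₁ = 0 := he₁s a (by simp)
      have h2 : polarBilin Q (ω *ᵥ a) e₁ = 0 := he₁s _ (by simp)
      by_cases hz1 : polarBilin Q e₁ z ≠ 0
      · exact ⟨e₁, hQe₁, h1, h2, by rw [hee₁]; exact one_ne_zero, hz1⟩
      push Not at hz1
      have hzs : z ∉ Submodule.span F (({a, ω *ᵥ a, e, e₁} : Finset (ι → F)) : Set (ι → F)) := fun hm => by
        simp only [Finset.coe_insert, Finset.coe_singleton] at hm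
        obtain ⟨p, m, hm, hp⟩ := Submodule.mem_span_insert.mp hm
        obtain ⟨q, m', hm', hq⟩ := Submodule.mem_span_insert.mp hm
        obtain ⟨u, v, huv⟩ := Submodule.mem_span_pair.mp hm'
        rw [hq, ← huv] at hp
        have h3 := hze.1
        have h4 := hz1
        rw [hp] at h3 h4
        simp only [map_add, map_smul, smul_eq_mul, quad_polar_comm Q e a, quad_polar_comm Q e (ω *ᵥ a), hae, hae',
          Orth.polar_self_of_sing Q hQe, hee₁, quad_polar_comm Q e₁ a, quad_polar_comm Q e₁ (ω *ᵥ a), h1, h2,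
          quad_polar_comm Q e₁ e, Orth.polar_self_of_sing Q hQe₁, mul_zero, mul_one, zero_add, add_zero] at h3 h4
        refine hzl (Submodule.mem_span_pair.mpr ⟨p, q, ?_⟩)
        rw [hp, h3, h4, zero_smul, zero_smul, add_zero, add_zero]
      obtain ⟨e₂, hQe₂, hze₂, he₂s⟩ := gen_partner S.hN {a, ω *ᵥ a, e, e₁} hQz (by
        simp only [Finset.mem_insert, Finset.mem_singleton, forall_eq_or_imp, forall_eq]
        exact ⟨haz, haz', hze.1, hz1⟩) hzs
      refine ⟨e₁ + e₂, by rw [quad_add, hQe₁, hQe₂, he₂s e₁ (by simp), add_zero, add_zero], ?_, ?_, ?_, ?_⟩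
      · rw [map_add, h1, he₂s a (by simp), add_zero]
      · rw [map_add, h2, he₂s _ (by simp), add_zero]
      · rw [map_add, hee₁, he₂s e (by simp), add_zero]; exact one_ne_zero
      · rw [map_add, LinearMap.add_apply, hz1, zero_add, quad_polar_comm, hze₂]; exact one_ne_zero
    obtain ⟨hfw, hfw'⟩ := spread e w hQe hQw haw haw' (Or.inl hew) hfe hfe'
    exact (spread w z hQw hQz haz haz' (Or.inl hwz) hfw hfw').1
  have hsp := gen_span_sing S.hN {a, ω *ᵥ a} (by
    have := Finset.card_le_two (a := a) (b := ω *ᵥ a)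
    omega) (x := x) (by simp [hx, hx'])
  suffices ∀ c : F, InE Q M a (c • x) by simpa using this 1
  clear hx hx'
  induction hsp using Submodule.span_induction with
  | mem y hy =>
    intro c
    exact hall _ (by rw [quad_smul, hy.1, mul_zero]) (by rw [map_smul, hy.2 a (by simp), smul_zero])
      (by rw [map_smul, hy.2 _ (by simp), smul_zero])
  | zero => intro c; rw [smul_zero]; simpa using inE_line (K := M) hQa 0
  | add p q _ _ ihp ihq => intro c; rw [smul_add]; exact inE_add (ihp c) (ihq c)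
  | smul d p _ ih => intro c; rw [smul_smul]; exact ih _

/-- A plane that is not an extension line gives a full root. -/
theorem Sys.root_of_plane (S : Sys Q K ω s t) (hB : Base Q ω M) {a b : ι → F} (hQa : Q a = 0) (hQb : Q b = 0)
    (ha0 : a ≠ 0) (hab : polarBilin Q a b = 0) (hb : b ∉ Submodule.span F {a, ω *ᵥ a})
    (hP : ∀ c : F, InE Q M a (c • b)) : Orth.Root Q M a := by
  classical
  have G := S.gen
  have hn := S.hn
  refine ⟨hQa, fun x hx => ?_⟩
  suffices InE Q M a x by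
    obtain ⟨_, _, hm⟩ := this
    exact hm
  have hline := fun {y : ι → F} => S.line_of_plane hB hQa hQb ha0 hab hb hP (x := y)
  obtain ⟨e₀, hQe₀, he₀, he₀s⟩ := gen_exists_sing (Q := Q) {a, ω *ᵥ a} {a, ω *ᵥ a} (by
    have := Finset.card_le_two (a := a) (b := ω *ᵥ a)
    omega)
  obtain ⟨f, hQf, hef, hfs⟩ := gen_partner S.hN {a, ω *ᵥ a} hQe₀ he₀s he₀
  have hae₀ : polarBilin Q a e₀ = 0 := he₀s a (by simp)
  have haf : polarBilin Q a f = 0 := hfs a (by simp)
  have haf' : polarBilin Q (ω *ᵥ a) f = 0 := hfs _ (by simp)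
  have hf0 : f ≠ 0 := fun h => by rw [h, map_zero] at hef; exact zero_ne_one hef
  have haKf : a ∉ Submodule.span F {f, ω *ᵥ f} := fun h => by
    obtain ⟨p, q, hpq⟩ := Submodule.mem_span_pair.mp (G.mem_symm ha0 h)
    rw [← hpq, map_add, map_smul, map_smul, quad_polar_comm Q e₀ a, hae₀, quad_polar_comm Q e₀ (ω *ᵥ a),
      he₀s _ (by simp)] at hef
    simp at hef
  have toA : ∀ y, Q y = 0 → polarBilin Q a y = 0 → polarBilin Q (ω *ᵥ a) y = 0 → ∀ c : F, InE Q M y (c • a) := by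
    intro y hQy h1 h2 c
    rcases eq_or_ne c 0 with hc | hc
    · rw [hc, zero_smul]; simpa using inE_line (K := M) hQy 0
    have h3 := hline (y := (-c) • y) (by rw [map_smul, h1, smul_zero]) (by rw [map_smul, h2, smul_zero])
    have := (inE_flip h3 (by rw [quad_smul, hQy, mul_zero])).scale (neg_ne_zero.mpr hc)
    rwa [smul_neg, neg_smul, neg_neg] at this
  obtain ⟨x₀, hQx₀, hax₀, hfx₀, hfx₀', hex₀, hx₀⟩ : ∃ u, Q u = 0 ∧ polarBilin Q a u = 0 ∧ polarBilin Q f u = 0 ∧
      polarBilin Q (ω *ᵥ f) u = 0 ∧ polarBilin Q e₀ u = 0 ∧ polarBilin Q (ω *ᵥ a) u ≠ 0 := by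
    have hs' : ω *ᵥ a ∉ Submodule.span F (({a, e₀, f, ω *ᵥ f} : Finset (ι → F)) : Set (ι → F)) := by
      intro h
      simp only [Finset.coe_insert, Finset.coe_singleton] at h
      obtain ⟨p, m, hm, hp⟩ := Submodule.mem_span_insert.mp h
      obtain ⟨δ, m', hm', hδ⟩ := Submodule.mem_span_insert.mp hm
      obtain ⟨q, r, rfl⟩ := Submodule.mem_span_pair.mp hm'
      rw [hδ] at hp
      have h1 := congrArg (polarBilin Q f) hp
      simp only [map_add, map_smul, smul_eq_mul, quad_polar_comm Q f (ω *ᵥ a), haf', quad_polar_comm Q f a, haf,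
        quad_polar_comm Q f e₀, hef, Orth.polar_self_of_sing Q hQf, (S.sing f hQf).2, mul_zero, mul_one, zero_add,
        add_zero] at h1
      rw [← h1, zero_smul, zero_add] at hp
      have hfKa : f ∉ Submodule.span F {a, ω *ᵥ a} := fun h => haKf (G.mem_symm hf0 h)
      exact one_ne_zero (G.indep_two ha0 hfKa (a := -p) (b := 1) (c := -q) (d := -r) (by rw [hp]; module)).2.1
    obtain ⟨z, hz, hzb⟩ := Orth.exists_dual S.hN _ hs'
    have hsp := gen_span_sing S.hN {a, e₀, f, ω *ᵥ f} (by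
      have := Finset.card_le_four (a := a) (b := e₀) (c := f) (d := ω *ᵥ f)
      omega) (x := z) fun y hy => by rw [quad_polar_comm]; exact hz y (Submodule.subset_span hy)
    obtain ⟨u, hu, hub⟩ : ∃ u, (Q u = 0 ∧ ∀ y ∈ ({a, e₀, f, ω *ᵥ f} : Finset (ι → F)), polarBilin Q y u = 0) ∧
        polarBilin Q (ω *ᵥ a) u ≠ 0 := by
      by_contra hc
      push Not at hc
      have h0 : polarBilin Q (ω *ᵥ a) z = 0 := (Submodule.span_le.mpr fun u hu => hc u hu :
        Submodule.span F {u | Q u = 0 ∧ ∀ y ∈ ({a, e₀, f, ω *ᵥ f} : Finset (ι → F)), polarBilin Q y u = 0} ≤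
          LinearMap.ker (polarBilin Q (ω *ᵥ a))) hsp
      rw [quad_polar_comm, hzb] at h0
      exact one_ne_zero h0
    exact ⟨u, hu.1, hu.2 a (by simp), hu.2 f (by simp), hu.2 _ (by simp), hu.2 e₀ (by simp), hub⟩
  have hfline : InE Q M f ((1 : F) • x₀) := by
    rw [one_smul]
    exact S.line_of_plane hB hQf hQa hf0 (by rw [quad_polar_comm]; exact haf) haKf (toA f hQf haf haf') hfx₀ hfx₀'
  set κ := polarBilin Q (ω *ᵥ a) x / polarBilin Q (ω *ᵥ a) x₀ with hκ
  have h1 := inE_comm hef hQe₀ hQa hQx₀ hex₀ hax₀ (by rw [quad_polar_comm]; exact haf)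
    (toA e₀ hQe₀ hae₀ (he₀s _ (by simp)) κ) hfline
  rw [mul_one] at h1
  have h2 := hline (y := x - κ • x₀) (by rw [map_sub, map_smul, hx, hax₀, smul_zero, sub_zero])
    (by rw [map_sub, map_smul, smul_eq_mul, hκ, div_mul_cancel₀ _ hx₀, sub_self])
  have := inE_add h2 h1
  rwa [sub_add_cancel] at this

/-- Everything outside the normaliser generates. -/
theorem Sys.omega_le (S : Sys Q K ω s t) (hM : Cfsg.Geo.subalgebraNormalizer K ⊓ Cfsg.Geo.omegaGL ⇑Q ≤ M) {g : GL ι F}
    (hgM : g ∈ M) (hgi : g ∈ Cfsg.isometryGroup F ⇑Q) (hg : g ∉ Cfsg.Geo.subalgebraNormalizer K) :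
    Cfsg.Geo.omegaGL ⇑Q ≤ M := by
  classical
  have hB := S.base hM
  have hn := S.hn
  obtain ⟨v, hQv, hv0, hv⟩ := S.exists_moved hg
  set a := (g : Matrix ι ι F) *ᵥ v with ha
  set b := (g : Matrix ι ι F) *ᵥ (ω *ᵥ v) with hb
  have hQa : Q a = 0 := by rw [ha, Orth.iso_quad hgi, hQv]
  have hQb : Q b = 0 := by rw [hb, Orth.iso_quad hgi, (S.sing v hQv).1]
  have ha0 : a ≠ 0 := fun h => hv0 (Matrix.mulVec_injective_iff_isUnit.mpr g.isUnit
    (h.trans (Matrix.mulVec_zero _).symm))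
  have hab : polarBilin Q a b = 0 := by rw [ha, hb, Orth.iso_polar hgi, (S.sing v hQv).2]
  have hP : ∀ c : F, InE Q M a (c • b) := fun c => by
    have := (hB v hQv c).conj hgM hgi
    rwa [Matrix.mulVec_smul] at this
  have hline := fun {y : ι → F} => S.line_of_plane hB hQa hQb ha0 hab hv hP (x := y)
  obtain ⟨e₀, hQe₀, he₀, he₀s⟩ := gen_exists_sing (Q := Q) {a, ω *ᵥ a} {a, ω *ᵥ a} (by
    have := Finset.card_le_two (a := a) (b := ω *ᵥ a)
    omega)
  obtain ⟨f, hQf, hef, hfs⟩ := gen_partner S.hN {a, ω *ᵥ a} hQe₀ he₀s he₀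
  have hroot : ∀ y, Q y = 0 → y ≠ 0 → y ∉ Submodule.span F {a, ω *ᵥ a} → polarBilin Q a y = 0 →
      polarBilin Q (ω *ᵥ a) y = 0 → Orth.Root Q M y := by
    intro y hQy hy0 hy h1 h2
    refine S.root_of_plane hB hQy hQa hy0 (Orth.polar_symm Q _ _ h1) (fun h => hy (S.gen.mem_symm ha0 h)) fun c => ?_
    rcases eq_or_ne c 0 with hc | hc
    · rw [hc, zero_smul]; simpa using inE_line (K := M) hQy 0
    have h3 := hline (y := (-c) • y) (by rw [map_smul, h1, smul_zero]) (by rw [map_smul, h2, smul_zero])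
    have := (inE_flip h3 (by rw [quad_smul, hQy, mul_zero])).scale (neg_ne_zero.mpr hc)
    rwa [smul_neg, neg_smul, neg_neg] at this
  have hf : f ∉ Submodule.span F {a, ω *ᵥ a} := fun h => by
    obtain ⟨p, q, rfl⟩ := Submodule.mem_span_pair.mp h
    rw [map_add, map_smul, map_smul, quad_polar_comm Q e₀ a, he₀s a (by simp), quad_polar_comm Q e₀ (ω *ᵥ a),
      he₀s _ (by simp)] at hef
    simp at hef
  rw [Finset.coe_pair] at he₀
  have re := hroot e₀ hQe₀ (fun h => he₀ (h ▸ Submodule.zero_mem _)) he₀ (he₀s a (by simp)) (he₀s _ (by simp))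
  have rf := hroot f hQf (fun h => hf (h ▸ Submodule.zero_mem _)) hf (hfs a (by simp)) (hfs _ (by simp))
  exact Orth.omega_le S.hN (by omega) (re.all S.hN rf (by rw [hef]; exact one_ne_zero))

/-- An element of `omegaGL` outside the normaliser. -/
theorem Sys.lt (S : Sys Q K ω s t) :
    Cfsg.Geo.subalgebraNormalizer K ⊓ Cfsg.Geo.omegaGL ⇑Q < Cfsg.Geo.omegaGL ⇑Q := by
  classical
  have G := S.gen
  have hn := S.hn
  obtain ⟨p, hQp, hp, -⟩ := gen_exists_sing (Q := Q) ∅ ∅ (by simp; omega)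
  have hp0 : p ≠ 0 := fun h => hp (by rw [h]; exact Submodule.zero_mem _)
  obtain ⟨p', hQp', hp's, hp'p⟩ := gen_exists_sing (Q := Q) {p, ω *ᵥ p} {p, ω *ᵥ p} (by
    have := Finset.card_le_two (a := p) (b := ω *ᵥ p)
    omega)
  rw [Finset.coe_pair] at hp's
  have hp'0 : p' ≠ 0 := fun h => hp's (h ▸ Submodule.zero_mem _)
  have hpp' : polarBilin Q p p' = 0 := hp'p p (by simp)
  have hωp' : polarBilin Q (ω *ᵥ p) p' = 0 := hp'p _ (by simp)
  obtain ⟨x, hxW, hxp⟩ := Orth.exists_dual S.hN (Submodule.span F {ω *ᵥ p, p', ω *ᵥ p'}) (x := p) (by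
    intro h
    obtain ⟨q, m, hm, hq⟩ := Submodule.mem_span_insert.mp h
    obtain ⟨c, d, rfl⟩ := Submodule.mem_span_pair.mp hm
    exact one_ne_zero (G.indep_two hp0 hp's (a := 1) (b := -q) (c := -c) (d := -d) (by
      linear_combination (norm := module) hq)).1)
  have h1 : polarBilin Q x (ω *ᵥ p) = 0 := hxW _ (Submodule.subset_span (by simp))
  have h2 : polarBilin Q x p' = 0 := hxW _ (Submodule.subset_span (by simp))
  have h3 : polarBilin Q x (ω *ᵥ p') = 0 := hxW _ (Submodule.subset_span (by simp))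
  refine SetLike.lt_iff_le_and_exists.mpr ⟨inf_le_right, _, Orth.eichGL_mem_omega S.hN (by omega) hQp hpp', fun hin => ?_⟩
  have e1 : (Orth.eichGL Q p p' hQp hpp' : Matrix ι ι F) *ᵥ x = x + p' := by
    rw [Orth.eichGL_mulVec, hxp, hQp', h2]; simp
  have e2 : (Orth.eichGL Q p p' hQp hpp' : Matrix ι ι F) *ᵥ (ω *ᵥ x) = ω *ᵥ x + s • p' := by
    rw [Orth.eichGL_mulVec, S.adj, S.adj, hQp', map_sub, map_smul, hxp, h1, map_sub, map_smul, h2, h3]
    simp
  rcases G.mem_normalizer_iff.mp hin.1 with h | h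
  · have h4 := congrArg (· *ᵥ x) h
    simp only [← Matrix.mulVec_mulVec, e1, e2, Matrix.mulVec_add] at h4
    exact G.ne_smul hp'0 s (add_left_cancel h4).symm
  · have h4 := congrArg (· *ᵥ x) h
    simp only [← Matrix.mulVec_mulVec, e1, e2, Matrix.sub_mulVec, Matrix.smul_mulVec, Matrix.one_mulVec,
      Matrix.mulVec_add] at h4
    have h5 := congrArg (fun z => polarBilin Q z p) h4
    simp only [map_add, map_sub, map_smul, LinearMap.add_apply, LinearMap.sub_apply, LinearMap.smul_apply, smul_eq_mul,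
      S.adj, hxp, h1, (S.perp hpp' hωp').1, quad_polar_comm Q p' (ω *ᵥ p), hωp', quad_polar_comm Q p' p, hpp', mul_zero, mul_one, add_zero,
      sub_zero] at h5
    have hs : s = 0 := by linear_combination h5
    have h6 := congrArg (fun z => polarBilin Q z (ω *ᵥ p)) h4
    simp only [map_add, map_sub, map_smul, LinearMap.add_apply, LinearMap.sub_apply, LinearMap.smul_apply, smul_eq_mul,
      S.adj'', hxp, h1, quad_polar_comm Q p' (ω *ᵥ p), hωp', quad_polar_comm Q p' p, hpp', mul_zero, mul_one, add_zero,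
      sub_zero, neg_zero, hs, zero_mul, zero_sub] at h6
    have h7 : (2 : F) * t = 0 := by linear_combination -h6
    have h8 : (2 : F) = 0 := (mul_eq_zero.mp h7).resolve_right G.t_ne
    haveI : CharP F 2 := CharTwo.of_one_ne_zero_of_two_eq_zero one_ne_zero h8
    obtain ⟨r, hr⟩ := isSquare_of_charTwo' t
    exact G.root r (by rw [hs, ← hr]; ring)

/-- Maximality. -/
theorem Sys.maximal (S : Sys Q K ω s t) :
    Cfsg.Geo.IsMaximalIn (Cfsg.Geo.omegaGL ⇑Q) (Cfsg.Geo.subalgebraNormalizer K ⊓ Cfsg.Geo.omegaGL ⇑Q) := by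
  refine ⟨S.lt, fun M h1 h2 => ?_⟩
  by_cases h : M ≤ Cfsg.Geo.subalgebraNormalizer K
  · exact Or.inl (le_antisymm (le_inf h h2) h1)
  · obtain ⟨g, hg, hgN⟩ := SetLike.not_le_iff_exists.mp h
    exact Or.inr (le_antisymm h2 (S.omega_le h1 hg (Orth.omegaGL_le_isometry (h2 hg)) hgN))

end Cfsg.Agent.Lib.ThreeTransp.UniInOrth
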