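import Cfsg.Agent.Lib.MaxSub.Symplectic
import Cfsg.Agent.Lib.ThreeTransp.QuadSub
import Cfsg.Agent.Lib.ThreeTransp.SubOrthBase

/-!
In odd characteristic the normaliser in the symplectic group of a quadratic extension field moved by the adjoint is
maximal.
-/

set_option autoImplicit false

namespace Cfsg.Agent.Lib.ThreeTransp.UniInSymp

open Matrix QuadraticMap
open Cfsg.Agent.Lib.MaxSub
open Cfsg.Agent.Lib.ThreeTransp.SubOrth (gen_exists_sing gen_partner gen_span_sing)
open Cfsg.Agent.Lib.Geometry (quad_add quad_sub quad_smul quad_polar_comm quad_polar_self)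
open scoped MatrixGroups Matrix

attribute [-simp] QuadraticMap.polarBilin_apply_apply

variable {ι : Type} [Fintype ι] [DecidableEq ι] {F : Type*} [Field F]

/-- A skew operator whose square is a non-square scalar. -/
structure Sys (f : AltForm ι F) (J : Matrix ι ι F) (ν : F) : Prop where
  h2 : (2 : F) ≠ 0
  hn : 13 ≤ Fintype.card ι
  sq : ∀ x, J *ᵥ (J *ᵥ x) = ν • x
  adj : ∀ x y, f.B (J *ᵥ x) y = -f.B x (J *ᵥ y)
  nsq : ∀ r : F, r * r ≠ ν

variable {f : AltForm ι F} {J : Matrix ι ι F} {ν : F}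

theorem Sys.ν_ne (S : Sys f J ν) : ν ≠ 0 := fun h => S.nsq 0 (by rw [h, mul_zero])

/-- The symmetric form. -/
def Sys.Qf (_S : Sys f J ν) : QuadraticForm F (ι → F) :=
  LinearMap.BilinMap.toQuadraticMap (f.B.comp (Matrix.toLin' J))

theorem Sys.Qf_apply (S : Sys f J ν) (x : ι → F) : S.Qf x = f.B (J *ᵥ x) x := by
  simp [Sys.Qf, Matrix.toLin'_apply]

theorem Sys.symm (S : Sys f J ν) (x y : ι → F) : f.B (J *ᵥ x) y = f.B (J *ᵥ y) x := by
  rw [S.adj, f.skew x, neg_neg]

theorem Sys.polar (S : Sys f J ν) (x y : ι → F) : polarBilin S.Qf x y = 2 * f.B (J *ᵥ x) y := by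
  rw [polarBilin_apply_apply, QuadraticMap.polar, S.Qf_apply, S.Qf_apply, S.Qf_apply, Matrix.mulVec_add]
  simp only [map_add, LinearMap.add_apply, S.symm y x]
  ring

theorem Sys.nondeg (S : Sys f J ν) : (polarBilin S.Qf).Nondegenerate := by
  have key : ∀ x, (∀ y, polarBilin S.Qf x y = 0) → x = 0 := fun x hx => f.nondeg x fun y => by
    have h := hx (J *ᵥ y)
    rw [S.polar, S.adj, S.sq, map_smul, smul_eq_mul, mul_neg, neg_eq_zero, f.skew] at h
    have := (mul_eq_zero.mp h).resolve_left S.h2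
    simpa [S.ν_ne] using this
  exact ⟨key, fun y hy => key y fun x => by rw [quad_polar_comm]; exact hy x⟩

/-- Singularity. -/
def Sing (f : AltForm ι F) (J : Matrix ι ι F) (x : ι → F) : Prop := f.B (J *ᵥ x) x = 0

theorem Sing.perp' {x : ι → F} (h : Sing f J x) : f.B x (J *ᵥ x) = 0 := by
  rw [f.skew, h, neg_zero]

/-- Orthogonality to a vector and its image. -/
theorem Sys.perp (S : Sys f J ν) {x y : ι → F} (h1 : polarBilin S.Qf x y = 0)
    (h2 : polarBilin S.Qf (J *ᵥ x) y = 0) : f.B x y = 0 ∧ f.B x (J *ᵥ y) = 0 := by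
  rw [S.polar] at h1 h2
  rw [S.sq, map_smul, LinearMap.smul_apply, smul_eq_mul] at h2
  refine ⟨by simpa [S.h2, S.ν_ne] using h2, ?_⟩
  rw [← neg_eq_zero, ← S.adj]
  simpa [S.h2] using h1

/-- The root element of a singular vector. -/
def root (f : AltForm ι F) (J : Matrix ι ι F) (ν : F) (v : ι → F) (c : F) : GL ι F :=
  f.trans v (c * ν) * f.trans (J *ᵥ v) (-c)

theorem root_mulVec {v : ι → F} (hv : Sing f J v) (c : F) (x : ι → F) :
    (root f J ν v c : Matrix ι ι F) *ᵥ x =
      x + (c * ν * f.B x v) • v - (c * f.B x (J *ᵥ v)) • (J *ᵥ v) := by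
  rw [root, Units.val_mul, ← Matrix.mulVec_mulVec, f.trans_mulVec, f.trans_mulVec, map_add, map_smul,
    LinearMap.add_apply, LinearMap.smul_apply, show f.B (J *ᵥ v) v = 0 from hv, smul_zero, add_zero]
  module

theorem root_preserves (v : ι → F) (c : F) : f.Preserves (root f J ν v c) := fun x y => by
  rw [root, Units.val_mul, ← Matrix.mulVec_mulVec, ← Matrix.mulVec_mulVec, f.trans_preserves, f.trans_preserves]

theorem Sys.root_comm (S : Sys f J ν) {v : ι → F} (hv : Sing f J v) (c : F) :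
    (root f J ν v c : Matrix ι ι F) * J = J * (root f J ν v c : Matrix ι ι F) := by
  refine Matrix.ext_of_mulVec_single fun i => ?_
  rw [← Matrix.mulVec_mulVec, ← Matrix.mulVec_mulVec, root_mulVec hv, root_mulVec hv, Matrix.mulVec_sub,
    Matrix.mulVec_add, Matrix.mulVec_smul, Matrix.mulVec_smul, S.sq, S.adj, S.adj, S.sq, map_smul, smul_eq_mul]
  module

variable [Finite F] {M : Subgroup (GL ι F)}

/-- The group contains the root elements. -/
def Base (f : AltForm ι F) (J : Matrix ι ι F) (ν : F) (M : Subgroup (GL ι F)) : Prop :=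
  ∀ v c, Sing f J v → root f J ν v c ∈ M

/-- An element not normalising the field moves some singular line off the extension lines. -/
theorem Sys.exists_moved (S : Sys f J ν) {g : GL ι F}
    (hg : ∀ a b : F, ∃ x, (g : Matrix ι ι F) *ᵥ (J *ᵥ x) ≠ a • (g : Matrix ι ι F) *ᵥ x + b • J *ᵥ ((g : Matrix ι ι F) *ᵥ x)) :
    ∃ v, Sing f J v ∧ v ≠ 0 ∧
      (g : Matrix ι ι F) *ᵥ (J *ᵥ v) ∉ Submodule.span F {(g : Matrix ι ι F) *ᵥ v, J *ᵥ ((g : Matrix ι ι F) *ᵥ v)} := by
  classical
  by_contra hall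
  push Not at hall
  have ginj : Function.Injective (g : Matrix ι ι F).mulVec := Matrix.mulVec_injective_iff_isUnit.mpr g.isUnit
  have hex : ∀ v, Sing f J v → v ≠ 0 → ∃ a b : F,
      (g : Matrix ι ι F) *ᵥ (J *ᵥ v) = a • (g : Matrix ι ι F) *ᵥ v + b • J *ᵥ ((g : Matrix ι ι F) *ᵥ v) := fun v hv h0 => by
    obtain ⟨a, b, h⟩ := Submodule.mem_span_pair.mp (hall v hv h0)
    exact ⟨a, b, h.symm⟩
  have indep : ∀ {x : ι → F}, x ≠ 0 → ∀ {a b : F}, a • x + b • J *ᵥ x = 0 → a = 0 ∧ b = 0 := by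
    intro x hx a b h
    by_contra hab
    have h1 := congrArg (fun y => a • y - b • (J *ᵥ y)) h
    simp only [Matrix.mulVec_add, Matrix.mulVec_smul, S.sq, Matrix.mulVec_zero, smul_zero, sub_zero] at h1
    have h2 : (a * a - ν * (b * b)) • x = 0 := by rw [← h1]; module
    have h3 := (smul_eq_zero.mp h2).resolve_right hx
    rcases eq_or_ne b 0 with hb | hb
    · rw [hb] at h3
      exact hab ⟨mul_self_eq_zero.mp (by simpa using h3), hb⟩
    · exact S.nsq (a / b) (by field_simp; linear_combination h3)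
  have hn := S.hn
  have step : ∀ v w, Sing f J v → Sing f J w → v ≠ 0 → w ∉ Submodule.span F {v, J *ᵥ v} →
      f.B (J *ᵥ v) w = 0 → ∀ a b : F,
      (g : Matrix ι ι F) *ᵥ (J *ᵥ v) = a • (g : Matrix ι ι F) *ᵥ v + b • J *ᵥ ((g : Matrix ι ι F) *ᵥ v) →
      (g : Matrix ι ι F) *ᵥ (J *ᵥ w) = a • (g : Matrix ι ι F) *ᵥ w + b • J *ᵥ ((g : Matrix ι ι F) *ᵥ w) := by
    intro v w hv hw hv0 hwv hvw a b hab
    have hw0 : w ≠ 0 := fun e => hwv (e ▸ Submodule.zero_mem _)
    obtain ⟨a', b', hab'⟩ := hex w hw hw0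
    have hvw0 : v + w ≠ 0 := fun e => hwv (Submodule.mem_span_pair.mpr ⟨-1, 0, by
      rw [eq_neg_of_add_eq_zero_right e]; module⟩)
    obtain ⟨c, d, hcd⟩ := hex (v + w) (by
      show f.B _ _ = 0
      rw [Matrix.mulVec_add]
      simp only [map_add, LinearMap.add_apply, show f.B (J *ᵥ v) v = 0 from hv, show f.B (J *ᵥ w) w = 0 from hw, hvw,
        S.symm w v, add_zero]) hvw0
    set x := (g : Matrix ι ι F) *ᵥ v with hx
    set y := (g : Matrix ι ι F) *ᵥ w with hy
    rw [Matrix.mulVec_add, Matrix.mulVec_add, hab, hab', Matrix.mulVec_add, ← hx, ← hy, Matrix.mulVec_add] at hcd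
    have hx0 : x ≠ 0 := fun e => hv0 (ginj (e.trans (Matrix.mulVec_zero _).symm))
    have hyx : ∀ p q : F, y ≠ p • x + q • J *ᵥ x := by
      intro p q hpq
      have hb : b ≠ 0 := by
        intro hb
        rw [hb, zero_smul, add_zero, ← Matrix.mulVec_smul] at hab
        exact one_ne_zero (indep hv0 (a := -a) (b := 1) (by rw [ginj hab]; module)).2
      refine hwv (Submodule.mem_span_pair.mpr ⟨p - q / b * a, q / b, ginj ?_⟩)
      show (g : Matrix ι ι F) *ᵥ _ = (g : Matrix ι ι F) *ᵥ w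
      rw [Matrix.mulVec_add, Matrix.mulVec_smul, Matrix.mulVec_smul, hab, ← hy, hpq, ← hx]
      match_scalars <;> field_simp
      ring
    by_cases hdd : a' = c ∧ b' = d
    · rw [hdd.1, hdd.2] at hab' hcd
      have h0 : (a - c) • x + (b - d) • J *ᵥ x = 0 := by linear_combination (norm := module) hcd
      obtain ⟨h1, h2⟩ := indep hx0 h0
      rw [hab', sub_eq_zero.mp h1, sub_eq_zero.mp h2]
    · exfalso
      obtain ⟨e, he⟩ : ∃ e, e = (a' - c) * (a' - c) - ν * ((b' - d) * (b' - d)) := ⟨_, rfl⟩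
      have he0 : e ≠ 0 := fun e0 => by
        rw [e0] at he
        rcases eq_or_ne (b' - d) 0 with hb | hb
        · rw [hb] at he
          exact hdd ⟨sub_eq_zero.mp (mul_self_eq_zero.mp (by simpa using he.symm)), sub_eq_zero.mp hb⟩
        · exact S.nsq ((a' - c) / (b' - d)) (by field_simp; linear_combination -he)
      have h1 : (a' - c) • y + (b' - d) • J *ᵥ y = (c - a) • x + (d - b) • J *ᵥ x := by
        linear_combination (norm := module) hcd
      have h2 := congrArg (J *ᵥ ·) h1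
      simp only [Matrix.mulVec_add, Matrix.mulVec_smul, S.sq] at h2
      refine hyx (((a' - c) * (c - a) - ν * ((b' - d) * (d - b))) / e)
        (((a' - c) * (d - b) - (b' - d) * (c - a)) / e) ?_
      refine (smul_right_injective _ he0) ?_
      show e • y = e • _
      rw [smul_add, smul_smul, smul_smul, mul_div_cancel₀ _ he0, mul_div_cancel₀ _ he0, he]
      linear_combination (norm := module) (a' - c) • h1 - (b' - d) • h2
  obtain ⟨v₀, hQv₀, hv₀, -⟩ := gen_exists_sing (Q := S.Qf) ∅ ∅ (by simp; omega)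
  have hv₀0 : v₀ ≠ 0 := fun e => hv₀ (by rw [e]; exact Submodule.zero_mem _)
  have hs₀ : Sing f J v₀ := by rw [Sing, ← S.Qf_apply, hQv₀]
  obtain ⟨a, b, hab⟩ := hex v₀ hs₀ hv₀0
  obtain ⟨x, hx⟩ := hg a b
  refine hx ?_
  clear hx
  have hmem := gen_span_sing S.nondeg ∅ (by simp; omega) (x := x) (by simp)
  induction hmem using Submodule.span_induction with
  | mem z hz =>
    have hsz : Sing f J z := by rw [Sing, ← S.Qf_apply, hz.1]
    rcases eq_or_ne z 0 with rfl | hz0
    · simp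
    obtain ⟨w, hQw, hw, hwp⟩ := gen_exists_sing (Q := S.Qf) {v₀, z} {v₀, J *ᵥ v₀, z, J *ᵥ z} (by
      have := Finset.card_le_two (a := v₀) (b := z)
      have := Finset.card_le_four (a := v₀) (b := J *ᵥ v₀) (c := z) (d := J *ᵥ z)
      omega)
    have hsw : Sing f J w := by rw [Sing, ← S.Qf_apply, hQw]
    have hw0 : w ≠ 0 := fun e => hw (e ▸ Submodule.zero_mem _)
    have hb : ∀ u ∈ ({v₀, z} : Finset (ι → F)), f.B (J *ᵥ u) w = 0 := fun u hu => by
      have := hwp u hu
      rw [S.polar] at this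
      exact (mul_eq_zero.mp this).resolve_left S.h2
    have h1 := step v₀ w hs₀ hsw hv₀0 (fun h => hw (Submodule.span_mono (by simp [Set.insert_subset_iff]) h))
      (hb v₀ (by simp)) a b hab
    refine step w z hsw hsz hw0 (fun h => hw ?_) (by rw [S.symm]; exact hb z (by simp)) a b h1
    obtain ⟨p, q, hpq⟩ := Submodule.mem_span_pair.mp h
    have hN : p * p - ν * (q * q) ≠ 0 := fun h0 => by
      rcases eq_or_ne q 0 with hq | hq
      · rw [hq] at h0 hpq
        have hp0 : p = 0 := mul_self_eq_zero.mp (by simpa using h0)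
        rw [hp0, zero_smul, zero_smul, add_zero] at hpq
        exact hz0 hpq.symm
      · exact S.nsq (p / q) (by field_simp; linear_combination h0)
    have hz' : p • z - q • J *ᵥ z = (p * p - ν * (q * q)) • w := by
      rw [← hpq, Matrix.mulVec_add, Matrix.mulVec_smul, Matrix.mulVec_smul, S.sq]; module
    rw [show w = (p * p - ν * (q * q))⁻¹ • (p • z - q • J *ᵥ z) by rw [hz', smul_smul, inv_mul_cancel₀ hN, one_smul]]
    exact Submodule.smul_mem _ _ (Submodule.sub_mem _ (Submodule.smul_mem _ _ (Submodule.subset_span (by simp)))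
      (Submodule.smul_mem _ _ (Submodule.subset_span (by simp))))
  | zero => simp
  | add p q _ _ hp hq => simp only [Matrix.mulVec_add, hp, hq]; module
  | smul c p _ hp => simp only [Matrix.mulVec_smul, hp]; module

theorem mulVec_trans_comm {a b : ι → F} (h : f.B a b = 0) (c d : F) (x : ι → F) :
    (f.trans a c : Matrix ι ι F) *ᵥ ((f.trans b d : Matrix ι ι F) *ᵥ x) = x + (c * f.B x a) • a + (d * f.B x b) • b := by
  rw [f.trans_mulVec, f.trans_mulVec, map_add, map_smul, LinearMap.add_apply, LinearMap.smul_apply,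
    show f.B b a = 0 by rw [f.skew, h, neg_zero], smul_zero, add_zero]
  abel

/-- A moved singular line gives a transvection group with singular centre line. -/
theorem Sys.exists_centre (S : Sys f J ν) (hB : Base f J ν M) {g : GL ι F} (hgM : g ∈ M) (hgp : f.Preserves g)
    {v : ι → F} (hv : Sing f J v) (hv0 : v ≠ 0)
    (hb : (g : Matrix ι ι F) *ᵥ (J *ᵥ v) ∉ Submodule.span F {(g : Matrix ι ι F) *ᵥ v, J *ᵥ ((g : Matrix ι ι F) *ᵥ v)}) :
    ∃ e, Sing f J e ∧ e ≠ 0 ∧ ∀ p q : F, f.Centre M (p • e + q • J *ᵥ e) := by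
  classical
  set a := (g : Matrix ι ι F) *ᵥ v with ha
  set b := (g : Matrix ι ι F) *ᵥ (J *ᵥ v) with hbdef
  have hn := S.hn
  have hab : f.B a b = 0 := by rw [ha, hbdef, hgp, hv.perp']
  have hba : f.B b a = 0 := by rw [f.skew, hab, neg_zero]
  have hA : ∀ x : F, f.trans a (x * ν) * f.trans b (-x) ∈ M := fun x => by
    have := M.mul_mem (M.mul_mem hgM (hB v x hv)) (M.inv_mem hgM)
    rwa [root, show g * (f.trans v (x * ν) * f.trans (J *ᵥ v) (-x)) * g⁻¹ =
      g * f.trans v (x * ν) * g⁻¹ * (g * f.trans (J *ᵥ v) (-x) * g⁻¹) by group, f.conj_trans hgp, f.conj_trans hgp,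
      ← ha, ← hbdef] at this
  -- an admissible singular vector
  obtain ⟨w, hw, haw, hawJ, hbw, hbwJ⟩ : ∃ w, Sing f J w ∧ f.B a w = 0 ∧ f.B a (J *ᵥ w) = 0 ∧ f.B b w = 0 ∧
      f.B b (J *ᵥ w) = 1 := by
    have hbs : b ∉ Submodule.span F (({a, J *ᵥ a, J *ᵥ b} : Finset (ι → F)) : Set (ι → F)) := by
      intro h
      simp only [Finset.coe_insert, Finset.coe_singleton] at h
      obtain ⟨p, m, hm, hp⟩ := Submodule.mem_span_insert.mp h
      obtain ⟨q, r, hq⟩ := Submodule.mem_span_pair.mp hm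
      have hr : 1 - ν * (r * r) ≠ 0 := fun h0 => by
        rcases eq_or_ne r 0 with hr | hr
        · rw [hr] at h0; simp at h0
        · exact S.nsq (1 / r) (by field_simp; linear_combination h0)
      subst hq
      have hJ := congrArg (J *ᵥ ·) hp
      simp only [Matrix.mulVec_add, Matrix.mulVec_smul, S.sq] at hJ
      refine hb (Submodule.mem_span_pair.mpr ⟨(p + r * (ν * q)) / (1 - ν * (r * r)), (q + r * p) / (1 - ν * (r * r)), ?_⟩)
      refine (smul_right_injective _ hr) ?_
      show (1 - ν * (r * r)) • _ = (1 - ν * (r * r)) • b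
      rw [smul_add, smul_smul, smul_smul, mul_div_cancel₀ _ hr, mul_div_cancel₀ _ hr]
      linear_combination (norm := module) -(hp) - r • hJ
    obtain ⟨z, hz, hzb⟩ := Orth.exists_dual S.nondeg _ hbs
    have hsp := gen_span_sing S.nondeg {a, J *ᵥ a, J *ᵥ b} (by
      have := Finset.card_le_three (a := a) (b := J *ᵥ a) (c := J *ᵥ b)
      omega) (x := z) fun y hy => by rw [quad_polar_comm]; exact hz y (Submodule.subset_span hy)
    obtain ⟨u, hu, hub⟩ : ∃ u, (S.Qf u = 0 ∧ ∀ y ∈ ({a, J *ᵥ a, J *ᵥ b} : Finset (ι → F)), polarBilin S.Qf y u = 0) ∧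
        polarBilin S.Qf b u ≠ 0 := by
      by_contra hc
      push Not at hc
      have hle : Submodule.span F {u | S.Qf u = 0 ∧ ∀ y ∈ ({a, J *ᵥ a, J *ᵥ b} : Finset (ι → F)), polarBilin S.Qf y u = 0} ≤
          LinearMap.ker (polarBilin S.Qf b) := Submodule.span_le.mpr fun u hu => hc u hu
      have h0 : polarBilin S.Qf b z = 0 := hle hsp
      rw [quad_polar_comm, hzb] at h0
      exact one_ne_zero h0
    obtain ⟨h1, h2⟩ := S.perp (hu.2 a (by simp)) (hu.2 (J *ᵥ a) (by simp))
    have h3 : f.B b u = 0 := by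
      have := hu.2 (J *ᵥ b) (by simp)
      rw [S.polar, S.sq, map_smul, LinearMap.smul_apply, smul_eq_mul] at this
      simpa [S.h2, S.ν_ne] using this
    have h4 : f.B b (J *ᵥ u) ≠ 0 := fun h => hub (by rw [S.polar, S.adj, h, neg_zero, mul_zero])
    have hu' : Sing f J u := by rw [Sing, ← S.Qf_apply, hu.1]
    refine ⟨(f.B b (J *ᵥ u))⁻¹ • u, ?_, ?_, ?_, ?_, ?_⟩
    · show f.B _ _ = 0
      simp [Matrix.mulVec_smul, show f.B (J *ᵥ u) u = 0 from hu']
    · rw [map_smul, h1, smul_zero]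
    · rw [Matrix.mulVec_smul, map_smul, h2, smul_zero]
    · rw [map_smul, h3, smul_zero]
    · rw [Matrix.mulVec_smul, map_smul, smul_eq_mul, inv_mul_cancel₀ h4]
  -- the split elements
  have split : ∀ w, Sing f J w → f.B a w = 0 → f.B a (J *ᵥ w) = 0 → f.B b w = 0 → f.B b (J *ᵥ w) = 1 →
      ∀ x : F, f.trans a x * f.trans w (-x) ∈ M := by
    intro w hw haw hawJ hbw hbwJ x
    set d := J *ᵥ w with hd
    have hdw : f.B d w = 0 := hw
    have hwd : f.B w d = 0 := hw.perp'
    have hh := M.mul_mem (hA (-1)) (hB w (-1) hw)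
    set h := f.trans a (-1 * ν) * f.trans b (- -1) * root f J ν w (-1) with hhdef
    have hhp : f.Preserves h := fun p q => by
      rw [hhdef, Units.val_mul, Units.val_mul, ← Matrix.mulVec_mulVec, ← Matrix.mulVec_mulVec, ← Matrix.mulVec_mulVec,
        ← Matrix.mulVec_mulVec, f.trans_preserves, f.trans_preserves, root_preserves]
    have hha : (h : Matrix ι ι F) *ᵥ a = a := by
      rw [hhdef, Units.val_mul, Units.val_mul, ← Matrix.mulVec_mulVec, ← Matrix.mulVec_mulVec, root_mulVec hw, haw, ← hd,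
        hawJ, mul_zero, mul_zero, zero_smul, zero_smul, add_zero, sub_zero, mulVec_trans_comm hab, hab, f.alt]
      simp
    have hhb : (h : Matrix ι ι F) *ᵥ b = d := by
      rw [hhdef, Units.val_mul, Units.val_mul, ← Matrix.mulVec_mulVec, ← Matrix.mulVec_mulVec, root_mulVec hw, hbw, ← hd,
        hbwJ, mulVec_trans_comm hab]
      simp only [map_sub, map_add, map_smul, LinearMap.sub_apply, LinearMap.add_apply, LinearMap.smul_apply, f.alt,
        hba, show f.B d b = -1 by rw [f.skew, hbwJ], show f.B d a = 0 by rw [f.skew, hawJ, neg_zero],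
        smul_eq_mul]
      module
    have h1 := M.mul_mem (M.mul_mem hh (hA (x / ν))) (M.inv_mem hh)
    rw [show h * (f.trans a (x / ν * ν) * f.trans b (-(x / ν))) * h⁻¹ =
      h * f.trans a (x / ν * ν) * h⁻¹ * (h * f.trans b (-(x / ν)) * h⁻¹) by group, f.conj_trans hhp, f.conj_trans hhp,
      hha, hhb, div_mul_cancel₀ _ S.ν_ne] at h1
    have h2 := M.mul_mem h1 (hB w (-(x / ν)) hw)
    rwa [root, neg_mul, div_mul_cancel₀ _ S.ν_ne, neg_neg, ← hd,
      show f.trans a x * f.trans d (-(x / ν)) * (f.trans w (-x) * f.trans d (x / ν)) = f.trans a x * f.trans w (-x) from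
      Units.ext (Matrix.ext_of_mulVec_single fun i => by
        simp only [Units.val_mul, ← Matrix.mulVec_mulVec, f.trans_mulVec, map_add, map_smul, LinearMap.add_apply,
          LinearMap.smul_apply, smul_eq_mul, f.alt, hwd, hdw, show f.B d a = 0 by rw [f.skew, hawJ, neg_zero],
          show f.B w a = 0 by rw [f.skew, haw, neg_zero]]
        module)] at h2
  -- a centre
  obtain ⟨e, hQe, he, hes⟩ := gen_exists_sing (Q := S.Qf) {a, J *ᵥ a, b, J *ᵥ b, w, J *ᵥ w} ∅ (by
    have := Finset.card_le_six (a := a) (b := J *ᵥ a) (c := b) (d := J *ᵥ b) (e := w) (f := J *ᵥ w)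
    simp; omega)
  have he0 : e ≠ 0 := fun h => he (by rw [h]; exact Submodule.zero_mem _)
  have he' : Sing f J e := by rw [Sing, ← S.Qf_apply, hQe]
  refine ⟨e, he', he0, fun p q c => ?_⟩
  set e' := p • e + q • J *ᵥ e with he'def
  obtain ⟨hae, haeJ⟩ := S.perp (hes a (by simp)) (hes (J *ᵥ a) (by simp))
  obtain ⟨hbe, hbeJ⟩ := S.perp (hes b (by simp)) (hes (J *ᵥ b) (by simp))
  obtain ⟨hwe, hweJ⟩ := S.perp (hes w (by simp)) (hes (J *ᵥ w) (by simp))
  have hJe' : J *ᵥ e' = (q * ν) • e + p • J *ᵥ e := by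
    rw [he'def, Matrix.mulVec_add, Matrix.mulVec_smul, Matrix.mulVec_smul, S.sq]; module
  have hee : f.B e (J *ᵥ e) = 0 := he'.perp'
  have hJee : f.B (J *ᵥ e) e = 0 := he'
  have hs' : Sing f J e' := by
    show f.B _ _ = 0
    rw [hJe', he'def]
    simp [f.alt, hee, hJee]
  have hwe' : f.B w e' = 0 := by simp [he'def, hwe, hweJ]
  have hwJe' : f.B w (J *ᵥ e') = 0 := by simp [hJe', hwe, hweJ]
  have hae' : f.B a e' = 0 := by simp [he'def, hae, haeJ]
  have hadm : ∀ σ : F, Sing f J (w + σ • e') ∧ f.B a (w + σ • e') = 0 ∧ f.B a (J *ᵥ (w + σ • e')) = 0 ∧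
      f.B b (w + σ • e') = 0 ∧ f.B b (J *ᵥ (w + σ • e')) = 1 := by
    intro σ
    refine ⟨?_, ?_, ?_, ?_, ?_⟩
    · show f.B _ _ = 0
      rw [Matrix.mulVec_add, Matrix.mulVec_smul]
      simp [show f.B (J *ᵥ w) w = 0 from hw, show f.B (J *ᵥ e') e' = 0 from hs',
        show f.B (J *ᵥ e') w = 0 by rw [f.skew, hwJe', neg_zero],
        show f.B (J *ᵥ w) e' = 0 by rw [S.adj, hwJe', neg_zero]]
    · rw [map_add, haw, map_smul, hae', smul_zero, add_zero]
    · simp [Matrix.mulVec_add, Matrix.mulVec_smul, hJe', hawJ, hae, haeJ]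
    · simp [he'def, hbw, hbe, hbeJ]
    · simp [Matrix.mulVec_add, Matrix.mulVec_smul, hJe', hbwJ, hbe, hbeJ]
  have hP : ∀ σ : F, f.trans a (-c / 2) * f.trans (w + σ • e') (c / 2) ∈ M := fun σ => by
    obtain ⟨h1, h2, h3, h4, h5⟩ := hadm σ
    have := split _ h1 h2 h3 h4 h5 (-c / 2)
    rwa [show -(-c / 2) = c / 2 by ring] at this
  have h0 : f.trans a c * f.trans w (-c) ∈ M := split w hw haw hawJ hbw hbwJ c
  have hall := M.mul_mem (M.mul_mem (hP 1) (hP (-1))) h0
  rwa [show f.trans a (-c / 2) * f.trans (w + (1 : F) • e') (c / 2) *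
      (f.trans a (-c / 2) * f.trans (w + (-1 : F) • e') (c / 2)) * (f.trans a c * f.trans w (-c)) = f.trans e' c from
    Units.ext (Matrix.ext_of_mulVec_single fun i => by
      simp only [Units.val_mul, ← Matrix.mulVec_mulVec, f.trans_mulVec, map_add, map_smul, LinearMap.add_apply,
        LinearMap.smul_apply, smul_eq_mul, f.alt, haw, hae', hwe', show f.B w a = 0 by rw [f.skew, haw, neg_zero],
        show f.B e' a = 0 by rw [f.skew, hae', neg_zero], show f.B e' w = 0 by rw [f.skew, hwe', neg_zero]]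
      have h2 := S.h2
      match_scalars <;> field_simp <;> ring)] at hall

/-- One line of centres gives every transvection. -/
theorem Sys.all_centres (S : Sys f J ν) (hB : Base f J ν M) {e : ι → F} (he : Sing f J e) (he0 : e ≠ 0)
    (hE : ∀ p q : F, f.Centre M (p • e + q • J *ᵥ e)) : ∀ x, f.Centre M x := by
  classical
  have hn := S.hn
  set Full : (ι → F) → Prop := fun u => ∀ p q : F, f.Centre M (p • u + q • J *ᵥ u) with hFull
  have step : ∀ u z, Sing f J u → Sing f J z → f.B u (J *ᵥ z) ≠ 0 ∨ f.B u z ≠ 0 → Full u → Full z := by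
    intro u z hu hz hne hF p q
    have hzJ : f.B z (J *ᵥ z) = 0 := hz.perp'
    set A := f.B u z with hA
    set C := f.B u (J *ᵥ z) with hC
    have hN : ν * (A * A) - C * C ≠ 0 := fun h0 => by
      rcases eq_or_ne A 0 with hA0 | hA0
      · rw [hA0] at h0
        exact (hne.resolve_right (not_not.mpr hA0)) (mul_self_eq_zero.mp (by simpa using h0))
      · exact S.nsq (C / A) (by field_simp; linear_combination -h0)
    rcases eq_or_ne (p • z + q • J *ᵥ z) 0 with h0 | h0
    · rw [h0]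
      simpa using (hF 0 0).smul 0
    have hpq : ν * (q * q) - p * p / ν * 1 ≠ 0 ∨ True := Or.inr trivial
    obtain ⟨r, t, hrt1, hrt2⟩ : ∃ r t : F, ν * (r * A + t * (-C)) = p ∧ r * C + t * (-(ν * A)) = -q := by
      obtain ⟨D, hD⟩ : ∃ D, D = ν * (A * A) - C * C := ⟨_, rfl⟩
      have hD0 : D ≠ 0 := hD ▸ hN
      refine ⟨(A * p + C * q) / D, (C * p + ν * (A * q)) / (ν * D), ?_, ?_⟩ <;>
      · field_simp [S.ν_ne]
        rw [hD]
        ring
    have hroot := root_preserves (f := f) (J := J) (ν := ν) z 1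
    have hmv := (hF r t).of_conj (hB z 1 hz) hroot
    set u' := r • u + t • J *ᵥ u with hu'
    have hval : (root f J ν z 1 : Matrix ι ι F) *ᵥ u' = u' + (p • z + q • J *ᵥ z) := by
      rw [root_mulVec hz, hu']
      simp only [map_add, map_smul, LinearMap.add_apply, LinearMap.smul_apply, smul_eq_mul, S.adj, S.sq,
        ← hA, ← hC, one_mul]
      rw [show ν * (r * A + t * -C) = p from hrt1]
      rw [show r * C + t * -(ν * A) = -q from hrt2]
      module
    rw [hval] at hmv
    have hne' : f.B (u' + (p • z + q • J *ᵥ z)) u' ≠ 0 := by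
      have e1 : f.B (p • z + q • J *ᵥ z) u' = -(ν * ((r * A + t * -C) * (r * A + t * -C)) -
          (r * C + t * -(ν * A)) * (r * C + t * -(ν * A))) := by
        rw [f.skew, hu']
        simp only [map_add, map_smul, LinearMap.add_apply, LinearMap.smul_apply, smul_eq_mul, S.adj, S.sq, ← hA, ← hC,
          ← hrt1, show q = -(r * C + t * -(ν * A)) by rw [hrt2, neg_neg]]
        ring
      rw [map_add f.B, LinearMap.add_apply, f.alt, zero_add, e1, neg_ne_zero]
      intro h1
      rcases eq_or_ne (r * A + t * -C) 0 with h3 | h3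
      · rw [h3, mul_zero, mul_zero, zero_sub, neg_eq_zero, mul_self_eq_zero] at h1
        refine h0 ?_
        rw [← hrt1, show q = -(r * C + t * -(ν * A)) by rw [hrt2, neg_neg], h1, h3]
        simp
      · generalize r * A + t * -C = X at h1 h3
        generalize r * C + t * -(ν * A) = Y at h1
        exact S.nsq (Y / X) (by field_simp; linear_combination -h1)
    have := hmv.add ((hF r t).smul (-1)) (by rw [map_smul, smul_eq_mul, neg_one_mul, neg_ne_zero]; exact hne')
    rwa [neg_one_smul, ← sub_eq_add_neg, add_sub_cancel_left] at this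
  have hsing : ∀ z, Sing f J z → Full z := by
    intro z hz
    rcases eq_or_ne z 0 with rfl | hz0
    · intro p q
      simpa using (hE 0 0)
    by_cases h : f.B e (J *ᵥ z) ≠ 0 ∨ f.B e z ≠ 0
    · exact step e z he hz h hE
    rw [not_or, not_not, not_not] at h
    obtain ⟨w, hQw, hwe, hwz⟩ : ∃ w, S.Qf w = 0 ∧ polarBilin S.Qf e w ≠ 0 ∧ polarBilin S.Qf z w ≠ 0 := by
      have hQe : S.Qf e = 0 := by rw [S.Qf_apply]; exact he
      have hQz : S.Qf z = 0 := by rw [S.Qf_apply]; exact hz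
      obtain ⟨w₁, hw₁, hw₁e, -⟩ := gen_partner S.nondeg ∅ hQe (by simp) (by simpa using he0)
      by_cases hz1 : polarBilin S.Qf z w₁ ≠ 0
      · exact ⟨w₁, hw₁, by rw [hw₁e]; exact one_ne_zero, hz1⟩
      push Not at hz1
      have hez : polarBilin S.Qf e z = 0 := by rw [S.polar, S.adj, h.1]; simp
      have hzs : z ∉ Submodule.span F (({e, w₁} : Finset (ι → F)) : Set (ι → F)) := fun hm => by
        rw [Finset.coe_pair, Submodule.mem_span_pair] at hm
        obtain ⟨p, q, hpq⟩ := hm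
        have h1 := hez
        rw [← hpq, map_add, map_smul, map_smul, quad_polar_self, hQe, hw₁e] at h1
        simp at h1
        have h2 := hz1
        rw [← hpq, map_add, map_smul, map_smul, LinearMap.add_apply, LinearMap.smul_apply, LinearMap.smul_apply, hw₁e,
          quad_polar_self, hw₁] at h2
        simp at h2
        exact hz0 (by rw [← hpq, h1, h2, zero_smul, zero_smul, add_zero])
      obtain ⟨w₂, hw₂, hzw₂, hw₂s⟩ := gen_partner S.nondeg {e, w₁} hQz (by
        simp only [Finset.mem_insert, Finset.mem_singleton, forall_eq_or_imp, forall_eq]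
        exact ⟨hez, by rw [quad_polar_comm]; exact hz1⟩) hzs
      refine ⟨w₁ + w₂, by rw [quad_add, hw₁, hw₂, hw₂s w₁ (by simp), add_zero, add_zero], ?_, ?_⟩
      · rw [map_add, hw₁e, hw₂s e (by simp), add_zero]; exact one_ne_zero
      · rw [map_add, hz1, hzw₂, zero_add]; exact one_ne_zero
    have hw : Sing f J w := by rw [Sing, ← S.Qf_apply, hQw]
    have hwe' : f.B e (J *ᵥ w) ≠ 0 := fun h => hwe (by rw [S.polar, S.adj, h, neg_zero, mul_zero])
    have hwz' : f.B w (J *ᵥ z) ≠ 0 := fun h => hwz (by rw [S.polar, f.skew, h, neg_zero, mul_zero])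
    exact step w z hw hz (Or.inl hwz') (step e w he hw (Or.inl hwe') hE)
  intro x
  by_cases hx0 : x = 0
  · rw [hx0]; simpa using hE 0 0
  obtain ⟨u, hQu, hxu⟩ : ∃ u, S.Qf u = 0 ∧ (f.B u x ≠ 0 ∨ f.B (J *ᵥ u) x ≠ 0) := by
    by_contra hc
    push Not at hc
    refine hx0 (S.nondeg.2 x fun y => ?_)
    have hle : Submodule.span F {z | S.Qf z = 0 ∧ ∀ y' ∈ (∅ : Finset (ι → F)), polarBilin S.Qf y' z = 0} ≤
        LinearMap.ker ((polarBilin S.Qf).flip x) := Submodule.span_le.mpr fun z hz => by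
      show polarBilin S.Qf z x = 0
      rw [S.polar, (hc z hz.1).2, mul_zero]
    exact hle (gen_span_sing S.nondeg ∅ (by simp; omega) (x := y) (by simp))
  have hu : Sing f J u := by rw [Sing, ← S.Qf_apply, hQu]
  -- a point of the line not orthogonal to `x` in either sense
  obtain ⟨p, q, h1, h2⟩ : ∃ p q : F, p * f.B u x + q * f.B (J *ᵥ u) x ≠ 0 ∧
      p * f.B (J *ᵥ u) x + q * (ν * f.B u x) ≠ 0 := by
    set A := f.B u x
    set C := f.B (J *ᵥ u) x
    by_cases hA : A = 0
    · have hC : C ≠ 0 := hxu.resolve_left (not_not.mpr hA)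
      exact ⟨1, 1, by simp [hA, hC], by simp [hA, hC]⟩
    · by_cases hC : C = 0
      · exact ⟨1, 1, by simp [hC, hA], by simp [hC, hA, S.ν_ne]⟩
      · exact ⟨1, 0, by simpa using hA, by simpa using hC⟩
  set u' := p • u + q • J *ᵥ u with hu'
  have hu's : Sing f J u' := by
    show f.B _ _ = 0
    rw [hu', Matrix.mulVec_add, Matrix.mulVec_smul, Matrix.mulVec_smul, S.sq]
    simp [f.alt, show f.B (J *ᵥ u) u = 0 from hu, hu.perp']
  have hux : f.B u' x ≠ 0 := by
    simpa [hu'] using h1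
  have hJux : f.B (J *ᵥ u') x ≠ 0 := by
    simpa [hu', Matrix.mulVec_add, Matrix.mulVec_smul, S.sq] using h2
  set c := -f.B (J *ᵥ x) x / (2 * f.B (J *ᵥ u') x) with hc
  have hy : Sing f J (x + c • u') := by
    show f.B _ _ = 0
    have e1 : f.B (J *ᵥ u') u' = 0 := hu's
    rw [Matrix.mulVec_add, Matrix.mulVec_smul]
    simp only [map_add, map_smul, LinearMap.add_apply, LinearMap.smul_apply, smul_eq_mul, e1, S.symm x u', hc]
    have h2 := S.h2
    field_simp
    ring
  have hcy := hsing _ hy 1 0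
  have hcu := (hsing _ hu's 1 0).smul (-c)
  simp only [one_smul, zero_smul, add_zero] at hcy hcu
  rcases eq_or_ne c 0 with hc0 | hc0
  · rw [hc0, zero_smul, add_zero] at hcy
    exact hcy
  have := hcy.add hcu (by
    rw [map_smul, map_add f.B, LinearMap.add_apply, map_smul f.B, LinearMap.smul_apply, f.alt, smul_zero, add_zero,
      smul_eq_mul, f.skew x u']
    exact mul_ne_zero (neg_ne_zero.mpr hc0) (neg_ne_zero.mpr hux))
  rwa [neg_smul, add_neg_cancel_right] at this

/-- A transvection outside the normaliser. -/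
theorem Sys.trans_notComm (S : Sys f J ν) : ∃ (e : ι → F), ∃ x,
    (f.trans e 1 : Matrix ι ι F) *ᵥ (J *ᵥ x) ≠ J *ᵥ ((f.trans e 1 : Matrix ι ι F) *ᵥ x) ∧
    (f.trans e 1 : Matrix ι ι F) *ᵥ (J *ᵥ x) ≠ -(J *ᵥ ((f.trans e 1 : Matrix ι ι F) *ᵥ x)) := by
  classical
  have hn := S.hn
  obtain ⟨e, hQe, he, -⟩ := gen_exists_sing (Q := S.Qf) ∅ ∅ (by simp; omega)
  have he0 : e ≠ 0 := fun h => he (by rw [h]; exact Submodule.zero_mem _)
  have hs : Sing f J e := by rw [Sing, ← S.Qf_apply, hQe]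
  have hJe : J *ᵥ e ∉ F ∙ e := by
    intro h
    obtain ⟨c, hc⟩ := Submodule.mem_span_singleton.mp h
    exact S.nsq c (smul_left_injective F he0 (by
      show (c * c) • e = ν • e
      have h1 := congrArg (J *ᵥ ·) hc
      simp only [Matrix.mulVec_smul, S.sq] at h1
      rw [← smul_smul, hc, h1]))
  obtain ⟨y, hy, hye⟩ := f.exists_perp_eq_one (F ∙ (J *ᵥ e)) (x := e) (fun h => by
    obtain ⟨c, hc⟩ := Submodule.mem_span_singleton.mp h
    rcases eq_or_ne c 0 with hc0 | hc0
    · exact he0 (by rw [← hc, hc0, zero_smul])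
    · exact hJe (Submodule.mem_span_singleton.mpr ⟨c⁻¹, by rw [inv_smul_eq_iff₀ hc0, hc]⟩))
  have hye' : f.B y e = -1 := by rw [f.skew, hye]
  have hJy : f.B (J *ᵥ y) e = 0 := by
    rw [S.adj, f.skew y, hy _ (Submodule.mem_span_singleton_self _), neg_zero, neg_zero]
  refine ⟨e, y, fun h => ?_, fun h => ?_⟩
  · rw [f.trans_mulVec, f.trans_mulVec, hJy, hye', Matrix.mulVec_add, Matrix.mulVec_smul] at h
    simp at h
    exact hJe (by rw [h]; exact Submodule.zero_mem _)
  · rw [f.trans_mulVec, f.trans_mulVec, hJy, hye', Matrix.mulVec_add, Matrix.mulVec_smul] at h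
    simp at h
    have h1 : (2 : F) • J *ᵥ y = J *ᵥ e := by linear_combination (norm := module) h
    have h3 := congrArg (J *ᵥ ·) h1
    simp only [Matrix.mulVec_smul, S.sq] at h3
    have h4 := congrArg (fun z => f.B z e) h3
    simp only [map_smul, LinearMap.smul_apply, hye', f.alt, smul_eq_mul, mul_zero] at h4
    exact mul_ne_zero S.h2 S.ν_ne (by linear_combination -h4)

end Cfsg.Agent.Lib.ThreeTransp.UniInSymp
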