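import Cfsg.Agent.Lib.Classical.UnitarySimple

/-!
Transvections and involutions of unitary groups over the field with four elements.
-/

set_option autoImplicit false

namespace Cfsg.Agent.Lib.ThreeTransp.UnitaryFour

open Cfsg.Agent.Lib.Classical

variable {F : Type*} [Field F] [Fintype F] {n : ℕ} (hF : Fintype.card F = 2 ^ 2)

set_option quotPrecheck false in
local notation "B" => hermBilin hF n
set_option quotPrecheck false in
local notation "σ" => conjHom hF

/-! ### The field -/

include hF in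
theorem two_eq_zero : (2 : F) = 0 := by
  have h : ((Fintype.card F : ℕ) : F) = 0 := Nat.cast_card_eq_zero F
  rw [hF] at h
  have : (2 : F) * 2 = 0 := by norm_num at h ⊢; linear_combination h
  exact mul_self_eq_zero.1 this

include hF in
theorem cube_eq_one {x : F} (hx : x ≠ 0) : x ^ 3 = 1 := by
  have := FiniteField.pow_card_sub_one_eq_one x hx
  rwa [hF] at this

theorem norm_one {x : F} (hx : x ≠ 0) : σ x * x = 1 := by
  rw [conjHom_apply, ← pow_succ]; exact cube_eq_one hF hx

theorem fixed_cases {x : F} (hx : σ x = x) : x = 0 ∨ x = 1 := by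
  rcases eq_or_ne x 0 with h | h
  · exact Or.inl h
  · right
    have h3 := cube_eq_one hF h
    rw [conjHom_apply] at hx
    have : x * (x - 1) = 0 := by linear_combination hx
    exact sub_eq_zero.1 ((mul_eq_zero.1 this).resolve_left h)

include hF in
theorem exists_omega : ∃ w : F, w * w = w + 1 ∧ w ≠ 0 ∧ w ≠ 1 := by
  classical
  obtain ⟨w, -, hw⟩ : ∃ w ∈ (Finset.univ : Finset F), w ∉ ({0, 1} : Finset F) := by
    refine Finset.exists_mem_notMem_of_card_lt_card ?_
    rw [Finset.card_univ, hF]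
    exact lt_of_le_of_lt Finset.card_le_two (by norm_num)
  simp only [Finset.mem_insert, Finset.mem_singleton, not_or] at hw
  refine ⟨w, ?_, hw.1, hw.2⟩
  have h3 := cube_eq_one hF hw.1
  have h2 := two_eq_zero hF
  have : (w - 1) * (w * w + w + 1) = 0 := by linear_combination h3
  have := (mul_eq_zero.1 this).resolve_left (sub_ne_zero.2 hw.2)
  linear_combination this - (w + 1) * h2

include hF in
theorem add_self_zero (v : Fin n → F) : v + v = 0 := by
  rw [← two_smul F v, two_eq_zero hF, zero_smul]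

include hF in
theorem add_self_zero' (a : F) : a + a = 0 := by
  rw [← two_mul, two_eq_zero hF, zero_mul]

/-! ### Transvections -/

theorem exists_tv {v : Fin n → F} (hv : B v v = 0) :
    ∃ A : Cfsg.SU n F 2, ∀ x, A • x = x + B v x • v := by
  let L : (Fin n → F) →ₗ[F] (Fin n → F) := LinearMap.id + (B v).smulRight v
  have hdet : LinearMap.det L = 1 := by
    rw [Geometry.det_id_add_smulRight, hv, add_zero]
  let Le := L.equivOfDetNeZero (by rw [hdet]; exact one_ne_zero)
  obtain ⟨A, hA⟩ := exists_SU_of_isometry hF Le (fun x y => by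
    show B (x + B v x • v) (y + B v y • v) = B x y
    simp only [map_add, map_smul, map_smulₛₗ, LinearMap.add_apply, LinearMap.smul_apply, smul_eq_mul,
      hv, mul_zero, add_zero, ← herm_symm hF v x]
    linear_combination (σ (B v x) * B v y) * two_eq_zero hF) hdet
  exact ⟨A, hA⟩

/-- The transvection with centre an isotropic vector. -/
noncomputable def tv (v : Fin n → F) (hv : B v v = 0) : Cfsg.SU n F 2 := (exists_tv hF hv).choose

theorem tv_smul {v : Fin n → F} (hv : B v v = 0) (x : Fin n → F) :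
    tv hF v hv • x = x + B v x • v := (exists_tv hF hv).choose_spec x

theorem ext_smul {A A' : Cfsg.SU n F 2} (h : ∀ x : Fin n → F, A • x = A' • x) : A = A' :=
  Subtype.ext (Subtype.ext (Matrix.ext_iff_mulVec.mpr fun x => by
    rw [← mulVec_eq_smul, ← mulVec_eq_smul, h]))

theorem isom (A : Cfsg.SU n F 2) (u v : Fin n → F) : B (A • u) (A • v) = B u v := by
  rw [hermBilin_apply, hermBilin_apply]; exact A.2 v u

theorem smul_add' (A : Cfsg.SU n F 2) (u v : Fin n → F) : A • (u + v) = A • u + A • v := smul_add A u v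

theorem smul_smul' (A : Cfsg.SU n F 2) (c : F) (v : Fin n → F) : A • (c • v) = c • (A • v) := by
  rw [mulVec_eq_smul, mulVec_eq_smul, Matrix.mulVec_smul]

theorem tv_scale {v : Fin n → F} (hv : B v v = 0) {a : F} (ha : a ≠ 0) (hv' : B (a • v) (a • v) = 0) :
    tv hF (a • v) hv' = tv hF v hv := by
  refine ext_smul fun x => ?_
  rw [tv_smul, tv_smul, map_smulₛₗ, LinearMap.smul_apply, smul_eq_mul, smul_smul, mul_right_comm,
    norm_one hF ha, one_mul]

theorem iso_smul {v : Fin n → F} (hv : B v v = 0) (A : Cfsg.SU n F 2) : B (A • v) (A • v) = 0 := by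
  rw [isom, hv]

theorem tv_conj {v : Fin n → F} (hv : B v v = 0) (A : Cfsg.SU n F 2) :
    A * tv hF v hv * A⁻¹ = tv hF (A • v) (iso_smul hF hv A) := by
  refine ext_smul fun x => ?_
  obtain ⟨y, rfl⟩ : ∃ y, A • y = x := ⟨A⁻¹ • x, smul_inv_smul A x⟩
  rw [mul_smul, mul_smul, inv_smul_smul, tv_smul, tv_smul, smul_add', smul_smul', isom]

theorem tv_congr {v w : Fin n → F} (hv : B v v = 0) (hw : B w w = 0) (h : v = w) :
    tv hF v hv = tv hF w hw := by
  subst h; rfl

theorem tv_sq {v : Fin n → F} (hv : B v v = 0) : tv hF v hv * tv hF v hv = 1 := by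
  refine ext_smul fun x => ?_
  rw [mul_smul, tv_smul, tv_smul, map_add, map_smul, hv, smul_zero, add_zero, one_smul, add_assoc,
    add_self_zero hF, add_zero]

theorem tv_inv {v : Fin n → F} (hv : B v v = 0) : (tv hF v hv)⁻¹ = tv hF v hv :=
  inv_eq_of_mul_eq_one_right (tv_sq hF hv)

theorem tv_apply_fix {v x : Fin n → F} (hv : B v v = 0) (h : B v x = 0) : tv hF v hv • x = x := by
  rw [tv_smul, h, zero_smul, add_zero]

theorem perp_symm {v w : Fin n → F} (h : B v w = 0) : B w v = 0 := by
  rw [← herm_symm hF, h, map_zero]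

theorem tv_comm_of_perp {v w : Fin n → F} (hv : B v v = 0) (hw : B w w = 0) (h : B v w = 0) :
    Commute (tv hF v hv) (tv hF w hw) := by
  show tv hF v hv * tv hF w hw = tv hF w hw * tv hF v hv
  rw [← mul_inv_eq_iff_eq_mul, tv_conj hF hw (tv hF v hv)]
  exact tv_congr hF _ hw (tv_apply_fix hF hv h)

theorem tv_pow_three {v w : Fin n → F} (hv : B v v = 0) (hw : B w w = 0) (h : B v w ≠ 0) :
    (tv hF v hv * tv hF w hw) ^ 3 = 1 := by
  set a := tv hF v hv
  set b := tv hF w hw
  have hb : B w v = σ (B v w) := (herm_symm hF v w).symm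
  have key : tv hF v hv • w = B v w • (tv hF w hw • v) := by
    rw [tv_smul, tv_smul, hb, smul_add, smul_smul, mul_comm, norm_one hF h, one_smul, add_comm]
  have e : a * b * a = b * a * b := by
    conv_lhs => rw [show a * b * a = a * b * a⁻¹ by rw [tv_inv]]
    conv_rhs => rw [show b * a * b = b * a * b⁻¹ by rw [tv_inv]]
    rw [tv_conj hF hw a, tv_conj hF hv b, ← tv_scale hF (iso_smul hF hv b) h
      (by rw [← key]; exact iso_smul hF hw a)]
    exact tv_congr hF _ _ key
  rw [pow_succ, pow_two]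
  calc a * b * (a * b) * (a * b) = (a * b * a) * (b * a * b) := by simp only [mul_assoc]
    _ = (b * a * b) * (b * a * b) := by rw [e]
    _ = b * (a * ((b * b) * a)) * b := by simp only [mul_assoc]
    _ = 1 := by rw [tv_sq, one_mul, tv_sq, mul_one, tv_sq]

theorem exists_dual {v : Fin n → F} (hv : v ≠ 0) : ∃ x, B v x = 1 := by
  obtain ⟨x, hx⟩ : ∃ x, B v x ≠ 0 := by
    by_contra h
    push Not at h
    exact hv ((hermBilin_nondegenerate hF n).1 v h)
  exact ⟨(B v x)⁻¹ • x, by rw [map_smul, smul_eq_mul, inv_mul_cancel₀ hx]⟩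

theorem tv_eq_iff {v w : Fin n → F} (hv0 : v ≠ 0) (hv : B v v = 0) (hw : B w w = 0)
    (h : tv hF v hv = tv hF w hw) : ∃ c : F, v = c • w := by
  obtain ⟨x, hx⟩ := exists_dual hF hv0
  refine ⟨B w x, ?_⟩
  have := congrArg (fun A : Cfsg.SU n F 2 => A • x) h
  simp only [tv_smul, hx, one_smul] at this
  exact add_left_cancel this

theorem tv_ne_one {v : Fin n → F} (hv0 : v ≠ 0) (hv : B v v = 0) : tv hF v hv ≠ 1 := by
  intro h
  obtain ⟨x, hx⟩ := exists_dual hF hv0
  have := congrArg (fun A : Cfsg.SU n F 2 => A • x) h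
  simp only [tv_smul, hx, one_smul, add_eq_left] at this
  exact hv0 this

include hF in
theorem center_smul {z : Cfsg.SU n F 2} (hz : z ∈ Subgroup.center (Cfsg.SU n F 2)) (hn : 0 < n) :
    ∃ c : F, ∀ x : Fin n → F, z • x = c • x := by
  refine ⟨(z.1 : Matrix (Fin n) (Fin n) F) ⟨0, hn⟩ ⟨0, hn⟩, fun x => ?_⟩
  rw [mulVec_eq_smul]
  conv_lhs => rw [SU_center_scalar hF z hz ⟨0, hn⟩]
  rw [Matrix.smul_mulVec, Matrix.one_mulVec]

/-- The product of the five transvections centred on a totally isotropic line. -/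
theorem five_line {v w : Fin n → F} {om : F} (hom : om * om = om + 1) (hv : B v v = 0) (hw : B w w = 0)
    (hvw : B v w = 0) (h₃ : B (v + w) (v + w) = 0) (h₄ : B (v + om • w) (v + om • w) = 0)
    (h₅ : B (v + (om + 1) • w) (v + (om + 1) • w) = 0) :
    tv hF w hw * tv hF v hv * tv hF (v + w) h₃ * tv hF (v + om • w) h₄ *
      tv hF (v + (om + 1) • w) h₅ = 1 := by
  refine ext_smul fun x => ?_
  have hwv := perp_symm hF hvw
  have h2 := two_eq_zero hF
  have hs : σ om = om + 1 := by
    rw [conjHom_apply, pow_two, hom]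
  have hs1 : σ (om + 1) = om := by
    rw [map_add, map_one, hs]; linear_combination h2
  simp only [mul_smul, tv_smul, map_add, map_smul, map_smulₛₗ, LinearMap.add_apply, LinearMap.smul_apply,
    smul_eq_mul, hv, hw, hvw, hwv, mul_zero, add_zero, zero_add, hs, hs1, map_one, one_smul, smul_add]
  generalize B v x = a
  generalize B w x = b
  simp only [zero_smul, smul_zero, add_zero]
  match_scalars
  all_goals first
    | ring1
    | linear_combination (2 * a + b + om * b) * h2
    | linear_combination (a + b + a * om + om * b + om * om * b) * h2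

/-- Projection away from a hyperbolic pair. -/
theorem project {e f : Fin n → F} (he : B e e = 0) (hf : B f f = 0) (hef : B e f = 1) (x : Fin n → F) :
    B e (x + B e x • f + B f x • e) = 0 ∧ B f (x + B e x • f + B f x • e) = 0 := by
  have hfe : B f e = 1 := by rw [← herm_symm hF, hef, map_one]
  constructor <;>
    (simp only [map_add, map_smul, smul_eq_mul, he, hf, hef, hfe, mul_zero, mul_one, add_zero]
     exact add_self_zero' hF _)

/-- A vector orthogonal to an isotropic line and to every isotropic vector orthogonal to that line lies on it. -/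
theorem mem_line {v w x : Fin n → F} (hv : B v v = 0) (hw : B w w = 0) (hvw : B v w = 0)
    (hind : ∀ a b : F, a • v + b • w = 0 → a = 0 ∧ b = 0) (hx : B x x = 0)
    (h : ∀ y, B y y = 0 → B v y = 0 → B w y = 0 → B x y = 0) :
    ∃ a b : F, x = a • v + b • w := by
  have hwv := perp_symm hF hvw
  have h1 : ∀ a : F, a • w ≠ v := fun a h => one_ne_zero
    (hind 1 (-a) (by rw [one_smul, neg_smul, h, add_neg_cancel])).1
  obtain ⟨fv, hfv1, hfv, hfv2⟩ := exists_partner_perp hF hv hvw h1
  obtain ⟨fw, hfw1, hfw, hfw2, hfw3⟩ : ∃ fw, B w fw = 1 ∧ B fw fw = 0 ∧ B v fw = 0 ∧ B fv fw = 0 := by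
    obtain ⟨u, hu, hue⟩ := Geometry.exists_sesq_perp_apply_eq_one B (conjHom_conjHom hF)
      (hermBilin_isSymm hF n) (hermBilin_nondegenerate hF n) (Submodule.span F {v, fv}) (x := w)
      (fun hmem => by
        obtain ⟨a, b, hab⟩ := Submodule.mem_span_pair.1 hmem
        have hb : b = 0 := by
          have := congrArg (B v) hab
          simp only [map_add, map_smul, smul_eq_mul, hv, hfv1, mul_zero, zero_add, mul_one, hvw] at this
          exact this
        rw [hb, zero_smul, add_zero] at hab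
        exact one_ne_zero (hind (-a) 1 (by rw [neg_smul, one_smul, hab, neg_add_cancel])).2)
    have hwu : B w u = 1 := by rw [← herm_symm hF, hue, map_one]
    obtain ⟨c, hc⟩ := exists_shift_isotropic hF hw hwu
    refine ⟨u + c • w, by rw [map_add, map_smul, hw, smul_zero, add_zero, hwu], hc, ?_, ?_⟩
    · rw [map_add, map_smul, hvw, smul_zero, add_zero]
      exact perp_symm hF (hu v (Submodule.subset_span (by simp)))
    · rw [map_add, map_smul, perp_symm hF hfv2, smul_zero, add_zero]
      exact perp_symm hF (hu fv (Submodule.subset_span (by simp)))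
  set x' := x + (B fv x • v + B fw x • w) with hx'def
  have hvx : B v x = 0 := perp_symm hF (h v hv hv hwv)
  have hwx : B w x = 0 := perp_symm hF (h w hw hvw hw)
  have hxv := h v hv hv hwv
  have hxw := h w hw hvw hw
  have hfvv : B fv v = 1 := by rw [← herm_symm hF, hfv1, map_one]
  have hfww : B fw w = 1 := by rw [← herm_symm hF, hfw1, map_one]
  have hfvw : B fv w = 0 := perp_symm hF hfv2
  have hfwv : B fw v = 0 := perp_symm hF hfw2
  have e1 : B fv x' = 0 := by
    simp only [hx'def, map_add, map_smul, smul_eq_mul, hfvv, hfvw, mul_one, mul_zero, add_zero]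
    exact add_self_zero' hF _
  have e2 : B fw x' = 0 := by
    simp only [hx'def, map_add, map_smul, smul_eq_mul, hfww, hfwv, mul_one, mul_zero, zero_add]
    exact add_self_zero' hF _
  have e3 : B v x' = 0 ∧ B w x' = 0 := by
    constructor <;>
      simp only [hx'def, map_add, map_smul, smul_eq_mul, hv, hw, hvw, hwv, hvx, hwx, mul_zero, add_zero]
  have hkey : ∀ y, B y y = 0 → B v y = 0 → B w y = 0 → B x' y = 0 := by
    intro y h1 h2 h3
    simp only [hx'def, map_add, map_smulₛₗ, LinearMap.add_apply, LinearMap.smul_apply, smul_eq_mul,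
      h y h1 h2 h3, h2, h3, mul_zero, add_zero]
  have hx'0 : x' = 0 := by
    refine (hermBilin_nondegenerate hF n).1 x' fun u => ?_
    -- the component orthogonal to the two hyperbolic pairs
    set u' := u + B v u • fv + B w u • fw with hu'def
    have hu1 : B v u' = 0 := by
      simp only [hu'def, map_add, map_smul, smul_eq_mul, hfv1, hfw2, mul_one, mul_zero, add_zero]
      exact add_self_zero' hF _
    have hu2 : B w u' = 0 := by
      simp only [hu'def, map_add, map_smul, smul_eq_mul, hfw1, hfv2, mul_one, mul_zero, add_zero]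
      exact add_self_zero' hF _
    have hxu : B x' u = B x' u' := by
      simp only [hu'def, map_add, map_smul, smul_eq_mul, perp_symm hF e1, perp_symm hF e2, mul_zero,
        add_zero]
    rw [hxu]
    have hx'x' : B x' x' = 0 := by
      simp only [hx'def, map_add, map_smul, map_smulₛₗ, LinearMap.add_apply, LinearMap.smul_apply,
        smul_eq_mul, hv, hw, hvw, hwv, hvx, hwx, hxv, hxw, hx, mul_zero, add_zero]
    by_contra hne
    rcases fixed_cases hF (herm_symm hF u' u') with h0 | h1'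
    · exact hne (hkey u' h0 hu1 hu2)
    obtain ⟨om, hom, -⟩ := exists_omega hF
    have hu'x : B u' x' ≠ 0 := fun h0 => hne (perp_symm hF h0)
    set a := om / B u' x' with hadef
    have haB : a * B u' x' = om := div_mul_cancel₀ om hu'x
    have haB' : σ a * B x' u' = om + 1 := by
      rw [← herm_symm hF u' x', ← map_mul, haB, conjHom_apply, pow_two, hom]
    have hy : B (u' + a • x') (u' + a • x') = 0 := by
      simp only [map_add, map_smul, map_smulₛₗ, LinearMap.add_apply, LinearMap.smul_apply, smul_eq_mul,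
        hx'x', mul_zero, add_zero, h1', haB, haB']
      linear_combination (om + 1) * two_eq_zero hF
    have := hkey (u' + a • x') hy
      (by simp only [map_add, map_smul, smul_eq_mul, hu1, e3.1, mul_zero, add_zero])
      (by simp only [map_add, map_smul, smul_eq_mul, hu2, e3.2, mul_zero, add_zero])
    simp only [map_add, map_smul, smul_eq_mul, hx'x', mul_zero, add_zero] at this
    exact hne this
  refine ⟨B fv x, B fw x, ?_⟩
  rw [hx'def] at hx'0
  calc x = x + (B fv x • v + B fw x • w) + (B fv x • v + B fw x • w) := by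
        rw [add_assoc, add_self_zero hF, add_zero]
    _ = B fv x • v + B fw x • w := by rw [hx'0, zero_add]

/-- An isotropic vector orthogonal to two hyperbolic pairs, in dimension at least six. -/
theorem exists_spare (hn : 6 ≤ n) {e f e' f' : Fin n → F} (he : B e e = 0) (hf : B f f = 0)
    (hef : B e f = 1) (he' : B e' e' = 0) (hf' : B f' f' = 0) (hef' : B e' f' = 1)
    (h1 : B e e' = 0) (h2 : B e f' = 0) (h3 : B f e' = 0) (h4 : B f f' = 0) :
    ∃ z, z ≠ 0 ∧ B z z = 0 ∧ B e z = 0 ∧ B f z = 0 ∧ B e' z = 0 ∧ B f' z = 0 := by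
  let T : (Fin n → F) →ₗ[F] (Fin 4 → F) := LinearMap.pi ![B e, B f, B e', B f']
  let P := LinearMap.ker T
  have hP : ∀ {x}, x ∈ P → B e x = 0 ∧ B f x = 0 ∧ B e' x = 0 ∧ B f' x = 0 := fun {x} hx => by
    rw [LinearMap.mem_ker] at hx
    exact ⟨congrFun hx 0, congrFun hx 1, congrFun hx 2, congrFun hx 3⟩
  have hdim : 2 ≤ Module.finrank F P := by
    have h1 := LinearMap.finrank_range_add_finrank_ker T
    have h2 := (LinearMap.range T).finrank_le
    simp only [Module.finrank_fintype_fun_eq_card, Fintype.card_fin] at h1 h2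
    show 2 ≤ Module.finrank F (LinearMap.ker T)
    omega
  haveI : Nontrivial P := Module.nontrivial_of_finrank_pos (R := F) (show 0 < _ by omega)
  obtain ⟨⟨x, hx⟩, hx0⟩ := exists_ne (0 : P)
  have hx0' : x ≠ 0 := fun h => hx0 (Subtype.ext h)
  by_cases hxx : B x x = 0
  · exact ⟨x, hx0', hxx, hP hx⟩
  have hxx1 : B x x = 1 := (fixed_cases hF (herm_symm hF x x)).resolve_left hxx
  obtain ⟨y, hy, hxy, hy0⟩ : ∃ y ∈ P, B x y = 0 ∧ y ≠ 0 := by
    let Tx : P →ₗ[F] F := (B x).comp P.subtype
    have hk : 0 < Module.finrank F (LinearMap.ker Tx) := by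
      have := LinearMap.finrank_range_add_finrank_ker Tx
      have := (LinearMap.range Tx).finrank_le
      simp only [Module.finrank_self] at *
      omega
    haveI : Nontrivial (LinearMap.ker Tx) := Module.nontrivial_of_finrank_pos (R := F) hk
    obtain ⟨⟨⟨y, hy⟩, hy'⟩, hy0⟩ := exists_ne (0 : LinearMap.ker Tx)
    exact ⟨y, hy, hy', fun h => hy0 (Subtype.ext (Subtype.ext h))⟩
  by_cases hyy : B y y = 0
  · exact ⟨y, hy0, hyy, hP hy⟩
  have hyy1 : B y y = 1 := (fixed_cases hF (herm_symm hF y y)).resolve_left hyy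
  refine ⟨x + y, fun h => ?_, ?_, hP (P.add_mem hx hy)⟩
  · have := congrArg (B x) h
    rw [map_add, map_zero, hxx1, hxy, add_zero] at this
    exact one_ne_zero this
  · simp only [map_add, LinearMap.add_apply, hxx1, hyy1, hxy, perp_symm hF hxy, add_zero, zero_add]
    exact add_self_zero' hF _

/-! ### Involutions -/

/-- The map `A - 1`. -/
def nil (A : Cfsg.SU n F 2) : (Fin n → F) →ₗ[F] (Fin n → F) where
  toFun x := A • x + x
  map_add' x y := by rw [smul_add]; abel
  map_smul' c x := by rw [smul_smul', RingHom.id_apply, smul_add]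

theorem nil_apply (A : Cfsg.SU n F 2) (x : Fin n → F) : nil A x = A • x + x := rfl

section Inv

variable {A : Cfsg.SU n F 2} (hA : A * A = 1)

include hA

theorem nil_adjoint (x y : Fin n → F) : B (nil A x) y = B x (nil A y) := by
  have : B (A • x) y = B x (A • y) := by
    conv_lhs => rw [← one_smul (Cfsg.SU n F 2) y, ← hA, mul_smul]
    rw [isom]
  rw [nil_apply, nil_apply, map_add, map_add, LinearMap.add_apply, this]

include hF in
theorem nil_nil (x : Fin n → F) : nil A (nil A x) = 0 := by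
  rw [nil_apply, nil_apply, smul_add, ← mul_smul, hA, one_smul, add_comm x, add_self_zero hF]

include hF in
theorem smul_nil (x : Fin n → F) : A • nil A x = nil A x := by
  have := nil_nil hF hA x
  rw [nil_apply] at this
  calc A • nil A x = A • nil A x + nil A x + nil A x := by
        rw [add_assoc, add_self_zero hF, add_zero]
    _ = nil A x := by rw [this, zero_add]

theorem nil_range_perp (x y : Fin n → F) : B (nil A x) (nil A y) = 0 := by
  rw [nil_adjoint hF hA, nil_nil hF hA, map_zero]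

theorem exists_nil_norm (h : A ≠ 1) : ∃ u, B u (nil A u) = 1 := by
  by_contra hno
  push Not at hno
  have h0 : ∀ u, B u (nil A u) = 0 := fun u => by
    refine (fixed_cases hF ?_).resolve_right (hno u)
    rw [herm_symm hF, nil_adjoint hF hA]
  obtain ⟨om, hom, hom0, hom1⟩ := exists_omega hF
  apply h
  refine ext_smul fun x => ?_
  have hz : nil A x = 0 := by
    refine (hermBilin_nondegenerate hF n).1 _ fun y => ?_
    rw [nil_adjoint hF hA]
    have e1 := h0 (x + y)
    have e2 := h0 (x + om • y)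
    simp only [map_add, map_smul, map_smulₛₗ, LinearMap.add_apply, LinearMap.smul_apply, smul_eq_mul, h0,
      zero_add, add_zero, mul_zero] at e1 e2
    have hs : σ om = om + 1 := by rw [conjHom_apply, pow_two, hom]
    rw [hs] at e2
    have e3 : B y (nil A x) = B x (nil A y) := by
      linear_combination e1 - B x (nil A y) * two_eq_zero hF
    rw [e3] at e2
    have : B x (nil A y) = 0 := by linear_combination e2 - om * B x (nil A y) * two_eq_zero hF
    exact this
  rw [nil_apply] at hz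
  rw [one_smul]
  calc A • x = A • x + x + x := by rw [add_assoc, add_self_zero hF, add_zero]
    _ = x := by rw [hz, zero_add]

/-- Splitting a transvection off an involution. -/
theorem split {u : Fin n → F} (hu : B u (nil A u) = 1) :
    B (nil A u) (nil A u) = 0 ∧
    ∃ (hw : B (nil A u) (nil A u) = 0) (A' : Cfsg.SU n F 2),
      A = tv hF (nil A u) hw * A' ∧ Commute (tv hF (nil A u) hw) A' ∧ A' * A' = 1 ∧
      (∀ x, nil A' x = nil A x + B (nil A u) x • nil A u) := by
  have hw := nil_range_perp hF hA u u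
  refine ⟨hw, hw, tv hF (nil A u) hw * A, by rw [← mul_assoc, tv_sq, one_mul], ?_, ?_, fun x => ?_⟩
  all_goals
    have hc : Commute (tv hF (nil A u) hw) A := by
      show _ = _
      rw [eq_comm, ← mul_inv_eq_iff_eq_mul, tv_conj hF hw A]
      exact tv_congr hF _ hw (smul_nil hF hA u)
  · exact (Commute.refl _).mul_right hc
  · rw [mul_assoc, ← mul_assoc A, ← hc.eq, mul_assoc, hA, mul_one, tv_sq]
  · rw [nil_apply, mul_smul, tv_smul, nil_apply A x]
    have : B (nil A u) (A • x) = B (nil A u) x := by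
      conv_lhs => rw [← smul_nil hF hA u, isom]
    rw [this]; abel

end Inv

/-- An involution is a product of transvections with pairwise orthogonal centres. -/
theorem involution_decomp : ∀ (k : ℕ) (A : Cfsg.SU n F 2), A * A = 1 →
    Module.finrank F (LinearMap.range (nil A)) ≤ k →
    ∃ l : List {v : Fin n → F // v ≠ 0 ∧ B v v = 0},
      A = (l.map fun v => tv hF v.1 v.2.2).prod ∧ ∀ v ∈ l, v.1 ∈ LinearMap.range (nil A) := by
  intro k
  induction k with
  | zero =>
    intro A _ hk
    refine ⟨[], ?_, by simp⟩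
    rw [List.map_nil, List.prod_nil]
    refine ext_smul fun x => ?_
    have : nil A x ∈ LinearMap.range (nil A) := LinearMap.mem_range_self _ x
    rw [Submodule.finrank_eq_zero.1 (Nat.le_zero.1 hk), Submodule.mem_bot, nil_apply] at this
    rw [one_smul]
    calc A • x = A • x + x + x := by rw [add_assoc, add_self_zero hF, add_zero]
      _ = x := by rw [this, zero_add]
  | succ k ih =>
    intro A hA hk
    by_cases h1 : A = 1
    · exact ⟨[], by simp [h1], by simp⟩
    obtain ⟨u, hu⟩ := exists_nil_norm hF hA h1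
    obtain ⟨-, hw, A', hAA', hc, hA', hnil⟩ := split hF hA hu
    set w := nil A u with hwdef
    have hw0 : w ≠ 0 := fun h => by rw [h, map_zero] at hu; exact zero_ne_one hu
    have hwu : B w u = 1 := by rw [← herm_symm hF, hu, map_one]
    have hle : LinearMap.range (nil A') ≤ LinearMap.range (nil A) := by
      rintro _ ⟨x, rfl⟩
      rw [hnil]
      exact Submodule.add_mem _ (LinearMap.mem_range_self _ x)
        (Submodule.smul_mem _ _ (LinearMap.mem_range_self _ u))
    have hu' : nil A' u = 0 := by rw [hnil, hwu, one_smul, ← hwdef, add_self_zero hF]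
    have hlt : LinearMap.range (nil A') < LinearMap.range (nil A) := by
      refine lt_of_le_of_ne hle fun h => ?_
      have hmem : w ∈ LinearMap.range (nil A') := h ▸ LinearMap.mem_range_self _ u
      obtain ⟨x, hx⟩ := hmem
      rw [← hx, ← nil_adjoint hF hA'] at hu
      rw [hu', map_zero, LinearMap.zero_apply] at hu
      exact zero_ne_one hu
    obtain ⟨l, hl, hmem⟩ := ih A' hA' (by
      have := Submodule.finrank_lt_finrank_of_lt hlt
      omega)
    refine ⟨⟨w, hw0, hw⟩ :: l, by rw [List.map_cons, List.prod_cons, ← hl]; exact hAA', fun v hv => ?_⟩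
    rcases List.mem_cons.1 hv with rfl | hv
    · exact LinearMap.mem_range_self _ u
    · exact hle (hmem v hv)

/-- An involution which is not a transvection is not a 3-transposition. -/
theorem exists_bad_conj (hn : 6 ≤ n) {A : Cfsg.SU n F 2} (hA : A * A = 1) (h1 : A ≠ 1)
    (hnt : ∀ (v : Fin n → F) (hv : B v v = 0), A ≠ tv hF v hv) :
    ∃ g : Cfsg.SU n F 2, (A * (g * A * g⁻¹)) ^ 2 ∉ Subgroup.center (Cfsg.SU n F 2) ∧
      (A * (g * A * g⁻¹)) ^ 3 ∉ Subgroup.center (Cfsg.SU n F 2) := by
  obtain ⟨u₁, hu₁⟩ := exists_nil_norm hF hA h1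
  obtain ⟨-, hw₁, A', hAA', hc₁, hA', hnil₁⟩ := split hF hA hu₁
  set w₁ := nil A u₁ with hw₁def
  have hwu₁ : B w₁ u₁ = 1 := by rw [← herm_symm hF, hu₁, map_one]
  obtain ⟨c, hf₁⟩ := exists_shift_isotropic hF hw₁ hwu₁
  set f₁ := u₁ + c • w₁ with hf₁def
  have hwf₁ : B w₁ f₁ = 1 := by rw [hf₁def, map_add, map_smul, hw₁, smul_zero, add_zero, hwu₁]
  have hfw₁ : B f₁ w₁ = 1 := by rw [← herm_symm hF, hwf₁, map_one]
  have hNw₁ : nil A' w₁ = 0 := by
    rw [hnil₁, hw₁, zero_smul, add_zero, hw₁def, nil_nil hF hA]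
  have hNf₁ : nil A' f₁ = 0 := by
    rw [hf₁def, map_add, map_smul, hNw₁, smul_zero, add_zero, hnil₁, hwu₁, one_smul, ← hw₁def,
      add_self_zero hF]
  have hA'1 : A' ≠ 1 := fun h => hnt w₁ hw₁ (by rw [hAA', h, mul_one])
  obtain ⟨u₂', hu₂'⟩ := exists_nil_norm hF hA' hA'1
  set u₂ := u₂' + B w₁ u₂' • f₁ + B f₁ u₂' • w₁ with hu₂def
  have hN₂ : nil A' u₂ = nil A' u₂' := by
    rw [hu₂def, map_add, map_add, map_smul, map_smul, hNf₁, hNw₁, smul_zero, smul_zero, add_zero, add_zero]
  obtain ⟨hp1, hp2⟩ := project hF hw₁ hf₁ hwf₁ u₂'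
  rw [← hu₂def] at hp1 hp2
  have hperp : ∀ x, B w₁ (nil A' x) = 0 ∧ B f₁ (nil A' x) = 0 := fun x => by
    rw [← nil_adjoint hF hA', ← nil_adjoint hF hA', hNw₁, hNf₁, map_zero, LinearMap.zero_apply]
    exact ⟨rfl, rfl⟩
  have hu₂ : B u₂ (nil A' u₂) = 1 := by
    rw [← nil_adjoint hF hA', hN₂]
    simp only [hu₂def, map_add, map_smul, smul_eq_mul, perp_symm hF (hperp u₂').1,
      perp_symm hF (hperp u₂').2, mul_zero, add_zero]
    rw [nil_adjoint hF hA']; exact hu₂'
  obtain ⟨-, hw₂, A'', hA'A'', hc₂, hA'', hnil₂⟩ := split hF hA' hu₂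
  set w₂ := nil A' u₂ with hw₂def
  obtain ⟨h12, hf12⟩ : B w₁ w₂ = 0 ∧ B f₁ w₂ = 0 := hperp u₂
  have hwu₂ : B w₂ u₂ = 1 := by rw [← herm_symm hF, hu₂, map_one]
  obtain ⟨c₂, hf₂⟩ := exists_shift_isotropic hF hw₂ hwu₂
  set f₂ := u₂ + c₂ • w₂ with hf₂def
  have hwf₂ : B w₂ f₂ = 1 := by rw [hf₂def, map_add, map_smul, hw₂, smul_zero, add_zero, hwu₂]
  have h1f₂ : B w₁ f₂ = 0 := by rw [hf₂def, map_add, map_smul, hp1, h12, smul_zero, add_zero]
  have hf1f₂ : B f₁ f₂ = 0 := by rw [hf₂def, map_add, map_smul, hp2, hf12, smul_zero, add_zero]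
  have hfix0 : ∀ {x}, nil A' x = 0 → B w₂ x = 0 → nil A'' x = 0 := fun {x} h h' => by
    rw [hnil₂, h, h', zero_smul, add_zero]
  have hNw₁' := hfix0 hNw₁ (perp_symm hF h12)
  have hNf₁' := hfix0 hNf₁ (perp_symm hF hf12)
  have hNw₂ : nil A'' w₂ = 0 := by rw [hnil₂, hw₂, zero_smul, add_zero, hw₂def, nil_nil hF hA']
  have hNf₂ : nil A'' f₂ = 0 := by
    rw [hf₂def, map_add, map_smul, hNw₂, smul_zero, add_zero, hnil₂, hwu₂, one_smul, ← hw₂def,
      add_self_zero hF]
  obtain ⟨z, hz0, hz, hz1, hzf1, hz2, hzf2, hNz⟩ : ∃ z, z ≠ 0 ∧ B z z = 0 ∧ B w₁ z = 0 ∧ B f₁ z = 0 ∧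
      B w₂ z = 0 ∧ B f₂ z = 0 ∧ nil A'' z = 0 := by
    by_cases h3 : A'' = 1
    · obtain ⟨z, a0, a1, a2, a3, a4, a5⟩ := exists_spare hF (by omega) hw₁ hf₁ hwf₁ hw₂ hf₂ hwf₂ h12 h1f₂
        hf12 hf1f₂
      exact ⟨z, a0, a1, a2, a3, a4, a5, by rw [nil_apply, h3, one_smul, add_self_zero hF]⟩
    · obtain ⟨u₃, hu₃⟩ := exists_nil_norm hF hA'' h3
      refine ⟨nil A'' u₃, fun h => ?_, nil_range_perp hF hA'' u₃ u₃, ?_, ?_, ?_, ?_, nil_nil hF hA'' u₃⟩
      · rw [h, map_zero] at hu₃; exact zero_ne_one hu₃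
      all_goals rw [← nil_adjoint hF hA'']
      · rw [hNw₁', map_zero, LinearMap.zero_apply]
      · rw [hNf₁', map_zero, LinearMap.zero_apply]
      · rw [hNw₂, map_zero, LinearMap.zero_apply]
      · rw [hNf₂, map_zero, LinearMap.zero_apply]
  have h21 := perp_symm hF h12
  have hf21 := perp_symm hF hf12
  have hz1' := perp_symm hF hz1
  have hzf1' := perp_symm hF hzf1
  have hz2' := perp_symm hF hz2
  have hzf2' := perp_symm hF hzf2
  have hf21' := perp_symm hF h1f₂
  have hf2f1 := perp_symm hF hf1f₂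
  have hfw₂ : B f₂ w₂ = 1 := by rw [← herm_symm hF, hwf₂, map_one]
  -- the three transvections
  set z' := w₂ + z with hz'def
  have hp : B (w₁ + f₁) (w₁ + f₁) = 0 := by
    simp only [map_add, LinearMap.add_apply, hw₁, hf₁, hwf₁, hfw₁, zero_add, add_zero]
    exact add_self_zero' hF _
  have hq : B (w₂ + f₂) (w₂ + f₂) = 0 := by
    simp only [map_add, LinearMap.add_apply, hw₂, hf₂, hwf₂, hfw₂, zero_add, add_zero]
    exact add_self_zero' hF _
  have hr : B (f₂ + z') (f₂ + z') = 0 := by
    simp only [hz'def, map_add, LinearMap.add_apply, hw₂, hf₂, hwf₂, hfw₂, hz, hz2, hz2', hzf2, hzf2',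
      zero_add, add_zero]
    exact add_self_zero' hF _
  set g := tv hF (w₁ + f₁) hp * tv hF (f₂ + z') hr * tv hF (w₂ + f₂) hq with hgdef
  have g1 : g • w₁ = f₁ := by
    rw [hgdef, mul_smul, mul_smul, tv_apply_fix hF hq (by simp [h21, hf21']),
      tv_apply_fix hF hr (by simp [hz'def, h21, hf21', hz1']), tv_smul]
    simp only [map_add, LinearMap.add_apply, hw₁, hfw₁, zero_add, one_smul]
    rw [← add_assoc, add_self_zero hF, zero_add]
  have g2 : g • w₂ = z' := by
    rw [hgdef, mul_smul, mul_smul]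
    have e1 : tv hF (w₂ + f₂) hq • w₂ = f₂ := by
      rw [tv_smul]
      simp only [map_add, LinearMap.add_apply, hw₂, hfw₂, zero_add, one_smul]
      rw [← add_assoc, add_self_zero hF, zero_add]
    have e2 : tv hF (f₂ + z') hr • f₂ = z' := by
      rw [tv_smul]
      simp only [hz'def, map_add, LinearMap.add_apply, hf₂, hwf₂, hzf2', zero_add, add_zero, one_smul]
      rw [← add_assoc, add_self_zero hF, zero_add]
    rw [e1, e2, tv_apply_fix hF hp (by simp [hz'def, h12, hf12, hz1, hzf1])]
  have g3 : ∀ x, B w₁ x = 0 → B f₁ x = 0 → B w₂ x = 0 → B f₂ x = 0 → B z x = 0 → g • x = x := by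
    intro x a b c d e
    rw [hgdef, mul_smul, mul_smul, tv_apply_fix hF hq (by simp [c, d]),
      tv_apply_fix hF hr (by simp [hz'def, c, d, e]), tv_apply_fix hF hp (by simp [a, b])]
  -- `g` commutes with the rest
  have hgA : g * A'' * g⁻¹ = A'' := by
    have hfix : ∀ x, nil A'' x = 0 → A'' • x = x := fun x hx => by
      rw [nil_apply] at hx
      calc A'' • x = A'' • x + x + x := by rw [add_assoc, add_self_zero hF, add_zero]
        _ = x := by rw [hx, zero_add]
    have hcomm : ∀ (v : Fin n → F) (hv : B v v = 0), nil A'' v = 0 → Commute (tv hF v hv) A'' := by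
      intro v hv hNv
      show _ = _
      rw [eq_comm, ← mul_inv_eq_iff_eq_mul, tv_conj hF hv A'']
      exact tv_congr hF _ hv (hfix v hNv)
    have : Commute g A'' := by
      rw [hgdef]
      refine ((hcomm _ hp ?_).mul_left (hcomm _ hr ?_)).mul_left (hcomm _ hq ?_)
      · simp [hNw₁', hNf₁']
      · simp [hz'def, hNf₂, hNw₂, hNz]
      · simp [hNw₂, hNf₂]
    rw [this.eq, mul_inv_cancel_right]
  have hz' : B z' z' = 0 := by
    simp only [hz'def, map_add, LinearMap.add_apply, hw₂, hz, hz2, hz2', add_zero]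
  have hconj : g * A * g⁻¹ = tv hF f₁ hf₁ * tv hF z' hz' * A'' := by
    rw [hAA', hA'A'', show g * (tv hF w₁ hw₁ * (tv hF w₂ hw₂ * A'')) * g⁻¹ =
      (g * tv hF w₁ hw₁ * g⁻¹) * (g * tv hF w₂ hw₂ * g⁻¹) * (g * A'' * g⁻¹) by group, hgA,
      tv_conj hF hw₁ g, tv_conj hF hw₂ g, tv_congr hF _ hf₁ g1, tv_congr hF _ hz' g2]
  -- commutation
  set t₁ := tv hF w₁ hw₁
  set t₂ := tv hF w₂ hw₂
  set s₁ := tv hF f₁ hf₁
  set s₂ := tv hF z' hz'
  have hfix' : ∀ (v : Fin n → F) (hv : B v v = 0), nil A'' v = 0 → Commute A'' (tv hF v hv) := by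
    intro v hv hNv
    show _ = _
    rw [← mul_inv_eq_iff_eq_mul, tv_conj hF hv A'']
    refine tv_congr hF _ hv ?_
    rw [nil_apply] at hNv
    calc A'' • v = A'' • v + v + v := by rw [add_assoc, add_self_zero hF, add_zero]
      _ = v := by rw [hNv, zero_add]
  have hNz' : nil A'' z' = 0 := by rw [hz'def, map_add, hNw₂, hNz, add_zero]
  have hA2 : A * (g * A * g⁻¹) = (t₁ * s₁) * (t₂ * s₂) := by
    rw [hconj, hAA', hA'A'']
    have c1 : Commute A'' s₁ := hfix' _ hf₁ hNf₁'
    have c2 : Commute A'' s₂ := hfix' _ hz' hNz'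
    have c3 : Commute t₂ s₁ := tv_comm_of_perp hF hw₂ hf₁ hf21
    calc t₁ * (t₂ * A'') * (s₁ * s₂ * A'') = t₁ * (t₂ * ((A'' * (s₁ * s₂)) * A'')) := by
          simp only [mul_assoc]
      _ = t₁ * (t₂ * (s₁ * s₂ * (A'' * A''))) := by rw [(c1.mul_right c2).eq]; simp only [mul_assoc]
      _ = t₁ * ((t₂ * s₁) * s₂) := by rw [hA'', mul_one]; simp only [mul_assoc]
      _ = t₁ * ((s₁ * t₂) * s₂) := by rw [c3.eq]
      _ = (t₁ * s₁) * (t₂ * s₂) := by simp only [mul_assoc]
  have hcomm : Commute (t₁ * s₁) (t₂ * s₂) := by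
    refine Commute.mul_left ?_ ?_
    · exact (tv_comm_of_perp hF hw₁ hw₂ h12).mul_right
        (tv_comm_of_perp hF hw₁ hz' (by simp [hz'def, h12, hz1]))
    · exact (tv_comm_of_perp hF hf₁ hw₂ hf12).mul_right
        (tv_comm_of_perp hF hf₁ hz' (by simp [hz'def, hf12, hzf1]))
  have h3 : (t₁ * s₁) ^ 3 = 1 := tv_pow_three hF hw₁ hf₁ (by rw [hwf₁]; exact one_ne_zero)
  have h2 : (t₂ * s₂) ^ 2 = 1 := by
    rw [(tv_comm_of_perp hF hw₂ hz' (by simp [hz'def, hw₂, hz2])).mul_pow, pow_two, pow_two, tv_sq, tv_sq,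
      one_mul]
  refine ⟨g, fun hmem => ?_, fun hmem => ?_⟩
  · rw [hA2, hcomm.mul_pow, h2, mul_one] at hmem
    obtain ⟨d, hd⟩ := center_smul hF hmem (by omega)
    have e : (t₁ * s₁) ^ 2 = s₁ * t₁ := by
      calc (t₁ * s₁) ^ 2 = (t₁ * s₁) ^ 3 * (t₁ * s₁)⁻¹ := by rw [pow_succ _ 2, mul_inv_cancel_right]
        _ = s₁ * t₁ := by rw [h3, one_mul, mul_inv_rev, tv_inv, tv_inv]
    have := congrArg (B w₁) (hd w₁)
    rw [e, mul_smul, tv_apply_fix hF hw₁ hw₁, tv_smul, hfw₁, one_smul, map_add, hw₁, hwf₁, map_smul, hw₁,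
      smul_zero, zero_add] at this
    exact one_ne_zero this
  · rw [hA2, hcomm.mul_pow, h3, one_mul, pow_succ, h2, one_mul] at hmem
    obtain ⟨d, hd⟩ := center_smul hF hmem (by omega)
    have h := hd f₂
    have e : (t₂ * s₂) • f₂ = f₂ + z := by
      rw [mul_smul, tv_smul, tv_smul]
      simp only [hz'def, map_add, map_smul, LinearMap.add_apply, hwf₂, hzf2', hw₂, hz2, add_zero, one_smul,
        smul_eq_mul, mul_zero, mul_one]
      rw [show f₂ + (w₂ + z) + w₂ = f₂ + z + (w₂ + w₂) by abel, add_self_zero hF, add_zero]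
    rw [e] at h
    have h' := congrArg (B w₂) h
    rw [map_add, map_smul, hwf₂, hz2, add_zero, smul_eq_mul, mul_one] at h'
    rw [← h', one_smul, add_eq_left] at h
    exact hz0 h

end Cfsg.Agent.Lib.ThreeTransp.UnitaryFour
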