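import Cfsg.Agent.Lib.ThreeTransp.UnitaryFour
import Cfsg.Agent.Lib.ThreeTransp.CommutingLevels

/-!
The class of 3-transpositions of `PSU₆(2)`; lifting of involutions to double covers.
-/

set_option autoImplicit false

namespace Cfsg.Agent.Lib.ThreeTransp.UnitaryFour

open Cfsg Cfsg.Agent.Lib.Classical

variable {F : Type*} [Field F] [Fintype F] (hF : Fintype.card F = 2 ^ 2)

set_option quotPrecheck false in
local notation "B" => hermBilin hF 6
set_option quotPrecheck false in
local notation "σ" => conjHom hF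

local notation "Z6" => Subgroup.center (Cfsg.SU 6 F 2)

/-- The image of a transvection. -/
noncomputable def ptv (v : Fin 6 → F) (hv : B v v = 0) : PSU 6 F 2 := QuotientGroup.mk' Z6 (tv hF v hv)

include hF in
theorem cube_center {z : Cfsg.SU 6 F 2} (hz : z ∈ Z6) : z ^ 3 = 1 := by
  have h := pow_card_eq_one' (G := Z6) (x := ⟨z, hz⟩)
  rw [card_center_SU (q := 2) hF (by norm_num), show Nat.gcd 6 (2 + 1) = 3 by norm_num] at h
  exact congrArg Subtype.val h

include hF in
theorem eq_one_of_sq {z : Cfsg.SU 6 F 2} (hz : z ∈ Z6) (h : z * z = 1) : z = 1 := by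
  have h3 := cube_center hF hz
  rwa [pow_succ, pow_two, h, one_mul] at h3

include hF in
theorem lift_involution {x : PSU 6 F 2} (hx : x * x = 1) :
    ∃ A : Cfsg.SU 6 F 2, A * A = 1 ∧ QuotientGroup.mk' Z6 A = x := by
  obtain ⟨A, rfl⟩ := QuotientGroup.mk'_surjective Z6 x
  have hmem : A * A ∈ Z6 := (QuotientGroup.eq_one_iff _).1 (by rw [← hx]; rfl)
  refine ⟨A ^ 3, ?_, ?_⟩
  · rw [← pow_add, show 3 + 3 = 2 * 3 by norm_num, pow_mul, pow_two]
    exact cube_center hF hmem
  · rw [map_pow, pow_succ, pow_two, hx, one_mul]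

theorem ptv_ne_one {v : Fin 6 → F} (hv0 : v ≠ 0) (hv : B v v = 0) : ptv hF v hv ≠ 1 := fun h =>
  tv_ne_one hF hv0 hv (eq_one_of_sq hF ((QuotientGroup.eq_one_iff _).1 h) (tv_sq hF hv))

theorem ptv_congr {v w : Fin 6 → F} (hv : B v v = 0) (hw : B w w = 0) (h : v = w) :
    ptv hF v hv = ptv hF w hw := by
  subst h; rfl

theorem ptv_scale {v : Fin 6 → F} (hv : B v v = 0) {a : F} (ha : a ≠ 0) (hv' : B (a • v) (a • v) = 0) :
    ptv hF (a • v) hv' = ptv hF v hv := by
  rw [ptv, tv_scale hF hv ha]; rfl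

theorem ptv_commute_iff {v w : Fin 6 → F} (hv : B v v = 0) (hw : B w w = 0) :
    Commute (ptv hF v hv) (ptv hF w hw) ↔ B v w = 0 := by
  refine ⟨fun h => ?_, fun h => (tv_comm_of_perp hF hv hw h).map _⟩
  by_contra hne
  have h3 := tv_pow_three hF hv hw hne
  set a := tv hF v hv
  set b := tv hF w hw
  have hmem : (a * b) ^ 2 ∈ Z6 := by
    refine (QuotientGroup.eq_one_iff _).1 ?_
    show QuotientGroup.mk' Z6 ((a * b) ^ 2) = 1
    rw [map_pow, map_mul]
    show (ptv hF v hv * ptv hF w hw) ^ 2 = 1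
    rw [h.mul_pow, pow_two, pow_two]
    unfold ptv
    rw [← map_mul, ← map_mul, tv_sq, tv_sq, map_one, mul_one]
  obtain ⟨c, hc⟩ := center_smul hF hmem (by norm_num)
  have e : (a * b) ^ 2 = b * a := by
    calc (a * b) ^ 2 = (a * b) ^ 3 * (a * b)⁻¹ := by rw [pow_succ _ 2, mul_inv_cancel_right]
      _ = b * a := by rw [h3, one_mul, mul_inv_rev, tv_inv, tv_inv]
  have := congrArg (B v) (hc v)
  rw [e, mul_smul, tv_apply_fix hF hv hv, tv_smul, map_add, map_smul, map_smul, hv, smul_zero, zero_add,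
    smul_eq_mul, ← herm_symm hF v w, norm_one hF hne] at this
  exact one_ne_zero this

theorem ptv_eq {v w : Fin 6 → F} (hv0 : v ≠ 0) (hv : B v v = 0) (hw : B w w = 0)
    (h : ptv hF v hv = ptv hF w hw) : ∃ c : F, v = c • w := by
  have hp : B v w = 0 := (ptv_commute_iff hF hv hw).1 (h ▸ Commute.refl _)
  refine tv_eq_iff hF hv0 hv hw ?_
  have hc := tv_comm_of_perp hF hv hw hp
  have hz : tv hF v hv * tv hF w hw ∈ Z6 := by
    refine (QuotientGroup.eq_one_iff _).1 ?_
    show QuotientGroup.mk' Z6 _ = 1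
    rw [map_mul]
    show ptv hF v hv * ptv hF w hw = 1
    rw [h]
    unfold ptv
    rw [← map_mul, tv_sq, map_one]
  have := eq_one_of_sq hF hz (by rw [← pow_two, hc.mul_pow, pow_two, pow_two, tv_sq, tv_sq, one_mul])
  rw [eq_inv_of_mul_eq_one_left this, tv_inv]

theorem exists_move {u v : Fin 6 → F} (hu0 : u ≠ 0) (hu : B u u = 0) (hv0 : v ≠ 0) (hv : B v v = 0) :
    ∃ (A : Cfsg.SU 6 F 2) (c : F), c ≠ 0 ∧ A • u = c • v := by
  obtain ⟨u', hu1, hu2⟩ := exists_partner hF hu0 hu
  obtain ⟨v', hv1, hv2⟩ := exists_partner hF hv0 hv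
  obtain ⟨A, ⟨c, hc⟩, -⟩ := exists_SU_nonperp hF hu hu2 hu1 hv hv2 hv1
  refine ⟨A, c, fun h0 => hu0 ?_, hc⟩
  rw [h0, zero_smul] at hc
  exact (smul_eq_zero_iff_eq A).1 hc

theorem conj_ptv {v w : Fin 6 → F} (hv : B v v = 0) (hw : B w w = 0) {A : Cfsg.SU 6 F 2} {c : F}
    (hc0 : c ≠ 0) (hc : A • v = c • w) :
    QuotientGroup.mk' Z6 A * ptv hF v hv * (QuotientGroup.mk' Z6 A)⁻¹ = ptv hF w hw := by
  show QuotientGroup.mk' Z6 A * QuotientGroup.mk' Z6 (tv hF v hv) * (QuotientGroup.mk' Z6 A)⁻¹ = _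
  rw [← map_inv, ← map_mul, ← map_mul, tv_conj hF hv A,
    tv_congr hF (iso_smul hF hv A) (hc ▸ iso_smul hF hv A) hc, tv_scale hF hw hc0]
  rfl

/-- The only class of 3-transpositions of `PSU₆(2)` consists of the transvections. -/
theorem class_eq {E : Set (PSU 6 F 2)} (hE : IsThreeTranspositionGroup E) :
    (∀ x ∈ E, ∃ (v : Fin 6 → F) (hv : B v v = 0), v ≠ 0 ∧ x = ptv hF v hv) ∧
      ∀ (v : Fin 6 → F) (hv : B v v = 0), v ≠ 0 → ptv hF v hv ∈ E := by
  have hmem : ∀ x ∈ E, ∃ (v : Fin 6 → F) (hv : B v v = 0), v ≠ 0 ∧ x = ptv hF v hv := by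
    intro x hx
    have hxx : x * x = 1 := inv_sq (hE.1.1 x hx)
    obtain ⟨A, hA, rfl⟩ := lift_involution hF hxx
    have hA1 : A ≠ 1 := fun h => by
      have := hE.1.1 _ hx
      rw [h, map_one, orderOf_one] at this
      omega
    by_cases ht : ∃ (v : Fin 6 → F) (hv : B v v = 0), A = tv hF v hv
    · obtain ⟨v, hv, rfl⟩ := ht
      refine ⟨v, hv, fun h0 => hA1 (ext_smul fun y => ?_), rfl⟩
      rw [tv_smul, h0, smul_zero, add_zero, one_smul]
    exfalso
    obtain ⟨g, hg2, hg3⟩ := exists_bad_conj hF le_rfl hA hA1 fun v hv h => ht ⟨v, hv, h⟩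
    have hy := hE.2.1 (QuotientGroup.mk' Z6 g) _ hx
    rcases hE.1.2 _ hx _ hy with h | h
    · refine hg2 ((QuotientGroup.eq_one_iff _).1 ?_)
      rw [← h]
      simp
    · refine hg3 ((QuotientGroup.eq_one_iff _).1 ?_)
      rw [← h]
      simp
  refine ⟨hmem, fun v hv hv0 => ?_⟩
  have hne : E.Nonempty := by
    by_contra h
    rw [Set.not_nonempty_iff_eq_empty] at h
    have hgen := hE.2.2
    rw [h, Subgroup.closure_empty] at hgen
    haveI := isSimpleGroup_PSU hF (n := 6) (by norm_num) (by norm_num)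
    exact bot_ne_top hgen
  obtain ⟨x, hx⟩ := hne
  obtain ⟨u, hu, hu0, rfl⟩ := hmem x hx
  obtain ⟨A, c, hc0, hc⟩ := exists_move hF hu0 hu hv0 hv
  rw [← conj_ptv hF hu hv hc0 hc]
  exact hE.2.1 _ _ hx

theorem exists_duals {v w : Fin 6 → F} (hv : B v v = 0) (hw : B w w = 0) (hvw : B v w = 0)
    (hind : ∀ a b : F, a • v + b • w = 0 → a = 0 ∧ b = 0) :
    ∃ fv fw, B v fv = 1 ∧ B fv fv = 0 ∧ B w fv = 0 ∧ B w fw = 1 ∧ B fw fw = 0 ∧ B v fw = 0 ∧
      B fv fw = 0 := by
  have h1 : ∀ a : F, a • w ≠ v := fun a h => one_ne_zero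
    (hind 1 (-a) (by rw [one_smul, neg_smul, h, add_neg_cancel])).1
  obtain ⟨fv, hfv1, hfv, hfv2⟩ := exists_partner_perp hF hv hvw h1
  obtain ⟨u, hu, hue⟩ := Geometry.exists_sesq_perp_apply_eq_one B (conjHom_conjHom hF)
    (hermBilin_isSymm hF 6) (hermBilin_nondegenerate hF 6) (Submodule.span F {v, fv}) (x := w)
    (fun hmem => by
      obtain ⟨a, b, hab⟩ := Submodule.mem_span_pair.1 hmem
      have hb : b = 0 := by
        have := congrArg (B v) hab
        simp only [map_add, map_smul, smul_eq_mul, hv, hfv1, mul_zero, zero_add, mul_one, hvw] at this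
        exact this
      rw [hb, zero_smul, add_zero] at hab
      exact one_ne_zero (hind (-a) 1 (by rw [neg_smul, one_smul, hab, neg_add_cancel])).2)
  have hwu : B w u = 1 := by rw [← herm_symm hF, hue, map_one]
  obtain ⟨c, hc⟩ := exists_shift_isotropic hF hw hwu
  refine ⟨fv, u + c • w, hfv1, hfv, hfv2, by rw [map_add, map_smul, hw, smul_zero, add_zero, hwu], hc, ?_, ?_⟩
  · rw [map_add, map_smul, hvw, smul_zero, add_zero]
    exact perp_symm hF (hu v (Submodule.subset_span (by simp)))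
  · rw [map_add, map_smul, perp_symm hF hfv2, smul_zero, add_zero]
    exact perp_symm hF (hu fv (Submodule.subset_span (by simp)))

theorem independent {v w : Fin 6 → F} (hv : B v v = 0) (hw : B w w = 0) (hw0 : w ≠ 0) (hv0 : v ≠ 0)
    (h : ptv hF v hv ≠ ptv hF w hw) : ∀ a b : F, a • v + b • w = 0 → a = 0 ∧ b = 0 := by
  intro a b hab
  by_cases ha : a = 0
  · subst ha
    rw [zero_smul, zero_add] at hab
    exact ⟨rfl, (smul_eq_zero.1 hab).resolve_right hw0⟩
  exfalso
  apply h
  have hc : v = (-(a⁻¹ * b)) • w := by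
    have := congrArg (fun x => a⁻¹ • x) hab
    simp only [smul_add, smul_smul, inv_mul_cancel₀ ha, one_smul, smul_zero] at this
    rw [neg_smul]; exact eq_neg_of_add_eq_zero_left this
  have hc0 : -(a⁻¹ * b) ≠ 0 := fun h0 => hv0 (by rw [hc, h0, zero_smul])
  rw [ptv_congr hF hv (hc ▸ hv) hc, ptv_scale hF hw hc0]

theorem line_isotropic {v w : Fin 6 → F} (hv : B v v = 0) (hw : B w w = 0) (hvw : B v w = 0) (a : F) :
    B (v + a • w) (v + a • w) = 0 := by
  simp [hv, hw, hvw, perp_symm hF hvw]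

include hF in
theorem field_cases {om : F} (hom : om * om = om + 1) (c : F) : c = 0 ∨ c = 1 ∨ c = om ∨ c = om + 1 := by
  rcases eq_or_ne c 0 with h | h
  · exact Or.inl h
  right
  have h3 := cube_eq_one hF h
  have h2 := two_eq_zero hF
  have : (c - 1) * ((c - om) * (c - (om + 1))) = 0 := by
    linear_combination h3 + (c - 1) * hom + (-c ^ 2 * (om + 1) + c * (1 + 2 * om) - om) * h2
  rcases mul_eq_zero.1 this with e | e
  · exact Or.inl (sub_eq_zero.1 e)
  rcases mul_eq_zero.1 e with e | e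
  · exact Or.inr (Or.inl (sub_eq_zero.1 e))
  · exact Or.inr (Or.inr (sub_eq_zero.1 e))

include hF in
/-- The five transpositions on a line of two commuting members. -/
theorem line_data {E : Set (PSU 6 F 2)} (hE : IsThreeTranspositionGroup E) {b c : PSU 6 F 2}
    (hb : b ∈ E) (hc : c ∈ E) (hbc : b ≠ c) (hcomm : Commute b c) :
    ∃ d e f : PSU 6 F 2, (d ≠ e ∧ d ≠ f ∧ e ≠ f) ∧
      (∀ x, (x = d ∨ x = e ∨ x = f) → x ∈ E ∧ x ≠ b ∧ x ≠ c ∧ Commute b x ∧ Commute c x ∧
        ∀ y ∈ E, Commute b y → Commute c y → Commute x y) ∧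
      (∀ x ∈ E, x ≠ b → x ≠ c → Commute b x → Commute c x →
        (∀ y ∈ E, Commute b y → Commute c y → Commute x y) → x = d ∨ x = e ∨ x = f) ∧
      b * c * d * e * f = 1 := by
  obtain ⟨hmem, hall⟩ := class_eq hF hE
  obtain ⟨v, hv, hv0, rfl⟩ := hmem b hb
  obtain ⟨w, hw, hw0, rfl⟩ := hmem c hc
  have hvw := (ptv_commute_iff hF hv hw).1 hcomm
  have hwv := perp_symm hF hvw
  have hind := independent hF hv hw hw0 hv0 hbc
  obtain ⟨om, hom, hom0, hom1⟩ := exists_omega hF
  have hiso := line_isotropic hF hv hw hvw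
  have hne : ∀ a : F, v + a • w ≠ 0 := fun a h => one_ne_zero (hind 1 a (by rw [one_smul]; exact h)).1
  have hpt : ∀ (a a' : F), ptv hF (v + a • w) (hiso a) = ptv hF (v + a' • w) (hiso a') → a = a' := by
    intro a a' h
    obtain ⟨t, ht⟩ := ptv_eq hF (hne a) (hiso a) (hiso a') h
    have := hind (1 - t) (a - t * a') (by
      rw [smul_add, smul_smul] at ht
      linear_combination (norm := module) ht)
    have ht1 : t = 1 := (sub_eq_zero.1 this.1).symm
    rw [ht1, one_mul] at this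
    exact sub_eq_zero.1 this.2
  have hv' : ptv hF (v + (0 : F) • w) (hiso 0) = ptv hF v hv := ptv_congr hF _ _ (by simp)
  have hw' : ∀ a : F, ptv hF (v + a • w) (hiso a) ≠ ptv hF w hw := by
    intro a h
    obtain ⟨t, ht⟩ := ptv_eq hF (hne a) (hiso a) hw h
    exact one_ne_zero (hind 1 (a - t) (by linear_combination (norm := module) ht)).1
  refine ⟨ptv hF (v + (1 : F) • w) (hiso 1), ptv hF (v + om • w) (hiso om),
    ptv hF (v + (om + 1) • w) (hiso (om + 1)), ?_, ?_, ?_, ?_⟩
  · refine ⟨fun h => hom1 (hpt _ _ h).symm, fun h => hom0 ?_, fun h => one_ne_zero (α := F) ?_⟩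
    · linear_combination -(hpt _ _ h)
    · linear_combination -(hpt _ _ h)
  · suffices key : ∀ a : F, a ≠ 0 → ptv hF (v + a • w) (hiso a) ∈ E ∧
        ptv hF (v + a • w) (hiso a) ≠ ptv hF v hv ∧ ptv hF (v + a • w) (hiso a) ≠ ptv hF w hw ∧
        Commute (ptv hF v hv) (ptv hF (v + a • w) (hiso a)) ∧ Commute (ptv hF w hw) (ptv hF (v + a • w) (hiso a)) ∧
        ∀ y ∈ E, Commute (ptv hF v hv) y → Commute (ptv hF w hw) y →
          Commute (ptv hF (v + a • w) (hiso a)) y by
      have hom1' : om + 1 ≠ 0 := fun h => hom1 (by linear_combination h - two_eq_zero hF)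
      rintro x (rfl | rfl | rfl)
      · exact key 1 one_ne_zero
      · exact key om hom0
      · exact key _ hom1'
    intro a ha
    refine ⟨hall _ _ (hne a), fun h => ha (hpt a 0 (h.trans hv'.symm)), hw' a,
      (ptv_commute_iff hF _ _).2 (by simp [hv, hvw]), (ptv_commute_iff hF _ _).2 (by simp [hw, hwv]),
      fun y hy h1 h2 => ?_⟩
    obtain ⟨u, hu, -, rfl⟩ := hmem y hy
    rw [ptv_commute_iff] at h1 h2 ⊢
    simp [h1, h2]
  · intro x hx hxb hxc hbx hcx hall'
    obtain ⟨u, hu, hu0, rfl⟩ := hmem x hx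
    have hline := mem_line hF hv hw hvw hind hu fun y hy h1 h2 => by
      by_cases hy0 : y = 0
      · rw [hy0, map_zero]
      exact (ptv_commute_iff hF hu hy).1 (hall' _ (hall y hy hy0)
        ((ptv_commute_iff hF hv hy).2 h1) ((ptv_commute_iff hF hw hy).2 h2))
    obtain ⟨a, b, rfl⟩ := hline
    by_cases ha : a = 0
    · exfalso
      subst ha
      have hb0 : b ≠ 0 := fun h => hu0 (by rw [h]; simp)
      refine hxc ?_
      rw [ptv_congr hF hu (by simpa using hu) (show (0 : F) • v + b • w = b • w by simp), ptv_scale hF hw hb0]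
    have he : a • v + b • w = a • (v + (b / a) • w) := by
      rw [smul_add, smul_smul, mul_div_cancel₀ b ha]
    rw [ptv_congr hF hu (he ▸ hu) he, ptv_scale hF (hiso _) ha] at hxb ⊢
    rcases field_cases hF hom (b / a) with h | h | h | h
    · exact absurd ((ptv_congr hF _ (hiso 0) (by rw [h])).trans hv') hxb
    · exact Or.inl (ptv_congr hF _ _ (by rw [h]))
    · exact Or.inr (Or.inl (ptv_congr hF _ _ (by rw [h])))
    · exact Or.inr (Or.inr (ptv_congr hF _ _ (by rw [h])))
  · unfold ptv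
    rw [← map_mul, ← map_mul, ← map_mul, ← map_mul, (tv_comm_of_perp hF hv hw hvw).eq]
    rw [tv_congr hF (hiso 1) (by simpa using hiso 1) (show v + (1 : F) • w = v + w by simp)]
    rw [five_line hF hom hv hw hvw, map_one]

/-! ### Double covers -/

include hF in
theorem lift_of_double_cover {H : Type*} [Group H] (p : H →* PSU 6 F 2) (hp : Function.Surjective p)
    {d : H} (hd2 : d * d = 1) (hdc : d ∈ Subgroup.center H) (hker : ∀ x, p x = 1 → x = 1 ∨ x = d) :
    ∀ x : PSU 6 F 2, x * x = 1 → ∃ y : H, y * y = 1 ∧ p y = x := by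
  have hc : ∀ k y, (k = 1 ∨ k = d) → Commute k y := by
    rintro k y (rfl | rfl)
    · exact Commute.one_left y
    · exact (Subgroup.mem_center_iff.1 hdc y).symm
  have hdiff : ∀ {y y'}, p y = p y' → ∃ k, (k = 1 ∨ k = d) ∧ y = k * y' := fun {y y'} h =>
    ⟨y * y'⁻¹, hker _ (by rw [map_mul, map_inv, h, mul_inv_cancel]), (inv_mul_cancel_right y y').symm⟩
  let L : {v : Fin 6 → F // v ≠ 0 ∧ B v v = 0} → H := fun v => Function.surjInv hp (ptv hF v.1 v.2.2)
  have hL : ∀ v, p (L v) = ptv hF v.1 v.2.2 := fun v => Function.surjInv_eq hp _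
  have hcommK : ∀ {y z}, Commute y z → ∀ {y' z'}, p y' = p y → p z' = p z → Commute y' z' := by
    intro y z h y' z' hy hz
    obtain ⟨k, hk, rfl⟩ := hdiff hy
    obtain ⟨k', hk', rfl⟩ := hdiff hz
    exact (hc k _ hk).mul_left ((hc k' y hk').symm.mul_right h)
  -- lifts of commuting transvections commute
  have hLc : ∀ v w, B v.1 w.1 = 0 → Commute (L v) (L w) := by
    intro v w hvw
    by_cases heq : ptv hF v.1 v.2.2 = ptv hF w.1 w.2.2
    · exact hcommK (Commute.refl (L v)) rfl (by rw [hL, hL, heq])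
    by_contra hn
    have hindvw := independent hF v.2.2 w.2.2 w.2.1 v.2.1 heq
    have hall : ∀ v' w' : {v : Fin 6 → F // v ≠ 0 ∧ B v v = 0}, B v'.1 w'.1 = 0 →
        (∀ a b : F, a • v'.1 + b • w'.1 = 0 → a = 0 ∧ b = 0) → ¬ Commute (L v') (L w') := by
      intro v' w' hp' hind' h
      obtain ⟨A, ⟨a, ha⟩, b, hb⟩ := exists_SU_perp hF v'.2.2 w'.2.2 hp' v.2.2 w.2.2 hvw hind' hindvw
      have ha0 : a ≠ 0 := fun h0 => v'.2.1 ((smul_eq_zero_iff_eq A).1 (by rw [ha, h0, zero_smul]))
      have hb0 : b ≠ 0 := fun h0 => w'.2.1 ((smul_eq_zero_iff_eq A).1 (by rw [hb, h0, zero_smul]))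
      obtain ⟨g, hg⟩ := hp (QuotientGroup.mk' Z6 A)
      refine hn (hcommK ((Commute.conj_iff g).2 h) ?_ ?_)
      · rw [map_mul, map_mul, map_inv, hg, hL, hL, conj_ptv hF v'.2.2 v.2.2 ha0 ha]
      · rw [map_mul, map_mul, map_inv, hg, hL, hL, conj_ptv hF w'.2.2 w.2.2 hb0 hb]
    obtain ⟨fv, fw, h1, h2, h3, h4, h5, h6, h7⟩ := exists_duals hF v.2.2 w.2.2 hvw hindvw
    obtain ⟨z, hz0, hz, hz1, hz2, hz3, hz4⟩ :=
      exists_spare hF le_rfl v.2.2 h2 h1 w.2.2 h5 h4 hvw h6 (perp_symm hF h3) h7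
    obtain ⟨om, hom, hom0, hom1⟩ := exists_omega hF
    have hiso := line_isotropic hF v.2.2 w.2.2 hvw
    have hne : ∀ a : F, v.1 + a • w.1 ≠ 0 := fun a h =>
      one_ne_zero (hindvw 1 a (by rw [one_smul]; exact h)).1
    let u : {v : Fin 6 → F // v ≠ 0 ∧ B v v = 0} := ⟨z, hz0, hz⟩
    let pt : F → {v : Fin 6 → F // v ≠ 0 ∧ B v v = 0} := fun a => ⟨v.1 + a • w.1, hne a, hiso a⟩
    have hz1' := perp_symm hF hz1
    have hz3' := perp_symm hF hz3
    have hzw : ∀ a b : F, a • z + b • w.1 = 0 → a = 0 ∧ b = 0 := by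
      intro a b hab
      have := congrArg (B fw) hab
      rw [map_add, map_smul, map_smul, hz4, ← herm_symm hF w.1 fw, h4, map_one, map_zero, smul_zero, zero_add,
        smul_eq_mul, mul_one] at this
      subst this
      rw [zero_smul, add_zero] at hab
      exact ⟨(smul_eq_zero.1 hab).resolve_right hz0, rfl⟩
    have hzpt : ∀ c : F, ∀ a b : F, a • z + b • (v.1 + c • w.1) = 0 → a = 0 ∧ b = 0 := by
      intro c a b hab
      have := congrArg (B fv) hab
      rw [map_add, map_smul, map_smul, hz2, map_add, map_smul, perp_symm hF h3,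
        ← herm_symm hF v.1 fv, h1, map_one, map_zero, smul_zero, zero_add, smul_eq_mul, smul_eq_mul, mul_zero,
        add_zero, mul_one] at this
      subst this
      rw [zero_smul, add_zero] at hab
      exact ⟨(smul_eq_zero.1 hab).resolve_right hz0, rfl⟩
    have hd : ∀ y, ¬ Commute (L u) y → p (L u) * p y = p y * p (L u) → L u * y = d * (y * L u) := by
      intro y hy hcp
      rcases hker (L u * y * (y * L u)⁻¹) (by rw [map_mul, map_inv, map_mul, map_mul, hcp, mul_inv_cancel]) with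
        h | h
      · exact absurd (mul_inv_eq_one.1 h) hy
      · exact mul_inv_eq_iff_eq_mul.1 h
    have hpc : ∀ t : {v : Fin 6 → F // v ≠ 0 ∧ B v v = 0}, B z t.1 = 0 → p (L u) * p (L t) = p (L t) * p (L u) :=
      fun t ht => by rw [hL, hL]; exact ((ptv_commute_iff hF hz t.2.2).2 ht).eq
    have ew := hd (L w) (hall u w hz3' hzw) (hpc w hz3')
    have ept : ∀ c : F, L u * L (pt c) = d * (L (pt c) * L u) := fun c =>
      hd _ (hall u (pt c) (by simp [u, pt, hz1', hz3']) (hzpt c)) (hpc _ (by simp [pt, hz1', hz3']))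
    set P := L w * L (pt 0) * L (pt 1) * L (pt om) * L (pt (om + 1)) with hP
    have hP1 : p P = 1 := by
      rw [hP, map_mul, map_mul, map_mul, map_mul, hL, hL, hL, hL, hL]
      show QuotientGroup.mk' Z6 _ * QuotientGroup.mk' Z6 _ * QuotientGroup.mk' Z6 _ * QuotientGroup.mk' Z6 _ *
        QuotientGroup.mk' Z6 _ = 1
      rw [← map_mul, ← map_mul, ← map_mul, ← map_mul,
        tv_congr hF (hiso 0) v.2.2 (show v.1 + (0 : F) • w.1 = v.1 by simp),
        tv_congr hF (hiso 1) (by simpa using hiso 1) (show v.1 + (1 : F) • w.1 = v.1 + w.1 by simp),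
        five_line hF hom v.2.2 w.2.2 hvw, map_one]
    have hd' : ∀ y, d * y = y * d := fun y => (Subgroup.mem_center_iff.1 hdc y).symm
    have key : L u * P = d * (P * L u) := by
      have step : ∀ X Y e, L u * X = e * (X * L u) → L u * Y = d * (Y * L u) →
          L u * (X * Y) = (e * d) * (X * Y * L u) := by
        intro X Y e hX hY
        calc L u * (X * Y) = (L u * X) * Y := (mul_assoc _ _ _).symm
          _ = e * (X * (L u * Y)) := by rw [hX]; simp only [mul_assoc]
          _ = e * (X * d * (Y * L u)) := by rw [hY]; simp only [mul_assoc]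
          _ = e * (d * X * (Y * L u)) := by rw [hd' X]
          _ = (e * d) * (X * Y * L u) := by simp only [mul_assoc]
      have h5 := step _ _ _ (step _ _ _ (step _ _ _ (step _ _ _ ew (ept 0)) (ept 1)) (ept om)) (ept (om + 1))
      rw [hP, h5]
      congr 1
      rw [hd2, one_mul, hd2, one_mul]
    have hPc : L u * P = P * L u := ((hc P (L u) (hker P hP1)).symm).eq
    rw [hPc] at key
    have hd1 : d = 1 := mul_eq_right.1 key.symm
    refine hn ?_
    rcases hker (L v * L w * (L w * L v)⁻¹) (by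
      rw [map_mul, map_inv, map_mul, map_mul, hL, hL,
        ((ptv_commute_iff hF v.2.2 w.2.2).2 hvw).eq, mul_inv_cancel]) with h | h
    · exact mul_inv_eq_one.1 h
    · exact mul_inv_eq_one.1 (h.trans hd1)
  -- lifts of transvections are involutions
  have hLsq : ∀ v, L v * L v = 1 := by
    intro v
    have hk : L v * L v = 1 ∨ L v * L v = d := hker _ (by
      rw [map_mul, hL]
      show QuotientGroup.mk' Z6 _ * QuotientGroup.mk' Z6 _ = 1
      rw [← map_mul, tv_sq, map_one])
    have hconst : ∀ t, L t * L t = L v * L v := by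
      intro t
      obtain ⟨A, c, hc0, hcA⟩ := exists_move hF v.2.1 v.2.2 t.2.1 t.2.2
      obtain ⟨g, hg⟩ := hp (QuotientGroup.mk' Z6 A)
      obtain ⟨k, hk', hkt⟩ := hdiff (y := L t) (y' := g * L v * g⁻¹)
        (by rw [map_mul, map_mul, map_inv, hg, hL, hL, conj_ptv hF v.2.2 t.2.2 hc0 hcA])
      have hkk : k * k = 1 := by
        rcases hk' with rfl | rfl
        · exact one_mul 1
        · exact hd2
      rw [hkt]
      calc k * (g * L v * g⁻¹) * (k * (g * L v * g⁻¹))
          = k * k * ((g * L v * g⁻¹) * (g * L v * g⁻¹)) := by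
            rw [mul_assoc k, ← mul_assoc (g * L v * g⁻¹) k, ← (hc k (g * L v * g⁻¹) hk').eq]
            simp only [mul_assoc]
        _ = g * (L v * L v) * g⁻¹ := by rw [hkk, one_mul]; group
        _ = L v * L v := by rw [← (hc _ g hk).eq, mul_inv_cancel_right]
    obtain ⟨fv, hfv1, hfv⟩ := exists_partner hF v.2.1 v.2.2
    -- a second point orthogonal to `v`
    obtain ⟨w, hw0, hw, hvw, hfvw⟩ : ∃ w, w ≠ 0 ∧ B w w = 0 ∧ B v.1 w = 0 ∧ B fv w = 0 := by
      let T : (Fin 6 → F) →ₗ[F] (Fin 2 → F) := LinearMap.pi ![B v.1, B fv]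
      have hdim : 4 ≤ Module.finrank F (LinearMap.ker T) := by
        have h1 := LinearMap.finrank_range_add_finrank_ker T
        have h2 := (LinearMap.range T).finrank_le
        simp only [Module.finrank_fintype_fun_eq_card, Fintype.card_fin] at h1 h2
        omega
      haveI : Nontrivial (LinearMap.ker T) := Module.nontrivial_of_finrank_pos (R := F) (show 0 < _ by omega)
      obtain ⟨⟨x, hx⟩, hx0⟩ := exists_ne (0 : LinearMap.ker T)
      have hx1 : B v.1 x = 0 := congrFun hx 0
      have hx2 : B fv x = 0 := congrFun hx 1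
      have hx0' : x ≠ 0 := fun h => hx0 (Subtype.ext h)
      by_cases hxx : B x x = 0
      · exact ⟨x, hx0', hxx, hx1, hx2⟩
      have hxx1 : B x x = 1 := (fixed_cases hF (herm_symm hF x x)).resolve_left hxx
      let Tx : LinearMap.ker T →ₗ[F] F := (B x).comp (LinearMap.ker T).subtype
      have hk' : 0 < Module.finrank F (LinearMap.ker Tx) := by
        have h1 := LinearMap.finrank_range_add_finrank_ker Tx
        have h2 := (LinearMap.range Tx).finrank_le
        simp only [Module.finrank_self] at h2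
        omega
      haveI : Nontrivial (LinearMap.ker Tx) := Module.nontrivial_of_finrank_pos (R := F) hk'
      obtain ⟨⟨⟨y, hy⟩, hxy⟩, hy0⟩ := exists_ne (0 : LinearMap.ker Tx)
      have hy1 : B v.1 y = 0 := congrFun hy 0
      have hy2 : B fv y = 0 := congrFun hy 1
      have hxy' : B x y = 0 := hxy
      by_cases hyy : B y y = 0
      · exact ⟨y, fun h => hy0 (Subtype.ext (Subtype.ext h)), hyy, hy1, hy2⟩
      have hyy1 : B y y = 1 := (fixed_cases hF (herm_symm hF y y)).resolve_left hyy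
      refine ⟨x + y, fun h => ?_, ?_, by rw [map_add, hx1, hy1, add_zero], by rw [map_add, hx2, hy2, add_zero]⟩
      · have := congrArg (B x) h
        rw [map_add, map_zero, hxx1, hxy', add_zero] at this
        exact one_ne_zero this
      · simp only [map_add, LinearMap.add_apply, hxx1, hyy1, hxy', perp_symm hF hxy', add_zero, zero_add]
        exact add_self_zero' hF _
    obtain ⟨om, hom, -⟩ := exists_omega hF
    have hiso := line_isotropic hF v.2.2 hw hvw
    have hne : ∀ a : F, v.1 + a • w ≠ 0 := by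
      intro a h
      have := congrArg (B fv) h
      rw [map_add, map_smul, hfvw, smul_zero, add_zero, ← herm_symm hF v.1 fv, hfv1, map_one, map_zero] at this
      exact one_ne_zero this
    let pw : {v : Fin 6 → F // v ≠ 0 ∧ B v v = 0} := ⟨w, hw0, hw⟩
    let pt : F → {v : Fin 6 → F // v ≠ 0 ∧ B v v = 0} := fun a => ⟨v.1 + a • w, hne a, hiso a⟩
    have hwv := perp_symm hF hvw
    have cw : ∀ a, Commute (L pw) (L (pt a)) := fun a => hLc _ _ (by simp [pw, pt, hw, hwv])
    have cp : ∀ a b, Commute (L (pt a)) (L (pt b)) := fun a b =>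
      hLc _ _ (by simp [pt, hw, hwv, hvw, v.2.2])
    set P := L pw * L (pt 0) * L (pt 1) * L (pt om) * L (pt (om + 1)) with hP
    have hP1 : p P = 1 := by
      rw [hP, map_mul, map_mul, map_mul, map_mul, hL, hL, hL, hL, hL]
      show QuotientGroup.mk' Z6 _ * QuotientGroup.mk' Z6 _ * QuotientGroup.mk' Z6 _ * QuotientGroup.mk' Z6 _ *
        QuotientGroup.mk' Z6 _ = 1
      rw [← map_mul, ← map_mul, ← map_mul, ← map_mul,
        tv_congr hF (hiso 0) v.2.2 (show v.1 + (0 : F) • w = v.1 by simp),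
        tv_congr hF (hiso 1) (by simpa using hiso 1) (show v.1 + (1 : F) • w = v.1 + w by simp),
        five_line hF hom v.2.2 hw hvw, map_one]
    have hPsq : P * P = 1 := by
      rcases hker P hP1 with h | h <;> rw [h]
      · exact one_mul 1
      · exact hd2
    have e5 : P * P = L v * L v := by
      have sq : ∀ X Y : H, Commute X Y → (X * Y) * (X * Y) = (X * X) * (Y * Y) := fun X Y h => by
        rw [← pow_two, h.mul_pow, pow_two, pow_two]
      rw [hP, sq _ _ ((((cw _).mul_left (cp _ _)).mul_left (cp _ _)).mul_left (cp _ _)),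
        sq _ _ (((cw _).mul_left (cp _ _)).mul_left (cp _ _)), sq _ _ ((cw _).mul_left (cp _ _)), sq _ _ (cw _)]
      simp only [hconst]
      rcases hk with h | h <;> simp only [h, hd2, one_mul]
    rw [← e5, hPsq]
  intro x hx
  obtain ⟨A, hA, rfl⟩ := lift_involution hF hx
  obtain ⟨l, hl, hlr⟩ := involution_decomp hF _ A hA le_rfl
  refine ⟨(l.map L).prod, ?_, ?_⟩
  · have hperp : ∀ a ∈ l, ∀ b ∈ l, B a.1 b.1 = 0 := by
      intro a ha b hb
      obtain ⟨s, hs⟩ := hlr a ha
      obtain ⟨t, ht⟩ := hlr b hb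
      rw [← hs, ← ht]
      exact nil_range_perp hF hA s t
    clear hl hlr
    induction l with
    | nil => simp
    | cons a l ih =>
      rw [List.map_cons, List.prod_cons]
      have hcl : Commute (L a) (l.map L).prod := Commute.list_prod_right _ _ fun y hy => by
        obtain ⟨b, hb, rfl⟩ := List.mem_map.1 hy
        exact hLc a b (hperp a (by simp) b (by simp [hb]))
      rw [← pow_two, hcl.mul_pow, pow_two, pow_two, hLsq, one_mul]
      exact ih fun x hx y hy => hperp x (by simp [hx]) y (by simp [hy])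
  · rw [hl, map_list_prod, map_list_prod, List.map_map, List.map_map]
    congr 1
    exact List.map_congr_left fun v _ => hL v

end Cfsg.Agent.Lib.ThreeTransp.UnitaryFour
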