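import Cfsg.Prelude.Def_FischerSpaces
import Cfsg.Agent.Lib.Cores.PCore
import Cfsg.Agent.Lib.InvChar.ZStarTheorem

/-!
Three-transposition groups of width one.
-/

set_option autoImplicit false

namespace Cfsg.Agent.Lib.ThreeTransp

open Cfsg
open scoped Pointwise

variable {G : Type*} [Group G] [Finite G] {D : Set G}

theorem tt_sq (hD : Cfsg.IsThreeTranspositionSet D) {a : G} (ha : a ∈ D) : a * a = 1 := by
  rw [← pow_two, ← hD.1 a ha, pow_orderOf_eq_one]

theorem tt_inv_self (hD : Cfsg.IsThreeTranspositionSet D) {a : G} (ha : a ∈ D) : a⁻¹ = a :=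
  inv_eq_of_mul_eq_one_right (tt_sq hD ha)

theorem eq_of_width_one (hD : Cfsg.IsThreeTranspositionSet D) (hw : commutingWidth D = 1) {a b : G}
    (ha : a ∈ D) (hb : b ∈ D) (hab : Commute a b) : a = b := by
  by_contra hne
  have h2 : 2 ∈ {n : ℕ | ∃ E : Set G, E ⊆ D ∧ E.Finite ∧ (∀ a ∈ E, ∀ b ∈ E, Commute a b) ∧
      E.ncard = n} := by
    refine ⟨{a, b}, ?_, Set.toFinite _, ?_, Set.ncard_pair hne⟩
    · rintro _ (rfl | rfl) <;> assumption
    · rintro _ (rfl | rfl) _ (rfl | rfl)
      exacts [Commute.refl _, hab, hab.symm, Commute.refl _]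
  have := le_csSup ⟨Nat.card G, ?_⟩ h2
  · unfold commutingWidth at hw; omega
  · rintro n ⟨E, -, -, -, rfl⟩
    exact Set.ncard_le_card E

theorem conj_of_not_commute (hD : Cfsg.IsThreeTranspositionSet D) {a b : G} (ha : a ∈ D) (hb : b ∈ D)
    (h : ¬ Commute a b) : b = (a * b) * a * (a * b)⁻¹ := by
  rcases hD.2 a ha b hb with h2 | h3
  · exfalso
    apply h
    have h4 : (a * b)⁻¹ = a * b := inv_eq_of_mul_eq_one_right (by rw [← pow_two]; exact h2)
    rw [mul_inv_rev, tt_inv_self hD ha, tt_inv_self hD hb] at h4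
    exact h4.symm
  · have e : (a * b * a * b * a) * b = 1 := by
      rw [← h3, pow_succ, pow_two]; simp only [mul_assoc]
    rw [mul_inv_rev, tt_inv_self hD ha, tt_inv_self hD hb, ← mul_assoc (a * b * a) b a,
      eq_inv_of_mul_eq_one_left e, tt_inv_self hD hb]

theorem pow_three_or_one (hD : Cfsg.IsThreeTranspositionSet D) (hw : commutingWidth D = 1) {a b : G}
    (ha : a ∈ D) (hb : b ∈ D) : (a * b) ^ 3 = 1 := by
  rcases hD.2 a ha b hb with h2 | h3
  · have h4 : (a * b)⁻¹ = a * b := inv_eq_of_mul_eq_one_right (by rw [← pow_two]; exact h2)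
    rw [mul_inv_rev, tt_inv_self hD ha, tt_inv_self hD hb] at h4
    rw [eq_of_width_one hD hw ha hb h4.symm, tt_sq hD hb, one_pow]
  · exact h3

/-- A member of a width-one 3-transposition group generates it modulo the 3-core. -/
theorem zpowers_sup_pCore_of_width_one (hD : Cfsg.IsThreeTranspositionGroup D)
    (hw : commutingWidth D = 1) {d : G} (hd : d ∈ D) :
    Subgroup.zpowers d ⊔ Cfsg.pCore 3 G = ⊤ := by
  classical
  obtain ⟨hS, hconj, hgen⟩ := hD
  have hord : orderOf d = 2 := hS.1 d hd
  set K := Cfsg.pPrimeCore 2 G with hKdef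
  haveI hKn : K.Normal := (Lib.Cores.pPrimeCore_mem 2 G).1
  have hKodd : Odd (Nat.card K) := Lib.Cores.odd_card_oddCore G
  have hdK : d ∉ K := by
    intro h
    have h1 := orderOf_dvd_natCard (⟨d, h⟩ : K)
    rw [Subgroup.orderOf_mk, hord] at h1
    exact Nat.two_dvd_ne_zero.2 (Nat.odd_iff.1 hKodd) h1
  have hiso : IsIsolated d := fun g hg =>
    (eq_of_width_one hS hw hd (hconj g d hd) hg).symm
  have hZ : InZStar 2 d := Lib.InvChar.inZStar_of_isIsolated hord hiso
  have hallconj : ∀ e ∈ D, ∃ g, g * d * g⁻¹ = e := by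
    intro e he
    by_cases h : Commute d e
    · exact ⟨1, by simp [eq_of_width_one hS hw hd he h]⟩
    · exact ⟨d * e, (conj_of_not_commute hS hd he h).symm⟩
  -- every element is in the odd core or in its translate by `d`
  have hcos : ∀ g : G, g ∈ K ∨ d * g ∈ K := by
    intro g
    have hg : g ∈ Subgroup.closure D := hgen ▸ Subgroup.mem_top g
    induction hg using Subgroup.closure_induction with
    | mem e he =>
      obtain ⟨u, hu⟩ := hallconj e he
      right
      have := hKn.conj_mem _ (hZ u) d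
      rw [hu] at this
      convert this using 1; rw [tt_inv_self hS hd]; simp [mul_assoc, tt_sq hS hd]
    | one => exact Or.inl K.one_mem
    | mul u v _ _ hu hv =>
      rcases hu with hu | hu <;> rcases hv with hv | hv
      · exact Or.inl (K.mul_mem hu hv)
      · right
        have := K.mul_mem (hKn.conj_mem _ hu d) hv
        rw [tt_inv_self hS hd] at this
        convert this using 1; simp only [mul_assoc]; rw [← mul_assoc d d, tt_sq hS hd, one_mul]
      · right
        have := K.mul_mem hu hv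
        convert this using 1; simp only [mul_assoc]
      · left
        have := K.mul_mem (hKn.conj_mem _ hu d) hv
        rw [tt_inv_self hS hd] at this
        convert this using 1
        calc u * v = (d * d) * u * (d * d) * v := by rw [tt_sq hS hd, one_mul, mul_one]
          _ = _ := by simp only [mul_assoc]
    | inv u _ hu =>
      rcases hu with hu | hu
      · exact Or.inl (K.inv_mem hu)
      · right
        have := hKn.conj_mem _ (K.inv_mem hu) d
        convert this using 1
        rw [mul_inv_rev, tt_inv_self hS hd]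
        simp only [mul_assoc, tt_sq hS hd, mul_one]
  have hidx : K.index = 2 := by
    rw [Subgroup.index_eq_two_iff]
    refine ⟨d, fun g => ?_⟩
    have hconjg : g * d ∈ K ↔ d * g ∈ K := by
      constructor <;> intro h
      · have := hKn.conj_mem _ h d
        convert this using 1; group
      · have := hKn.conj_mem _ h d⁻¹
        convert this using 1; group
    rcases hcos g with h | h
    · refine Or.inr ⟨h, fun h' => hdK ?_⟩
      have := K.mul_mem (K.inv_mem h) h'
      simpa using this
    · refine Or.inl ⟨hconjg.2 h, fun h' => hdK ?_⟩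
      have := K.mul_mem h (K.inv_mem h')
      simpa using this
  -- normalised Sylow subgroups
  have hex : ∀ p : ℕ, p.Prime → p ≠ 2 → ∃ P : Sylow p G, d ∈ Subgroup.normalizer (P : Set G) := by
    intro p hp hp2
    haveI := Fact.mk hp
    haveI : Fact (Nat.Prime 2) := ⟨Nat.prime_two⟩
    obtain ⟨P⟩ := (inferInstance : Nonempty (Sylow p G))
    have hPK : (P : Subgroup G) ≤ K := by
      intro u hu
      rcases hcos u with h | h
      · exact h
      · exfalso
        obtain ⟨k, hk⟩ := IsPGroup.iff_orderOf.1 P.2 ⟨u, hu⟩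
        rw [Subgroup.orderOf_mk] at hk
        have hodd : Odd (p ^ k) := (hp.odd_of_ne_two hp2).pow
        obtain ⟨m, hm⟩ := hodd
        have hsq : u * u ∈ K := by
          rcases hcos (u * u) with h' | h'
          · exact h'
          · exfalso; apply hdK
            have h1 := K.mul_mem h' (K.inv_mem h)
            rw [show d * (u * u) * (d * u)⁻¹ = d * u * d⁻¹ by group] at h1
            have := hKn.conj_mem _ h1 d⁻¹
            simp only [inv_inv] at this
            rw [show d⁻¹ * (d * u * d⁻¹) * d = u by group] at this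
            simpa using K.mul_mem h (K.inv_mem this)
        apply hdK
        have h1 : u ^ (2 * m + 1) = 1 := by rw [← hm, ← hk, pow_orderOf_eq_one]
        rw [pow_succ, pow_mul, pow_two] at h1
        have hu' : u ∈ K := by
          rw [eq_inv_of_mul_eq_one_right h1]; exact K.inv_mem (K.pow_mem hsq m)
        simpa using K.mul_mem h (K.inv_mem hu')
    let P' : Sylow p K := P.subtype hPK
    have hF := Sylow.normalizer_sup_eq_top P'
    rw [show ((P' : Subgroup K).map K.subtype) = (P : Subgroup G) from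
      Subgroup.map_subgroupOf_eq_of_le hPK] at hF
    obtain ⟨n, hn, hnK⟩ : ∃ n ∈ Subgroup.normalizer ((P : Subgroup G) : Set G), n ∉ K := by
      by_contra hne
      push Not at hne
      apply hdK
      exact (sup_le hne le_rfl : _ ⊔ K ≤ K) (hF ▸ Subgroup.mem_top d)
    set N := Subgroup.normalizer ((P : Subgroup G) : Set G)
    have heven : 2 ∣ Nat.card N := by
      have h1 : orderOf (QuotientGroup.mk' K n) ∣ orderOf n := orderOf_map_dvd _ n
      have h2 : orderOf (QuotientGroup.mk' K n) = 2 := by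
        refine orderOf_eq_prime ?_ (fun e => hnK ((QuotientGroup.eq_one_iff n).1 e))
        have := pow_card_eq_one' (x := QuotientGroup.mk' K n)
        rwa [← Subgroup.index_eq_card, hidx] at this
      rw [h2] at h1
      exact h1.trans (by simpa [Subgroup.orderOf_mk] using orderOf_dvd_natCard (⟨n, hn⟩ : N))
    obtain ⟨⟨v, hvN⟩, hv⟩ := exists_prime_orderOf_dvd_card' (p := 2) (G := N) heven
    rw [Subgroup.orderOf_mk] at hv
    have hsyl : ∀ u : G, orderOf u = 2 → ¬ 2 ∣ (Subgroup.zpowers u).index := by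
      intro u hu h
      have h1 := (Subgroup.zpowers u).card_mul_index
      rw [Nat.card_zpowers, hu, ← K.card_mul_index, hidx] at h1
      obtain ⟨m, hm⟩ := hKodd
      omega
    have hpg : ∀ u : G, orderOf u = 2 → IsPGroup 2 ↥(Subgroup.zpowers u) := fun u hu =>
      IsPGroup.of_card (n := 1) (by rw [Nat.card_zpowers, hu, pow_one])
    obtain ⟨c, hc⟩ := MulAction.exists_smul_eq G ((hpg v hv).toSylow (hsyl v hv))
      ((hpg d hord).toSylow (hsyl d hord))
    have hc' : (Subgroup.zpowers v).map (MulAut.conj c).toMonoidHom = Subgroup.zpowers d :=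
      congrArg (fun S : Sylow 2 G => (S : Subgroup G)) hc
    have hdv : c * v * c⁻¹ = d := by
      have hm : c * v * c⁻¹ ∈ Subgroup.zpowers d :=
        hc' ▸ ⟨v, Subgroup.mem_zpowers v, rfl⟩
      obtain ⟨k, hk⟩ := hm
      rcases Int.even_or_odd k with ⟨m, rfl⟩ | ⟨m, rfl⟩
      · exfalso
        simp only at hk
        rw [← two_mul, zpow_mul, zpow_two, tt_sq hS hd, one_zpow] at hk
        have : v = 1 := conj_eq_one_iff.1 hk.symm
        rw [this, orderOf_one] at hv; omega
      · simp only at hk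
        rw [← hk, zpow_add, zpow_mul, zpow_two, tt_sq hS hd, one_zpow, one_mul, zpow_one]
    refine ⟨c • P, ?_⟩
    show d ∈ Subgroup.normalizer (((c • P : Sylow p G) : Subgroup G) : Set G)
    rw [Sylow.coe_subgroup_smul, Subgroup.mem_normalizer_iff]
    intro u
    show _ ∈ (P : Subgroup G).map (MulAut.conj c).toMonoidHom ↔
      _ ∈ (P : Subgroup G).map (MulAut.conj c).toMonoidHom
    rw [Subgroup.map_equiv_eq_comap_symm', Subgroup.mem_comap, Subgroup.mem_comap]
    simp only [MulEquiv.coe_toMonoidHom, MulAut.conj_symm_apply]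
    rw [← hdv, show c⁻¹ * (c * v * c⁻¹ * u * (c * v * c⁻¹)⁻¹) * c = v * (c⁻¹ * u * c) * v⁻¹ by group]
    exact Subgroup.mem_normalizer_iff.1 hvN _
  set C := Subgroup.centralizer ({d} : Set G)
  -- the class has 3-power size
  have hprime : ∀ p : ℕ, p.Prime → p ∣ C.index → p = 3 := by
    intro p hp hpd
    haveI := Fact.mk hp
    by_contra hp3
    by_cases hp2 : p = 2
    · subst hp2
      have h1 : (Subgroup.zpowers d).index ∣ K.index * Nat.card K / 2 := by
        have h := (Subgroup.zpowers d).card_mul_index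
        rw [Nat.card_zpowers, hord, ← K.card_mul_index] at h
        rw [mul_comm K.index, ← h]; simp
      have hle : Subgroup.zpowers d ≤ C := Subgroup.zpowers_le.2
        (Subgroup.mem_centralizer_singleton_iff.2 rfl)
      have h2 := hpd.trans ((Subgroup.index_dvd_of_le hle).trans h1)
      rw [hidx, Nat.mul_div_cancel_left _ (by norm_num : 0 < 2)] at h2
      exact Nat.two_dvd_ne_zero.2 (Nat.odd_iff.1 hKodd) h2
    obtain ⟨P, hP⟩ := hex p hp hp2
    refine P.not_dvd_index (hpd.trans (Subgroup.index_dvd_of_le fun u hu => ?_))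
    refine Subgroup.mem_centralizer_singleton_iff.2 (mul_inv_eq_iff_eq_mul.1 ?_)
    have h3 := pow_three_or_one hS hw (hconj u d hd) hd
    have hmem : u * d * u⁻¹ * d ∈ (P : Subgroup G) := by
      have := (P : Subgroup G).mul_mem hu
        ((Subgroup.mem_normalizer_iff.1 hP u⁻¹).1 ((P : Subgroup G).inv_mem hu))
      rw [tt_inv_self hS hd] at this
      convert this using 1; simp only [mul_assoc]
    obtain ⟨k, hk⟩ := IsPGroup.iff_orderOf.1 P.2 ⟨_, hmem⟩
    rw [Subgroup.orderOf_mk] at hk
    have h1 : orderOf (u * d * u⁻¹ * d) = 1 :=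
      Nat.eq_one_of_dvd_coprimes (Nat.Coprime.pow_left k ((Nat.coprime_primes hp Nat.prime_three).2 hp3))
        hk.dvd (orderOf_dvd_of_pow_eq_one h3)
    rw [orderOf_eq_one_iff] at h1
    rw [eq_inv_of_mul_eq_one_left h1, tt_inv_self hS hd]
  haveI : Fact (Nat.Prime 3) := ⟨Nat.prime_three⟩
  obtain ⟨S, hS3⟩ := hex 3 Nat.prime_three (by norm_num)
  set M := Subgroup.zpowers d ⊔ (S : Subgroup G) with hM
  have hdM : d ∈ M := Subgroup.mem_sup_left (Subgroup.mem_zpowers d)
  have hcop : Nat.Coprime M.index C.index := by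
    refine Nat.coprime_of_dvd fun p hp h1 h2 => ?_
    obtain rfl := hprime p hp h2
    exact S.not_dvd_index (h1.trans (Subgroup.index_dvd_of_le le_sup_right))
  have hrel : C.relIndex M = C.index := by
    have h1 : (C ⊓ M).index = C.relIndex M * M.index := by
      rw [← Subgroup.inf_relIndex_right, Subgroup.relIndex_mul_index inf_le_right]
    have h2 : C.index * M.index ∣ (C ⊓ M).index := Nat.Coprime.mul_dvd_of_dvd_of_dvd hcop.symm
      (Subgroup.index_dvd_of_le inf_le_left) (Subgroup.index_dvd_of_le inf_le_right)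
    have h3 : (C ⊓ M).index ≤ C.index * M.index := Subgroup.index_inf_le
    have h4 : (C ⊓ M).index = C.index * M.index := le_antisymm h3
      (Nat.le_of_dvd (Nat.pos_of_ne_zero Subgroup.index_ne_zero_of_finite) h2)
    exact Nat.eq_of_mul_eq_mul_right (Nat.pos_of_ne_zero Subgroup.index_ne_zero_of_finite)
      (h1.symm.trans h4)
  have hcover : ∀ g : G, ∃ m ∈ M, m⁻¹ * g ∈ C := by
    let f : ↥M ⧸ C.subgroupOf M → G ⧸ C := Quotient.map' Subtype.val fun a b h => by
      rw [QuotientGroup.leftRel_apply] at h ⊢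
      exact h
    have hf : Function.Injective f := by
      rintro ⟨a⟩ ⟨b⟩ h
      exact Quotient.sound' (QuotientGroup.leftRel_apply.2
        (Subgroup.mem_subgroupOf.2 (QuotientGroup.leftRel_apply.1 (Quotient.exact' h))))
    have hsur : Function.Surjective f :=
      ((Nat.bijective_iff_injective_and_card f).2 ⟨hf, hrel⟩).2
    intro g
    obtain ⟨⟨m⟩, hm⟩ := hsur (QuotientGroup.mk g)
    exact ⟨m, m.2, QuotientGroup.leftRel_apply.1 (Quotient.exact' hm)⟩
  have hMtop : M = ⊤ := by
    rw [eq_top_iff, ← hgen, Subgroup.closure_le]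
    intro e he
    obtain ⟨u, hu⟩ := hallconj e he
    obtain ⟨m, hm, hc⟩ := hcover u
    have hc' := Subgroup.mem_centralizer_singleton_iff.1 hc
    rw [SetLike.mem_coe, ← hu]
    have : u * d * u⁻¹ = m * d * m⁻¹ := by
      calc u * d * u⁻¹ = m * (m⁻¹ * u * d) * u⁻¹ := by group
        _ = m * d * m⁻¹ := by rw [hc']; group
    rw [this]
    exact M.mul_mem (M.mul_mem hm hdM) (M.inv_mem hm)
  have hSn : (S : Subgroup G).Normal := by
    rw [← Subgroup.normalizer_eq_top_iff, eq_top_iff, ← hMtop, hM]
    exact sup_le (Subgroup.zpowers_le.2 hS3) Subgroup.le_normalizer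
  exact eq_top_iff.2 (hMtop ▸ sup_le_sup le_rfl (Lib.Cores.le_pCore hSn S.2))

/-- A group generated by an involution and a normal 3-group has width one. -/
theorem width_one_of_sup_pCore (hD : Cfsg.IsThreeTranspositionGroup D) {d : G} (hd : d ∈ D)
    (hG : Subgroup.zpowers d ⊔ Cfsg.pCore 3 G = ⊤) : commutingWidth D = 1 := by
  obtain ⟨hS, -, -⟩ := hD
  have : Fact (Nat.Prime 3) := ⟨Nat.prime_three⟩
  set P := Cfsg.pCore 3 G
  haveI : P.Normal := inferInstance
  have hnot : ∀ a ∈ D, a ∉ P := by
    intro a ha h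
    obtain ⟨k, hk⟩ := IsPGroup.iff_orderOf.1 (Lib.Cores.pCore_isPGroup 3 G) ⟨a, h⟩
    rw [Subgroup.orderOf_mk, hS.1 a ha] at hk
    have : Odd (3 ^ k) := (by decide : Odd 3).pow
    rw [← hk] at this
    exact absurd this (by decide)
  have hdec : ∀ a ∈ D, d * a ∈ P := by
    intro a ha
    have hmem : a ∈ ((Subgroup.zpowers d : Subgroup G) : Set G) * (P : Set G) := by
      rw [← Subgroup.mul_normal, hG]; trivial
    obtain ⟨u, ⟨k, hk⟩, q, hq, rfl⟩ := hmem
    rcases Int.even_or_odd k with ⟨m, rfl⟩ | ⟨m, rfl⟩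
    · exfalso
      simp only at hk
      rw [← two_mul, zpow_mul, zpow_two, tt_sq hS hd, one_zpow] at hk
      subst hk
      exact hnot _ ha (by simpa using hq)
    · simp only at hk
      rw [zpow_add, zpow_mul, zpow_two, tt_sq hS hd, one_zpow, one_mul, zpow_one] at hk
      subst hk
      rw [← mul_assoc, tt_sq hS hd, one_mul]; exact hq
  have hone : ∀ a ∈ D, ∀ b ∈ D, Commute a b → a = b := by
    intro a ha b hb hab
    have h := P.mul_mem (P.inv_mem (hdec a ha)) (hdec b hb)
    rw [show (d * a)⁻¹ * (d * b) = a⁻¹ * b by group, tt_inv_self hS ha] at h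
    obtain ⟨k, hk⟩ := IsPGroup.iff_orderOf.1 (Lib.Cores.pCore_isPGroup 3 G) ⟨a * b, h⟩
    rw [Subgroup.orderOf_mk] at hk
    have h2 : (a * b) ^ 2 = 1 := by
      rw [hab.mul_pow, pow_two, pow_two, tt_sq hS ha, tt_sq hS hb, one_mul]
    have h1 : orderOf (a * b) = 1 :=
      Nat.eq_one_of_dvd_coprimes (Nat.Coprime.pow_left k (by norm_num : Nat.Coprime 3 2)) hk.dvd
        (orderOf_dvd_of_pow_eq_one h2)
    rw [orderOf_eq_one_iff] at h1
    rw [eq_inv_of_mul_eq_one_left h1, tt_inv_self hS hb]
  unfold commutingWidth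
  refine le_antisymm (csSup_le ⟨0, ∅, by simp, by simp, by simp, by simp⟩ ?_) (le_csSup ⟨1, ?_⟩ ?_)
  · rintro n ⟨E, hE, hf, hc, rfl⟩
    exact (Set.ncard_le_one hf).2 fun a ha b hb => hone a (hE ha) b (hE hb) (hc a ha b hb)
  · rintro n ⟨E, hE, hf, hc, rfl⟩
    exact (Set.ncard_le_one hf).2 fun a ha b hb => hone a (hE ha) b (hE hb) (hc a ha b hb)
  · exact ⟨{d}, by simpa using hd, Set.toFinite _, by simp, Set.ncard_singleton d⟩

end Cfsg.Agent.Lib.ThreeTransp
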